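import Groth.Agent.H18.TensorGen

/-!
# Sections of `F ⊗ M` over an open where `M` has a generator

If `μ` generates `M` freely over `V`, then every section of `F ⊗ M` over `V` is `f ⊗ μ` for a
unique section `f` of `F` (`bijective_tm`).
-/

set_option autoImplicit false
universe u

noncomputable section

namespace Groth.Agent.H18.TensorSec

open CategoryTheory AlgebraicGeometry Opposite TopologicalSpace TensorProduct
open Groth.Agent.H8 (res_res res_smul ringRes_res section_eq_of_cover)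
open Groth.Agent.H18.SecTw Groth.Agent.H18.TensorGen

/-- If `μ` is a basis of `N` then `m ↦ m ⊗ μ` is bijective. -/
theorem bijective_tmul_right {R M N : Type*} [CommRing R] [AddCommGroup M] [Module R M]
    [AddCommGroup N] [Module R N] (μ : N) (hμ : Function.Bijective (fun r : R => r • μ)) :
    Function.Bijective (fun m : M => m ⊗ₜ[R] μ) := by
  have hb : Function.Bijective (LinearMap.toSpanSingleton R N μ) := by
    have he : (LinearMap.toSpanSingleton R N μ : R → N) = fun r : R => r • μ := by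
      funext r
      rfl
    rw [he]
    exact hμ
  let e : R ≃ₗ[R] N := LinearEquiv.ofBijective _ hb
  have he1 : e.symm μ = 1 := by
    rw [LinearEquiv.symm_apply_eq]
    show μ = (1 : R) • μ
    rw [one_smul]
  let g : M ⊗[R] N →ₗ[R] M :=
    (TensorProduct.rid R M).toLinearMap ∘ₗ (LinearMap.lTensor M e.symm.toLinearMap)
  have hg : ∀ m : M, g (m ⊗ₜ[R] μ) = m := by
    intro m
    show (TensorProduct.rid R M) ((LinearMap.lTensor M e.symm.toLinearMap) (m ⊗ₜ[R] μ)) = m
    rw [LinearMap.lTensor_tmul]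
    show (TensorProduct.rid R M) (m ⊗ₜ[R] e.symm μ) = m
    rw [he1, TensorProduct.rid_tmul, one_smul]
  constructor
  · intro m m' h
    have h' : m ⊗ₜ[R] μ = m' ⊗ₜ[R] μ := h
    have := congrArg g h'
    rwa [hg, hg] at this
  · intro z
    induction z using TensorProduct.induction_on with
    | zero => exact ⟨0, TensorProduct.zero_tmul _ _⟩
    | tmul m t =>
      obtain ⟨r, hr⟩ := hμ.2 t
      have hr' : r • μ = t := hr
      refine ⟨r • m, ?_⟩
      show (r • m) ⊗ₜ[R] μ = m ⊗ₜ[R] t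
      rw [← hr', TensorProduct.smul_tmul]
    | add z₁ z₂ h₁ h₂ =>
      obtain ⟨t₁, ht₁⟩ := h₁
      obtain ⟨t₂, ht₂⟩ := h₂
      refine ⟨t₁ + t₂, ?_⟩
      show (t₁ + t₂) ⊗ₜ[R] μ = z₁ + z₂
      rw [TensorProduct.add_tmul]
      exact congrArg₂ (· + ·) ht₁ ht₂

variable {X : Scheme.{u}}

set_option backward.isDefEq.respectTransparency false in
theorem bijective_pt_right {F M : X.Modules} {V : X.Opens} {μ : Γ(M, V)} (hμ : IsGen M V μ)
    (W : X.Opens) (hW : W ≤ V) :
    Function.Bijective (fun f : Γ(F, W) => pt F M f (M.presheaf.map (homOfLE hW).op μ)) :=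
  bijective_tmul_right (R := RR X W) (M := ↥((CohB1.toPMod F).obj (op W)))
    (N := ↥((CohB1.toPMod M).obj (op W))) _ (hμ W hW)

set_option backward.isDefEq.respectTransparency false in
theorem map_pt (A B : X.Modules) {W W' : X.Opens} (h : W' ≤ W) (a : Γ(A, W)) (b : Γ(B, W)) :
    (TensorModIso.tensorPre' A B).map (homOfLE h).op (pt A B a b) =
      pt A B (A.presheaf.map (homOfLE h).op a) (B.presheaf.map (homOfLE h).op b) := by
  have h1 := map_smul_pt A B h 1 a b
  have h2 : toRR (1 : Γ(X, W)) • pt A B a b = pt A B a b := one_smul _ _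
  have h3 : toRR (X.presheaf.map (homOfLE h).op (1 : Γ(X, W))) •
      pt A B (A.presheaf.map (homOfLE h).op a) (B.presheaf.map (homOfLE h).op b) =
      pt A B (A.presheaf.map (homOfLE h).op a) (B.presheaf.map (homOfLE h).op b) := by
    rw [map_one]
    exact one_smul _ _
  rw [h2, h3] at h1
  exact h1

theorem tm_add_left (M N : X.Modules) {U : X.Opens} (m m' : Γ(M, U)) (n : Γ(N, U)) :
    tm M N (m + m') n = tm M N m n + tm M N m' n := by
  have h := tm_sub_left M N (m + m') m' n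
  rw [add_sub_cancel_right] at h
  rw [h, sub_add_cancel]

theorem injective_tm {F M : X.Modules} {V : X.Opens} {μ : Γ(M, V)} (hμ : IsGen M V μ) :
    Function.Injective (fun f : Γ(F, V) => tm F M f μ) := by
  intro f f' hff
  have h1 : ((SecTwist.toTensor F M).app (op V)).hom (pt F M f μ) =
      ((SecTwist.toTensor F M).app (op V)).hom (pt F M f' μ) := hff
  refine section_eq_of_cover F _ _ (fun x hx => ?_)
  obtain ⟨W', hW', hxW', hz⟩ := toTensor_locInj F M _ _ h1 x hx
  refine ⟨W', hW', hxW', ?_⟩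
  rw [map_pt, map_pt] at hz
  exact (bijective_pt_right hμ W' hW').1 hz

theorem surjective_tm {F M : X.Modules} {V : X.Opens} {μ : Γ(M, V)} (hμ : IsGen M V μ) :
    Function.Surjective (fun f : Γ(F, V) => tm F M f μ) := by
  intro w
  have hloc : ∀ x : V, ∃ (Wx : X.Opens) (hWx : Wx ≤ V), x.1 ∈ Wx ∧ ∃ fx : Γ(F, Wx),
      tm F M fx (M.presheaf.map (homOfLE hWx).op μ) =
        (CohB1.tensorMod F M).presheaf.map (homOfLE hWx).op w := by
    intro x
    obtain ⟨Wx, hWx, hxWx, z, hz⟩ := toTensor_locSurj F M w x.1 x.2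
    obtain ⟨fx, hfx⟩ := (bijective_pt_right (F := F) hμ Wx hWx).2 z
    refine ⟨Wx, hWx, hxWx, fx, ?_⟩
    rw [← hz, ← hfx]
    rfl
  choose Wf hWf hxWf ff hff using hloc
  have hcompat : TopCat.Presheaf.IsCompatible F.presheaf Wf ff := by
    intro x y
    change F.presheaf.map (homOfLE (inf_le_left : Wf x ⊓ Wf y ≤ Wf x)).op (ff x) =
      F.presheaf.map (homOfLE (inf_le_right : Wf x ⊓ Wf y ≤ Wf y)).op (ff y)
    apply injective_tm (hμ.res (inf_le_left.trans (hWf x) : Wf x ⊓ Wf y ≤ V))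
    show tm F M _ _ = tm F M _ _
    have e1 := congrArg ((CohB1.tensorMod F M).presheaf.map
      (homOfLE (inf_le_left : Wf x ⊓ Wf y ≤ Wf x)).op) (hff x)
    have e2 := congrArg ((CohB1.tensorMod F M).presheaf.map
      (homOfLE (inf_le_right : Wf x ⊓ Wf y ≤ Wf y)).op) (hff y)
    simp only [tm_res, res_res] at e1 e2
    exact e1.trans e2.symm
  have hcover : V ≤ iSup Wf := fun x hx => Opens.mem_iSup.mpr ⟨⟨x, hx⟩, hxWf ⟨x, hx⟩⟩
  obtain ⟨f, hf, -⟩ := TopCat.Sheaf.existsUnique_gluing' (F := ⟨F.presheaf, F.isSheaf⟩)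
    Wf V (fun x => homOfLE (hWf x)) hcover _ hcompat
  refine ⟨f, ?_⟩
  refine section_eq_of_cover (CohB1.tensorMod F M) _ _
    (fun x hx => ⟨Wf ⟨x, hx⟩, hWf ⟨x, hx⟩, hxWf ⟨x, hx⟩, ?_⟩)
  have h1 : F.presheaf.map (homOfLE (hWf ⟨x, hx⟩)).op f = ff ⟨x, hx⟩ := hf ⟨x, hx⟩
  show (CohB1.tensorMod F M).presheaf.map (homOfLE (hWf ⟨x, hx⟩)).op (tm F M f μ) = _
  rw [tm_res, h1]
  exact hff ⟨x, hx⟩

/-- If `μ` generates `M` freely over `V`, sections of `F ⊗ M` over `V` are uniquely `f ⊗ μ`. -/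
theorem bijective_tm {F M : X.Modules} {V : X.Opens} {μ : Γ(M, V)} (hμ : IsGen M V μ) :
    Function.Bijective (fun f : Γ(F, V) => tm F M f μ) :=
  ⟨injective_tm hμ, surjective_tm hμ⟩

end Groth.Agent.H18.TensorSec
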