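import Mathlib.AlgebraicGeometry.Modules.Sheaf

/-!
# A criterion for a sheaf of modules to be isomorphic to the structure sheaf

A module `M` over a scheme `Y` with a compatible family of sections `s` such that `r ↦ r • s_V`
is bijective for every open `V` is isomorphic to the structure sheaf.  A restricted version for
`N.restrict U.ι`.
-/

set_option autoImplicit false
universe u

namespace Groth.Agent.H18.RestrictUnit

open CategoryTheory AlgebraicGeometry Opposite TopologicalSpace

/-- The component over `V` of a family of sections, as an element of `Γ(M, V)`. -/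
def sec {Y : Scheme.{u}} (M : Y.Modules)
    (s : SheafOfModules.sections (R := Y.ringCatSheaf) M) (V : Y.Opens) : Γ(M, V) :=
  s.val (op V)

set_option backward.isDefEq.respectTransparency false in
/-- If `s` is a global family of sections of `M` such that `r ↦ r • s_V` is bijective on every
open, then `M` is isomorphic to the structure sheaf. -/
theorem nonempty_iso_unit_of_sections {Y : Scheme.{u}} (M : Y.Modules)
    (s : SheafOfModules.sections (R := Y.ringCatSheaf) M)
    (h : ∀ V : Y.Opens, Function.Bijective (fun r : Γ(Y, V) => r • sec M s V)) :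
    Nonempty (M ≅ SheafOfModules.unit Y.ringCatSheaf) := by
  let φ' : SheafOfModules.unit Y.ringCatSheaf ⟶ (M : SheafOfModules Y.ringCatSheaf) :=
    (SheafOfModules.unitHomEquiv (R := Y.ringCatSheaf) M).symm s
  have hs : SheafOfModules.unitHomEquiv (R := Y.ringCatSheaf) M φ' = s :=
    Equiv.apply_symm_apply _ _
  let φ : (SheafOfModules.unit Y.ringCatSheaf : Y.Modules) ⟶ M := φ'
  have key : ∀ (V : Y.Opens) (r : Γ(Y, V)),
      (φ'.val.app (op V)).hom r = r • sec M s V := by
    intro V r
    have h1 := (φ'.val.app (op V)).hom.map_smul r (1 : Γ(Y, V))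
    have h2 : (r • (1 : Γ(Y, V)) : Γ(Y, V)) = r := mul_one r
    have h3 : (φ'.val.app (op V)).hom (1 : Γ(Y, V)) = sec M s V := by
      rw [← hs]; rfl
    rw [← h3]
    refine Eq.trans ?_ h1
    exact congrArg _ h2.symm
  have : IsIso φ := by
    rw [Scheme.Modules.Hom.isIso_iff_isIso_app]
    intro V
    rw [ConcreteCategory.isIso_iff_bijective]
    have he : (⇑(ConcreteCategory.hom (Scheme.Modules.Hom.app φ V)) : Γ(Y, V) → Γ(M, V)) =
        fun r : Γ(Y, V) => r • sec M s V := by
      funext r
      exact key V r
    exact he ▸ h V
  exact ⟨(asIso φ).symm⟩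

/-- The family of sections of `N.restrict U.ι` induced by a section of `N` over `U`. -/
noncomputable def restrictSections {X : Scheme.{u}} (U : X.Opens) (N : X.Modules) (σ : Γ(N, U)) :
    SheafOfModules.sections (R := (↑U : Scheme.{u}).ringCatSheaf) (N.restrict U.ι) :=
  PresheafOfModules.sectionsMk
    (fun V => (N.presheaf.map (homOfLE (U.ι_image_le V.unop)).op σ : Γ(N, U.ι ''ᵁ V.unop)))
    (fun V V' f => by
      show N.presheaf.map (U.ι.opensFunctor.map f.unop).op (N.presheaf.map _ σ) =
        N.presheaf.map _ σ
      rw [← ConcreteCategory.comp_apply, ← Functor.map_comp]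
      rfl)

set_option backward.isDefEq.respectTransparency false in
/-- If `σ` is a section of `N` over `U` such that `r ↦ r • σ|_W` is bijective for every open
`W ≤ U`, then the restriction of `N` to `U` is isomorphic to the structure sheaf of `U`. -/
theorem nonempty_restrict_iso_unit {X : Scheme.{u}} (U : X.Opens) (N : X.Modules) (σ : Γ(N, U))
    (h : ∀ (W : X.Opens) (hW : W ≤ U), Function.Bijective
      (fun r : Γ(X, W) => r • N.presheaf.map (homOfLE hW).op σ)) :
    Nonempty (N.restrict U.ι ≅ SheafOfModules.unit (↑U : Scheme.{u}).ringCatSheaf) := by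
  apply nonempty_iso_unit_of_sections (N.restrict U.ι) (restrictSections U N σ)
  intro V
  have hb := h (U.ι ''ᵁ V) (U.ι_image_le V)
  have he : Function.Bijective (⇑(ConcreteCategory.hom (U.ι.appIso V).inv)) :=
    ConcreteCategory.bijective_of_isIso _
  exact hb.comp he

/-- The family of sections of `N` induced by a global section. -/
noncomputable def globalSections {X : Scheme.{u}} (N : X.Modules) (σ : Γ(N, ⊤)) :
    SheafOfModules.sections (R := X.ringCatSheaf) N :=
  PresheafOfModules.sectionsMk
    (fun V => (N.presheaf.map (homOfLE (le_top : V.unop ≤ ⊤)).op σ : Γ(N, V.unop)))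
    (fun V V' f => by
      show N.presheaf.map f (N.presheaf.map _ σ) = N.presheaf.map _ σ
      rw [← ConcreteCategory.comp_apply, ← Functor.map_comp]
      rfl)

set_option backward.isDefEq.respectTransparency false in
/-- If `σ` is a global section of `N` such that `r ↦ r • σ|_W` is bijective for every open
`W`, then `N` is isomorphic to the structure sheaf. -/
theorem nonempty_iso_unit_of_global {X : Scheme.{u}} (N : X.Modules) (σ : Γ(N, ⊤))
    (h : ∀ W : X.Opens, Function.Bijective
      (fun r : Γ(X, W) => r • N.presheaf.map (homOfLE (le_top : W ≤ ⊤)).op σ)) :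
    Nonempty (N ≅ SheafOfModules.unit X.ringCatSheaf) :=
  nonempty_iso_unit_of_sections N (globalSections N σ) h

end Groth.Agent.H18.RestrictUnit
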