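import Mathlib.AlgebraicGeometry.ProjectiveSpectrum.Functor
import Mathlib.RingTheory.GradedAlgebra.Radical
import Mathlib.RingTheory.Nilpotent.Lemmas

set_option autoImplicit false
universe u

namespace Groth.Agent.H18

open AlgebraicGeometry HomogeneousIdeal

section
variable {A σ : Type*} [CommRing A] [SetLike σ A] [AddSubgroupClass σ A]
  (𝒜 : ℕ → σ) [GradedRing 𝒜]

/-- If `b * t` is not nilpotent and `t` is homogeneous of positive degree, some point of the
projective spectrum avoids both `b` and `t`. -/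
theorem exists_point_not_mem_of_not_isNilpotent (b t : A) {i : ℕ} (hi : 0 < i) (ht : t ∈ 𝒜 i)
    (h : ¬ IsNilpotent (b * t)) :
    ∃ q : ProjectiveSpectrum 𝒜, b ∉ q.asHomogeneousIdeal ∧ t ∉ q.asHomogeneousIdeal := by
  rw [nilpotent_iff_mem_prime] at h
  push Not at h
  obtain ⟨P, hP, hbt⟩ := h
  have hcore : (P.homogeneousCore 𝒜).toIdeal.IsPrime := hP.homogeneousCore
  have hle : (P.homogeneousCore 𝒜).toIdeal ≤ P := Ideal.toIdeal_homogeneousCore_le 𝒜 P
  have hb : b ∉ P.homogeneousCore 𝒜 := fun hb => hbt (P.mul_mem_right t (hle hb))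
  have htn : t ∉ P.homogeneousCore 𝒜 := fun ht' => hbt (P.mul_mem_left b (hle ht'))
  refine ⟨⟨P.homogeneousCore 𝒜, hcore, fun hirr => htn (hirr ?_)⟩, hb, htn⟩
  exact HomogeneousIdeal.mem_irrelevant_of_mem 𝒜 hi ht

/-- A point of the projective spectrum misses some homogeneous element of positive degree. -/
theorem exists_homogeneous_pos_not_mem (x : ProjectiveSpectrum 𝒜) :
    ∃ (i : ℕ) (_ : 0 < i) (s : A), s ∈ 𝒜 i ∧ s ∉ x.asHomogeneousIdeal := by
  by_contra hcon
  push Not at hcon
  apply x.not_irrelevant_le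
  rw [HomogeneousIdeal.irrelevant_le]
  intro i hi s hs
  exact hcon i hi s hs

end

end Groth.Agent.H18
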