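import Groth.Prelude.Def_Twist2
import Groth.Agent.H18.ProjBasic

set_option autoImplicit false
universe u

namespace Groth.Agent.H18

open AlgebraicGeometry HomogeneousIdeal TopologicalSpace

section
variable {R A : Type u} [CommRing R] [CommRing A] [Algebra R A] (𝒜 : ℕ → Submodule R A)
  [GradedAlgebra 𝒜]

/-- The set of degree-`n` fractions in the localization at a point. -/
def twistFracSet (n : ℤ) (x : ProjectiveSpectrum 𝒜) : Set (Twist.Loc 𝒜 x) :=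
  {q | ∃ (i j : ℕ) (a : 𝒜 i) (s : 𝒜 j) (hs : s.1 ∉ x.asHomogeneousIdeal),
    (i : ℤ) = j + n ∧ q = Localization.mk a.1 ⟨s.1, hs⟩}

theorem zero_mem_twistFracSet (n : ℤ) (x : ProjectiveSpectrum 𝒜) :
    (0 : Twist.Loc 𝒜 x) ∈ twistFracSet 𝒜 n x := by
  obtain ⟨d, hd, f, hf, hfx⟩ := exists_homogeneous_pos_not_mem 𝒜 x
  have hfe : f ^ n.natAbs ∈ 𝒜 (n.natAbs * d) := by
    have := SetLike.pow_mem_graded n.natAbs hf
    simpa using this
  have hnn : 0 ≤ ((n.natAbs * d : ℕ) : ℤ) + n := by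
    have h1 : (n.natAbs : ℤ) ≤ ((n.natAbs * d : ℕ) : ℤ) := by
      push_cast
      exact le_mul_of_one_le_right (by positivity) (by exact_mod_cast hd)
    have h2 : -n ≤ (n.natAbs : ℤ) := by
      rw [Int.natCast_natAbs]
      exact neg_le_abs n
    omega
  refine ⟨(((n.natAbs * d : ℕ) : ℤ) + n).toNat, n.natAbs * d, ⟨0, zero_mem _⟩, ⟨f ^ n.natAbs, hfe⟩,
    fun h => hfx (x.isPrime.mem_of_pow_mem _ h), ?_, ?_⟩
  · rw [Int.toNat_of_nonneg hnn]
  · rw [Localization.mk_zero]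

theorem add_mem_twistFracSet (n : ℤ) (x : ProjectiveSpectrum 𝒜) {p q : Twist.Loc 𝒜 x}
    (hp : p ∈ twistFracSet 𝒜 n x) (hq : q ∈ twistFracSet 𝒜 n x) : p + q ∈ twistFracSet 𝒜 n x := by
  obtain ⟨i, j, ⟨a, ha⟩, ⟨s, hs⟩, hsx, hdeg, rfl⟩ := hp
  obtain ⟨i', j', ⟨b, hb⟩, ⟨t, ht⟩, htx, hdeg', rfl⟩ := hq
  have e : j' + i = j + i' := by omega
  have hta : t * a ∈ 𝒜 (j + i') := e ▸ SetLike.mul_mem_graded ht ha
  have hsb : s * b ∈ 𝒜 (j + i') := SetLike.mul_mem_graded hs hb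
  refine ⟨j + i', j + j', ⟨s * b + t * a, add_mem hsb hta⟩, ⟨s * t, SetLike.mul_mem_graded hs ht⟩,
    fun h => (x.isPrime.mem_or_mem h).elim hsx htx, by push_cast; omega, ?_⟩
  rw [Localization.add_mk]
  rfl

theorem mul_mem_twistFracSet (n : ℤ) (x : ProjectiveSpectrum 𝒜) (c : Twist.A0 𝒜 x)
    {q : Twist.Loc 𝒜 x} (hq : q ∈ twistFracSet 𝒜 n x) : c.val * q ∈ twistFracSet 𝒜 n x := by
  obtain ⟨i, j, ⟨a, ha⟩, ⟨s, hs⟩, hsx, hdeg, rfl⟩ := hq
  refine ⟨c.deg + i, c.deg + j, ⟨c.num * a, SetLike.mul_mem_graded c.num_mem_deg ha⟩,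
    ⟨c.den * s, SetLike.mul_mem_graded c.den_mem_deg hs⟩,
    fun h => (x.isPrime.mem_or_mem h).elim c.den_mem hsx, by push_cast; omega, ?_⟩
  rw [c.eq_num_div_den, Localization.mk_mul]
  rfl

/-- Every element of `twistAt` is a single fraction of the right degree. -/
theorem mem_twistFracSet_of_mem_twistAt (n : ℤ) (x : ProjectiveSpectrum 𝒜)
    {q : Twist.Loc 𝒜 x} (hq : q ∈ Twist.twistAt 𝒜 n x) :
    q ∈ twistFracSet 𝒜 n x := by
  induction hq using Submodule.span_induction with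
  | mem q hq => exact hq
  | zero => exact zero_mem_twistFracSet 𝒜 n x
  | add p q _ _ hp hq => exact add_mem_twistFracSet 𝒜 n x hp hq
  | smul c q _ hq =>
    have := mul_mem_twistFracSet 𝒜 n x c hq
    rwa [Algebra.smul_def, HomogeneousLocalization.algebraMap_apply]

end
end Groth.Agent.H18
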