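import Groth.Prelude.Def_Twist2
import Groth.Prelude.Def_Coh
import Groth.Prelude.Def_Pic
import Groth.Agent.H18.TwistFrac
import Groth.Agent.H18.RestrictUnit

/-!
# The twisting sheaf `O(k)` is trivial on opens where a unit fraction of degree `k` exists
-/

set_option autoImplicit false
universe u

namespace Groth.Agent.H18.TwistRestrict

open CategoryTheory AlgebraicGeometry Opposite TopologicalSpace

section
variable {R A : Type u} [CommRing R] [CommRing A] [Algebra R A] (𝒜 : ℕ → Submodule R A)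
  [GradedAlgebra 𝒜]

omit [Algebra R A] in
theorem mk_mul_mk_swap {S : Submonoid A} (u v : A) (hu : u ∈ S) (hv : v ∈ S) :
    (Localization.mk u ⟨v, hv⟩ : Localization S) * Localization.mk v ⟨u, hu⟩ = 1 := by
  rw [Localization.mk_mul, ← Localization.mk_one, Localization.mk_eq_mk_iff,
    Localization.r_iff_exists]
  refine ⟨1, ?_⟩
  simp only [OneMemClass.coe_one, one_mul, Submonoid.coe_mul, mul_one]
  ring

/-- Multiplication by a section which is everywhere a unit fraction `u/v` is a bijection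
`O(W) → O(k)(W)`. -/
theorem bijective_smul_of_fraction {W : Opens (ProjectiveSpectrum.top 𝒜)} {k : ℤ} {p q : ℕ}
    {u v : A} (hu : u ∈ 𝒜 p) (hv : v ∈ 𝒜 q) (hpq : (p : ℤ) = q + k)
    (hux : ∀ x : W, u ∉ x.1.asHomogeneousIdeal) (hvx : ∀ x : W, v ∉ x.1.asHomogeneousIdeal)
    (τ : Twist.sectN (𝒜 := 𝒜) k (op W))
    (hτ : ∀ x : W, ((τ.1 x : Twist.twistAt 𝒜 k x.1) : Twist.Loc 𝒜 x.1) =
      Localization.mk u ⟨v, hvx x⟩) :
    Function.Bijective (fun r : Twist.O (𝒜 := 𝒜) (op W) => r • τ) := by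
  have hswap : ∀ x : W, (Localization.mk u ⟨v, hvx x⟩ : Twist.Loc 𝒜 x.1) *
      Localization.mk v ⟨u, hux x⟩ = 1 := fun x => mk_mul_mk_swap u v (hux x) (hvx x)
  have hsmul : ∀ (r : Twist.O (𝒜 := 𝒜) (op W)) (x : W),
      (((r • τ : Twist.sectN (𝒜 := 𝒜) k (op W)).1 x : Twist.twistAt 𝒜 k x.1) :
        Twist.Loc 𝒜 x.1) = (r.1 x).val * Localization.mk u ⟨v, hvx x⟩ := by
    intro r x
    refine (Twist.coe_smul_val k x.1 (r.1 x) (τ.1 x)).trans ?_
    rw [hτ x]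
  constructor
  · intro r r' h
    have h' : (r • τ : Twist.sectN (𝒜 := 𝒜) k (op W)) = r' • τ := h
    apply Subtype.ext
    funext x
    apply HomogeneousLocalization.val_injective
    have h1 : (r.1 x).val * Localization.mk u ⟨v, hvx x⟩ =
        (r'.1 x).val * Localization.mk u ⟨v, hvx x⟩ := by
      rw [← hsmul r x, ← hsmul r' x, h']
    calc (r.1 x).val
        = (r.1 x).val * Localization.mk u ⟨v, hvx x⟩ * Localization.mk v ⟨u, hux x⟩ := by
          rw [mul_assoc, hswap x, mul_one]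
      _ = (r'.1 x).val * Localization.mk u ⟨v, hvx x⟩ * Localization.mk v ⟨u, hux x⟩ := by
          rw [h1]
      _ = (r'.1 x).val := by rw [mul_assoc, hswap x, mul_one]
  · intro t
    have hex : ∀ x : W, ∃ c : Twist.A0 𝒜 x.1,
        c.val = ((t.1 x : Twist.twistAt 𝒜 k x.1) : Twist.Loc 𝒜 x.1) *
          Localization.mk v ⟨u, hux x⟩ := by
      intro x
      obtain ⟨i, j, a, s, hs, hdeg, heq⟩ :=
        Groth.Agent.H18.mem_twistFracSet_of_mem_twistAt 𝒜 k x.1 (t.1 x).2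
      have e : i + q = j + p := by omega
      have hav : a.1 * v ∈ 𝒜 (j + p) := e ▸ SetLike.mul_mem_graded a.2 hv
      have hsu : s.1 * u ∈ 𝒜 (j + p) := SetLike.mul_mem_graded s.2 hu
      refine ⟨HomogeneousLocalization.mk ⟨j + p, ⟨a.1 * v, hav⟩, ⟨s.1 * u, hsu⟩,
        fun h => (x.1.isPrime.mem_or_mem h).elim hs (hux x)⟩, ?_⟩
      rw [HomogeneousLocalization.val_mk, heq, Localization.mk_mul]
      rfl
    choose c hc using hex
    have hloc : (ProjectiveSpectrum.StructureSheaf.isLocallyFraction 𝒜).pred c := by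
      intro x
      obtain ⟨V, hxV, iV, i, j, a, s, snin, hcase, hw⟩ := t.2 x
      rcases hcase with hdeg | ha0
      · have e : i + q = j + p := by omega
        have hav : a.1 * v ∈ 𝒜 (j + p) := e ▸ SetLike.mul_mem_graded a.2 hv
        have hsu : s.1 * u ∈ 𝒜 (j + p) := SetLike.mul_mem_graded s.2 hu
        refine ⟨V, hxV, iV, j + p, ⟨a.1 * v, hav⟩, ⟨s.1 * u, hsu⟩,
          fun y h => (y.1.isPrime.mem_or_mem h).elim (snin y) (hux (iV y)), fun y => ?_⟩
        apply HomogeneousLocalization.val_injective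
        refine (hc (iV y)).trans ?_
        rw [HomogeneousLocalization.val_mk]
        refine (congrArg (· * Localization.mk v ⟨u, hux (iV y)⟩) (hw y)).trans ?_
        rw [Localization.mk_mul]
        rfl
      · refine ⟨V, hxV, iV, 0, ⟨0, zero_mem _⟩, ⟨1, SetLike.GradedOne.one_mem⟩,
          fun y h => y.1.isPrime.ne_top ((Ideal.eq_top_iff_one _).mpr h), fun y => ?_⟩
        apply HomogeneousLocalization.val_injective
        refine (hc (iV y)).trans ?_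
        rw [HomogeneousLocalization.val_mk]
        refine (congrArg (· * Localization.mk v ⟨u, hux (iV y)⟩) (hw y)).trans ?_
        rw [Localization.mk_mul]
        simp only [ha0, zero_mul, Localization.mk_zero]
    let r : Twist.O (𝒜 := 𝒜) (op W) := ⟨c, hloc⟩
    refine ⟨r, ?_⟩
    apply Subtype.ext
    funext x
    apply Subtype.ext
    refine (hsmul r x).trans ?_
    show (c x).val * Localization.mk u ⟨v, hvx x⟩ = _
    rw [hc x, mul_assoc, mul_comm (Localization.mk v _), hswap x, mul_one]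

/-- The fraction `u/v` as a section of `O(k)` over an open on which `v` does not vanish. -/
def fracSection {W : Opens (ProjectiveSpectrum.top 𝒜)} {k : ℤ} {p q : ℕ} {u v : A}
    (hu : u ∈ 𝒜 p) (hv : v ∈ 𝒜 q) (hpq : (p : ℤ) = q + k)
    (hvx : ∀ x : W, v ∉ x.1.asHomogeneousIdeal) : Twist.sectN (𝒜 := 𝒜) k (op W) :=
  ⟨fun x => ⟨Localization.mk u ⟨v, hvx x⟩,
      Submodule.subset_span ⟨p, q, ⟨u, hu⟩, ⟨v, hv⟩, hvx x, hpq, rfl⟩⟩,
    fun x => ⟨W, x.2, 𝟙 _, p, q, ⟨u, hu⟩, ⟨v, hv⟩, hvx, Or.inl hpq, fun _ => rfl⟩⟩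

/-- An open of the projective spectrum as an open of the scheme `Proj`. -/
abbrev toProjOpens (U : Opens (ProjectiveSpectrum.top 𝒜)) : (Proj 𝒜).Opens := U

set_option backward.isDefEq.respectTransparency false in
/-- `O(k)` restricted to an open on which a unit fraction of degree `k` exists is trivial. -/
theorem nonempty_twist_restrict_iso (U : Opens (ProjectiveSpectrum.top 𝒜)) {k : ℤ} {p q : ℕ}
    {u v : A} (hu : u ∈ 𝒜 p) (hv : v ∈ 𝒜 q) (hpq : (p : ℤ) = q + k)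
    (hux : ∀ x : U, u ∉ x.1.asHomogeneousIdeal) (hvx : ∀ x : U, v ∉ x.1.asHomogeneousIdeal) :
    Nonempty ((Twist.twist 𝒜 k).restrict (toProjOpens 𝒜 U).ι ≅
      Coh.structureModule ↑(toProjOpens 𝒜 U)) := by
  refine RestrictUnit.nonempty_restrict_iso_unit (X := Proj 𝒜) (toProjOpens 𝒜 U) (Twist.twist 𝒜 k)
    (fracSection 𝒜 hu hv hpq hvx) ?_
  intro W hW
  exact bijective_smul_of_fraction 𝒜 hu hv hpq (fun x => hux ⟨x.1, hW x.2⟩)
    (fun x => hvx ⟨x.1, hW x.2⟩)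
    ((Twist.twist 𝒜 k).presheaf.map (homOfLE hW).op (fracSection 𝒜 hu hv hpq hvx))
    (fun x => rfl)

/-- An open of the scheme `Proj` as an open of the projective spectrum. -/
abbrev ofProjOpens (U : (Proj 𝒜).Opens) : Opens (ProjectiveSpectrum.top 𝒜) := U

set_option backward.isDefEq.respectTransparency false in
/-- `O(k)` restricted to an open `U₀` and then to an open `V` of `U₀` on whose image a unit
fraction of degree `k` exists is trivial. -/
theorem nonempty_twist_restrict_restrict_iso (U₀ : Opens (ProjectiveSpectrum.top 𝒜))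
    (V : (↑(toProjOpens 𝒜 U₀) : Scheme.{u}).Opens) {k : ℤ} {p q : ℕ} {u v : A}
    (hu : u ∈ 𝒜 p) (hv : v ∈ 𝒜 q) (hpq : (p : ℤ) = q + k)
    (hux : ∀ x : ofProjOpens 𝒜 ((toProjOpens 𝒜 U₀).ι ''ᵁ V), u ∉ x.1.asHomogeneousIdeal)
    (hvx : ∀ x : ofProjOpens 𝒜 ((toProjOpens 𝒜 U₀).ι ''ᵁ V), v ∉ x.1.asHomogeneousIdeal) :
    Nonempty (((Twist.twist 𝒜 k).restrict (toProjOpens 𝒜 U₀).ι).restrict V.ι ≅
      Coh.structureModule ↑V) := by
  refine RestrictUnit.nonempty_restrict_iso_unit (X := ↑(toProjOpens 𝒜 U₀)) V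
    ((Twist.twist 𝒜 k).restrict (toProjOpens 𝒜 U₀).ι)
    (fracSection 𝒜 (W := ofProjOpens 𝒜 ((toProjOpens 𝒜 U₀).ι ''ᵁ V)) hu hv hpq hvx) ?_
  intro W hW
  have hle : (toProjOpens 𝒜 U₀).ι ''ᵁ W ≤ (toProjOpens 𝒜 U₀).ι ''ᵁ V :=
    (toProjOpens 𝒜 U₀).ι.image_mono hW
  have hb := bijective_smul_of_fraction 𝒜
    (W := ofProjOpens 𝒜 ((toProjOpens 𝒜 U₀).ι ''ᵁ W)) hu hv hpq
    (fun x => hux ⟨x.1, hle x.2⟩) (fun x => hvx ⟨x.1, hle x.2⟩)
    (((Twist.twist 𝒜 k).restrict (toProjOpens 𝒜 U₀).ι).presheaf.map (homOfLE hW).op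
      (fracSection 𝒜 (W := ofProjOpens 𝒜 ((toProjOpens 𝒜 U₀).ι ''ᵁ V)) hu hv hpq hvx))
    (fun x => rfl)
  have he : Function.Bijective
      (⇑(ConcreteCategory.hom ((toProjOpens 𝒜 U₀).ι.appIso W).inv)) :=
    ConcreteCategory.bijective_of_isIso _
  exact hb.comp he

/-- `O(nd)` restricted to an open `Y` covered by opens `D₊(g)`, `g ∈ 𝒜 d`, is invertible. -/
theorem isInvertible_twist_restrict_of_cover (Y : Opens (ProjectiveSpectrum.top 𝒜)) (d : ℕ)
    (n : ℤ) (hcov : ∀ y : Y, ∃ g ∈ 𝒜 d, g ∉ y.1.asHomogeneousIdeal) :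
    PicF.IsInvertible ((Twist.twist 𝒜 (n * d)).restrict (toProjOpens 𝒜 Y).ι) := by
  intro y
  obtain ⟨y0, hy0⟩ := y
  obtain ⟨g, hg, hgy⟩ := hcov ⟨y0, hy0⟩
  have hu : g ^ n.toNat ∈ 𝒜 (n.toNat • d) := SetLike.pow_mem_graded _ hg
  have hv : g ^ (-n).toNat ∈ 𝒜 ((-n).toNat • d) := SetLike.pow_mem_graded _ hg
  have hpq : ((n.toNat • d : ℕ) : ℤ) = ((-n).toNat • d : ℕ) + n * d := by
    have h := Int.toNat_sub_toNat_neg n
    simp only [smul_eq_mul]
    push_cast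
    linear_combination (d : ℤ) * h
  have hgx : ∀ x : ofProjOpens 𝒜 ((toProjOpens 𝒜 Y).ι ''ᵁ
      ((toProjOpens 𝒜 Y).ι ⁻¹ᵁ (Proj.basicOpen 𝒜 g))), g ∉ x.1.asHomogeneousIdeal := fun x =>
    (ProjectiveSpectrum.mem_basicOpen 𝒜 g x.1).mp
      ((toProjOpens 𝒜 Y).ι.image_preimage_le _ x.2)
  refine ⟨(toProjOpens 𝒜 Y).ι ⁻¹ᵁ (Proj.basicOpen 𝒜 g), hgy, ?_⟩
  exact nonempty_twist_restrict_restrict_iso 𝒜 Y _ hu hv hpq
    (fun x h => hgx x (x.1.isPrime.mem_of_pow_mem _ h))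
    (fun x h => hgx x (x.1.isPrime.mem_of_pow_mem _ h))

/-- `O(nd)` is invertible when `Proj` is covered by opens `D₊(g)`, `g ∈ 𝒜 d`. -/
theorem isInvertible_twist_of_cover (d : ℕ) (n : ℤ)
    (hcov : ∀ y : ProjectiveSpectrum 𝒜, ∃ g ∈ 𝒜 d, g ∉ y.asHomogeneousIdeal) :
    PicF.IsInvertible (Twist.twist 𝒜 (n * d)) := by
  intro y
  obtain ⟨g, hg, hgy⟩ := hcov y
  have hu : g ^ n.toNat ∈ 𝒜 (n.toNat • d) := SetLike.pow_mem_graded _ hg
  have hv : g ^ (-n).toNat ∈ 𝒜 ((-n).toNat • d) := SetLike.pow_mem_graded _ hg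
  have hpq : ((n.toNat • d : ℕ) : ℤ) = ((-n).toNat • d : ℕ) + n * d := by
    have h := Int.toNat_sub_toNat_neg n
    simp only [smul_eq_mul]
    push_cast
    linear_combination (d : ℤ) * h
  have hgx : ∀ x : ofProjOpens 𝒜 (Proj.basicOpen 𝒜 g), g ∉ x.1.asHomogeneousIdeal := fun x =>
    (ProjectiveSpectrum.mem_basicOpen 𝒜 g x.1).mp x.2
  refine ⟨Proj.basicOpen 𝒜 g, hgy, ?_⟩
  exact nonempty_twist_restrict_iso 𝒜 (Proj.basicOpen 𝒜 g) hu hv hpq
    (fun x h => hgx x (x.1.isPrime.mem_of_pow_mem _ h))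
    (fun x h => hgx x (x.1.isPrime.mem_of_pow_mem _ h))

end
end Groth.Agent.H18.TwistRestrict
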