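import Groth.Agent.H18.TensorModIso
import Groth.Agent.H18.TwistRestrict

/-!
# `O(m) ⊗ O(n) ≅ O(m+n)` when `O(m)` has local unit fractions
-/

set_option autoImplicit false
universe u

namespace Groth.Agent.H18.TwistTensor

open CategoryTheory AlgebraicGeometry Opposite TopologicalSpace MonoidalCategory

section
variable {R A : Type u} [CommRing R] [CommRing A] [Algebra R A] (𝒜 : ℕ → Submodule R A)
  [GradedAlgebra 𝒜]

/-- Products of fractions of degrees `m`, `n` are fractions of degree `m + n`. -/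
theorem mul_mem_twistAt (m n : ℤ) (x : ProjectiveSpectrum 𝒜) {a b : Twist.Loc 𝒜 x}
    (ha : a ∈ Twist.twistAt 𝒜 m x) (hb : b ∈ Twist.twistAt 𝒜 n x) :
    a * b ∈ Twist.twistAt 𝒜 (m + n) x := by
  obtain ⟨i, j, a₁, s₁, hs₁, hd₁, rfl⟩ := mem_twistFracSet_of_mem_twistAt 𝒜 m x ha
  obtain ⟨i', j', a₂, s₂, hs₂, hd₂, rfl⟩ := mem_twistFracSet_of_mem_twistAt 𝒜 n x hb
  refine Submodule.subset_span ⟨i + i', j + j', ⟨a₁.1 * a₂.1, SetLike.mul_mem_graded a₁.2 a₂.2⟩,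
    ⟨s₁.1 * s₂.1, SetLike.mul_mem_graded s₁.2 s₂.2⟩,
    fun h => (x.isPrime.mem_or_mem h).elim hs₁ hs₂, by push_cast; omega, ?_⟩
  rw [Localization.mk_mul]
  rfl

/-- The product of a section of `O(m)` and a section of `O(n)`. -/
def mulSect {m n : ℤ} {U : (Opens (ProjectiveSpectrum.top 𝒜))ᵒᵖ}
    (s : Twist.sectN (𝒜 := 𝒜) m U) (t : Twist.sectN (𝒜 := 𝒜) n U) :
    Twist.sectN (𝒜 := 𝒜) (m + n) U :=
  ⟨fun x => ⟨(s.1 x).1 * (t.1 x).1, mul_mem_twistAt 𝒜 m n x.1 (s.1 x).2 (t.1 x).2⟩, fun x => by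
    obtain ⟨Va, ma, ia, i, j, a, c, nina, ca, wa⟩ := s.2 x
    obtain ⟨Vb, mb, ib, i', j', b, e, ninb, cb, wb⟩ := t.2 x
    refine ⟨Va ⊓ Vb, ⟨ma, mb⟩, Opens.infLELeft _ _ ≫ ia, i + i', j + j',
      ⟨a.1 * b.1, SetLike.mul_mem_graded a.2 b.2⟩, ⟨c.1 * e.1, SetLike.mul_mem_graded c.2 e.2⟩,
      fun y h => (y.1.isPrime.mem_or_mem h).elim (nina ⟨y.1, y.2.1⟩) (ninb ⟨y.1, y.2.2⟩),
      ?_, fun y => ?_⟩
    · rcases ca with ha | ha
      · rcases cb with hb | hb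
        · exact Or.inl (by push_cast; omega)
        · exact Or.inr (show a.1 * b.1 = 0 by rw [hb, mul_zero])
      · exact Or.inr (show a.1 * b.1 = 0 by rw [ha, zero_mul])
    · have e1 : ((s.1 (ia ⟨y.1, y.2.1⟩)).1 : Twist.Loc 𝒜 y.1) =
          Localization.mk a.1 ⟨c.1, nina ⟨y.1, y.2.1⟩⟩ := wa ⟨y.1, y.2.1⟩
      have e2 : ((t.1 (ib ⟨y.1, y.2.2⟩)).1 : Twist.Loc 𝒜 y.1) =
          Localization.mk b.1 ⟨e.1, ninb ⟨y.1, y.2.2⟩⟩ := wb ⟨y.1, y.2.2⟩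
      show ((s.1 (ia ⟨y.1, y.2.1⟩)).1 : Twist.Loc 𝒜 y.1) *
        ((t.1 (ib ⟨y.1, y.2.2⟩)).1 : Twist.Loc 𝒜 y.1) = _
      rw [e1, e2, Localization.mk_mul]
      rfl⟩

theorem mulSect_val {m n : ℤ} {U : (Opens (ProjectiveSpectrum.top 𝒜))ᵒᵖ}
    (s : Twist.sectN (𝒜 := 𝒜) m U) (t : Twist.sectN (𝒜 := 𝒜) n U) (x : U.unop) :
    (((mulSect 𝒜 s t).1 x : Twist.twistAt 𝒜 (m + n) x.1) : Twist.Loc 𝒜 x.1) =
      (s.1 x).1 * (t.1 x).1 := rfl

theorem mulSect_add_left {m n : ℤ} {U : (Opens (ProjectiveSpectrum.top 𝒜))ᵒᵖ}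
    (s s' : Twist.sectN (𝒜 := 𝒜) m U) (t : Twist.sectN (𝒜 := 𝒜) n U) :
    mulSect 𝒜 (s + s') t = mulSect 𝒜 s t + mulSect 𝒜 s' t :=
  Subtype.ext (funext fun x => Subtype.ext
    (show ((s.1 x).1 + (s'.1 x).1) * (t.1 x).1 =
      (s.1 x).1 * (t.1 x).1 + (s'.1 x).1 * (t.1 x).1 from add_mul _ _ _))

theorem mulSect_add_right {m n : ℤ} {U : (Opens (ProjectiveSpectrum.top 𝒜))ᵒᵖ}
    (s : Twist.sectN (𝒜 := 𝒜) m U) (t t' : Twist.sectN (𝒜 := 𝒜) n U) :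
    mulSect 𝒜 s (t + t') = mulSect 𝒜 s t + mulSect 𝒜 s t' :=
  Subtype.ext (funext fun x => Subtype.ext
    (show (s.1 x).1 * ((t.1 x).1 + (t'.1 x).1) =
      (s.1 x).1 * (t.1 x).1 + (s.1 x).1 * (t'.1 x).1 from mul_add _ _ _))

theorem mulSect_smul_left {m n : ℤ} {U : (Opens (ProjectiveSpectrum.top 𝒜))ᵒᵖ}
    (r : Twist.O (𝒜 := 𝒜) U) (s : Twist.sectN (𝒜 := 𝒜) m U) (t : Twist.sectN (𝒜 := 𝒜) n U) :
    mulSect 𝒜 (r • s) t = r • mulSect 𝒜 s t := by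
  apply Subtype.ext
  funext x
  apply Subtype.ext
  show (((r.1 x • s.1 x : Twist.twistAt 𝒜 m x.1) : Twist.Loc 𝒜 x.1)) * (t.1 x).1 =
    ((r.1 x • (mulSect 𝒜 s t).1 x : Twist.twistAt 𝒜 (m + n) x.1) : Twist.Loc 𝒜 x.1)
  rw [Twist.coe_smul_val, Twist.coe_smul_val, mulSect_val, mul_assoc]

theorem mulSect_smul_right {m n : ℤ} {U : (Opens (ProjectiveSpectrum.top 𝒜))ᵒᵖ}
    (r : Twist.O (𝒜 := 𝒜) U) (s : Twist.sectN (𝒜 := 𝒜) m U) (t : Twist.sectN (𝒜 := 𝒜) n U) :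
    mulSect 𝒜 s (r • t) = r • mulSect 𝒜 s t := by
  apply Subtype.ext
  funext x
  apply Subtype.ext
  show (s.1 x).1 * (((r.1 x • t.1 x : Twist.twistAt 𝒜 n x.1) : Twist.Loc 𝒜 x.1)) =
    ((r.1 x • (mulSect 𝒜 s t).1 x : Twist.twistAt 𝒜 (m + n) x.1) : Twist.Loc 𝒜 x.1)
  rw [Twist.coe_smul_val, Twist.coe_smul_val, mulSect_val, mul_left_comm]

/-- Transport of sections along an equality of degrees. -/
def castSect {k k' : ℤ} (h : k = k') {U : (Opens (ProjectiveSpectrum.top 𝒜))ᵒᵖ}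
    (s : Twist.sectN (𝒜 := 𝒜) k U) : Twist.sectN (𝒜 := 𝒜) k' U := h ▸ s

theorem castSect_val {k k' : ℤ} (h : k = k') {U : (Opens (ProjectiveSpectrum.top 𝒜))ᵒᵖ}
    (s : Twist.sectN (𝒜 := 𝒜) k U) (x : U.unop) :
    (((castSect 𝒜 h s).1 x : Twist.twistAt 𝒜 k' x.1) : Twist.Loc 𝒜 x.1) = (s.1 x).1 := by
  subst h
  rfl

/-- Multiplication by a unit fraction of degree `m` is a bijection `O(n)(W) → O(m+n)(W)`. -/
theorem bijective_mulSect_fraction {W : Opens (ProjectiveSpectrum.top 𝒜)} {m : ℤ} (n : ℤ)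
    {p q : ℕ} {u v : A} (hu : u ∈ 𝒜 p) (hv : v ∈ 𝒜 q) (hpq : (p : ℤ) = q + m)
    (hux : ∀ x : W, u ∉ x.1.asHomogeneousIdeal) (hvx : ∀ x : W, v ∉ x.1.asHomogeneousIdeal)
    (σ : Twist.sectN (𝒜 := 𝒜) m (op W))
    (hσ : ∀ x : W, ((σ.1 x : Twist.twistAt 𝒜 m x.1) : Twist.Loc 𝒜 x.1) =
      Localization.mk u ⟨v, hvx x⟩) :
    Function.Bijective (fun t : Twist.sectN (𝒜 := 𝒜) n (op W) => mulSect 𝒜 σ t) := by
  have hswap : ∀ x : W, (Localization.mk u ⟨v, hvx x⟩ : Twist.Loc 𝒜 x.1) *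
      Localization.mk v ⟨u, hux x⟩ = 1 :=
    fun x => TwistRestrict.mk_mul_mk_swap u v (hux x) (hvx x)
  constructor
  · intro t t' h
    have h' : mulSect 𝒜 σ t = mulSect 𝒜 σ t' := h
    apply Subtype.ext
    funext x
    apply Subtype.ext
    have h1 : ((σ.1 x).1 : Twist.Loc 𝒜 x.1) * (t.1 x).1 = (σ.1 x).1 * (t'.1 x).1 := by
      rw [← mulSect_val, ← mulSect_val, h']
    rw [hσ x] at h1
    calc ((t.1 x).1 : Twist.Loc 𝒜 x.1)
        = Localization.mk v ⟨u, hux x⟩ * (Localization.mk u ⟨v, hvx x⟩ * (t.1 x).1) := by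
          rw [← mul_assoc, mul_comm (Localization.mk v _), hswap x, one_mul]
      _ = Localization.mk v ⟨u, hux x⟩ * (Localization.mk u ⟨v, hvx x⟩ * (t'.1 x).1) := by
          rw [h1]
      _ = (t'.1 x).1 := by
          rw [← mul_assoc, mul_comm (Localization.mk v _), hswap x, one_mul]
  · intro w
    have hqp : (q : ℤ) = p + (-m) := by omega
    refine ⟨castSect 𝒜 (by ring : -m + (m + n) = n)
      (mulSect 𝒜 (TwistRestrict.fracSection 𝒜 hv hu hqp hux) w), ?_⟩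
    apply Subtype.ext
    funext x
    apply Subtype.ext
    show ((σ.1 x).1 : Twist.Loc 𝒜 x.1) * ((castSect 𝒜 _ _).1 x).1 = (w.1 x).1
    rw [castSect_val, hσ x, mulSect_val]
    show (Localization.mk u ⟨v, hvx x⟩ : Twist.Loc 𝒜 x.1) *
      (Localization.mk v ⟨u, hux x⟩ * (w.1 x).1) = _
    rw [← mul_assoc, hswap x, one_mul]

set_option backward.isDefEq.respectTransparency false in
/-- The multiplication `O(m) ⊗ O(n) ⟶ O(m+n)` as a morphism of presheaves of modules. -/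
noncomputable def mulHom (m n : ℤ) :
    TensorModIso.tensorPre' (Twist.twist 𝒜 m) (Twist.twist 𝒜 n) ⟶
      (PresheafOfModules.restrictScalars (𝟙 (Proj 𝒜).ringCatSheaf.obj)).obj
        (Twist.twist 𝒜 (m + n)).val where
  app U := ModuleCat.MonoidalCategory.tensorLift
    (R := ↑(((Proj 𝒜).sheaf.obj ⋙ forget₂ CommRingCat RingCat).obj U))
    (M₁ := (Twist.twist 𝒜 m).val.obj U) (M₂ := (Twist.twist 𝒜 n).val.obj U)
    (M₃ := ((PresheafOfModules.restrictScalars (𝟙 (Proj 𝒜).ringCatSheaf.obj)).obj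
        (Twist.twist 𝒜 (m + n)).val).obj U)
    (fun (s : Twist.sectN (𝒜 := 𝒜) m U) (t : Twist.sectN (𝒜 := 𝒜) n U) => mulSect 𝒜 s t)
    (fun s s' t => mulSect_add_left 𝒜 s s' t)
    (fun r s t => mulSect_smul_left 𝒜 r s t)
    (fun s t t' => mulSect_add_right 𝒜 s t t')
    (fun r s t => mulSect_smul_right 𝒜 r s t)
  naturality _ := ModuleCat.MonoidalCategory.tensor_ext (fun _ _ => rfl)

set_option backward.isDefEq.respectTransparency false in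
/-- The multiplication map is bijective over opens with a unit fraction of degree `m`. -/
theorem bijective_mulHom_app (m n : ℤ) (V : Opens (ProjectiveSpectrum.top 𝒜)) {p q : ℕ}
    {u v : A} (hu : u ∈ 𝒜 p) (hv : v ∈ 𝒜 q) (hpq : (p : ℤ) = q + m)
    (hux : ∀ x : V, u ∉ x.1.asHomogeneousIdeal) (hvx : ∀ x : V, v ∉ x.1.asHomogeneousIdeal) :
    Function.Bijective ((mulHom 𝒜 m n).app (op (TwistRestrict.toProjOpens 𝒜 V))).hom := by
  refine TensorModIso.bijective_lift_of_generator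
    (R := ↑(((Proj 𝒜).sheaf.obj ⋙ forget₂ CommRingCat RingCat).obj (op V)))
    (M := Twist.sectN (𝒜 := 𝒜) m (op V)) (N := Twist.sectN (𝒜 := 𝒜) n (op V))
    (P := Twist.sectN (𝒜 := 𝒜) (m + n) (op V))
    ((mulHom 𝒜 m n).app (op (TwistRestrict.toProjOpens 𝒜 V))).hom
    (TwistRestrict.fracSection 𝒜 hu hv hpq hvx) ?_ ?_
  · exact (TwistRestrict.bijective_smul_of_fraction 𝒜 hu hv hpq hux hvx _ (fun x => rfl)).2
  · exact bijective_mulSect_fraction 𝒜 n hu hv hpq hux hvx _ (fun x => rfl)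

/-- Every point has a neighbourhood with a unit fraction of degree `m`. -/
def HasUnitFrac (m : ℤ) : Prop :=
  ∀ y : ProjectiveSpectrum 𝒜, ∃ (p q : ℕ) (u v : A), u ∈ 𝒜 p ∧ v ∈ 𝒜 q ∧ (p : ℤ) = q + m ∧
    u ∉ y.asHomogeneousIdeal ∧ v ∉ y.asHomogeneousIdeal

/-- If `Proj` is covered by opens `D₊(g)`, `g ∈ 𝒜 d`, then `O(kd)` has local unit fractions. -/
theorem hasUnitFrac_of_cover (d : ℕ) (k : ℤ)
    (hcov : ∀ y : ProjectiveSpectrum 𝒜, ∃ g ∈ 𝒜 d, g ∉ y.asHomogeneousIdeal) :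
    HasUnitFrac 𝒜 (k * d) := by
  intro y
  obtain ⟨g, hg, hgy⟩ := hcov y
  refine ⟨k.toNat • d, (-k).toNat • d, g ^ k.toNat, g ^ (-k).toNat,
    SetLike.pow_mem_graded _ hg, SetLike.pow_mem_graded _ hg, ?_,
    fun h => hgy (y.isPrime.mem_of_pow_mem _ h), fun h => hgy (y.isPrime.mem_of_pow_mem _ h)⟩
  have h := Int.toNat_sub_toNat_neg k
  simp only [smul_eq_mul]
  push_cast
  linear_combination (d : ℤ) * h

set_option backward.isDefEq.respectTransparency false in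
/-- `O(m) ⊗ O(n) ≅ O(m+n)` when `O(m)` has local unit fractions. -/
theorem nonempty_tensorMod_twist_iso (m n : ℤ) (h : HasUnitFrac 𝒜 m) :
    Nonempty (CohB1.tensorMod (Twist.twist 𝒜 m) (Twist.twist 𝒜 n) ≅ Twist.twist 𝒜 (m + n)) := by
  refine TensorModIso.nonempty_tensorMod_iso _ _ _ (mulHom 𝒜 m n) ?_
  intro U x hxU
  obtain ⟨p, q, u, v, hu, hv, hpq, hux, hvx⟩ := h x
  have hxV : x ∈ U ⊓ (Proj.basicOpen 𝒜 u ⊓ Proj.basicOpen 𝒜 v) :=
    Opens.mem_inf.mpr ⟨hxU, Opens.mem_inf.mpr ⟨hux, hvx⟩⟩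
  refine ⟨U ⊓ (Proj.basicOpen 𝒜 u ⊓ Proj.basicOpen 𝒜 v), inf_le_left, hxV, ?_⟩
  exact bijective_mulHom_app 𝒜 m n
    (TwistRestrict.ofProjOpens 𝒜 (U ⊓ (Proj.basicOpen 𝒜 u ⊓ Proj.basicOpen 𝒜 v))) hu hv hpq
    (fun y => (Opens.mem_inf.mp (Opens.mem_inf.mp y.2).2).1)
    (fun y => (Opens.mem_inf.mp (Opens.mem_inf.mp y.2).2).2)

set_option backward.isDefEq.respectTransparency false in
/-- `O(0)` is the structure sheaf. -/
theorem nonempty_twist_zero_iso :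
    Nonempty (Twist.twist 𝒜 0 ≅ Coh.structureModule (Proj 𝒜)) := by
  have h1 : (1 : A) ∈ 𝒜 0 := SetLike.GradedOne.one_mem
  have hone : ∀ x : (⊤ : Opens (ProjectiveSpectrum.top 𝒜)), (1 : A) ∉ x.1.asHomogeneousIdeal :=
    fun x h => x.1.isPrime.ne_top ((Ideal.eq_top_iff_one _).mpr h)
  have hpq : ((0 : ℕ) : ℤ) = ((0 : ℕ) : ℤ) + 0 := by simp
  refine RestrictUnit.nonempty_iso_unit_of_global (X := Proj 𝒜) (Twist.twist 𝒜 0)
    (TwistRestrict.fracSection 𝒜 h1 h1 hpq hone) ?_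
  intro W
  exact TwistRestrict.bijective_smul_of_fraction 𝒜 (W := TwistRestrict.ofProjOpens 𝒜 W) h1 h1 hpq
    (fun x => hone ⟨x.1, trivial⟩) (fun x => hone ⟨x.1, trivial⟩) _ (fun x => rfl)

/-- When `Proj` is covered by the `D₊(g)` with `g` of degree one: all `O(n)` are invertible,
`O(m) ⊗ O(n) ≅ O(m+n)`, and `O(n) ≅ O(1)^{⊗ n}`. -/
theorem twist_package
    (hcov1 : ∀ y : ProjectiveSpectrum 𝒜, ∃ g ∈ 𝒜 1, g ∉ y.asHomogeneousIdeal) :
    (∀ n : ℤ, PicF.IsInvertible (Twist.twist 𝒜 n)) ∧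
      (∀ m n : ℤ, Nonempty (CohB1.tensorMod (Twist.twist 𝒜 m) (Twist.twist 𝒜 n) ≅
        Twist.twist 𝒜 (m + n))) ∧
      ∀ n : ℕ, Nonempty (Twist.twist 𝒜 (n : ℤ) ≅ CohB1.tensorPow (Twist.twist 𝒜 1) n) := by
  have h2 : ∀ m n : ℤ, Nonempty (CohB1.tensorMod (Twist.twist 𝒜 m) (Twist.twist 𝒜 n) ≅
      Twist.twist 𝒜 (m + n)) := by
    intro m n
    have h := hasUnitFrac_of_cover 𝒜 1 m hcov1
    rw [Nat.cast_one, mul_one] at h
    exact nonempty_tensorMod_twist_iso 𝒜 m n h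
  refine ⟨?_, h2, ?_⟩
  · intro n
    have h := TwistRestrict.isInvertible_twist_of_cover 𝒜 1 n hcov1
    rwa [Nat.cast_one, mul_one] at h
  · intro n
    induction n with
    | zero =>
      have h0 : ((0 : ℕ) : ℤ) = 0 := Nat.cast_zero
      rw [h0]
      exact nonempty_twist_zero_iso 𝒜
    | succ k ih =>
      obtain ⟨e⟩ := ih
      obtain ⟨e1⟩ := h2 (k : ℤ) 1
      obtain ⟨e2⟩ := TensorModIso.nonempty_tensorMod_congr e (Iso.refl (Twist.twist 𝒜 1))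
      have hk : ((k + 1 : ℕ) : ℤ) = (k : ℤ) + 1 := by push_cast; ring
      rw [hk]
      exact ⟨e1.symm ≪≫ e2⟩

/-- If homogeneous elements of positive degree generate the algebra, they have no common zero
on `Proj`. -/
theorem exists_generator_not_mem {s : ℕ} (f : Fin s → A) (deg : Fin s → ℕ)
    (hf : ∀ i, f i ∈ 𝒜 (deg i)) (hgen : Algebra.adjoin R (Set.range f) = ⊤)
    (y : ProjectiveSpectrum 𝒜) : ∃ i, f i ∉ y.asHomogeneousIdeal := by
  by_contra hcon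
  push Not at hcon
  have hrep : ∀ b : A, ∃ r : R, b - algebraMap R A r ∈ y.asHomogeneousIdeal.toIdeal := by
    intro b
    have hb : b ∈ Algebra.adjoin R (Set.range f) := by rw [hgen]; trivial
    induction hb using Algebra.adjoin_induction with
    | mem x hx =>
      obtain ⟨i, rfl⟩ := hx
      exact ⟨0, by simpa using hcon i⟩
    | algebraMap r => exact ⟨r, by simp⟩
    | add x z _ _ hx hz =>
      obtain ⟨r, hr⟩ := hx
      obtain ⟨r', hr'⟩ := hz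
      refine ⟨r + r', ?_⟩
      have : x + z - algebraMap R A (r + r') =
          (x - algebraMap R A r) + (z - algebraMap R A r') := by rw [map_add]; ring
      rw [this]
      exact Ideal.add_mem _ hr hr'
    | mul x z _ _ hx hz =>
      obtain ⟨r, hr⟩ := hx
      obtain ⟨r', hr'⟩ := hz
      refine ⟨r * r', ?_⟩
      have : x * z - algebraMap R A (r * r') =
          x * (z - algebraMap R A r') + algebraMap R A r' * (x - algebraMap R A r) := by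
        rw [map_mul]; ring
      rw [this]
      exact Ideal.add_mem _ (Ideal.mul_mem_left _ _ hr') (Ideal.mul_mem_left _ _ hr)
  apply y.not_irrelevant_le
  rw [HomogeneousIdeal.irrelevant_le]
  intro i hi b hb
  obtain ⟨r, hr⟩ := hrep b
  have h1 := (y.asHomogeneousIdeal.isHomogeneous.mem_iff).mp hr i
  have h2 : (DirectSum.decompose 𝒜 (b - algebraMap R A r) i : A) = b := by
    rw [DirectSum.decompose_sub, DirectSum.sub_apply, Submodule.coe_sub,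
      DirectSum.decompose_of_mem_same 𝒜 hb,
      DirectSum.decompose_of_mem_ne 𝒜 (SetLike.algebraMap_mem_graded 𝒜 r) (by omega), sub_zero]
  rwa [h2] at h1

end
end Groth.Agent.H18.TwistTensor
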