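import Groth.Agent.H18.Serre.Generation
import Groth.Agent.H18.TwistTensor
import Groth.Agent.H22.GenLocus

/-!
# Ampleness of the twisting sheaves `O(N)` on `Proj`

For a homogeneous element `b` of degree `N`, the locus where the section `b/1` of `O(N)` generates
is `D₊(b)` (when `O(N)` has local unit fractions).  Consequently `O(N)` is ample when `Proj` is
quasi-compact and covered by the `D₊(b)`, `b ∈ 𝒜 N`.
-/

set_option autoImplicit false
universe u

noncomputable section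

namespace Groth.Agent.H18.TwistAmple

open CategoryTheory AlgebraicGeometry Opposite TopologicalSpace
open Groth.Agent.H18.Serre (val frac val_frac mem_basicOpen_frac toO ofTw toTw)

section General
variable {X : Scheme.{u}}

/-- The generating locus is invariant under isomorphisms of the target. -/
theorem genLocus_comp_iso {L L' : X.Modules} (s : Coh.structureModule X ⟶ L) (e : L ≅ L') :
    CohB1.genLocus L' (s ≫ e.hom) = CohB1.genLocus L s := by
  have key : ∀ V : X.Opens,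
      Function.Bijective ((s ≫ e.hom).app V) ↔ Function.Bijective (s.app V) := by
    intro V
    have hb : Function.Bijective (e.hom.app V) :=
      (ConcreteCategory.isIso_iff_bijective _).mp inferInstance
    have h1 : (⇑(ConcreteCategory.hom ((s ≫ e.hom).app V)) : _ → _) =
        ⇑(ConcreteCategory.hom (e.hom.app V)) ∘ ⇑(ConcreteCategory.hom (s.app V)) := rfl
    rw [h1]
    exact Function.Bijective.of_comp_iff' hb _
  refine TopologicalSpace.Opens.ext (Set.ext fun x => ?_)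
  show x ∈ CohB1.genLocus L' (s ≫ e.hom) ↔ x ∈ CohB1.genLocus L s
  rw [Groth.Agent.H22.GenLocus.mem_genLocus_iff, Groth.Agent.H22.GenLocus.mem_genLocus_iff]
  constructor
  · rintro ⟨U, hxU, hU⟩
    exact ⟨U, hxU, fun V hV => (key V).mp (hU V hV)⟩
  · rintro ⟨U, hxU, hU⟩
    exact ⟨U, hxU, fun V hV => (key V).mpr (hU V hV)⟩

end General

section Proj
variable {R A : Type u} [CommRing R] [CommRing A] [Algebra R A] (𝒜 : ℕ → Submodule R A)
  [GradedAlgebra 𝒜]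

/-- `Proj` is quasi-compact when finitely many `D₊(g)`, `g` homogeneous of positive degree,
cover it. -/
theorem compactSpace_of_finite_cover {ι : Type*} [Finite ι] (g : ι → A) (d : ι → ℕ)
    (hd : ∀ i, 0 < d i) (hg : ∀ i, g i ∈ 𝒜 (d i))
    (hcov : ∀ x : ProjectiveSpectrum 𝒜, ∃ i, g i ∉ x.asHomogeneousIdeal) :
    CompactSpace (Proj 𝒜) := by
  refine ⟨?_⟩
  have h : (Set.univ : Set (Proj 𝒜)) = ⋃ i, (Proj.basicOpen 𝒜 (g i) : Set (Proj 𝒜)) := by
    refine (Set.eq_univ_of_forall fun x => ?_).symm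
    obtain ⟨i, hi⟩ := hcov x
    exact Set.mem_iUnion.mpr ⟨i, hi⟩
  rw [h]
  exact isCompact_iUnion
    (fun i => (Proj.isAffineOpen_basicOpen 𝒜 (g i) (hg i) (hd i)).isCompact)

variable {𝒜}

/-- The value of a section of `O(k)` at a point. -/
def wval {k : ℤ} {U : (Proj 𝒜).Opens} (a : Γ(Twist.twist 𝒜 k, U)) (x : U) : Twist.Loc 𝒜 x.1 :=
  (((ofTw a).1 x : Twist.twistAt 𝒜 k x.1) : Twist.Loc 𝒜 x.1)

set_option backward.isDefEq.respectTransparency false in
theorem wval_ext {k : ℤ} {U : (Proj 𝒜).Opens} {a a' : Γ(Twist.twist 𝒜 k, U)}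
    (h : ∀ x : U, wval a x = wval a' x) : a = a' :=
  show ofTw a = ofTw a' from Subtype.ext (funext fun x => Subtype.ext (h x))

set_option backward.isDefEq.respectTransparency false in
theorem wval_smul {k : ℤ} {U : (Proj 𝒜).Opens} (r : Γ(Proj 𝒜, U)) (a : Γ(Twist.twist 𝒜 k, U))
    (x : U) : wval (r • a) x = (val 𝒜 r x).val * wval a x :=
  Twist.coe_smul_val k x.1 ((toO r).1 x) ((ofTw a).1 x)

variable (𝒜)

set_option backward.isDefEq.respectTransparency false in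
/-- The morphism `O ⟶ O(N)` given by a homogeneous element of degree `N`. -/
def secHom {N : ℕ} (b : 𝒜 N) : Coh.structureModule (Proj 𝒜) ⟶ Twist.twist 𝒜 (N : ℤ) :=
  (SheafOfModules.unitHomEquiv (R := (Proj 𝒜).ringCatSheaf) (Twist.twist 𝒜 (N : ℤ))).symm
    (RestrictUnit.globalSections (Twist.twist 𝒜 (N : ℤ))
      (toTw (U := ⊤) (Twist.globalOf 𝒜 b)))

set_option backward.isDefEq.respectTransparency false in
/-- The locus where `b/1` generates `O(N)` is `D₊(b)`. -/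
theorem genLocus_secHom {N : ℕ} (b : 𝒜 N) (hUF : TwistTensor.HasUnitFrac 𝒜 (N : ℤ)) :
    CohB1.genLocus (Twist.twist 𝒜 (N : ℤ)) (secHom 𝒜 b) = Proj.basicOpen 𝒜 b.1 := by
  refine TopologicalSpace.Opens.ext (Set.ext fun x => ?_)
  show x ∈ CohB1.genLocus _ (secHom 𝒜 b) ↔ x ∈ Proj.basicOpen 𝒜 b.1
  obtain ⟨p, q, u, v, hu, hv, hpq, hux, hvx⟩ := hUF x
  obtain ⟨W, hW⟩ : ∃ W : (Proj 𝒜).Opens, W = Proj.basicOpen 𝒜 u ⊓ Proj.basicOpen 𝒜 v :=
    ⟨_, rfl⟩
  have hxW : x ∈ W := by rw [hW]; exact ⟨hux, hvx⟩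
  have huW : ∀ y : W, u ∉ y.1.asHomogeneousIdeal := fun y => (hW.le y.2).1
  have hvW : ∀ y : W, v ∉ y.1.asHomogeneousIdeal := fun y => (hW.le y.2).2
  have hNq : N + q = p := by omega
  have hbv : b.1 * v ∈ 𝒜 p := hNq ▸ SetLike.mul_mem_graded b.2 hv
  have hσ : ∀ (V : (Proj 𝒜).Opens) (hV : V ≤ W), Function.Bijective
      (fun r : Γ(Proj 𝒜, V) => r • (Twist.twist 𝒜 (N : ℤ)).presheaf.map (homOfLE hV).op
        (toTw (TwistRestrict.fracSection 𝒜 hu hv hpq hvW))) := by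
    intro V hV
    exact TwistRestrict.bijective_smul_of_fraction 𝒜 hu hv hpq (fun y => huW ⟨y.1, hV y.2⟩)
      (fun y => hvW ⟨y.1, hV y.2⟩)
      ((Twist.twist 𝒜 (N : ℤ)).presheaf.map (homOfLE hV).op
        (toTw (TwistRestrict.fracSection 𝒜 hu hv hpq hvW)))
      (fun y => rfl)
  have ha : (secHom 𝒜 b).app W
      (show Γ(Coh.structureModule (Proj 𝒜), W) from (1 : Γ(Proj 𝒜, W))) =
      frac 𝒜 W hbv hu huW • (Twist.twist 𝒜 (N : ℤ)).presheaf.map (homOfLE (le_refl W)).op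
        (toTw (TwistRestrict.fracSection 𝒜 hu hv hpq hvW)) := by
    refine (FreeEpi.unitHomEquiv_symm_app_apply (Twist.twist 𝒜 (N : ℤ)) _ W 1).trans ?_
    rw [one_smul]
    refine wval_ext (fun y => ?_)
    rw [wval_smul]
    show (Localization.mk b.1 1 : Twist.Loc 𝒜 y.1) =
      Localization.mk (b.1 * v) ⟨u, huW y⟩ * Localization.mk u ⟨v, hvW y⟩
    rw [Localization.mk_mul, Localization.mk_eq_mk_iff, Localization.r_iff_exists]
    refine ⟨1, ?_⟩
    simp only [OneMemClass.coe_one, one_mul, Submonoid.coe_mul]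
    ring
  have hinf := Groth.Agent.H22.GenLocus.genLocus_inf_eq_basicOpen (Twist.twist 𝒜 (N : ℤ))
    (secHom 𝒜 b) (toTw (TwistRestrict.fracSection 𝒜 hu hv hpq hvW)) hσ (le_refl W)
    (frac 𝒜 W hbv hu huW) ha
  constructor
  · intro hx
    have h1 : x ∈ CohB1.genLocus _ (secHom 𝒜 b) ⊓ W := ⟨hx, hxW⟩
    rw [hinf] at h1
    have h2 := ((mem_basicOpen_frac 𝒜 hbv hu huW x).mp h1).2
    exact fun hb => h2 (Ideal.mul_mem_right _ _ hb)
  · intro hx
    have h1 : x ∈ (Proj 𝒜).basicOpen (frac 𝒜 W hbv hu huW) :=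
      (mem_basicOpen_frac 𝒜 hbv hu huW x).mpr
        ⟨hxW, fun h => ((x : ProjectiveSpectrum 𝒜).isPrime.mem_or_mem h).elim hx hvx⟩
    rw [← hinf] at h1
    exact h1.1

/-- `O(n) ≅ O(n)^{⊗ 1}`. -/
theorem nonempty_iso_tensorPow_one (n : ℤ) :
    Nonempty (Twist.twist 𝒜 n ≅ CohB1.tensorPow (Twist.twist 𝒜 n) (0 + 1)) := by
  obtain ⟨e0⟩ := TwistTensor.nonempty_twist_zero_iso 𝒜
  have hUF0 : TwistTensor.HasUnitFrac 𝒜 0 := fun y =>
    ⟨0, 0, 1, 1, SetLike.GradedOne.one_mem, SetLike.GradedOne.one_mem, by simp,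
      fun h => y.isPrime.ne_top ((Ideal.eq_top_iff_one _).mpr h),
      fun h => y.isPrime.ne_top ((Ideal.eq_top_iff_one _).mpr h)⟩
  obtain ⟨e1⟩ := TwistTensor.nonempty_tensorMod_twist_iso 𝒜 0 n hUF0
  obtain ⟨e2⟩ := TensorModIso.nonempty_tensorMod_congr e0 (Iso.refl (Twist.twist 𝒜 n))
  have h0 : (0 : ℤ) + n = n := zero_add n
  exact ⟨eqToIso (by rw [h0]) ≪≫ e1.symm ≪≫ e2⟩

/-- `O(N)` is ample when it is invertible, `Proj` is quasi-compact and covered by the opens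
`D₊(b)` with `b` homogeneous of degree `N > 0`. -/
theorem isAmple_twist {N : ℕ} (hN : 0 < N) (hinv : PicF.IsInvertible (Twist.twist 𝒜 (N : ℤ)))
    (hc : CompactSpace (Proj 𝒜)) (hUF : TwistTensor.HasUnitFrac 𝒜 (N : ℤ))
    (hcov : ∀ x : ProjectiveSpectrum 𝒜, ∃ b ∈ 𝒜 N, b ∉ x.asHomogeneousIdeal) :
    CohB1.IsAmple (Twist.twist 𝒜 (N : ℤ)) := by
  refine ⟨hinv, hc, fun x => ?_⟩
  obtain ⟨b, hb, hbx⟩ := hcov x
  obtain ⟨e⟩ := nonempty_iso_tensorPow_one 𝒜 (N : ℤ)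
  refine ⟨0, secHom 𝒜 ⟨b, hb⟩ ≫ e.hom, ?_, ?_⟩
  · rw [genLocus_comp_iso, genLocus_secHom 𝒜 ⟨b, hb⟩ hUF]
    exact hbx
  · rw [genLocus_comp_iso, genLocus_secHom 𝒜 ⟨b, hb⟩ hUF]
    exact Proj.isAffineOpen_basicOpen 𝒜 b hb hN

end Proj

end Groth.Agent.H18.TwistAmple

end
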