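import Groth.Agent.H18.AmpleBasis

/-!
# Ampleness is invariant under isomorphism; quasi-affine iff structure sheaf ample (no separatedness)
-/

set_option autoImplicit false
universe u

noncomputable section

namespace Groth.Agent.H18.AmpleIso

open CategoryTheory CategoryTheory.Limits AlgebraicGeometry Opposite TopologicalSpace
open Groth.Agent.H18.SecTw Groth.Agent.H18.TensorGen Groth.Agent.H18.TensorPowIso

variable {X : Scheme.{u}}

theorem isInvertible_of_iso {L L' : X.Modules} (e : L ≅ L') (h : PicF.IsInvertible L) :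
    PicF.IsInvertible L' := fun x => by
  obtain ⟨U, hx, ⟨φ⟩⟩ := h x
  exact ⟨U, hx, ⟨(Scheme.Modules.restrictFunctor U.ι).mapIso e.symm ≪≫ φ⟩⟩

theorem nonempty_tensorPow_iso {L L' : X.Modules} (e : L ≅ L') (n : ℕ) :
    Nonempty (CohB1.tensorPow L n ≅ CohB1.tensorPow L' n) := by
  induction n with
  | zero => exact ⟨Iso.refl _⟩
  | succ n ih =>
    obtain ⟨e'⟩ := ih
    exact TensorModIso.nonempty_tensorMod_congr e' e

theorem isAmple_of_iso {L L' : X.Modules} (e : L ≅ L') (h : CohB1.IsAmple L) :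
    CohB1.IsAmple L' := by
  obtain ⟨hinv, hc, hcov⟩ := h
  refine ⟨isInvertible_of_iso e hinv, hc, fun x => ?_⟩
  obtain ⟨n, s, hx, haff⟩ := hcov x
  obtain ⟨φ⟩ := nonempty_tensorPow_iso e (n + 1)
  refine ⟨n, s ≫ φ.hom, ?_, ?_⟩
  · rw [TwistAmple.genLocus_comp_iso]
    exact hx
  · rw [TwistAmple.genLocus_comp_iso]
    exact haff

/-- `X` is quasi-affine iff `O_X` is ample (for quasi-compact `X`). -/
theorem isQuasiAffine_iff_isAmple_structureModule [CompactSpace X] :
    X.IsQuasiAffine ↔ CohB1.IsAmple (Coh.structureModule X) := by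
  constructor
  · intro hq
    exact AmpleBasis.isAmple_of_isQuasiAffine (Groth.Agent.H8.isInvertible_structureModule X)
  · rintro ⟨-, -, h⟩
    refine Scheme.IsQuasiAffine.of_forall_exists_mem_basicOpen X (fun x => ?_)
    obtain ⟨n, s, hx, haff⟩ := h x
    obtain ⟨e⟩ := Groth.Agent.H18.QAffAmple.nonempty_tensorPow_unit_iso (X := X) (n + 1)
    have h1 := Groth.Agent.H18.TwistAmple.genLocus_comp_iso s e
    have h2 := Groth.Agent.H18.QAffAmple.genLocus_unit (s ≫ e.hom)
    rw [h1] at h2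
    refine ⟨(show Γ(X, ⊤) from (s ≫ e.hom).app ⊤
      (show Γ(Coh.structureModule X, ⊤) from (1 : Γ(X, ⊤)))), ?_, ?_⟩
    · exact h2 ▸ haff
    · exact h2 ▸ hx

end Groth.Agent.H18.AmpleIso
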