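import Groth.Agent.H18.AmpleIso

/-!
# Tensor products of ample modules (EGA II 4.5.6, 4.5.7)
-/

set_option autoImplicit false
universe u

noncomputable section

namespace Groth.Agent.H18.AmpleTensor

open CategoryTheory CategoryTheory.Limits AlgebraicGeometry Opposite TopologicalSpace
open Groth.Agent.H8 (res_res res_smul ringRes_res section_eq_of_cover)
open Groth.Agent.H18.SecTw Groth.Agent.H18.TensorGen Groth.Agent.H18.TensorPowIso

variable {X : Scheme.{u}}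

theorem tripleSys_pow_tensor {L L' : X.Modules} (hL : PicF.IsInvertible L)
    (hL' : PicF.IsInvertible L') (N : ℕ) :
    TripleSys (CohB1.tensorPow L N) (CohB1.tensorPow L' N)
      (CohB1.tensorPow (CohB1.tensorMod L L') N)
      (fun V α β γ => ∃ (τ : Γ(L, V)) (τ' : Γ(L', V)), IsGen L V τ ∧ IsGen L' V τ' ∧
        α = lp τ N ∧ β = lp τ' N ∧ γ = lp (tm L L' τ τ') N) where
  gen := by
    rintro V α β γ ⟨τ, τ', hτ, hτ', rfl, rfl, rfl⟩
    exact ⟨isGen_lp hτ N, isGen_lp hτ' N, isGen_lp (isGen_tm hτ hτ') N⟩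
  res := by
    rintro V W h α β γ ⟨τ, τ', hτ, hτ', rfl, rfl, rfl⟩
    refine ⟨L.presheaf.map (homOfLE h).op τ, L'.presheaf.map (homOfLE h).op τ', hτ.res h,
      hτ'.res h, lp_res h τ N, lp_res h τ' N, ?_⟩
    rw [lp_res, tm_res]
  cover := by
    intro x
    obtain ⟨V, τ, τ', hxV, hτ, hτ'⟩ := exists_isGen_pair hL hL' x
    exact ⟨V, _, _, _, hxV, τ, τ', hτ, hτ', rfl, rfl, rfl⟩
  compat := by
    rintro V α α' β β' γ γ' u v ⟨τ, τ', hτ, hτ', rfl, rfl, rfl⟩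
      ⟨σ, σ', hσ, hσ', rfl, rfl, rfl⟩ hu hv
    obtain ⟨c, hc⟩ := hτ.self.2 σ
    obtain ⟨c', hc'⟩ := hτ'.self.2 σ'
    have hc₁ : c • τ = σ := hc
    have hc₂ : c' • τ' = σ' := hc'
    rw [← hc₁, lp_smul] at hu
    rw [← hc₂, lp_smul] at hv
    have hu' : c ^ N = u := (isGen_lp hτ N).self.1 hu
    have hv' : c' ^ N = v := (isGen_lp hτ' N).self.1 hv
    rw [← hc₁, ← hc₂, tm_smul_left, tm_smul_right, ← mul_smul, lp_smul, ← hu', ← hv', mul_pow]

/-- `L^N ⊗ L'^N ≅ (L ⊗ L')^N`. -/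
theorem nonempty_tensorPow_tensorMod {L L' : X.Modules} (hL : PicF.IsInvertible L)
    (hL' : PicF.IsInvertible L') (N : ℕ) :
    Nonempty (CohB1.tensorMod (CohB1.tensorPow L N) (CohB1.tensorPow L' N) ≅
      CohB1.tensorPow (CohB1.tensorMod L L') N) :=
  nonempty_iso_of_tripleSys (tripleSys_pow_tensor hL hL' N)

/-- EGA II 4.5.6: `L` ample, `L'` invertible with the `X_{s'}` covering `X`: `L ⊗ L'` ample. -/
theorem isAmple_tensorMod_of_cover {L L' : X.Modules} (hL : CohB1.IsAmple L)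
    (hL' : PicF.IsInvertible L')
    (h : ∀ x : X, ∃ (n : ℕ) (s' : Coh.structureModule X ⟶ CohB1.tensorPow L' (n + 1)),
      x ∈ CohB1.genLocus _ s') :
    CohB1.IsAmple (CohB1.tensorMod L L') := by
  have hB := AmpleBasis.isBasis_affine_of_isAmple hL
  obtain ⟨hinv, hc, -⟩ := hL
  refine ⟨isInvertible_tensorMod hinv hL', hc, fun x => ?_⟩
  obtain ⟨m, s', hxs'⟩ := h x
  obtain ⟨U', ⟨haff, n, s, rfl⟩, hxs, hle⟩ := Opens.isBasis_iff_nbhd.mp hB hxs'
  obtain ⟨e1⟩ := nonempty_tensorPow_tensorPow hinv (n + 1) (m + 1)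
  obtain ⟨e2⟩ := nonempty_tensorPow_tensorPow hL' (m + 1) (n + 1)
  obtain ⟨e3⟩ := nonempty_tensorPow_congr L' (Nat.mul_comm (m + 1) (n + 1))
  obtain ⟨e4⟩ := nonempty_tensorPow_tensorMod hinv hL' ((n + 1) * (m + 1))
  obtain ⟨e5⟩ := nonempty_tensorPow_congr (CohB1.tensorMod L L')
    (show (n + 1) * (m + 1) = ((n + 1) * (m + 1) - 1) + 1 from by
      have : 0 < (n + 1) * (m + 1) := Nat.mul_pos (Nat.succ_pos _) (Nat.succ_pos _)
      omega)
  obtain ⟨a, ha_def⟩ : ∃ a : Coh.structureModule X ⟶ CohB1.tensorPow L ((n + 1) * (m + 1)),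
      a = SecTwist.powHom s (m + 1) ≫ e1.hom := ⟨_, rfl⟩
  obtain ⟨b, hb_def⟩ : ∃ b : Coh.structureModule X ⟶ CohB1.tensorPow L' ((n + 1) * (m + 1)),
      b = SecTwist.powHom s' (n + 1) ≫ (e2 ≪≫ e3).hom := ⟨_, rfl⟩
  have ha : CohB1.genLocus _ a = CohB1.genLocus _ s := by
    rw [ha_def, TwistAmple.genLocus_comp_iso,
      genLocus_powHom_succ (isInvertible_tensorPow hinv (n + 1)) s m]
  have hb : CohB1.genLocus _ b = CohB1.genLocus _ s' := by
    rw [hb_def, TwistAmple.genLocus_comp_iso,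
      genLocus_powHom_succ (isInvertible_tensorPow hL' (m + 1)) s' n]
  have hab := genLocus_tmulHom (isInvertible_tensorPow hinv ((n + 1) * (m + 1)))
    (isInvertible_tensorPow hL' ((n + 1) * (m + 1))) a b
  have hfin : CohB1.genLocus _ (SecTwist.tmulHom a b ≫ (e4 ≪≫ e5).hom) = CohB1.genLocus _ s := by
    rw [TwistAmple.genLocus_comp_iso, hab, ha, hb, inf_eq_left.mpr hle]
  refine ⟨(n + 1) * (m + 1) - 1, SecTwist.tmulHom a b ≫ (e4 ≪≫ e5).hom, ?_, ?_⟩
  · rw [hfin]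
    exact hxs
  · rw [hfin]
    exact haff

/-- EGA II 4.5.7: the tensor product of two ample modules is ample. -/
theorem isAmple_tensorMod {L L' : X.Modules} (hL : CohB1.IsAmple L) (hL' : CohB1.IsAmple L') :
    CohB1.IsAmple (CohB1.tensorMod L L') :=
  isAmple_tensorMod_of_cover hL hL'.1 (fun x => by
    obtain ⟨n, s, hx, -⟩ := hL'.2.2 x
    exact ⟨n, s, hx⟩)

end Groth.Agent.H18.AmpleTensor
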