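import Groth.Agent.H18.AmpleGG
import Groth.Agent.H18.AmpleTensor
import Groth.Agent.H18.AmpleIso

/-!
# EGA II 4.5.8-type statement: `L^n ⊗ L'` is ample and globally generated for large `n`
-/

set_option autoImplicit false
universe u

noncomputable section

namespace Groth.Agent.H18.AmpleTwistGG

open CategoryTheory AlgebraicGeometry Opposite TopologicalSpace MonoidalCategory
open Groth.Agent.H18.SecTw Groth.Agent.H18.TensorGen Groth.Agent.H18.TensorSec
open Groth.Agent.H18.GlobGen Groth.Agent.H18.TensorPowIso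

variable {X : Scheme.{u}}

/-- Invertible modules are coherent (quasi-coherent of finite type). -/
theorem isCoh_of_isInvertible {M : X.Modules} (hM : PicF.IsInvertible M) : Coh.IsCoh M := by
  haveI : M.IsQuasicoherent := AmpleBasis.isQuasicoherent_of_isInvertible hM
  refine ⟨inferInstance, ?_⟩
  choose W μ hW hxW hμ using fun x : X => TensorCoh.exists_affine_gen hM x
  have hcov : IsOpenCover W := by
    refine IsOpenCover.mk ?_
    rw [eq_top_iff]
    intro x _
    exact Opens.mem_iSup.mpr ⟨x, hxW x⟩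
  refine Groth.Agent.H8.isFiniteType_of_finite_sections _ W hcov hW (fun i => ?_)
  exact Module.Finite.of_surjective (LinearMap.toSpanSingleton Γ(X, W i) Γ(M, W i) (μ i))
    (hμ i).self.2

set_option backward.isDefEq.respectTransparency false in
/-- Commutativity of the tensor product of modules. -/
theorem nonempty_tensorMod_comm (M N : X.Modules) :
    Nonempty (CohB1.tensorMod M N ≅ CohB1.tensorMod N M) := by
  let c : CohB1.toPMod M ⊗ CohB1.toPMod N ≅ CohB1.toPMod N ⊗ CohB1.toPMod M :=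
    β_ (CohB1.toPMod M) (CohB1.toPMod N)
  let c' : TensorModIso.tensorPre' M N ≅ TensorModIso.tensorPre' N M := c
  exact ⟨(CohB1.sheafifyMod X).mapIso c'⟩

/-- A global section of `N` not vanishing at `x` gives one of `N^{⊗ 1} = O ⊗ N`. -/
theorem exists_section_pow_one {N : X.Modules} (hN : PicF.IsInvertible N) (x : X)
    (σ : Coh.structureModule X ⟶ N) (hx : x ∈ CohB1.genLocus N σ) :
    ∃ (n : ℕ) (s' : Coh.structureModule X ⟶ CohB1.tensorPow N (n + 1)),
      x ∈ CohB1.genLocus _ s' := by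
  refine ⟨0, SecTwist.tmulHom (𝟙 (Coh.structureModule X)) σ, ?_⟩
  have h := genLocus_tmulHom (Groth.Agent.H8.isInvertible_structureModule X) hN
    (𝟙 (Coh.structureModule X)) σ
  have h2 : x ∈ CohB1.genLocus (CohB1.tensorMod (Coh.structureModule X) N)
      (SecTwist.tmulHom (𝟙 (Coh.structureModule X)) σ) := by
    rw [h, genLocus_id]
    exact ⟨trivial, hx⟩
  exact h2

theorem main [CompactSpace X] [QuasiSeparatedSpace X] {L L' : X.Modules}
    (hL : CohB1.IsAmple L) (hL' : PicF.IsInvertible L') :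
    ∃ n₀ : ℕ, 0 < n₀ ∧ ∀ n : ℕ, n₀ ≤ n →
      CohB1.IsAmple (CohB1.tensorMod (CohB1.tensorPow L n) L') ∧
        Curv2.IsGloballyGenerated (CohB1.tensorMod (CohB1.tensorPow L n) L') := by
  have hinv := hL.1
  obtain ⟨n₁, h₁⟩ := AmpleGG.exists_iso_ggAt hL L' (isCoh_of_isInvertible hL')
  -- for `n ≥ n₁`: `L^n ⊗ L'` is globally generated and has non-vanishing sections everywhere
  have key : ∀ n : ℕ, n₁ ≤ n →
      Curv2.IsGloballyGenerated (CohB1.tensorMod (CohB1.tensorPow L n) L') ∧
      ∀ x : X, ∃ σ : Coh.structureModule X ⟶ CohB1.tensorMod (CohB1.tensorPow L n) L',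
        x ∈ CohB1.genLocus _ σ := by
    intro n hn
    obtain ⟨G, ⟨e⟩, hG⟩ := h₁ n hn
    obtain ⟨c⟩ := nonempty_tensorMod_comm (CohB1.tensorPow L n) L'
    obtain ⟨e'⟩ : Nonempty (CohB1.tensorMod (CohB1.tensorPow L n) L' ≅ G) := ⟨c ≪≫ e⟩
    have hGinv : PicF.IsInvertible G :=
      AmpleIso.isInvertible_of_iso e'
        (isInvertible_tensorMod (isInvertible_tensorPow hinv n) hL')
    constructor
    · obtain ⟨ι, p, hp⟩ := isGloballyGenerated_of_ggAt G hG
      have hepi : Epi e'.inv := ⟨fun g h w => by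
        have := congrArg (fun z => e'.hom ≫ z) w
        simpa using this⟩
      exact ⟨ι, p ≫ e'.inv, @epi_comp _ _ _ _ _ p hp e'.inv hepi⟩
    · intro x
      obtain ⟨σ, hσ⟩ := exists_section_of_ggAt hGinv x (hG x)
      refine ⟨σ ≫ e'.symm.hom, ?_⟩
      rw [Groth.Agent.H18.TwistAmple.genLocus_comp_iso]
      exact hσ
  refine ⟨n₁ + 1, Nat.succ_pos _, fun n hn => ⟨?_, (key n (by omega)).1⟩⟩
  obtain ⟨n', rfl⟩ : ∃ n' : ℕ, n = n' + 1 := ⟨n - 1, by omega⟩
  have hn' : n₁ ≤ n' := by omega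
  have hNinv : PicF.IsInvertible (CohB1.tensorMod (CohB1.tensorPow L n') L') :=
    isInvertible_tensorMod (isInvertible_tensorPow hinv n') hL'
  have hample : CohB1.IsAmple (CohB1.tensorMod L (CohB1.tensorMod (CohB1.tensorPow L n') L')) :=
    AmpleTensor.isAmple_tensorMod_of_cover hL hNinv (fun x => by
      obtain ⟨σ, hσ⟩ := (key n' hn').2 x
      exact exists_section_pow_one hNinv x σ hσ)
  obtain ⟨c⟩ := nonempty_tensorMod_comm (CohB1.tensorPow L n') L
  obtain ⟨e1⟩ := TensorModIso.nonempty_tensorMod_congr c (Iso.refl L')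
  obtain ⟨e2⟩ := TensorAssoc.nonempty_tensorMod_assoc L (CohB1.tensorPow L n') L'
    (isInvertible_tensorPow hinv n') hL'
  obtain ⟨e3⟩ : Nonempty (CohB1.tensorMod (CohB1.tensorPow L (n' + 1)) L' ≅
      CohB1.tensorMod L (CohB1.tensorMod (CohB1.tensorPow L n') L')) := ⟨e1 ≪≫ e2⟩
  exact AmpleIso.isAmple_of_iso e3.symm hample

end Groth.Agent.H18.AmpleTwistGG
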