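import Groth.Agent.H18.ProjSpaceSection
import Mathlib.RingTheory.MvPolynomial.Ideal
import Mathlib.CategoryTheory.ConcreteCategory.EpiMono

set_option autoImplicit false
universe u

namespace Groth.Agent.H18.ProjSpaceGlobal

open AlgebraicGeometry CategoryTheory HomogeneousLocalization MvPolynomial

section Algebra
variable (n : ℕ) (R : Type u) [CommRing R]

theorem Xmem (i : Fin (n + 1)) :
    (X i : MvPolynomial (Fin (n + 1)) R) ∈ CohB1.polyGrading n R 1 :=
  MvPolynomial.isHomogeneous_X R i

/-- The constants `R → S_(g)`. -/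
noncomputable def constMap (g : MvPolynomial (Fin (n + 1)) R) :
    R →+* Away (CohB1.polyGrading n R) g :=
  (fromZeroRingHom (CohB1.polyGrading n R) _).comp (algebraMap R (CohB1.polyGrading n R 0))

theorem val_const (g : MvPolynomial (Fin (n + 1)) R) (r : R) :
    (constMap n R g r).val = algebraMap (MvPolynomial (Fin (n + 1)) R) (Localization.Away g) (C r) :=
  rfl

theorem awayMap_const {f g x : MvPolynomial (Fin (n + 1)) R} {e : ℕ}
    (hg : g ∈ CohB1.polyGrading n R e) (hx : x = f * g) (r : R) :
    awayMap (CohB1.polyGrading n R) hg hx (constMap n R f r) = constMap n R x r :=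
  awayMap_fromZeroRingHom (CohB1.polyGrading n R) hg hx _

/-- Evaluation at the point `(1, …, 1)`. -/
noncomputable def evalOnes : MvPolynomial (Fin (n + 1)) R →+* R :=
  MvPolynomial.eval (fun _ => 1)

noncomputable def awayEvalOnes (g : MvPolynomial (Fin (n + 1)) R) (hg : IsUnit (evalOnes n R g)) :
    Away (CohB1.polyGrading n R) g →+* R :=
  (IsLocalization.Away.lift g (g := evalOnes n R) hg).comp
    (algebraMap (Away (CohB1.polyGrading n R) g) (Localization.Away g))

theorem awayEvalOnes_const (g : MvPolynomial (Fin (n + 1)) R) (hg : IsUnit (evalOnes n R g))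
    (r : R) : awayEvalOnes n R g hg (constMap n R g r) = r := by
  simp only [awayEvalOnes, RingHom.comp_apply]
  have h1 : (algebraMap (Away (CohB1.polyGrading n R) g) (Localization.Away g))
      (constMap n R g r) = algebraMap (MvPolynomial (Fin (n + 1)) R) _ (C r) := by
    rw [HomogeneousLocalization.algebraMap_apply]
    rfl
  rw [h1, IsLocalization.Away.lift_eq]
  simp [evalOnes]

theorem monomial_two (i j : Fin (n + 1)) (a b : ℕ) :
    (monomial (Finsupp.single i a + Finsupp.single j b) (1 : R) :
      MvPolynomial (Fin (n + 1)) R) = X i ^ a * X j ^ b := by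
  rw [X_pow_eq_monomial, X_pow_eq_monomial, monomial_mul, one_mul]

theorem coeff_eq_zero_of_compat {i j : Fin (n + 1)} (hij : i ≠ j) (k l t : ℕ)
    (f g : MvPolynomial (Fin (n + 1)) R)
    (hE : (X i * X j) ^ t * ((X i * X j) ^ l * (f * X j ^ k)) =
      (X i * X j) ^ t * ((X i * X j) ^ k * (g * X i ^ l)))
    (m : Fin (n + 1) →₀ ℕ) (hm : m i < k) : coeff m f = 0 := by
  classical
  have hP : (X i * X j) ^ t * ((X i * X j) ^ l * (f * X j ^ k)) =
      monomial (Finsupp.single i (t + l) + Finsupp.single j (t + l + k)) (1 : R) * f := by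
    rw [monomial_two]; ring
  have hQ : (X i * X j) ^ t * ((X i * X j) ^ k * (g * X i ^ l)) =
      monomial (Finsupp.single i (t + k + l) + Finsupp.single j (t + k)) (1 : R) * g := by
    rw [monomial_two]; ring
  have h1 := congrArg
    (coeff ((Finsupp.single i (t + l) + Finsupp.single j (t + l + k)) + m)) hE
  rw [hP, hQ, coeff_monomial_mul, coeff_monomial_mul', one_mul] at h1
  rw [h1, if_neg]
  intro hle
  have h2 := hle i
  simp [Finsupp.single_apply, hij, hij.symm] at h2
  omega

theorem eq_monomial_of_coeff_eq_zero (i : Fin (n + 1)) (k : ℕ)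
    {f : MvPolynomial (Fin (n + 1)) R} (hf : f.IsHomogeneous k)
    (h : ∀ m : Fin (n + 1) →₀ ℕ, m i < k → coeff m f = 0) :
    f = monomial (Finsupp.single i k) (coeff (Finsupp.single i k) f) := by
  classical
  ext m
  rw [coeff_monomial]
  split_ifs with hm
  · rw [hm]
  · by_cases hmi : m i < k
    · exact h m hmi
    · by_contra hne
      have hdeg : m.degree = k := by
        by_contra hd
        exact hne (hf.coeff_eq_zero hd)
      apply hm
      have hle : Finsupp.single i k ≤ m := Finsupp.single_le_iff.mpr (not_lt.mp hmi)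
      have hm' : Finsupp.single i k + (m - Finsupp.single i k) = m := add_tsub_cancel_of_le hle
      have h0 : (m - Finsupp.single i k).degree = 0 := by
        have h3 := congrArg Finsupp.degree hm'
        rw [map_add, Finsupp.degree_single, hdeg] at h3
        omega
      rw [Finsupp.degree_eq_zero_iff] at h0
      rw [← hm', h0, add_zero]

theorem mk_eq_const (i : Fin (n + 1)) (k : ℕ) (f : MvPolynomial (Fin (n + 1)) R)
    (hf : f ∈ CohB1.polyGrading n R (k • 1))
    (h : ∀ m : Fin (n + 1) →₀ ℕ, m i < k → coeff m f = 0) :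
    Away.mk (CohB1.polyGrading n R) (Xmem n R i) k f hf =
      constMap n R (X i) (coeff (Finsupp.single i k) f) := by
  have hfk : f.IsHomogeneous k := by simpa using hf
  have hmon := eq_monomial_of_coeff_eq_zero n R i k hfk h
  apply HomogeneousLocalization.val_injective
  rw [Away.val_mk, val_const, Localization.mk_eq_mk', IsLocalization.mk'_eq_iff_eq_mul,
    ← map_mul]
  refine congrArg _ ?_
  show f = C (coeff (Finsupp.single i k) f) * X i ^ k
  conv_lhs => rw [hmon]
  rw [X_pow_eq_monomial, C_mul_monomial, mul_one]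

theorem coeff_vanish {i j : Fin (n + 1)} (hij : i ≠ j)
    (a : Away (CohB1.polyGrading n R) (X i : MvPolynomial (Fin (n + 1)) R))
    (b : Away (CohB1.polyGrading n R) (X j : MvPolynomial (Fin (n + 1)) R))
    (h : awayMap (CohB1.polyGrading n R) (Xmem n R j) rfl a =
      awayMap (CohB1.polyGrading n R) (Xmem n R i) (mul_comm (X i) (X j)) b)
    (k : ℕ) (f : MvPolynomial (Fin (n + 1)) R) (hf : f ∈ CohB1.polyGrading n R (k • 1))
    (ha : a = Away.mk (CohB1.polyGrading n R) (Xmem n R i) k f hf)
    (m : Fin (n + 1) →₀ ℕ) (hm : m i < k) : coeff m f = 0 := by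
  subst ha
  obtain ⟨l, g, hg, rfl⟩ := Away.mk_surjective (CohB1.polyGrading n R) (Xmem n R j) b
  rw [awayMap_mk, awayMap_mk] at h
  have h1 := congrArg HomogeneousLocalization.val h
  rw [Away.val_mk, Away.val_mk, Localization.mk_eq_mk_iff, Localization.r_iff_exists] at h1
  obtain ⟨⟨c, t, rfl⟩, hc⟩ := h1
  have hE : (X i * X j) ^ t * ((X i * X j) ^ l * (f * X j ^ k)) =
      (X i * X j) ^ t * ((X i * X j) ^ k * (g * X i ^ l)) := hc
  exact coeff_eq_zero_of_compat n R hij k l t f g hE m hm

theorem exists_const
    (a : ∀ i : Fin (n + 1), Away (CohB1.polyGrading n R) (X i : MvPolynomial (Fin (n + 1)) R))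
    (hcompat : ∀ i j, awayMap (CohB1.polyGrading n R) (Xmem n R j) rfl (a i) =
      awayMap (CohB1.polyGrading n R) (Xmem n R i) (mul_comm (X i) (X j)) (a j)) :
    ∃ r : R, ∀ i, a i = constMap n R (X i) r := by
  have h1 : ∀ i, ∃ r, a i = constMap n R (X i) r := by
    intro i
    obtain ⟨k, f, hf, hkf⟩ := Away.mk_surjective (CohB1.polyGrading n R) (Xmem n R i) (a i)
    have hfk : f.IsHomogeneous k := by simpa using hf
    have hvan : ∀ m : Fin (n + 1) →₀ ℕ, m i < k → coeff m f = 0 := by
      intro m hm
      by_contra hne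
      have hdeg : m.degree = k := by
        by_contra hd
        exact hne (hfk.coeff_eq_zero hd)
      obtain ⟨j, hji, -⟩ : ∃ j, j ≠ i ∧ m j ≠ 0 := by
        by_contra hcon
        push Not at hcon
        have hm_eq : m = Finsupp.single i (m i) := by
          ext j
          by_cases hj : j = i
          · subst hj; simp
          · rw [hcon j hj]; simp [Finsupp.single_apply, Ne.symm hj]
        have h2 : m.degree = m i := by
          conv_lhs => rw [hm_eq]
          exact Finsupp.degree_single i (m i)
        omega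
      exact hne (coeff_vanish n R (Ne.symm hji) (a i) (a j) (hcompat i j) k f hf hkf.symm m hm)
    exact ⟨_, hkf.symm.trans (mk_eq_const n R i k f hf hvan)⟩
  choose r hr using h1
  have hr0 : ∀ i, r i = r 0 := by
    intro i
    have h2 := hcompat i 0
    rw [hr i, hr 0, awayMap_const, awayMap_const] at h2
    have hunit : IsUnit (evalOnes n R (X i * X 0)) := by simp [evalOnes]
    have h3 := congrArg (awayEvalOnes n R (X i * X 0) hunit) h2
    rwa [awayEvalOnes_const, awayEvalOnes_const] at h3
  exact ⟨r 0, fun i => by rw [hr i, hr0 i]⟩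

theorem irrelevant_le_span :
    (HomogeneousIdeal.irrelevant (CohB1.polyGrading n R)).toIdeal ≤
      Ideal.span (Set.range (X : Fin (n + 1) → MvPolynomial (Fin (n + 1)) R)) := by
  rw [HomogeneousIdeal.toIdeal_irrelevant_le]
  intro d hd x hx
  have hx' : x.IsHomogeneous d := hx
  show x ∈ Ideal.span (Set.range (X : Fin (n + 1) → MvPolynomial (Fin (n + 1)) R))
  rw [← Set.image_univ, mem_ideal_span_X_image]
  intro m hm
  have hdeg : m.degree = d := by
    by_contra hne
    exact (mem_support_iff.mp hm) (hx'.coeff_eq_zero hne)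
  by_contra hcon
  push Not at hcon
  have h0 : m = 0 := by
    ext i
    simpa using hcon i (Set.mem_univ i)
  rw [h0, map_zero] at hdeg
  omega

end Algebra

section Geometry
variable (n : ℕ) (R : Type u) [CommRing R]

/-- Global sections of an affine scheme, as a ring equivalence. -/
noncomputable def γ (B : Type u) [CommRing B] : Γ(Spec (CommRingCat.of B), ⊤) ≃+* B :=
  (Scheme.ΓSpecIso (CommRingCat.of B)).commRingCatIsoToRingEquiv

theorem γ_natural {B C : Type u} [CommRing B] [CommRing C] (ψ : B →+* C)
    (x : Γ(Spec (CommRingCat.of B), ⊤)) :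
    γ C ((Spec.map (CommRingCat.ofHom ψ)).appTop.hom x) = ψ (γ B x) := by
  have h := congrArg (fun g => g.hom x) (Scheme.ΓSpecIso_naturality (CommRingCat.ofHom ψ))
  simp only [CommRingCat.hom_comp, RingHom.comp_apply, CommRingCat.hom_ofHom] at h
  exact h

/-- The standard chart `D₊(X i)` of projective space. -/
noncomputable abbrev chartι (i : Fin (n + 1)) :
    Spec (CommRingCat.of (Away (CohB1.polyGrading n R) (X i : MvPolynomial (Fin (n + 1)) R))) ⟶
      Proj (CohB1.polyGrading n R) :=
  Proj.awayι (CohB1.polyGrading n R) (X i) (Xmem n R i) Nat.one_pos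

/-- The restriction of a global function to the `i`-th chart. -/
noncomputable def aOf (σ : Γ(Proj (CohB1.polyGrading n R), ⊤)) (i : Fin (n + 1)) :
    Away (CohB1.polyGrading n R) (X i : MvPolynomial (Fin (n + 1)) R) :=
  γ _ ((chartι n R i).appTop.hom σ)

theorem compat (σ : Γ(Proj (CohB1.polyGrading n R), ⊤)) (i j : Fin (n + 1)) :
    awayMap (CohB1.polyGrading n R) (Xmem n R j) rfl (aOf n R σ i) =
      awayMap (CohB1.polyGrading n R) (Xmem n R i) (mul_comm (X i) (X j)) (aOf n R σ j) := by
  have e3 : Spec.map (CommRingCat.ofHom (awayMap (CohB1.polyGrading n R) (Xmem n R j)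
        (rfl : (X i * X j : MvPolynomial (Fin (n + 1)) R) = X i * X j))) ≫ chartι n R i =
      Spec.map (CommRingCat.ofHom (awayMap (CohB1.polyGrading n R) (Xmem n R i)
        (mul_comm (X i) (X j)))) ≫ chartι n R j := by
    rw [Proj.SpecMap_awayMap_awayι, Proj.SpecMap_awayMap_awayι]
  have e4 := congrArg (fun f => γ _ (f.appTop.hom σ)) e3
  simp only [Scheme.Hom.comp_appTop, CommRingCat.hom_comp, RingHom.comp_apply] at e4
  rw [γ_natural, γ_natural] at e4
  exact e4

theorem chartι_toSpec (i : Fin (n + 1)) :
    chartι n R i ≫ (Proj.toSpecZero (CohB1.polyGrading n R) ≫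
      Spec.map (CommRingCat.ofHom (algebraMap R (CohB1.polyGrading n R 0)))) =
      Spec.map (CommRingCat.ofHom (constMap n R (X i))) := by
  rw [Proj.awayι_toSpecZero_assoc, ← Spec.map_comp, ← CommRingCat.ofHom_comp]
  rfl

theorem isIso_appTop_aux :
    IsIso (Proj.toSpecZero (CohB1.polyGrading n R) ≫
      Spec.map (CommRingCat.ofHom (algebraMap R (CohB1.polyGrading n R 0)))).appTop := by
  rw [ConcreteCategory.isIso_iff_bijective]
  constructor
  · obtain ⟨s, hs⟩ := exists_section_aux n R
    have h2 : (Proj.toSpecZero (CohB1.polyGrading n R) ≫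
        Spec.map (CommRingCat.ofHom (algebraMap R (CohB1.polyGrading n R 0)))).appTop ≫
        s.appTop = 𝟙 _ := by
      rw [← Scheme.Hom.comp_appTop, hs, Scheme.Hom.id_appTop]
    have h3 : Function.LeftInverse s.appTop.hom
        (Proj.toSpecZero (CohB1.polyGrading n R) ≫
          Spec.map (CommRingCat.ofHom (algebraMap R (CohB1.polyGrading n R 0)))).appTop.hom := by
      intro z
      have h4 := congrArg (fun f => f.hom z) h2
      simpa using h4
    exact h3.injective
  · intro σ
    obtain ⟨r, hr⟩ := exists_const n R (aOf n R σ) (compat n R σ)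
    refine ⟨(γ R).symm r, ?_⟩
    apply Scheme.OpenCover.ext_elem _ _
      (Proj.affineOpenCoverOfIrrelevantLESpan (CohB1.polyGrading n R)
        (X : Fin (n + 1) → MvPolynomial (Fin (n + 1)) R) (fun i => Xmem n R i)
        (fun _ => Nat.one_pos) (irrelevant_le_span n R)).openCover
    intro i
    show (chartι n R i).appTop.hom _ = (chartι n R i).appTop.hom σ
    apply (γ _).injective
    have h5 : γ _ ((chartι n R i).appTop.hom σ) = constMap n R (X i) r := hr i
    rw [h5]
    have h6 : (chartι n R i).appTop.hom ((Proj.toSpecZero (CohB1.polyGrading n R) ≫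
        Spec.map (CommRingCat.ofHom (algebraMap R (CohB1.polyGrading n R 0)))).appTop.hom
          ((γ R).symm r)) =
        (Spec.map (CommRingCat.ofHom (constMap n R (X i)))).appTop.hom ((γ R).symm r) := by
      rw [← chartι_toSpec n R i]
      rfl
    have h7 := γ_natural (constMap n R (X i)) ((γ R).symm r)
    rw [RingEquiv.apply_symm_apply] at h7
    rw [← h7]
    exact congrArg _ h6

end Geometry

end Groth.Agent.H18.ProjSpaceGlobal
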