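import Mathlib

/-!
# Morphisms to `Proj` from a ring map inverting a homogeneous element

For a graded ring `𝒜`, an open `V` of a scheme `X`, a ring map `ψ : A →+* Γ(X, V)` and a homogeneous
element `g` of positive degree with `ψ g` a unit, `chartMap` is the morphism
`V ⟶ Spec A_(g) ⟶ Proj 𝒜`.  We record its compatibilities: restriction to smaller opens, change
of `g` to a multiple, rescaling of `ψ` by a unit, the composite to `Spec 𝒜₀`, preimages of basic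
opens and the effect on sections over `D₊(g)`.
-/

set_option autoImplicit false
universe u

open CategoryTheory AlgebraicGeometry HomogeneousLocalization TopologicalSpace Opposite

namespace Groth.Agent.H18.ToProj

section Algebra

variable {R A : Type u} [CommRing R] [CommRing A] [Algebra R A] (𝒜 : ℕ → Submodule R A)
  [GradedAlgebra 𝒜]
variable {B : Type u} [CommRing B]

/-- The ring map `A_(g) → B` induced by `ψ : A → B` with `ψ g` a unit. -/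
noncomputable def awayLift (ψ : A →+* B) (g : A) (hu : IsUnit (ψ g)) : Away 𝒜 g →+* B :=
  (IsLocalization.Away.lift g (g := ψ) hu).comp
    (algebraMap (Away 𝒜 g) (Localization.Away g))

theorem awayLift_mk_mul (ψ : A →+* B) {d : ℕ} {g : A} (hg : g ∈ 𝒜 d) (hu : IsUnit (ψ g))
    (k : ℕ) (a : A) (ha : a ∈ 𝒜 (k • d)) :
    awayLift 𝒜 ψ g hu (Away.mk 𝒜 hg k a ha) * ψ g ^ k = ψ a := by
  have h1 : algebraMap (Away 𝒜 g) (Localization.Away g) (Away.mk 𝒜 hg k a ha) *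
      algebraMap A (Localization.Away g) (g ^ k) = algebraMap A (Localization.Away g) a := by
    rw [HomogeneousLocalization.algebraMap_apply, Away.val_mk, Localization.mk_eq_mk']
    exact IsLocalization.mk'_spec _ _ _
  have h2 := congrArg (IsLocalization.Away.lift g (g := ψ) hu) h1
  rw [map_mul, IsLocalization.Away.lift_eq, IsLocalization.Away.lift_eq, map_pow] at h2
  exact h2

theorem awayLift_eq_of_mul (ψ : A →+* B) {d : ℕ} {g : A} (hg : g ∈ 𝒜 d) (hu : IsUnit (ψ g))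
    (φ : Away 𝒜 g →+* B)
    (h : ∀ (k : ℕ) (a : A) (ha : a ∈ 𝒜 (k • d)), φ (Away.mk 𝒜 hg k a ha) * ψ g ^ k = ψ a) :
    φ = awayLift 𝒜 ψ g hu := by
  refine RingHom.ext fun x => ?_
  obtain ⟨k, a, ha, rfl⟩ := Away.mk_surjective 𝒜 hg x
  apply (hu.pow k).mul_left_injective
  show φ _ * ψ g ^ k = awayLift 𝒜 ψ g hu _ * ψ g ^ k
  rw [h, awayLift_mk_mul]

theorem comp_awayLift {B' : Type u} [CommRing B'] (θ : B →+* B') (ψ : A →+* B) {d : ℕ} {g : A}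
    (hg : g ∈ 𝒜 d) (hu : IsUnit (ψ g)) (hu' : IsUnit ((θ.comp ψ) g)) :
    θ.comp (awayLift 𝒜 ψ g hu) = awayLift 𝒜 (θ.comp ψ) g hu' := by
  refine awayLift_eq_of_mul 𝒜 _ hg hu' _ fun k a ha => ?_
  simp only [RingHom.comp_apply]
  rw [← map_pow, ← map_mul, awayLift_mk_mul]

theorem awayLift_comp_awayMap (ψ : A →+* B) {d e : ℕ} {g h x : A} (hg : g ∈ 𝒜 d) (hh : h ∈ 𝒜 e)
    (hx : x = g * h) (hu : IsUnit (ψ g)) (hux : IsUnit (ψ x)) :
    (awayLift 𝒜 ψ x hux).comp (awayMap 𝒜 hh hx) = awayLift 𝒜 ψ g hu := by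
  have huh : IsUnit (ψ h) := by
    have h1 := hux
    rw [hx, map_mul] at h1
    exact isUnit_of_mul_isUnit_right h1
  refine awayLift_eq_of_mul 𝒜 _ hg hu _ fun k a ha => ?_
  rw [RingHom.comp_apply, awayMap_mk]
  have key : ∀ (hgx : x ∈ 𝒜 (d + e)) (hmem : a * h ^ k ∈ 𝒜 (k • (d + e))),
      awayLift 𝒜 ψ x hux (Away.mk 𝒜 hgx k (a * h ^ k) hmem) * ψ x ^ k = ψ (a * h ^ k) :=
    fun hgx hmem => awayLift_mk_mul 𝒜 ψ hgx hux k _ hmem
  have hxk : ψ g ^ k * ψ h ^ k = ψ x ^ k := by rw [hx, map_mul, mul_pow]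
  apply (huh.pow k).mul_left_injective
  show _ * ψ g ^ k * ψ h ^ k = ψ a * ψ h ^ k
  rw [mul_assoc, hxk, key, map_mul, map_pow]

theorem awayLift_eq_of_scale (ψ ψ' : A →+* B) (v : B) (hv : IsUnit v)
    (hsc : ∀ (m : ℕ) (a : A), a ∈ 𝒜 m → ψ' a = v ^ m * ψ a) {d : ℕ} {g : A} (hg : g ∈ 𝒜 d)
    (hu : IsUnit (ψ g)) (hu' : IsUnit (ψ' g)) :
    awayLift 𝒜 ψ' g hu' = awayLift 𝒜 ψ g hu := by
  refine awayLift_eq_of_mul 𝒜 _ hg hu _ fun k a ha => ?_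
  have h1 := awayLift_mk_mul 𝒜 ψ' hg hu' k a ha
  have e1 : (v ^ d * ψ g) ^ k = v ^ (k * d) * ψ g ^ k := by
    rw [mul_pow, ← pow_mul, mul_comm d k]
  rw [hsc d g hg, hsc (k • d) a ha, e1, smul_eq_mul] at h1
  have h2 : v ^ (k * d) * (awayLift 𝒜 ψ' g hu' (Away.mk 𝒜 hg k a ha) * ψ g ^ k) =
      v ^ (k * d) * ψ a := by
    rw [← h1]; ring
  exact (hv.pow (k * d)).mul_right_injective h2

theorem awayLift_fromZero (ψ : A →+* B) (g : A) (hu : IsUnit (ψ g)) (z : 𝒜 0) :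
    awayLift 𝒜 ψ g hu (fromZeroRingHom 𝒜 _ z) = ψ z := by
  unfold awayLift
  rw [RingHom.comp_apply]
  have h1 : algebraMap (Away 𝒜 g) (Localization.Away g) (fromZeroRingHom 𝒜 _ z) =
      algebraMap A (Localization.Away g) (z : A) := by
    rw [HomogeneousLocalization.algebraMap_apply]
    rfl
  rw [h1, IsLocalization.Away.lift_eq]

end Algebra

section Poly

open MvPolynomial

theorem eval₂Hom_scale {σ : Type*} [Fintype σ] {R B : Type*} [CommRing R] [CommRing B]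
    (κ : R →+* B) (b : σ → B) (v : B) (m : ℕ) (a : MvPolynomial σ R) (ha : a.IsHomogeneous m) :
    eval₂Hom κ (fun i => v * b i) a = v ^ m * eval₂Hom κ b a := by
  simp only [coe_eval₂Hom, eval₂_eq']
  rw [Finset.mul_sum]
  refine Finset.sum_congr rfl fun d hd => ?_
  have hdeg : ∑ i, d i = m := by
    rw [← Finsupp.degree_eq_sum]
    by_contra hne
    exact (mem_support_iff.mp hd) (ha.coeff_eq_zero hne)
  simp only [mul_pow, Finset.prod_mul_distrib, Finset.prod_pow_eq_pow_sum, hdeg]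
  ring

end Poly

section Chart

variable {R A : Type u} [CommRing R] [CommRing A] [Algebra R A] (𝒜 : ℕ → Submodule R A)
  [GradedAlgebra 𝒜]
variable {X : Scheme.{u}} (V : X.Opens) (ψ : A →+* Γ(X, V)) {d : ℕ} {g : A} (hg : g ∈ 𝒜 d)
  (hd : 0 < d) (hu : IsUnit (ψ g))

/-- The morphism `V ⟶ Spec A_(g) ⟶ Proj 𝒜` attached to `ψ : A → Γ(X, V)` with `ψ g` a unit. -/
noncomputable def chartMap : (V : Scheme.{u}) ⟶ Proj 𝒜 :=
  V.toSpecΓ ≫ Spec.map (CommRingCat.ofHom (awayLift 𝒜 ψ g hu)) ≫ Proj.awayι 𝒜 g hg hd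

theorem homOfLE_chartMap {V' : X.Opens} (h : V' ≤ V)
    (hu' : IsUnit (((X.presheaf.map (homOfLE h).op).hom.comp ψ) g)) :
    X.homOfLE h ≫ chartMap 𝒜 V ψ hg hd hu =
      chartMap 𝒜 V' ((X.presheaf.map (homOfLE h).op).hom.comp ψ) hg hd hu' := by
  have key : CommRingCat.ofHom (awayLift 𝒜 ψ g hu) ≫ X.presheaf.map (homOfLE h).op =
      CommRingCat.ofHom (awayLift 𝒜 ((X.presheaf.map (homOfLE h).op).hom.comp ψ) g hu') := by
    apply CommRingCat.hom_ext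
    exact comp_awayLift 𝒜 _ ψ hg hu hu'
  unfold chartMap
  rw [← Scheme.Opens.toSpecΓ_SpecMap_presheaf_map_assoc V' V h, ← Spec.map_comp_assoc, key]

theorem chartMap_mul {e : ℕ} {h x : A} (hh : h ∈ 𝒜 e) (hx : x = g * h)
    (hxm : x ∈ 𝒜 (d + e)) (hde : 0 < d + e) (hux : IsUnit (ψ x)) :
    chartMap 𝒜 V ψ hxm hde hux = chartMap 𝒜 V ψ hg hd hu := by
  unfold chartMap
  rw [← Proj.SpecMap_awayMap_awayι 𝒜 hg hd hh hx, ← Spec.map_comp_assoc]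
  congr 3
  apply CommRingCat.hom_ext
  exact awayLift_comp_awayMap 𝒜 ψ hg hh hx hu hux

theorem chartMap_congr (ψ' : A →+* Γ(X, V)) (hu' : IsUnit (ψ' g))
    (h : awayLift 𝒜 ψ' g hu' = awayLift 𝒜 ψ g hu) :
    chartMap 𝒜 V ψ' hg hd hu' = chartMap 𝒜 V ψ hg hd hu := by
  unfold chartMap
  rw [h]

theorem chartMap_toSpecZero :
    chartMap 𝒜 V ψ hg hd hu ≫ Proj.toSpecZero 𝒜 =
      V.toSpecΓ ≫ Spec.map (CommRingCat.ofHom (ψ.comp (algebraMap (𝒜 0) A))) := by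
  unfold chartMap
  rw [Category.assoc, Category.assoc, Proj.awayι_toSpecZero, ← Spec.map_comp]
  congr 2
  apply CommRingCat.hom_ext
  refine RingHom.ext fun z => ?_
  exact awayLift_fromZero 𝒜 ψ g hu z

theorem chartMap_preimage_basicOpen {e : ℕ} {h : A} (hh : h ∈ 𝒜 e) (he : 0 < e) :
    chartMap 𝒜 V ψ hg hd hu ⁻¹ᵁ Proj.basicOpen 𝒜 h = V.ι ⁻¹ᵁ X.basicOpen (ψ h) := by
  have h1 : chartMap 𝒜 V ψ hg hd hu ⁻¹ᵁ Proj.basicOpen 𝒜 h =
      V.toSpecΓ ⁻¹ᵁ (Spec.map (CommRingCat.ofHom (awayLift 𝒜 ψ g hu)) ⁻¹ᵁ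
        (Proj.awayι 𝒜 g hg hd ⁻¹ᵁ Proj.basicOpen 𝒜 h)) := rfl
  rw [h1, Proj.awayι_preimage_basicOpen 𝒜 hg hd hh he]
  have h2 : Spec.map (CommRingCat.ofHom (awayLift 𝒜 ψ g hu)) ⁻¹ᵁ
      PrimeSpectrum.basicOpen (Away.isLocalizationElem hg hh) =
      PrimeSpectrum.basicOpen (awayLift 𝒜 ψ g hu (Away.isLocalizationElem hg hh)) := rfl
  rw [h2, Scheme.Opens.toSpecΓ_preimage_basicOpen]
  congr 1
  have h3 : awayLift 𝒜 ψ g hu (Away.isLocalizationElem hg hh) * ψ g ^ e = ψ h ^ d := by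
    rw [awayLift_mk_mul, map_pow]
  calc X.basicOpen (awayLift 𝒜 ψ g hu (Away.isLocalizationElem hg hh))
      = X.basicOpen (awayLift 𝒜 ψ g hu (Away.isLocalizationElem hg hh)) ⊓
          X.basicOpen (ψ g ^ e) := by
        rw [Scheme.basicOpen_of_isUnit X (hu.pow e)]
        exact (inf_eq_left.mpr (Scheme.basicOpen_le X _)).symm
    _ = X.basicOpen (ψ h ^ d) := by rw [← Scheme.basicOpen_mul, h3]
    _ = X.basicOpen (ψ h) := Scheme.basicOpen_pow X _ hd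

/-- The effect of `awayι` on sections over `D₊(g)`. -/
theorem awayToSection_awayι_appLE
    (e : ⊤ ≤ Proj.awayι 𝒜 g hg hd ⁻¹ᵁ Proj.basicOpen 𝒜 g) :
    Proj.awayToSection 𝒜 g ≫ (Proj.awayι 𝒜 g hg hd).appLE (Proj.basicOpen 𝒜 g) ⊤ e =
      (Scheme.ΓSpecIso (CommRingCat.of (Away 𝒜 g))).inv := by
  have h1 : (Proj.awayι 𝒜 g hg hd).appLE (Proj.basicOpen 𝒜 g) ⊤ e =
      (Proj.basicOpen 𝒜 g).topIso.inv ≫ (Proj.basicOpenIsoSpec 𝒜 g hg hd).inv.appTop := by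
    have h0 : (Proj.basicOpen 𝒜 g).ι.appLE (Proj.basicOpen 𝒜 g) ⊤ (by simp) ≫
        (Proj.basicOpenIsoSpec 𝒜 g hg hd).inv.appLE ⊤ ⊤ le_top =
        (Proj.awayι 𝒜 g hg hd).appLE (Proj.basicOpen 𝒜 g) ⊤ e :=
      Scheme.Hom.appLE_comp_appLE _ _ _ _ _ _ _
    rw [← h0, Scheme.Opens.ι_appLE]
    congr 1
  have h2 : (Proj.basicOpenIsoSpec 𝒜 g hg hd).hom.appTop ≫
      (Proj.basicOpenIsoSpec 𝒜 g hg hd).inv.appTop = 𝟙 _ := by
    rw [← Scheme.Hom.comp_appTop, Iso.inv_hom_id, Scheme.Hom.id_appTop]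
  have h3 : (Proj.basicOpenIsoSpec 𝒜 g hg hd).hom.appTop =
      (Scheme.ΓSpecIso _).hom ≫ Proj.awayToSection 𝒜 g ≫ (Proj.basicOpen 𝒜 g).topIso.inv := by
    rw [Proj.basicOpenIsoSpec_hom]
    exact Proj.basicOpenToSpec_app_top 𝒜 g
  rw [h1]
  calc Proj.awayToSection 𝒜 g ≫ (Proj.basicOpen 𝒜 g).topIso.inv ≫
        (Proj.basicOpenIsoSpec 𝒜 g hg hd).inv.appTop
      = (Scheme.ΓSpecIso _).inv ≫ ((Scheme.ΓSpecIso _).hom ≫ Proj.awayToSection 𝒜 g ≫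
          (Proj.basicOpen 𝒜 g).topIso.inv) ≫ (Proj.basicOpenIsoSpec 𝒜 g hg hd).inv.appTop := by
        simp only [Category.assoc, Iso.inv_hom_id_assoc]
    _ = (Scheme.ΓSpecIso _).inv := by rw [← h3, h2, Category.comp_id]

/-- The effect of `chartMap` on sections over `D₊(g)`. -/
theorem awayToSection_chartMap_appLE
    (e : ⊤ ≤ chartMap 𝒜 V ψ hg hd hu ⁻¹ᵁ Proj.basicOpen 𝒜 g) :
    Proj.awayToSection 𝒜 g ≫ (chartMap 𝒜 V ψ hg hd hu).appLE (Proj.basicOpen 𝒜 g) ⊤ e =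
      CommRingCat.ofHom (awayLift 𝒜 ψ g hu) ≫ V.topIso.inv := by
  have e0 : ⊤ ≤ Proj.awayι 𝒜 g hg hd ⁻¹ᵁ Proj.basicOpen 𝒜 g := by
    rw [← Proj.opensRange_awayι 𝒜 g hg hd]
    intro x _
    exact ⟨x, rfl⟩
  have h0 : (Proj.awayι 𝒜 g hg hd).appLE (Proj.basicOpen 𝒜 g) ⊤ e0 ≫
      (V.toSpecΓ ≫ Spec.map (CommRingCat.ofHom (awayLift 𝒜 ψ g hu))).appLE ⊤ ⊤ le_top =
      (chartMap 𝒜 V ψ hg hd hu).appLE (Proj.basicOpen 𝒜 g) ⊤ e := by
    have := Scheme.Hom.appLE_comp_appLE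
      (V.toSpecΓ ≫ Spec.map (CommRingCat.ofHom (awayLift 𝒜 ψ g hu)))
      (Proj.awayι 𝒜 g hg hd) (Proj.basicOpen 𝒜 g) ⊤ ⊤ e0 le_top
    rw [this]
    simp only [chartMap, Category.assoc]
  have h1 : (V.toSpecΓ ≫ Spec.map (CommRingCat.ofHom (awayLift 𝒜 ψ g hu))).appLE ⊤ ⊤ le_top =
      (Spec.map (CommRingCat.ofHom (awayLift 𝒜 ψ g hu))).appTop ≫ V.toSpecΓ.appTop := by
    rw [← Scheme.Hom.comp_appTop]
    exact Scheme.Hom.appLE_eq_app _
  rw [← h0, ← Category.assoc, awayToSection_awayι_appLE, h1, ← Category.assoc,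
    ← Scheme.ΓSpecIso_inv_naturality, Scheme.Opens.toSpecΓ_appTop, Category.assoc]
  have h4 : (Scheme.ΓSpecIso (CommRingCat.of ↑Γ(X, V))).inv ≫ (Scheme.ΓSpecIso Γ(X, V)).hom ≫
      V.topIso.inv = V.topIso.inv := Iso.inv_hom_id_assoc _ _
  rw [h4]

end Chart

end Groth.Agent.H18.ToProj
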