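import Groth.Prelude.Def_CohB1

/-!
# A criterion for `tensorMod M N ≅ Q`

A morphism of presheaves of modules from the sectionwise tensor product `M ⊗ N` to a sheaf of
modules `Q` which is bijective on a basis of opens induces an isomorphism
`tensorMod M N ≅ Q`.
-/

set_option autoImplicit false
universe u

namespace Groth.Agent.H18.TensorModIso

open CategoryTheory AlgebraicGeometry Opposite TopologicalSpace MonoidalCategory

open scoped TensorProduct

/-- If `M` is generated by `σ` and `t ↦ f (σ ⊗ t)` is bijective then `f` is bijective. -/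
theorem bijective_lift_of_generator {R M N P : Type*} [CommRing R] [AddCommGroup M] [Module R M]
    [AddCommGroup N] [Module R N] [AddCommGroup P] [Module R P]
    (f : M ⊗[R] N →ₗ[R] P) (σ : M) (hσ : Function.Surjective (fun r : R => r • σ))
    (hf : Function.Bijective (fun t : N => f (σ ⊗ₜ[R] t))) : Function.Bijective f := by
  have hrep : ∀ z : M ⊗[R] N, ∃ t : N, z = σ ⊗ₜ[R] t := by
    intro z
    induction z using TensorProduct.induction_on with
    | zero => exact ⟨0, (TensorProduct.tmul_zero _ _).symm⟩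
    | tmul m t =>
      obtain ⟨r, rfl⟩ := hσ m
      exact ⟨r • t, TensorProduct.smul_tmul r σ t⟩
    | add z₁ z₂ h₁ h₂ =>
      obtain ⟨t₁, rfl⟩ := h₁
      obtain ⟨t₂, rfl⟩ := h₂
      exact ⟨t₁ + t₂, (TensorProduct.tmul_add _ _ _).symm⟩
  constructor
  · intro z₁ z₂ h
    obtain ⟨t₁, rfl⟩ := hrep z₁
    obtain ⟨t₂, rfl⟩ := hrep z₂
    rw [hf.1 h]
  · intro p
    obtain ⟨t, ht⟩ := hf.2 p
    exact ⟨σ ⊗ₜ t, ht⟩

section Local

variable {T : TopCat.{u}}

theorem isLocallyInjective_of_locally_injective {F G : (Opens T)ᵒᵖ ⥤ AddCommGrpCat.{u}}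
    (φ : F ⟶ G)
    (h : ∀ (U : Opens T) (x : T), x ∈ U → ∃ V : Opens T, ∃ _ : V ≤ U, x ∈ V ∧
      Function.Injective (φ.app (op V))) :
    Presheaf.IsLocallyInjective (Opens.grothendieckTopology T) φ where
  equalizerSieve_mem {X} a b hab := by
    rw [Opens.mem_grothendieckTopology]
    intro x hx
    obtain ⟨V, hVU, hxV, hinj⟩ := h X.unop x hx
    refine ⟨V, homOfLE hVU, ?_, hxV⟩
    apply hinj
    have h1 := NatTrans.naturality_apply φ (homOfLE hVU).op a
    have h2 := NatTrans.naturality_apply φ (homOfLE hVU).op b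
    exact h1.trans ((congrArg _ hab).trans h2.symm)

theorem isLocallySurjective_of_locally_surjective {F G : (Opens T)ᵒᵖ ⥤ AddCommGrpCat.{u}}
    (φ : F ⟶ G)
    (h : ∀ (U : Opens T) (x : T), x ∈ U → ∃ V : Opens T, ∃ _ : V ≤ U, x ∈ V ∧
      Function.Surjective (φ.app (op V))) :
    Presheaf.IsLocallySurjective (Opens.grothendieckTopology T) φ where
  imageSieve_mem {U} s := by
    rw [Opens.mem_grothendieckTopology]
    intro x hx
    obtain ⟨V, hVU, hxV, hsurj⟩ := h U x hx
    obtain ⟨t, ht⟩ := hsurj (G.map (homOfLE hVU).op s)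
    exact ⟨V, homOfLE hVU, ⟨t, ht⟩, hxV⟩

end Local

/-- The sectionwise tensor product, as a presheaf of modules over `X.ringCatSheaf.obj`. -/
noncomputable abbrev tensorPre' {X : Scheme.{u}} (M N : X.Modules) : X.PresheafOfModules :=
  CohB1.tensorPre M N

set_option backward.isDefEq.respectTransparency false in
/-- A morphism from the sectionwise tensor product of `M` and `N` to `Q` which is bijective on
a basis of opens induces an isomorphism `tensorMod M N ≅ Q`. -/
theorem nonempty_tensorMod_iso {X : Scheme.{u}} (M N Q : X.Modules)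
    (μ : tensorPre' M N ⟶
      (PresheafOfModules.restrictScalars (𝟙 X.ringCatSheaf.obj)).obj Q.val)
    (hloc : ∀ (U : X.Opens) (x : X), x ∈ U → ∃ V : X.Opens, ∃ _ : V ≤ U, x ∈ V ∧
      Function.Bijective (μ.app (op V)).hom) :
    Nonempty (CohB1.tensorMod M N ≅ Q) := by
  have hinj : Presheaf.IsLocallyInjective (Opens.grothendieckTopology X)
      ((PresheafOfModules.toPresheaf _).map μ) :=
    isLocallyInjective_of_locally_injective _ (fun U x hx => by
      obtain ⟨V, h1, h2, h3⟩ := hloc U x hx
      exact ⟨V, h1, h2, h3.1⟩)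
  have hsurj : Presheaf.IsLocallySurjective (Opens.grothendieckTopology X)
      ((PresheafOfModules.toPresheaf _).map μ) :=
    isLocallySurjective_of_locally_surjective _ (fun U x hx => by
      obtain ⟨V, h1, h2, h3⟩ := hloc U x hx
      exact ⟨V, h1, h2, h3.2⟩)
  have hW : (Opens.grothendieckTopology X).W ((PresheafOfModules.toPresheaf _).map μ) :=
    GrothendieckTopology.W_of_isLocallyBijective _ _
  have hiso : IsIso ((presheafToSheaf (Opens.grothendieckTopology X) AddCommGrpCat.{u}).map
      ((PresheafOfModules.toPresheaf _).map μ)) :=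
    (GrothendieckTopology.W_iff _ _).mp hW
  have h1 : IsIso ((SheafOfModules.toSheaf X.ringCatSheaf).map
      ((PresheafOfModules.sheafificationHomEquiv (𝟙 X.ringCatSheaf.obj)).symm μ)) := by
    rw [PresheafOfModules.toSheaf_map_sheafificationHomEquiv_symm, Adjunction.homEquiv_counit]
    infer_instance
  have h2 : IsIso ((PresheafOfModules.sheafificationHomEquiv (𝟙 X.ringCatSheaf.obj)).symm μ) :=
    isIso_of_reflects_iso _ (SheafOfModules.toSheaf X.ringCatSheaf)
  let ψ : CohB1.tensorMod M N ⟶ Q :=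
    (PresheafOfModules.sheafificationHomEquiv (𝟙 X.ringCatSheaf.obj)).symm μ
  have : IsIso ψ := h2
  exact ⟨asIso ψ⟩

set_option backward.isDefEq.respectTransparency false in
/-- `tensorMod` respects isomorphisms. -/
theorem nonempty_tensorMod_congr {X : Scheme.{u}} {M M' N N' : X.Modules} (e : M ≅ M')
    (e' : N ≅ N') : Nonempty (CohB1.tensorMod M N ≅ CohB1.tensorMod M' N') := by
  let a : CohB1.toPMod M ≅ CohB1.toPMod M' := (Scheme.Modules.toPresheafOfModules X).mapIso e
  let b : CohB1.toPMod N ≅ CohB1.toPMod N' := (Scheme.Modules.toPresheafOfModules X).mapIso e'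
  let c : CohB1.toPMod M ⊗ CohB1.toPMod N ≅ CohB1.toPMod M' ⊗ CohB1.toPMod N' :=
    MonoidalCategory.tensorIso a b
  let c' : tensorPre' M N ≅ tensorPre' M' N' := c
  exact ⟨(CohB1.sheafifyMod X).mapIso c'⟩

end Groth.Agent.H18.TensorModIso
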