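import Groth.Agent.H18.RestrictUnit
import Groth.Agent.H18.TensorModIso

/-!
# Epimorphisms from free modules given by locally generating global sections
-/

set_option autoImplicit false
universe u

namespace Groth.Agent.H18.FreeEpi

open CategoryTheory AlgebraicGeometry Opposite TopologicalSpace Limits

set_option backward.isDefEq.respectTransparency false in
/-- The morphism `O ⟶ M` attached to a family of sections sends `r` to `r • s`. -/
theorem unitHomEquiv_symm_app_apply {Y : Scheme.{u}} (M : Y.Modules)
    (s : SheafOfModules.sections (R := Y.ringCatSheaf) M) (V : Y.Opens) (r : Γ(Y, V)) :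
    (((SheafOfModules.unitHomEquiv (R := Y.ringCatSheaf) M).symm s).val.app (op V)).hom r =
      r • RestrictUnit.sec M s V := by
  have hs : SheafOfModules.unitHomEquiv (R := Y.ringCatSheaf) M
      ((SheafOfModules.unitHomEquiv (R := Y.ringCatSheaf) M).symm s) = s :=
    Equiv.apply_symm_apply _ _
  have h1 := (((SheafOfModules.unitHomEquiv (R := Y.ringCatSheaf) M).symm s).val.app
    (op V)).hom.map_smul r (1 : Γ(Y, V))
  have h2 : (r • (1 : Γ(Y, V)) : Γ(Y, V)) = r := mul_one r
  have h3 : (((SheafOfModules.unitHomEquiv (R := Y.ringCatSheaf) M).symm s).val.app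
      (op V)).hom (1 : Γ(Y, V)) = RestrictUnit.sec M s V := by
    conv_rhs => rw [← hs]
    rfl
  rw [← h3]
  refine Eq.trans ?_ h1
  exact congrArg _ h2.symm

set_option backward.isDefEq.respectTransparency false in
/-- Global sections `σ i` of `L` such that locally one of them generates `L` define an
epimorphism from a free module of finite rank. -/
theorem exists_epi_coprod_unit {X : Scheme.{u}} (L : X.Modules) {k : ℕ} (σ : Fin k → Γ(L, ⊤))
    (h : ∀ (U : X.Opens) (x : X), x ∈ U → ∃ (V : X.Opens) (_ : V ≤ U), x ∈ V ∧ ∃ i,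
      Function.Surjective
        (fun r : Γ(X, V) => r • L.presheaf.map (homOfLE (le_top : V ≤ ⊤)).op (σ i))) :
    ∃ p : (∐ fun _ : Fin k => (SheafOfModules.unit X.ringCatSheaf : X.Modules)) ⟶ L, Epi p := by
  let φ : ∀ _ : Fin k, (SheafOfModules.unit X.ringCatSheaf : X.Modules) ⟶ L := fun i =>
    (SheafOfModules.unitHomEquiv (R := X.ringCatSheaf) L).symm
      (RestrictUnit.globalSections L (σ i))
  refine ⟨Sigma.desc φ, ?_⟩
  have hφ : ∀ (i : Fin k) (V : X.Opens) (r : Γ(X, V)), ((φ i).val.app (op V)).hom r =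
      r • L.presheaf.map (homOfLE (le_top : V ≤ ⊤)).op (σ i) := fun i V r =>
    unitHomEquiv_symm_app_apply L (RestrictUnit.globalSections L (σ i)) V r
  have hls : Presheaf.IsLocallySurjective (Opens.grothendieckTopology X)
      ((SheafOfModules.toSheaf X.ringCatSheaf).map (Sigma.desc φ)).hom := by
    apply TensorModIso.isLocallySurjective_of_locally_surjective
    intro U x hx
    obtain ⟨V, hVU, hxV, i, hsurj⟩ := h U x hx
    refine ⟨V, hVU, hxV, ?_⟩
    intro t
    obtain ⟨r, hr⟩ := hsurj t
    refine ⟨((Sigma.ι (fun _ : Fin k => (SheafOfModules.unit X.ringCatSheaf : X.Modules))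
      i).val.app (op V)).hom r, ?_⟩
    have h1 : Sigma.ι (fun _ : Fin k => (SheafOfModules.unit X.ringCatSheaf : X.Modules)) i ≫
        Sigma.desc φ = φ i := Sigma.ι_desc _ _
    have h2 := congrArg (fun f : (SheafOfModules.unit X.ringCatSheaf : X.Modules) ⟶ L =>
      (f.val.app (op V)).hom r) h1
    exact (h2.trans (hφ i V r)).trans hr
  have hls' : Sheaf.IsLocallySurjective
      ((SheafOfModules.toSheaf X.ringCatSheaf).map (Sigma.desc φ)) := hls
  have hepi : Epi ((SheafOfModules.toSheaf X.ringCatSheaf).map (Sigma.desc φ)) :=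
    Sheaf.epi_of_isLocallySurjective _
  exact (SheafOfModules.toSheaf X.ringCatSheaf).epi_of_epi_map hepi

end Groth.Agent.H18.FreeEpi
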