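import Groth.Agent.H18.TwistTensor
import Groth.Agent.H18.GrTildeFrac

/-!
# `M(k)~ ⊗ O(n) ≅ M(k+n)~` when `O(n)` has local unit fractions
-/

set_option autoImplicit false
universe u

namespace Groth.Agent.H18.TildeTwistTensor

open CategoryTheory AlgebraicGeometry Opposite TopologicalSpace MonoidalCategory

open scoped TensorProduct

/-- If `N` is generated by `τ` and `t ↦ f (t ⊗ τ)` is bijective then `f` is bijective. -/
theorem bijective_lift_of_generator_right {R M N P : Type*} [CommRing R] [AddCommGroup M]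
    [Module R M] [AddCommGroup N] [Module R N] [AddCommGroup P] [Module R P]
    (f : M ⊗[R] N →ₗ[R] P) (τ : N) (hτ : Function.Surjective (fun r : R => r • τ))
    (hf : Function.Bijective (fun t : M => f (t ⊗ₜ[R] τ))) : Function.Bijective f := by
  have hrep : ∀ z : M ⊗[R] N, ∃ t : M, z = t ⊗ₜ[R] τ := by
    intro z
    induction z using TensorProduct.induction_on with
    | zero => exact ⟨0, (TensorProduct.zero_tmul _ _).symm⟩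
    | tmul m t =>
      obtain ⟨r, rfl⟩ := hτ t
      exact ⟨r • m, (TensorProduct.smul_tmul r m τ).symm⟩
    | add z₁ z₂ h₁ h₂ =>
      obtain ⟨t₁, rfl⟩ := h₁
      obtain ⟨t₂, rfl⟩ := h₂
      exact ⟨t₁ + t₂, (TensorProduct.add_tmul _ _ _).symm⟩
  constructor
  · intro z₁ z₂ h
    obtain ⟨t₁, rfl⟩ := hrep z₁
    obtain ⟨t₂, rfl⟩ := hrep z₂
    rw [hf.1 h]
  · intro p
    obtain ⟨t, ht⟩ := hf.2 p
    exact ⟨t ⊗ₜ τ, ht⟩

section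
variable {R A : Type u} [CommRing R] [CommRing A] [Algebra R A] (𝒜 : ℕ → Submodule R A)
  [GradedAlgebra 𝒜]
  {M : Type u} [AddCommGroup M] [Module R M] [Module A M] (ℳ : ℕ → Submodule R M)
  [SetLike.GradedSMul 𝒜 ℳ]

/-- A fraction of degree `n` times a module fraction of degree `k` has degree `k + n`. -/
theorem smul_mem_tildeAt (k n : ℤ) (x : ProjectiveSpectrum 𝒜) {a : Twist.Loc 𝒜 x}
    {z : GrTilde.LocMod 𝒜 (M := M) x} (ha : a ∈ Twist.twistAt 𝒜 n x)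
    (hz : z ∈ GrTilde.tildeAt 𝒜 ℳ k x) : a • z ∈ GrTilde.tildeAt 𝒜 ℳ (k + n) x := by
  obtain ⟨i, j, a₁, s₁, hs₁, hd₁, rfl⟩ := mem_twistFracSet_of_mem_twistAt 𝒜 n x ha
  obtain ⟨i', j', m, s₂, hs₂, hd₂, rfl⟩ := mem_fracSet_of_mem_tildeAt 𝒜 ℳ k x hz
  refine Submodule.subset_span ⟨i + i', j + j',
    ⟨a₁.1 • m.1, SetLike.GradedSMul.smul_mem a₁.2 m.2⟩,
    ⟨s₁.1 * s₂.1, SetLike.mul_mem_graded s₁.2 s₂.2⟩,
    fun h => (x.isPrime.mem_or_mem h).elim hs₁ hs₂, by push_cast; omega, ?_⟩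
  rw [LocalizedModule.mk_smul_mk]
  rfl

/-- The product of a section of `M(k)~` and a section of `O(n)`. -/
def smulSect {k n : ℤ} {U : (Opens (ProjectiveSpectrum.top 𝒜))ᵒᵖ}
    (z : GrTilde.sect 𝒜 ℳ k U) (a : Twist.sectN (𝒜 := 𝒜) n U) : GrTilde.sect 𝒜 ℳ (k + n) U :=
  ⟨fun x => ⟨((a.1 x).1 : Twist.Loc 𝒜 x.1) • ((z.1 x).1 : GrTilde.LocMod 𝒜 (M := M) x.1),
    smul_mem_tildeAt 𝒜 ℳ k n x.1 (a.1 x).2 (z.1 x).2⟩, fun x => by
    obtain ⟨Va, ma, ia, i, j, m, c, nina, ca, wa⟩ := z.2 x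
    obtain ⟨Vb, mb, ib, i', j', b, e, ninb, cb, wb⟩ := a.2 x
    refine ⟨Va ⊓ Vb, ⟨ma, mb⟩, Opens.infLELeft _ _ ≫ ia, i' + i, j' + j,
      ⟨b.1 • m.1, SetLike.GradedSMul.smul_mem b.2 m.2⟩,
      ⟨e.1 * c.1, SetLike.mul_mem_graded e.2 c.2⟩,
      fun y h => (y.1.isPrime.mem_or_mem h).elim (ninb ⟨y.1, y.2.2⟩) (nina ⟨y.1, y.2.1⟩),
      ?_, fun y => ?_⟩
    · rcases ca with ha | ha
      · rcases cb with hb | hb
        · exact Or.inl (by push_cast; omega)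
        · exact Or.inr (show b.1 • m.1 = 0 by rw [hb, zero_smul])
      · exact Or.inr (show b.1 • m.1 = 0 by rw [ha, smul_zero])
    · have e1 : ((z.1 (ia ⟨y.1, y.2.1⟩)).1 : GrTilde.LocMod 𝒜 (M := M) y.1) =
          LocalizedModule.mk m.1 ⟨c.1, nina ⟨y.1, y.2.1⟩⟩ := wa ⟨y.1, y.2.1⟩
      have e2 : ((a.1 (ib ⟨y.1, y.2.2⟩)).1 : Twist.Loc 𝒜 y.1) =
          Localization.mk b.1 ⟨e.1, ninb ⟨y.1, y.2.2⟩⟩ := wb ⟨y.1, y.2.2⟩
      show ((a.1 (ib ⟨y.1, y.2.2⟩)).1 : Twist.Loc 𝒜 y.1) •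
        ((z.1 (ia ⟨y.1, y.2.1⟩)).1 : GrTilde.LocMod 𝒜 (M := M) y.1) = _
      rw [e1, e2, LocalizedModule.mk_smul_mk]
      rfl⟩

theorem smulSect_val {k n : ℤ} {U : (Opens (ProjectiveSpectrum.top 𝒜))ᵒᵖ}
    (z : GrTilde.sect 𝒜 ℳ k U) (a : Twist.sectN (𝒜 := 𝒜) n U) (x : U.unop) :
    (((smulSect 𝒜 ℳ z a).1 x : GrTilde.tildeAt 𝒜 ℳ (k + n) x.1) :
      GrTilde.LocMod 𝒜 (M := M) x.1) =
      ((a.1 x).1 : Twist.Loc 𝒜 x.1) • ((z.1 x).1 : GrTilde.LocMod 𝒜 (M := M) x.1) := rfl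

theorem smulSect_add_left {k n : ℤ} {U : (Opens (ProjectiveSpectrum.top 𝒜))ᵒᵖ}
    (z z' : GrTilde.sect 𝒜 ℳ k U) (a : Twist.sectN (𝒜 := 𝒜) n U) :
    smulSect 𝒜 ℳ (z + z') a = smulSect 𝒜 ℳ z a + smulSect 𝒜 ℳ z' a :=
  Subtype.ext (funext fun x => Subtype.ext
    (show ((a.1 x).1 : Twist.Loc 𝒜 x.1) •
        (((z.1 x).1 : GrTilde.LocMod 𝒜 (M := M) x.1) + (z'.1 x).1) =
      ((a.1 x).1 : Twist.Loc 𝒜 x.1) • ((z.1 x).1 : GrTilde.LocMod 𝒜 (M := M) x.1) +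
        ((a.1 x).1 : Twist.Loc 𝒜 x.1) • ((z'.1 x).1 : GrTilde.LocMod 𝒜 (M := M) x.1)
      from smul_add _ _ _))

theorem smulSect_add_right {k n : ℤ} {U : (Opens (ProjectiveSpectrum.top 𝒜))ᵒᵖ}
    (z : GrTilde.sect 𝒜 ℳ k U) (a a' : Twist.sectN (𝒜 := 𝒜) n U) :
    smulSect 𝒜 ℳ z (a + a') = smulSect 𝒜 ℳ z a + smulSect 𝒜 ℳ z a' :=
  Subtype.ext (funext fun x => Subtype.ext
    (show (((a.1 x).1 : Twist.Loc 𝒜 x.1) + (a'.1 x).1) •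
        ((z.1 x).1 : GrTilde.LocMod 𝒜 (M := M) x.1) =
      ((a.1 x).1 : Twist.Loc 𝒜 x.1) • ((z.1 x).1 : GrTilde.LocMod 𝒜 (M := M) x.1) +
        ((a'.1 x).1 : Twist.Loc 𝒜 x.1) • ((z.1 x).1 : GrTilde.LocMod 𝒜 (M := M) x.1)
      from add_smul _ _ _))

theorem smulSect_smul_left {k n : ℤ} {U : (Opens (ProjectiveSpectrum.top 𝒜))ᵒᵖ}
    (r : Twist.O (𝒜 := 𝒜) U) (z : GrTilde.sect 𝒜 ℳ k U) (a : Twist.sectN (𝒜 := 𝒜) n U) :
    smulSect 𝒜 ℳ (r • z) a = r • smulSect 𝒜 ℳ z a := by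
  apply Subtype.ext
  funext x
  apply Subtype.ext
  show ((a.1 x).1 : Twist.Loc 𝒜 x.1) •
      (((r.1 x • z.1 x : GrTilde.tildeAt 𝒜 ℳ k x.1)) : GrTilde.LocMod 𝒜 (M := M) x.1) =
    ((r.1 x • (smulSect 𝒜 ℳ z a).1 x : GrTilde.tildeAt 𝒜 ℳ (k + n) x.1) :
      GrTilde.LocMod 𝒜 (M := M) x.1)
  rw [GrTilde.coe_smul_val, GrTilde.coe_smul_val, smulSect_val, smul_comm]

theorem smulSect_smul_right {k n : ℤ} {U : (Opens (ProjectiveSpectrum.top 𝒜))ᵒᵖ}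
    (r : Twist.O (𝒜 := 𝒜) U) (z : GrTilde.sect 𝒜 ℳ k U) (a : Twist.sectN (𝒜 := 𝒜) n U) :
    smulSect 𝒜 ℳ z (r • a) = r • smulSect 𝒜 ℳ z a := by
  apply Subtype.ext
  funext x
  apply Subtype.ext
  show (((r.1 x • a.1 x : Twist.twistAt 𝒜 n x.1)) : Twist.Loc 𝒜 x.1) •
      ((z.1 x).1 : GrTilde.LocMod 𝒜 (M := M) x.1) =
    ((r.1 x • (smulSect 𝒜 ℳ z a).1 x : GrTilde.tildeAt 𝒜 ℳ (k + n) x.1) :
      GrTilde.LocMod 𝒜 (M := M) x.1)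
  rw [Twist.coe_smul_val, GrTilde.coe_smul_val, smulSect_val, mul_smul]

/-- Transport of sections along an equality of degrees. -/
def castSect {k k' : ℤ} (h : k = k') {U : (Opens (ProjectiveSpectrum.top 𝒜))ᵒᵖ}
    (s : GrTilde.sect 𝒜 ℳ k U) : GrTilde.sect 𝒜 ℳ k' U := h ▸ s

theorem castSect_val {k k' : ℤ} (h : k = k') {U : (Opens (ProjectiveSpectrum.top 𝒜))ᵒᵖ}
    (s : GrTilde.sect 𝒜 ℳ k U) (x : U.unop) :
    (((castSect 𝒜 ℳ h s).1 x : GrTilde.tildeAt 𝒜 ℳ k' x.1) : GrTilde.LocMod 𝒜 (M := M) x.1) =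
      (s.1 x).1 := by
  subst h
  rfl

/-- Multiplication by a unit fraction of degree `n` is a bijection `M(k)~(W) → M(k+n)~(W)`. -/
theorem bijective_smulSect_fraction {W : Opens (ProjectiveSpectrum.top 𝒜)} (k : ℤ) {n : ℤ}
    {p q : ℕ} {u v : A} (hu : u ∈ 𝒜 p) (hv : v ∈ 𝒜 q) (hpq : (p : ℤ) = q + n)
    (hux : ∀ x : W, u ∉ x.1.asHomogeneousIdeal) (hvx : ∀ x : W, v ∉ x.1.asHomogeneousIdeal)
    (σ : Twist.sectN (𝒜 := 𝒜) n (op W))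
    (hσ : ∀ x : W, ((σ.1 x : Twist.twistAt 𝒜 n x.1) : Twist.Loc 𝒜 x.1) =
      Localization.mk u ⟨v, hvx x⟩) :
    Function.Bijective (fun z : GrTilde.sect 𝒜 ℳ k (op W) => smulSect 𝒜 ℳ z σ) := by
  have hswap : ∀ x : W, (Localization.mk v ⟨u, hux x⟩ : Twist.Loc 𝒜 x.1) *
      Localization.mk u ⟨v, hvx x⟩ = 1 :=
    fun x => TwistRestrict.mk_mul_mk_swap v u (hvx x) (hux x)
  have hswap' : ∀ x : W, (Localization.mk u ⟨v, hvx x⟩ : Twist.Loc 𝒜 x.1) *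
      Localization.mk v ⟨u, hux x⟩ = 1 :=
    fun x => TwistRestrict.mk_mul_mk_swap u v (hux x) (hvx x)
  constructor
  · intro z z' h
    have h' : smulSect 𝒜 ℳ z σ = smulSect 𝒜 ℳ z' σ := h
    apply Subtype.ext
    funext x
    apply Subtype.ext
    have h1 : ((σ.1 x).1 : Twist.Loc 𝒜 x.1) • ((z.1 x).1 : GrTilde.LocMod 𝒜 (M := M) x.1) =
        ((σ.1 x).1 : Twist.Loc 𝒜 x.1) • ((z'.1 x).1 : GrTilde.LocMod 𝒜 (M := M) x.1) := by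
      rw [← smulSect_val, ← smulSect_val, h']
    rw [hσ x] at h1
    calc ((z.1 x).1 : GrTilde.LocMod 𝒜 (M := M) x.1)
        = (Localization.mk v ⟨u, hux x⟩ : Twist.Loc 𝒜 x.1) •
            ((Localization.mk u ⟨v, hvx x⟩ : Twist.Loc 𝒜 x.1) • (z.1 x).1) := by
          rw [smul_smul, hswap x, one_smul]
      _ = (Localization.mk v ⟨u, hux x⟩ : Twist.Loc 𝒜 x.1) •
            ((Localization.mk u ⟨v, hvx x⟩ : Twist.Loc 𝒜 x.1) • (z'.1 x).1) := by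
          rw [h1]
      _ = (z'.1 x).1 := by
          rw [smul_smul, hswap x, one_smul]
  · intro w
    have hqp : (q : ℤ) = p + (-n) := by omega
    refine ⟨castSect 𝒜 ℳ (by ring : k + n + (-n) = k)
      (smulSect 𝒜 ℳ w (TwistRestrict.fracSection 𝒜 hv hu hqp hux)), ?_⟩
    apply Subtype.ext
    funext x
    apply Subtype.ext
    show ((σ.1 x).1 : Twist.Loc 𝒜 x.1) •
      (((castSect 𝒜 ℳ _ _).1 x).1 : GrTilde.LocMod 𝒜 (M := M) x.1) = (w.1 x).1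
    rw [castSect_val, hσ x, smulSect_val]
    show (Localization.mk u ⟨v, hvx x⟩ : Twist.Loc 𝒜 x.1) •
      ((Localization.mk v ⟨u, hux x⟩ : Twist.Loc 𝒜 x.1) •
        ((w.1 x).1 : GrTilde.LocMod 𝒜 (M := M) x.1)) = _
    rw [smul_smul, hswap' x, one_smul]

set_option backward.isDefEq.respectTransparency false in
/-- The multiplication `M(k)~ ⊗ O(n) ⟶ M(k+n)~` as a morphism of presheaves of modules. -/
noncomputable def smulHom (k n : ℤ) :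
    TensorModIso.tensorPre' (GrTilde.tilde 𝒜 ℳ k) (Twist.twist 𝒜 n) ⟶
      (PresheafOfModules.restrictScalars (𝟙 (Proj 𝒜).ringCatSheaf.obj)).obj
        (GrTilde.tilde 𝒜 ℳ (k + n)).val where
  app U := ModuleCat.MonoidalCategory.tensorLift
    (R := ↑(((Proj 𝒜).sheaf.obj ⋙ forget₂ CommRingCat RingCat).obj U))
    (M₁ := (GrTilde.tilde 𝒜 ℳ k).val.obj U) (M₂ := (Twist.twist 𝒜 n).val.obj U)
    (M₃ := ((PresheafOfModules.restrictScalars (𝟙 (Proj 𝒜).ringCatSheaf.obj)).obj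
        (GrTilde.tilde 𝒜 ℳ (k + n)).val).obj U)
    (fun (z : GrTilde.sect 𝒜 ℳ k U) (a : Twist.sectN (𝒜 := 𝒜) n U) => smulSect 𝒜 ℳ z a)
    (fun z z' a => smulSect_add_left 𝒜 ℳ z z' a)
    (fun r z a => smulSect_smul_left 𝒜 ℳ r z a)
    (fun z a a' => smulSect_add_right 𝒜 ℳ z a a')
    (fun r z a => smulSect_smul_right 𝒜 ℳ r z a)
  naturality _ := ModuleCat.MonoidalCategory.tensor_ext (fun _ _ => rfl)

set_option backward.isDefEq.respectTransparency false in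
/-- The multiplication map is bijective over opens with a unit fraction of degree `n`. -/
theorem bijective_smulHom_app (k n : ℤ) (V : Opens (ProjectiveSpectrum.top 𝒜)) {p q : ℕ}
    {u v : A} (hu : u ∈ 𝒜 p) (hv : v ∈ 𝒜 q) (hpq : (p : ℤ) = q + n)
    (hux : ∀ x : V, u ∉ x.1.asHomogeneousIdeal) (hvx : ∀ x : V, v ∉ x.1.asHomogeneousIdeal) :
    Function.Bijective ((smulHom 𝒜 ℳ k n).app (op (TwistRestrict.toProjOpens 𝒜 V))).hom := by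
  refine bijective_lift_of_generator_right
    (R := ↑(((Proj 𝒜).sheaf.obj ⋙ forget₂ CommRingCat RingCat).obj (op V)))
    (M := GrTilde.sect 𝒜 ℳ k (op V)) (N := Twist.sectN (𝒜 := 𝒜) n (op V))
    (P := GrTilde.sect 𝒜 ℳ (k + n) (op V))
    ((smulHom 𝒜 ℳ k n).app (op (TwistRestrict.toProjOpens 𝒜 V))).hom
    (TwistRestrict.fracSection 𝒜 hu hv hpq hvx) ?_ ?_
  · exact (TwistRestrict.bijective_smul_of_fraction 𝒜 hu hv hpq hux hvx _ (fun x => rfl)).2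
  · exact bijective_smulSect_fraction 𝒜 ℳ k hu hv hpq hux hvx _ (fun x => rfl)

set_option backward.isDefEq.respectTransparency false in
/-- `M(k)~ ⊗ O(n) ≅ M(k+n)~` when `O(n)` has local unit fractions. -/
theorem nonempty_tensorMod_tilde_twist_iso (k n : ℤ) (h : TwistTensor.HasUnitFrac 𝒜 n) :
    Nonempty (CohB1.tensorMod (GrTilde.tilde 𝒜 ℳ k) (Twist.twist 𝒜 n) ≅
      GrTilde.tilde 𝒜 ℳ (k + n)) := by
  refine TensorModIso.nonempty_tensorMod_iso _ _ _ (smulHom 𝒜 ℳ k n) ?_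
  intro U x hxU
  obtain ⟨p, q, u, v, hu, hv, hpq, hux, hvx⟩ := h x
  have hxV : x ∈ U ⊓ (Proj.basicOpen 𝒜 u ⊓ Proj.basicOpen 𝒜 v) :=
    Opens.mem_inf.mpr ⟨hxU, Opens.mem_inf.mpr ⟨hux, hvx⟩⟩
  refine ⟨U ⊓ (Proj.basicOpen 𝒜 u ⊓ Proj.basicOpen 𝒜 v), inf_le_left, hxV, ?_⟩
  exact bijective_smulHom_app 𝒜 ℳ k n
    (TwistRestrict.ofProjOpens 𝒜 (U ⊓ (Proj.basicOpen 𝒜 u ⊓ Proj.basicOpen 𝒜 v))) hu hv hpq
    (fun y => (Opens.mem_inf.mp (Opens.mem_inf.mp y.2).2).1)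
    (fun y => (Opens.mem_inf.mp (Opens.mem_inf.mp y.2).2).2)

end
end Groth.Agent.H18.TildeTwistTensor
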