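import Groth.Agent.H18.TensorSec
import Groth.Agent.H41.BilinGlue

/-!
# Associativity `(F ⊗ A) ⊗ B ≅ F ⊗ (A ⊗ B)` for invertible `A`, `B` and arbitrary `F`
-/

set_option autoImplicit false
universe u

noncomputable section

namespace Groth.Agent.H18.TensorAssoc

open CategoryTheory AlgebraicGeometry Opposite TopologicalSpace
open Groth.Agent.H8 (res_res res_smul ringRes_res section_eq_of_cover)
open Groth.Agent.H18.SecTw Groth.Agent.H18.TensorGen Groth.Agent.H18.TensorSec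
open Groth.Agent.H41.BilinGlue

variable {X : Scheme.{u}} (F A B : X.Modules)

/-- The relation "`w = s · t`" defining the pairing `(F ⊗ A) × B → F ⊗ (A ⊗ B)`. -/
def Rel (W : X.Opens) (s : Γ(CohB1.tensorMod F A, W)) (t : Γ(B, W))
    (w : Γ(CohB1.tensorMod F (CohB1.tensorMod A B), W)) : Prop :=
  ∀ (V : X.Opens) (hV : V ≤ W) (α : Γ(A, V)) (β : Γ(B, V)) (f : Γ(F, V)) (r : Γ(X, V)),
    IsGen A V α → IsGen B V β →
    (CohB1.tensorMod F A).presheaf.map (homOfLE hV).op s = tm F A f α →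
    B.presheaf.map (homOfLE hV).op t = r • β →
    (CohB1.tensorMod F (CohB1.tensorMod A B)).presheaf.map (homOfLE hV).op w =
      r • tm F (CohB1.tensorMod A B) f (tm A B α β)

variable {F A B}

theorem rel_gens {V : X.Opens} {α₀ : Γ(A, V)} {β₀ : Γ(B, V)} (hα₀ : IsGen A V α₀)
    (hβ₀ : IsGen B V β₀) (f₀ : Γ(F, V)) (r₀ : Γ(X, V)) :
    Rel F A B V (tm F A f₀ α₀) (r₀ • β₀)
      (r₀ • tm F (CohB1.tensorMod A B) f₀ (tm A B α₀ β₀)) := by
  intro V' hV α β f r hα hβ hs ht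
  obtain ⟨u, hu⟩ := (hα₀ V' hV).2 α
  obtain ⟨v, hv⟩ := (hβ₀ V' hV).2 β
  have hu' : u • A.presheaf.map (homOfLE hV).op α₀ = α := hu
  have hv' : v • B.presheaf.map (homOfLE hV).op β₀ = β := hv
  rw [tm_res, ← hu', tm_smul_right, ← tm_smul_left] at hs
  have hf : F.presheaf.map (homOfLE hV).op f₀ = u • f := injective_tm (hα₀.res hV) hs
  rw [res_smul, ← hv', ← mul_smul] at ht
  have hr : X.presheaf.map (homOfLE hV).op r₀ = r * v := (hβ₀ V' hV).1 ht
  rw [res_smul, tm_res, tm_res, hf, hr, ← hu', ← hv']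
  simp only [tm_smul_left, tm_smul_right, ← mul_smul]
  congr 1
  ring

variable (F A B)

theorem glueRel (hA : PicF.IsInvertible A) (hB : PicF.IsInvertible B) :
    GlueRel (CohB1.tensorMod F A) B (CohB1.tensorMod F (CohB1.tensorMod A B)) (Rel F A B) where
  unique := by
    intro W s t w w' h h'
    refine section_eq_of_cover _ _ _ (fun x hx => ?_)
    obtain ⟨V, α, β, hxV, hα, hβ⟩ := exists_isGen_pair hA hB x
    have hα' := hα.res (inf_le_left : V ⊓ W ≤ V)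
    have hβ' := hβ.res (inf_le_left : V ⊓ W ≤ V)
    obtain ⟨f, hf⟩ := surjective_tm (F := F) hα'
      ((CohB1.tensorMod F A).presheaf.map (homOfLE (inf_le_right : V ⊓ W ≤ W)).op s)
    obtain ⟨r, hr⟩ := hβ'.self.2 (B.presheaf.map (homOfLE (inf_le_right : V ⊓ W ≤ W)).op t)
    refine ⟨V ⊓ W, inf_le_right, ⟨hxV, hx⟩, ?_⟩
    rw [h _ inf_le_right _ _ f r hα' hβ' hf.symm hr.symm,
      h' _ inf_le_right _ _ f r hα' hβ' hf.symm hr.symm]
  res := by
    intro W V₀ h s t w hR V hV α β f r hα hβ hs ht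
    rw [res_res] at hs ht ⊢
    exact hR V (hV.trans h) α β f r hα hβ hs ht
  of_local := by
    intro W s t w hloc V hV α β f r hα hβ hs ht
    refine section_eq_of_cover _ _ _ (fun x hx => ?_)
    obtain ⟨Vx, hVx, hxVx, hRx⟩ := hloc x (hV hx)
    refine ⟨V ⊓ Vx, inf_le_left, ⟨hx, hxVx⟩, ?_⟩
    have key := hRx (V ⊓ Vx) inf_le_right
      (A.presheaf.map (homOfLE (inf_le_left : V ⊓ Vx ≤ V)).op α)
      (B.presheaf.map (homOfLE (inf_le_left : V ⊓ Vx ≤ V)).op β)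
      (F.presheaf.map (homOfLE (inf_le_left : V ⊓ Vx ≤ V)).op f)
      (X.presheaf.map (homOfLE (inf_le_left : V ⊓ Vx ≤ V)).op r)
      (hα.res inf_le_left) (hβ.res inf_le_left)
      (by rw [res_res, ← res_res _ (inf_le_left : V ⊓ Vx ≤ V) hV, hs, tm_res])
      (by rw [res_res, ← res_res _ (inf_le_left : V ⊓ Vx ≤ V) hV, ht, res_smul])
    rw [res_res] at key
    rw [res_res, key, res_smul, tm_res, tm_res]
  exists_local := by
    intro W s t x hx
    obtain ⟨V, α, β, hxV, hα, hβ⟩ := exists_isGen_pair hA hB x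
    have hα' := hα.res (inf_le_left : V ⊓ W ≤ V)
    have hβ' := hβ.res (inf_le_left : V ⊓ W ≤ V)
    obtain ⟨f, hf⟩ := surjective_tm (F := F) hα'
      ((CohB1.tensorMod F A).presheaf.map (homOfLE (inf_le_right : V ⊓ W ≤ W)).op s)
    obtain ⟨r, hr⟩ := hβ'.self.2 (B.presheaf.map (homOfLE (inf_le_right : V ⊓ W ≤ W)).op t)
    have hf' : tm F A f _ = _ := hf
    have hr' : r • _ = _ := hr
    have h1 := rel_gens (F := F) hα' hβ' f r
    rw [hf', hr'] at h1
    exact ⟨V ⊓ W, inf_le_right, ⟨hxV, hx⟩, _, h1⟩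
  add_left := by
    intro W s s' t w w' h h' V hV α β f r hα hβ hs ht
    obtain ⟨f₁, hf₁⟩ := surjective_tm (F := F) hα
      ((CohB1.tensorMod F A).presheaf.map (homOfLE hV).op s)
    obtain ⟨f₂, hf₂⟩ := surjective_tm (F := F) hα
      ((CohB1.tensorMod F A).presheaf.map (homOfLE hV).op s')
    have hf₁' : tm F A f₁ α = _ := hf₁
    have hf₂' : tm F A f₂ α = _ := hf₂
    rw [map_add, ← hf₁', ← hf₂', ← tm_add_left] at hs
    have hf : f₁ + f₂ = f := injective_tm hα hs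
    rw [map_add, h V hV α β f₁ r hα hβ hf₁'.symm ht, h' V hV α β f₂ r hα hβ hf₂'.symm ht,
      ← hf, tm_add_left, smul_add]
  add_right := by
    intro W s t t' w w' h h' V hV α β f r hα hβ hs ht
    obtain ⟨r₁, hr₁⟩ := hβ.self.2 (B.presheaf.map (homOfLE hV).op t)
    obtain ⟨r₂, hr₂⟩ := hβ.self.2 (B.presheaf.map (homOfLE hV).op t')
    have hr₁' : r₁ • β = _ := hr₁
    have hr₂' : r₂ • β = _ := hr₂
    rw [map_add, ← hr₁', ← hr₂', ← add_smul] at ht
    have hr : r₁ + r₂ = r := hβ.self.1 ht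
    rw [map_add, h V hV α β f r₁ hα hβ hs hr₁'.symm, h' V hV α β f r₂ hα hβ hs hr₂'.symm,
      ← hr, add_smul]
  smul_left := by
    intro W a s t w h V hV α β f r hα hβ hs ht
    obtain ⟨f₁, hf₁⟩ := surjective_tm (F := F) hα
      ((CohB1.tensorMod F A).presheaf.map (homOfLE hV).op s)
    have hf₁' : tm F A f₁ α = _ := hf₁
    rw [res_smul, ← hf₁', ← tm_smul_left] at hs
    have hf : X.presheaf.map (homOfLE hV).op a • f₁ = f := injective_tm hα hs
    rw [res_smul, h V hV α β f₁ r hα hβ hf₁'.symm ht, ← hf, tm_smul_left, smul_comm]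
  smul_right := by
    intro W a s t w h V hV α β f r hα hβ hs ht
    obtain ⟨r₁, hr₁⟩ := hβ.self.2 (B.presheaf.map (homOfLE hV).op t)
    have hr₁' : r₁ • β = _ := hr₁
    rw [res_smul, ← hr₁', ← mul_smul] at ht
    have hr : X.presheaf.map (homOfLE hV).op a * r₁ = r := hβ.self.1 ht
    rw [res_smul, h V hV α β f r₁ hα hβ hs hr₁'.symm, ← hr, mul_smul]

/-- `(F ⊗ A) ⊗ B ≅ F ⊗ (A ⊗ B)` for invertible `A` and `B`. -/
theorem nonempty_tensorMod_assoc (hA : PicF.IsInvertible A) (hB : PicF.IsInvertible B) :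
    Nonempty (CohB1.tensorMod (CohB1.tensorMod F A) B ≅
      CohB1.tensorMod F (CohB1.tensorMod A B)) := by
  refine (glueRel F A B hA hB).nonempty_iso (fun U x hx => ?_)
  obtain ⟨V, α, β, hxV, hα, hβ⟩ := exists_isGen_pair hA hB x
  obtain ⟨α', hα'⟩ : ∃ α' : Γ(A, V ⊓ U), IsGen A (V ⊓ U) α' :=
    ⟨_, hα.res (inf_le_left : V ⊓ U ≤ V)⟩
  obtain ⟨β', hβ'⟩ : ∃ β' : Γ(B, V ⊓ U), IsGen B (V ⊓ U) β' :=
    ⟨_, hβ.res (inf_le_left : V ⊓ U ≤ V)⟩
  refine ⟨V ⊓ U, inf_le_right, ⟨hxV, hx⟩, β', hβ'.self.2, ?_⟩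
  have hcomp : (fun s => (glueRel F A B hA hB).mul (V ⊓ U) s β') ∘
      (fun f : Γ(F, V ⊓ U) => tm F A f α') =
      fun f : Γ(F, V ⊓ U) => tm F (CohB1.tensorMod A B) f (tm A B α' β') := by
    funext f
    have h1 := rel_gens (F := F) hα' hβ' f 1
    rw [one_smul, one_smul] at h1
    exact (glueRel F A B hA hB).mul_eq h1
  have h1 := bijective_tm (F := F) hα'
  have h2 : Function.Bijective ((fun s => (glueRel F A B hA hB).mul (V ⊓ U) s β') ∘
      (fun f : Γ(F, V ⊓ U) => tm F A f α')) := by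
    rw [hcomp]
    exact bijective_tm (isGen_tm hα' hβ')
  exact (Function.Bijective.of_comp_iff _ h1).mp h2

end Groth.Agent.H18.TensorAssoc
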