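import Groth.Prelude.Def_SecTwist
import Groth.Agent.H22.GenLocus
import Groth.Agent.H8.QCohQcqs

/-!
# Sections of `F ⊗ L^{⊗ n}`: bilinearity of `SecTwist.tmul` and local powers of a generator
-/

set_option autoImplicit false
universe u

noncomputable section

namespace Groth.Agent.H18.SecTw

open CategoryTheory AlgebraicGeometry Opposite TopologicalSpace TensorProduct
open Groth.Agent.H8 (res_res res_smul ringRes_res section_eq_of_cover)

variable {X : Scheme.{u}}

theorem tmul_smul_left (M N : X.Modules) (U : X.Opens) (r : X.ringCatSheaf.obj.obj (op U))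
    (m : M.val.obj (op U)) (n : N.val.obj (op U)) :
    SecTwist.tmul M N U (r • m) n = r • SecTwist.tmul M N U m n := by
  have h2 := ((SecTwist.toTensor M N).app (op U)).hom.map_smul r (m ⊗ₜ n)
  exact h2

theorem tmul_smul_right (M N : X.Modules) (U : X.Opens) (r : X.ringCatSheaf.obj.obj (op U))
    (m : M.val.obj (op U)) (n : N.val.obj (op U)) :
    SecTwist.tmul M N U m (r • n) = r • SecTwist.tmul M N U m n := by
  have h1 := TensorProduct.tmul_smul (R := ((X.sheaf.obj ⋙ forget₂ CommRingCat RingCat).obj (op U))) (show ((X.sheaf.obj ⋙ forget₂ CommRingCat RingCat).obj (op U)) from r)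
    (show (CohB1.toPMod M).obj (op U) from m) (show (CohB1.toPMod N).obj (op U) from n)
  have h2 := ((SecTwist.toTensor M N).app (op U)).hom.map_smul r (m ⊗ₜ n)
  exact (congrArg ((SecTwist.toTensor M N).app (op U)).hom h1).trans h2

theorem tmul_zero_left (M N : X.Modules) (U : X.Opens) (n : N.val.obj (op U)) :
    SecTwist.tmul M N U 0 n = 0 := by
  have h1 := TensorProduct.zero_tmul (R := ((X.sheaf.obj ⋙ forget₂ CommRingCat RingCat).obj (op U))) ((CohB1.toPMod M).obj (op U))
    (show (CohB1.toPMod N).obj (op U) from n)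
  exact (congrArg ((SecTwist.toTensor M N).app (op U)).hom h1).trans
    ((SecTwist.toTensor M N).app (op U)).hom.map_zero

theorem tmul_sub_left (M N : X.Modules) (U : X.Opens) (m m' : M.val.obj (op U))
    (n : N.val.obj (op U)) :
    SecTwist.tmul M N U (m - m') n = SecTwist.tmul M N U m n - SecTwist.tmul M N U m' n := by
  have h1 := TensorProduct.sub_tmul (R := ((X.sheaf.obj ⋙ forget₂ CommRingCat RingCat).obj (op U))) (show (CohB1.toPMod M).obj (op U) from m)
    (show (CohB1.toPMod M).obj (op U) from m') (show (CohB1.toPMod N).obj (op U) from n)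
  exact (congrArg ((SecTwist.toTensor M N).app (op U)).hom h1).trans
    (((SecTwist.toTensor M N).app (op U)).hom.map_sub _ _)

/-- Local power of a section: `τ^{⊗ n}`. -/
def locPow {L : X.Modules} {W : X.Opens} (τ : L.val.obj (op W)) :
    (n : ℕ) → (CohB1.tensorPow L n).val.obj (op W)
  | 0 => ((1 : X.ringCatSheaf.obj.obj (op W)) : (Coh.structureModule X).val.obj (op W))
  | n + 1 => SecTwist.tmul (CohB1.tensorPow L n) L W (locPow τ n) τ

theorem map_locPow {L : X.Modules} {W V : X.Opens} (i : V ⟶ W) (τ : L.val.obj (op W)) (n : ℕ) :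
    (CohB1.tensorPow L n).val.map i.op (locPow τ n) =
      locPow (L := L) (W := V) (L.val.map i.op τ) n := by
  induction n with
  | zero => exact PresheafOfModules.unit_map_one _ _
  | succ n ih =>
    change (CohB1.tensorMod (CohB1.tensorPow L n) L).val.map i.op
      (SecTwist.tmul _ _ W (locPow τ n) τ) = _
    rw [SecTwist.map_tmul]
    exact congrArg (fun q => SecTwist.tmul (CohB1.tensorPow L n) L V q (L.val.map i.op τ)) ih

theorem locPow_smul {L : X.Modules} {W : X.Opens} (r : X.ringCatSheaf.obj.obj (op W))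
    (τ : L.val.obj (op W)) (n : ℕ) : locPow (r • τ) n = r ^ n • locPow τ n := by
  induction n with
  | zero =>
    change locPow τ 0 = r ^ 0 • locPow τ 0
    rw [pow_zero, one_smul]
  | succ n ih =>
    change SecTwist.tmul (CohB1.tensorPow L n) L W (locPow (r • τ) n) (r • τ) =
      r ^ (n + 1) • SecTwist.tmul (CohB1.tensorPow L n) L W (locPow τ n) τ
    rw [ih, tmul_smul_left, tmul_smul_right, ← mul_smul, ← pow_succ]

theorem pow_eq_locPow {L : X.Modules} (s : Coh.structureModule X ⟶ L) (n : ℕ) (W : X.Opens) :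
    SecTwist.pow s n W = locPow (SecTwist.val s W) n := by
  induction n with
  | zero => rfl
  | succ n ih =>
    change SecTwist.tmul _ _ W (SecTwist.pow s n W) (SecTwist.val s W) =
      SecTwist.tmul _ _ W (locPow (SecTwist.val s W) n) (SecTwist.val s W)
    rw [ih]

/-! ### The same in `Γ`-notation -/

/-- The section `m ⊗ n` of `M ⊗ N` over `U`. -/
def tm (M N : X.Modules) {U : X.Opens} (m : Γ(M, U)) (n : Γ(N, U)) :
    Γ(CohB1.tensorMod M N, U) :=
  SecTwist.tmul M N U m n

theorem tm_smul_left (M N : X.Modules) {U : X.Opens} (r : Γ(X, U)) (m : Γ(M, U)) (n : Γ(N, U)) :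
    tm M N (r • m) n = r • tm M N m n :=
  tmul_smul_left M N U r m n

theorem tm_smul_right (M N : X.Modules) {U : X.Opens} (r : Γ(X, U)) (m : Γ(M, U))
    (n : Γ(N, U)) : tm M N m (r • n) = r • tm M N m n :=
  tmul_smul_right M N U r m n

theorem tm_zero_left (M N : X.Modules) {U : X.Opens} (n : Γ(N, U)) :
    tm M N (0 : Γ(M, U)) n = 0 :=
  tmul_zero_left M N U n

theorem tm_sub_left (M N : X.Modules) {U : X.Opens} (m m' : Γ(M, U)) (n : Γ(N, U)) :
    tm M N (m - m') n = tm M N m n - tm M N m' n :=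
  tmul_sub_left M N U m m' n

theorem tm_res (M N : X.Modules) {U V : X.Opens} (h : V ≤ U) (m : Γ(M, U)) (n : Γ(N, U)) :
    (CohB1.tensorMod M N).presheaf.map (homOfLE h).op (tm M N m n) =
      tm M N (M.presheaf.map (homOfLE h).op m) (N.presheaf.map (homOfLE h).op n) :=
  SecTwist.map_tmul M N (homOfLE h) m n

/-- Local power `τ^{⊗ n}` of a section of `L`. -/
def lp {L : X.Modules} {W : X.Opens} (τ : Γ(L, W)) (n : ℕ) : Γ(CohB1.tensorPow L n, W) :=
  locPow τ n

theorem lp_res {L : X.Modules} {W V : X.Opens} (h : V ≤ W) (τ : Γ(L, W)) (n : ℕ) :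
    (CohB1.tensorPow L n).presheaf.map (homOfLE h).op (lp τ n) =
      lp (L.presheaf.map (homOfLE h).op τ) n :=
  map_locPow (homOfLE h) τ n

theorem lp_smul {L : X.Modules} {W : X.Opens} (r : Γ(X, W)) (τ : Γ(L, W)) (n : ℕ) :
    lp (r • τ) n = r ^ n • lp τ n :=
  locPow_smul r τ n

/-- The section of `L` over `W` named by `s : O ⟶ L`. -/
def sv {L : X.Modules} (s : Coh.structureModule X ⟶ L) (W : X.Opens) : Γ(L, W) :=
  SecTwist.val s W

theorem sv_res {L : X.Modules} (s : Coh.structureModule X ⟶ L) {W V : X.Opens} (h : V ≤ W) :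
    L.presheaf.map (homOfLE h).op (sv s W) = sv s V :=
  SecTwist.map_val s (homOfLE h)

theorem twist_eq {L : X.Modules} (s : Coh.structureModule X ⟶ L) (n : ℕ) (F : X.Modules)
    (U : X.Opens) (t : Γ(F, U)) :
    SecTwist.twist s n F U t = tm F (CohB1.tensorPow L n) t (lp (sv s U) n) :=
  congrArg (fun q => SecTwist.tmul F (CohB1.tensorPow L n) U t q) (pow_eq_locPow s n U)

theorem res_self' (N : X.Modules) {U : X.Opens} (t : Γ(N, U)) :
    N.presheaf.map (homOfLE (le_refl U)).op t = t := by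
  have h : (homOfLE (le_refl U)).op = 𝟙 (op U) := rfl
  rw [h, CategoryTheory.Functor.map_id]
  rfl

/-- Local trivialisation data of `L` adapted to the section `s`: an affine open with a generator
`τ` of `L` over it and the coefficient `a` of `s` with respect to `τ`. -/
structure Triv (L : X.Modules) (s : Coh.structureModule X ⟶ L) where
  W : X.Opens
  hW : IsAffineOpen W
  τ : Γ(L, W)
  hτ : ∀ (V : X.Opens) (hV : V ≤ W), Function.Bijective
    (fun r : Γ(X, V) => r • L.presheaf.map (homOfLE hV).op τ)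
  a : Γ(X, W)
  ha : sv s W = a • τ

theorem exists_triv {L : X.Modules} (hL : PicF.IsInvertible L) (s : Coh.structureModule X ⟶ L)
    (x : X) : ∃ T : Triv L s, x ∈ T.W := by
  obtain ⟨U, hxU, ⟨e⟩⟩ := hL x
  obtain ⟨σ, hσ⟩ := Groth.Agent.H22.GenLocus.exists_generator L U e
  obtain ⟨W, hWaff, hxW, hWU⟩ := Opens.isBasis_iff_nbhd.mp X.isBasis_affineOpens hxU
  have hτ : ∀ (V : X.Opens) (hV : V ≤ W), Function.Bijective
      (fun r : Γ(X, V) => r • L.presheaf.map (homOfLE hV).op
        (L.presheaf.map (homOfLE hWU).op σ)) := by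
    intro V hV
    have h := hσ V (hV.trans hWU)
    have he : (fun r : Γ(X, V) => r • L.presheaf.map (homOfLE hV).op
        (L.presheaf.map (homOfLE hWU).op σ)) =
        fun r : Γ(X, V) => r • L.presheaf.map (homOfLE (hV.trans hWU)).op σ := by
      funext r
      rw [res_res]
    rw [he]
    exact h
  obtain ⟨a, ha⟩ := (hτ W le_rfl).2 (sv s W)
  have ha' : a • L.presheaf.map (homOfLE (le_refl W)).op (L.presheaf.map (homOfLE hWU).op σ) =
      sv s W := ha
  rw [res_self'] at ha'
  exact ⟨⟨W, hWaff, L.presheaf.map (homOfLE hWU).op σ, hτ, a, ha'.symm⟩, hxW⟩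

namespace Triv

variable {L : X.Modules} {s : Coh.structureModule X ⟶ L} (T : Triv L s)

theorem genLocus_inf : CohB1.genLocus L s ⊓ T.W = X.basicOpen T.a := by
  refine Groth.Agent.H22.GenLocus.genLocus_inf_eq_basicOpen L s T.τ T.hτ (le_refl T.W) T.a ?_
  rw [res_self']
  exact T.ha

theorem basicOpen_le_genLocus : X.basicOpen T.a ≤ CohB1.genLocus L s := by
  rw [← T.genLocus_inf]
  exact inf_le_left

theorem sv_eq {V : X.Opens} (hV : V ≤ T.W) :
    sv s V = X.presheaf.map (homOfLE hV).op T.a • L.presheaf.map (homOfLE hV).op T.τ := by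
  rw [← sv_res s hV, T.ha, res_smul]

theorem lp_sv {V : X.Opens} (hV : V ≤ T.W) (n : ℕ) :
    lp (sv s V) n = (X.presheaf.map (homOfLE hV).op T.a) ^ n •
      lp (L.presheaf.map (homOfLE hV).op T.τ) n := by
  rw [T.sv_eq hV, lp_smul]

theorem lp_sv_self (n : ℕ) : lp (sv s T.W) n = T.a ^ n • lp T.τ n := by
  rw [T.ha, lp_smul]

end Triv

/-- A global section of a quasi-coherent module vanishing on `X_s` is killed by a power of `s`. -/
theorem exists_twist_eq_zero [CompactSpace X] {L : X.Modules} (hL : PicF.IsInvertible L)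
    (s : Coh.structureModule X ⟶ L) (F : X.Modules) [F.IsQuasicoherent] (t : Γ(F, ⊤))
    (ht : F.presheaf.map (homOfLE (le_top : CohB1.genLocus L s ≤ ⊤)).op t = 0) :
    ∃ n : ℕ, 0 < n ∧ tm F (CohB1.tensorPow L n) t (lp (sv s ⊤) n) = 0 := by
  choose T hT using fun x => exists_triv hL s x
  obtain ⟨ι, hι⟩ := CompactSpace.elim_nhds_subcover (fun x => ((T x).W : Set X))
    (fun x => (T x).W.2.mem_nhds (hT x))
  have hn : ∀ x : X, ∃ n : ℕ,
      (T x).a ^ n • F.presheaf.map (homOfLE (le_top : (T x).W ≤ ⊤)).op t = 0 := by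
    intro x
    refine Groth.Agent.H8.exists_smul_eq_zero (T x).hW F (T x).a _ ?_
    rw [res_res, ← res_res F (T x).basicOpen_le_genLocus le_top, ht, map_zero]
  choose n_ hn_ using hn
  refine ⟨ι.sup n_ + 1, Nat.succ_pos _, ?_⟩
  refine section_eq_of_cover _ _ 0 (fun y _ => ?_)
  obtain ⟨x, hxι, hyx⟩ : ∃ x ∈ ι, y ∈ (T x).W := by
    have : y ∈ ⋃ x ∈ ι, ((T x).W : Set X) := by rw [hι]; trivial
    obtain ⟨x, hx, hy⟩ := Set.mem_iUnion₂.mp this
    exact ⟨x, hx, hy⟩
  refine ⟨(T x).W, le_top, hyx, ?_⟩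
  have hz : (T x).a ^ (ι.sup n_ + 1) •
      F.presheaf.map (homOfLE (le_top : (T x).W ≤ ⊤)).op t = 0 := by
    have hk : ι.sup n_ + 1 = (ι.sup n_ + 1 - n_ x) + n_ x :=
      (Nat.sub_add_cancel ((Finset.le_sup hxι).trans (Nat.le_succ _))).symm
    rw [hk, pow_add, mul_smul, hn_ x, smul_zero]
  rw [map_zero, tm_res, lp_res, sv_res, (T x).lp_sv_self, tm_smul_right, ← tm_smul_left, hz,
    tm_zero_left]

/-- A section of a quasi-coherent module over `X_s`, multiplied by a power of `s`, extends to a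
global section. -/
theorem exists_twist_extends [CompactSpace X] [QuasiSeparatedSpace X] {L : X.Modules}
    (hL : PicF.IsInvertible L) (s : Coh.structureModule X ⟶ L) (F : X.Modules)
    [F.IsQuasicoherent] (t : Γ(F, CohB1.genLocus L s)) :
    ∃ n : ℕ, 0 < n ∧ ∃ t' : Γ(CohB1.tensorMod F (CohB1.tensorPow L n), ⊤),
      (CohB1.tensorMod F (CohB1.tensorPow L n)).presheaf.map
          (homOfLE (le_top : CohB1.genLocus L s ≤ ⊤)).op t' =
        tm F (CohB1.tensorPow L n) t (lp (sv s (CohB1.genLocus L s)) n) := by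
  choose T₀ hT₀ using fun x => exists_triv hL s x
  obtain ⟨ι, hι⟩ := CompactSpace.elim_nhds_subcover (fun x => ((T₀ x).W : Set X))
    (fun x => (T₀ x).W.2.mem_nhds (hT₀ x))
  obtain ⟨T, hTdef⟩ : ∃ T : ι → Triv L s, T = fun i => T₀ i.1 := ⟨_, rfl⟩
  have hcov : ∀ y : X, ∃ i : ι, y ∈ (T i).W := by
    intro y
    have : y ∈ ⋃ x ∈ ι, ((T₀ x).W : Set X) := by rw [hι]; trivial
    obtain ⟨x, hx, hy⟩ := Set.mem_iUnion₂.mp this
    exact ⟨⟨x, hx⟩, by rw [hTdef]; exact hy⟩
  -- Step 1: extend on each member of the cover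
  have h1 : ∀ i : ι, ∃ (n : ℕ) (y : Γ(F, (T i).W)),
      (X.presheaf.map (homOfLE (X.basicOpen_le (T i).a)).op (T i).a) ^ n •
        F.presheaf.map (homOfLE (T i).basicOpen_le_genLocus).op t =
      F.presheaf.map (homOfLE (X.basicOpen_le (T i).a)).op y :=
    fun i => Groth.Agent.H8.exists_smul_eq_res (T i).hW F (T i).a _
  choose n y hy using h1
  obtain ⟨n₀, hn₀⟩ : ∃ n₀ : ℕ, n₀ = Finset.univ.sup n + 1 := ⟨_, rfl⟩
  have h2 : ∀ i : ι, ∃ y' : Γ(F, (T i).W), ∀ (D' : X.Opens)
      (hD' : D' ≤ X.basicOpen (T i).a),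
      F.presheaf.map (homOfLE (hD'.trans (X.basicOpen_le _))).op y' =
        (X.presheaf.map (homOfLE (hD'.trans (X.basicOpen_le _))).op (T i).a) ^ n₀ •
        F.presheaf.map (homOfLE (hD'.trans (T i).basicOpen_le_genLocus)).op t := by
    intro i
    refine ⟨(T i).a ^ (n₀ - n i) • y i, fun D' hD' => ?_⟩
    have hk : n₀ = (n₀ - n i) + n i := by
      have : n i ≤ n₀ := by
        rw [hn₀]
        exact (Finset.le_sup (Finset.mem_univ i)).trans (Nat.le_succ _)
      omega
    rw [← res_res F hD' (X.basicOpen_le _), res_smul, ← hy i]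
    simp only [res_smul, map_pow, ringRes_res, res_res, ← mul_smul, ← pow_add]
    rw [← hk]
  choose y' hy' using h2
  -- Step 2: transition functions
  have h3 : ∀ i j : ι, ∃ u : Γ(X, (T i).W ⊓ (T j).W),
      L.presheaf.map (homOfLE (inf_le_left : (T i).W ⊓ (T j).W ≤ (T i).W)).op (T i).τ =
        u • L.presheaf.map (homOfLE (inf_le_right : (T i).W ⊓ (T j).W ≤ (T j).W)).op (T j).τ ∧
      X.presheaf.map (homOfLE (inf_le_right : (T i).W ⊓ (T j).W ≤ (T j).W)).op (T j).a =
        X.presheaf.map (homOfLE (inf_le_left : (T i).W ⊓ (T j).W ≤ (T i).W)).op (T i).a * u := by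
    intro i j
    obtain ⟨u, hu⟩ := ((T j).hτ _ inf_le_right).2
      (L.presheaf.map (homOfLE (inf_le_left : (T i).W ⊓ (T j).W ≤ (T i).W)).op (T i).τ)
    have hu' : u • L.presheaf.map (homOfLE (inf_le_right : (T i).W ⊓ (T j).W ≤ (T j).W)).op
        (T j).τ = L.presheaf.map (homOfLE (inf_le_left : (T i).W ⊓ (T j).W ≤ (T i).W)).op
        (T i).τ := hu
    refine ⟨u, hu'.symm, ?_⟩
    apply ((T j).hτ _ inf_le_right).1
    show X.presheaf.map (homOfLE (inf_le_right : (T i).W ⊓ (T j).W ≤ (T j).W)).op (T j).a •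
        L.presheaf.map (homOfLE (inf_le_right : (T i).W ⊓ (T j).W ≤ (T j).W)).op (T j).τ =
      (X.presheaf.map (homOfLE (inf_le_left : (T i).W ⊓ (T j).W ≤ (T i).W)).op (T i).a * u) •
        L.presheaf.map (homOfLE (inf_le_right : (T i).W ⊓ (T j).W ≤ (T j).W)).op (T j).τ
    rw [mul_smul, hu', ← (T j).sv_eq inf_le_right, ← (T i).sv_eq inf_le_left]
  choose u hu hau using h3
  -- Step 3: on overlaps the difference is killed by a power of the coefficient
  have hcomp : ∀ i j : ι, IsCompact ((((T i).W ⊓ (T j).W : X.Opens)) : Set X) := fun i j =>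
    QuasiSeparatedSpace.inter_isCompact _ _ (T i).W.2 (T i).hW.isCompact (T j).W.2
      (T j).hW.isCompact
  have h4 : ∀ i j : ι, ∃ m : ℕ,
      (X.presheaf.map (homOfLE (inf_le_right : (T i).W ⊓ (T j).W ≤ (T j).W)).op (T j).a) ^ m •
        (u i j ^ n₀ • F.presheaf.map
            (homOfLE (inf_le_left : (T i).W ⊓ (T j).W ≤ (T i).W)).op (y' i) -
          F.presheaf.map (homOfLE (inf_le_right : (T i).W ⊓ (T j).W ≤ (T j).W)).op (y' j)) =
        0 := by
    intro i j
    refine Groth.Agent.H8.exists_pow_smul_eq_zero_of_isCompact F (hcomp i j) _ _ ?_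
    have hBj : X.basicOpen (X.presheaf.map
        (homOfLE (inf_le_right : (T i).W ⊓ (T j).W ≤ (T j).W)).op (T j).a) ≤
        X.basicOpen (T j).a := by
      rw [X.basicOpen_res]
      exact inf_le_right
    have hBi : X.basicOpen (X.presheaf.map
        (homOfLE (inf_le_right : (T i).W ⊓ (T j).W ≤ (T j).W)).op (T j).a) ≤
        X.basicOpen (T i).a := by
      rw [← (T i).genLocus_inf]
      exact le_inf (hBj.trans (T j).basicOpen_le_genLocus)
        ((X.basicOpen_le _).trans inf_le_left)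
    have e1 := hy' i _ hBi
    have e2 := hy' j _ hBj
    have e3 := congrArg (X.presheaf.map (homOfLE (X.basicOpen_le (X.presheaf.map
        (homOfLE (inf_le_right : (T i).W ⊓ (T j).W ≤ (T j).W)).op (T j).a))).op) (hau i j)
    rw [map_mul, ringRes_res, ringRes_res] at e3
    rw [map_sub, sub_eq_zero, res_smul, res_res, res_res, map_pow]
    refine (congrArg (fun z => _ • z) e1).trans (Eq.trans ?_ e2.symm)
    rw [← mul_smul, ← mul_pow]
    congr 2
    rw [mul_comm]
    exact e3.symm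
  choose m hm using h4
  obtain ⟨M₀, hM₀⟩ : ∃ M₀ : ℕ, M₀ = Finset.univ.sup (fun p : ι × ι => m p.1 p.2) := ⟨_, rfl⟩
  -- Step 4: the local sections and their compatibility
  have hcompat : TopCat.Presheaf.IsCompatible
      (CohB1.tensorMod F (CohB1.tensorPow L (n₀ + M₀))).presheaf (fun i : ι => (T i).W)
      (fun i => tm F (CohB1.tensorPow L (n₀ + M₀)) ((T i).a ^ M₀ • y' i)
        (lp (T i).τ (n₀ + M₀))) := by
    intro i j
    change (CohB1.tensorMod F (CohB1.tensorPow L (n₀ + M₀))).presheaf.map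
        (homOfLE (inf_le_left : (T i).W ⊓ (T j).W ≤ (T i).W)).op _ =
      (CohB1.tensorMod F (CohB1.tensorPow L (n₀ + M₀))).presheaf.map
        (homOfLE (inf_le_right : (T i).W ⊓ (T j).W ≤ (T j).W)).op _
    rw [tm_res, tm_res, lp_res, lp_res, hu i j, lp_smul, tm_smul_right, ← tm_smul_left,
      ← sub_eq_zero, ← tm_sub_left]
    have hk : M₀ = (M₀ - m i j) + m i j := by
      have : m i j ≤ M₀ := by
        rw [hM₀]
        exact Finset.le_sup (f := fun p : ι × ι => m p.1 p.2) (Finset.mem_univ (i, j))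
      omega
    have hzero : u i j ^ (n₀ + M₀) • F.presheaf.map
          (homOfLE (inf_le_left : (T i).W ⊓ (T j).W ≤ (T i).W)).op ((T i).a ^ M₀ • y' i) -
        F.presheaf.map (homOfLE (inf_le_right : (T i).W ⊓ (T j).W ≤ (T j).W)).op
          ((T j).a ^ M₀ • y' j) = 0 := by
      rw [res_smul, res_smul, map_pow, map_pow, hau i j]
      have e : u i j ^ (n₀ + M₀) •
          (X.presheaf.map (homOfLE (inf_le_left : (T i).W ⊓ (T j).W ≤ (T i).W)).op (T i).a) ^ M₀ •
            F.presheaf.map (homOfLE (inf_le_left : (T i).W ⊓ (T j).W ≤ (T i).W)).op (y' i) =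
          (X.presheaf.map (homOfLE (inf_le_left : (T i).W ⊓ (T j).W ≤ (T i).W)).op (T i).a *
            u i j) ^ M₀ • (u i j ^ n₀ •
              F.presheaf.map (homOfLE (inf_le_left : (T i).W ⊓ (T j).W ≤ (T i).W)).op (y' i)) := by
        rw [← mul_smul, ← mul_smul]
        congr 1
        ring
      rw [e, ← smul_sub, ← hau i j, hk, pow_add, mul_smul, hm i j, smul_zero]
    rw [hzero, tm_zero_left]
  have hcover : (⊤ : X.Opens) ≤ iSup (fun i : ι => (T i).W) := by
    intro x _
    obtain ⟨i, hi⟩ := hcov x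
    exact Opens.mem_iSup.mpr ⟨i, hi⟩
  obtain ⟨t', ht', -⟩ := TopCat.Sheaf.existsUnique_gluing'
    (F := ⟨(CohB1.tensorMod F (CohB1.tensorPow L (n₀ + M₀))).presheaf,
      (CohB1.tensorMod F (CohB1.tensorPow L (n₀ + M₀))).isSheaf⟩)
    (fun i : ι => (T i).W) ⊤ (fun i => homOfLE le_top) hcover _ hcompat
  refine ⟨n₀ + M₀, by rw [hn₀]; omega, t', ?_⟩
  -- Step 5: check on the cover of `X_s` by the `D(a_i)`
  refine section_eq_of_cover _ _ _ (fun x hx => ?_)
  obtain ⟨i, hxi⟩ := hcov x
  have hxD : x ∈ X.basicOpen (T i).a := by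
    rw [← (T i).genLocus_inf]
    exact ⟨hx, hxi⟩
  refine ⟨X.basicOpen (T i).a, (T i).basicOpen_le_genLocus, hxD, ?_⟩
  have ht'i : (CohB1.tensorMod F (CohB1.tensorPow L (n₀ + M₀))).presheaf.map
      (homOfLE (le_top : (T i).W ≤ ⊤)).op t' =
      tm F (CohB1.tensorPow L (n₀ + M₀)) ((T i).a ^ M₀ • y' i) (lp (T i).τ (n₀ + M₀)) := ht' i
  have e1 := hy' i _ (le_refl (X.basicOpen (T i).a))
  rw [res_res, ← res_res _ (X.basicOpen_le (T i).a) (le_top : (T i).W ≤ ⊤), ht'i, tm_res, tm_res,
    lp_res, lp_res, sv_res, (T i).lp_sv (X.basicOpen_le (T i).a), tm_smul_right, res_smul, map_pow,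
    e1, ← mul_smul, ← pow_add, tm_smul_left, add_comm M₀ n₀]

end Groth.Agent.H18.SecTw

end
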