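import Groth.Agent.H18.TwistAmple
import Groth.Agent.H18.SecTw
import Groth.Agent.H8.InvRestrict

/-!
# The structure sheaf is ample iff the scheme is quasi-affine
-/

set_option autoImplicit false
universe u

noncomputable section

namespace Groth.Agent.H18.QAffAmple

open CategoryTheory AlgebraicGeometry Opposite TopologicalSpace

variable {X : Scheme.{u}}

/-- For an endomorphism `s` of the structure sheaf, `X_s` is the basic open of the function
`s(1)`. -/
theorem genLocus_unit (s : Coh.structureModule X ⟶ Coh.structureModule X) :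
    CohB1.genLocus (Coh.structureModule X) s =
      X.basicOpen (show Γ(X, ⊤) from
        s.app ⊤ (show Γ(Coh.structureModule X, ⊤) from (1 : Γ(X, ⊤)))) := by
  have hres : ∀ (V : X.Opens) (hV : V ≤ ⊤),
      (Coh.structureModule X).presheaf.map (homOfLE hV).op
        (show Γ(Coh.structureModule X, ⊤) from (1 : Γ(X, ⊤))) =
      (show Γ(Coh.structureModule X, V) from (1 : Γ(X, V))) := fun V hV =>
    map_one (X.presheaf.map (homOfLE hV).op).hom
  have hσ : ∀ (V : X.Opens) (hV : V ≤ ⊤), Function.Bijective
      (fun r : Γ(X, V) => r • (Coh.structureModule X).presheaf.map (homOfLE hV).op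
        (show Γ(Coh.structureModule X, ⊤) from (1 : Γ(X, ⊤)))) := by
    intro V hV
    have he : (fun r : Γ(X, V) => r • (Coh.structureModule X).presheaf.map (homOfLE hV).op
        (show Γ(Coh.structureModule X, ⊤) from (1 : Γ(X, ⊤)))) =
        fun r : Γ(X, V) => (show Γ(Coh.structureModule X, V) from r) := by
      funext r
      rw [hres V hV]
      exact mul_one r
    rw [he]
    exact Function.bijective_id
  have ha : s.app ⊤ (show Γ(Coh.structureModule X, ⊤) from (1 : Γ(X, ⊤))) =
      (show Γ(X, ⊤) from s.app ⊤ (show Γ(Coh.structureModule X, ⊤) from (1 : Γ(X, ⊤)))) •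
        (Coh.structureModule X).presheaf.map (homOfLE (le_refl (⊤ : X.Opens))).op
          (show Γ(Coh.structureModule X, ⊤) from (1 : Γ(X, ⊤))) := by
    rw [hres ⊤ (le_refl ⊤)]
    exact (mul_one (show Γ(X, ⊤) from
      s.app ⊤ (show Γ(Coh.structureModule X, ⊤) from (1 : Γ(X, ⊤))))).symm
  have h := Groth.Agent.H22.GenLocus.genLocus_inf_eq_basicOpen (Coh.structureModule X) s
    (show Γ(Coh.structureModule X, ⊤) from (1 : Γ(X, ⊤))) hσ (le_refl ⊤) _ ha
  rwa [inf_top_eq] at h

/-- Multiplication by a global function, as an endomorphism of the structure sheaf. -/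
def mulHom (r : Γ(X, ⊤)) : Coh.structureModule X ⟶ Coh.structureModule X :=
  (SheafOfModules.unitHomEquiv (R := X.ringCatSheaf) (Coh.structureModule X)).symm
    (RestrictUnit.globalSections (Coh.structureModule X)
      (show Γ(Coh.structureModule X, ⊤) from r))

theorem mulHom_one (r : Γ(X, ⊤)) :
    (show Γ(X, ⊤) from (mulHom r).app ⊤
      (show Γ(Coh.structureModule X, ⊤) from (1 : Γ(X, ⊤)))) = r := by
  have h1 := FreeEpi.unitHomEquiv_symm_app_apply (Coh.structureModule X)
    (RestrictUnit.globalSections (Coh.structureModule X)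
      (show Γ(Coh.structureModule X, ⊤) from r)) ⊤ 1
  have h2 : RestrictUnit.sec (Coh.structureModule X)
      (RestrictUnit.globalSections (Coh.structureModule X)
        (show Γ(Coh.structureModule X, ⊤) from r)) ⊤ =
      (show Γ(Coh.structureModule X, ⊤) from r) :=
    SecTw.res_self' (Coh.structureModule X) _
  rw [h2, one_smul] at h1
  exact h1

theorem genLocus_mulHom (r : Γ(X, ⊤)) :
    CohB1.genLocus (Coh.structureModule X) (mulHom r) = X.basicOpen r := by
  rw [genLocus_unit, mulHom_one]

theorem nonempty_tensorPow_unit_iso (n : ℕ) :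
    Nonempty (CohB1.tensorPow (Coh.structureModule X) n ≅ Coh.structureModule X) := by
  induction n with
  | zero => exact ⟨Iso.refl _⟩
  | succ n ih =>
    obtain ⟨e⟩ := ih
    exact ⟨SecTwist.unitorR (CohB1.tensorPow (Coh.structureModule X) n) ≪≫ e⟩

end Groth.Agent.H18.QAffAmple

end
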