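import Groth.Agent.H18.TensorGen
import Groth.Agent.H41.BilinGlue
import Groth.Agent.H18.TwistAmple
import Groth.Agent.H18.QAffAmple
import Groth.Agent.H8.StructureCoh
import Groth.Agent.H18.FreeEpi

/-!
# Isomorphisms between tensor products of invertible modules from compatible trivialisations

`TripleSys A B C T`: a system `T` of triples of generators `(α, β, γ)` of `A, B, C` over opens,
stable under restriction, covering `X`, and such that `γ` transforms by the product of the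
transition functions of `α` and `β`.  Such a system gives `A ⊗ B ≅ C`.
Applications: `L^a ⊗ L^b ≅ L^(a+b)`, `(L^n)^k ≅ L^(n k)`.
-/

set_option autoImplicit false
universe u

noncomputable section

namespace Groth.Agent.H18.TensorPowIso

open CategoryTheory AlgebraicGeometry Opposite TopologicalSpace
open Groth.Agent.H8 (res_res res_smul ringRes_res section_eq_of_cover)
open Groth.Agent.H18.SecTw Groth.Agent.H18.TensorGen
open Groth.Agent.H41

variable {X : Scheme.{u}}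

/-- A compatible system of trivialisations of `A`, `B`, `C`. -/
structure TripleSys (A B C : X.Modules)
    (T : ∀ V : X.Opens, Γ(A, V) → Γ(B, V) → Γ(C, V) → Prop) : Prop where
  gen : ∀ {V : X.Opens} {α : Γ(A, V)} {β : Γ(B, V)} {γ : Γ(C, V)}, T V α β γ →
    IsGen A V α ∧ IsGen B V β ∧ IsGen C V γ
  res : ∀ {V W : X.Opens} (h : W ≤ V) {α : Γ(A, V)} {β : Γ(B, V)} {γ : Γ(C, V)}, T V α β γ →
    T W (A.presheaf.map (homOfLE h).op α) (B.presheaf.map (homOfLE h).op β)
      (C.presheaf.map (homOfLE h).op γ)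
  cover : ∀ x : X, ∃ (V : X.Opens) (α : Γ(A, V)) (β : Γ(B, V)) (γ : Γ(C, V)), x ∈ V ∧ T V α β γ
  compat : ∀ {V : X.Opens} {α α' : Γ(A, V)} {β β' : Γ(B, V)} {γ γ' : Γ(C, V)} (u v : Γ(X, V)),
    T V α β γ → T V α' β' γ' → α' = u • α → β' = v • β → γ' = (u * v) • γ

section Glue

variable {A B C : X.Modules} {T : ∀ V : X.Opens, Γ(A, V) → Γ(B, V) → Γ(C, V) → Prop}

/-- The product relation determined by a system of trivialisations. -/
def Rel (T : ∀ V : X.Opens, Γ(A, V) → Γ(B, V) → Γ(C, V) → Prop) (W : X.Opens) (s : Γ(A, W))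
    (t : Γ(B, W)) (w : Γ(C, W)) : Prop :=
  ∀ (V : X.Opens) (hV : V ≤ W) (α : Γ(A, V)) (β : Γ(B, V)) (γ : Γ(C, V)), T V α β γ →
    ∀ x y : Γ(X, V), A.presheaf.map (homOfLE hV).op s = x • α →
      B.presheaf.map (homOfLE hV).op t = y • β → C.presheaf.map (homOfLE hV).op w = (x * y) • γ

theorem rel_smul (hT : TripleSys A B C T) {V : X.Opens} {α : Γ(A, V)} {β : Γ(B, V)}
    {γ : Γ(C, V)} (h : T V α β γ) (x y : Γ(X, V)) :
    Rel T V (x • α) (y • β) ((x * y) • γ) := by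
  intro V' hV' α' β' γ' h' x' y' hs ht
  have hres := hT.res hV' h
  obtain ⟨hgα, hgβ, hgγ⟩ := hT.gen hres
  obtain ⟨u, hu⟩ := hgα.self.2 α'
  obtain ⟨v, hv⟩ := hgβ.self.2 β'
  have hu' : u • A.presheaf.map (homOfLE hV').op α = α' := hu
  have hv' : v • B.presheaf.map (homOfLE hV').op β = β' := hv
  have hγ' := hT.compat u v hres h' hu'.symm hv'.symm
  have hx : X.presheaf.map (homOfLE hV').op x = x' * u := by
    apply hgα.self.1
    show X.presheaf.map (homOfLE hV').op x • A.presheaf.map (homOfLE hV').op α =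
      (x' * u) • A.presheaf.map (homOfLE hV').op α
    rw [← res_smul, hs, mul_smul, hu']
  have hy : X.presheaf.map (homOfLE hV').op y = y' * v := by
    apply hgβ.self.1
    show X.presheaf.map (homOfLE hV').op y • B.presheaf.map (homOfLE hV').op β =
      (y' * v) • B.presheaf.map (homOfLE hV').op β
    rw [← res_smul, ht, mul_smul, hv']
  rw [res_smul, map_mul, hx, hy, hγ', ← mul_smul]
  congr 1
  ring

theorem glueRel (hT : TripleSys A B C T) : BilinGlue.GlueRel A B C (Rel T) where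
  unique := by
    intro W s t w w' h h'
    refine section_eq_of_cover C _ _ (fun p hp => ?_)
    obtain ⟨V₀, α, β, γ, hpV₀, hT₀⟩ := hT.cover p
    have hT₁ := hT.res (inf_le_left : V₀ ⊓ W ≤ V₀) hT₀
    obtain ⟨hgα, hgβ, hgγ⟩ := hT.gen hT₁
    obtain ⟨x, hx⟩ := hgα.self.2 (A.presheaf.map (homOfLE (inf_le_right : V₀ ⊓ W ≤ W)).op s)
    obtain ⟨y, hy⟩ := hgβ.self.2 (B.presheaf.map (homOfLE (inf_le_right : V₀ ⊓ W ≤ W)).op t)
    refine ⟨V₀ ⊓ W, inf_le_right, ⟨hpV₀, hp⟩, ?_⟩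
    rw [h _ inf_le_right _ _ _ hT₁ x y hx.symm hy.symm,
      h' _ inf_le_right _ _ _ hT₁ x y hx.symm hy.symm]
  res := by
    intro W V' hV' s t w h V hV α β γ hTV x y hs ht
    rw [res_res] at hs ht ⊢
    exact h V (hV.trans hV') α β γ hTV x y hs ht
  of_local := by
    intro W s t w hloc V hV α β γ hTV x y hs ht
    refine section_eq_of_cover C _ _ (fun p hp => ?_)
    obtain ⟨Vp, hVp, hpVp, hRp⟩ := hloc p (hV hp)
    refine ⟨V ⊓ Vp, inf_le_left, ⟨hp, hpVp⟩, ?_⟩
    have hT' := hT.res (inf_le_left : V ⊓ Vp ≤ V) hTV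
    have h1 := hRp (V ⊓ Vp) inf_le_right _ _ _ hT'
      (X.presheaf.map (homOfLE (inf_le_left : V ⊓ Vp ≤ V)).op x)
      (X.presheaf.map (homOfLE (inf_le_left : V ⊓ Vp ≤ V)).op y)
      (by rw [res_res, ← res_smul, ← hs, res_res])
      (by rw [res_res, ← res_smul, ← ht, res_res])
    rw [res_res] at h1
    rw [res_res, h1, res_smul, map_mul]
  exists_local := by
    intro W s t p hp
    obtain ⟨V₀, α, β, γ, hpV₀, hT₀⟩ := hT.cover p
    have hT₁ := hT.res (inf_le_left : V₀ ⊓ W ≤ V₀) hT₀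
    obtain ⟨hgα, hgβ, hgγ⟩ := hT.gen hT₁
    obtain ⟨x, hx⟩ := hgα.self.2 (A.presheaf.map (homOfLE (inf_le_right : V₀ ⊓ W ≤ W)).op s)
    obtain ⟨y, hy⟩ := hgβ.self.2 (B.presheaf.map (homOfLE (inf_le_right : V₀ ⊓ W ≤ W)).op t)
    have hx' : x • A.presheaf.map (homOfLE (inf_le_left : V₀ ⊓ W ≤ V₀)).op α =
        A.presheaf.map (homOfLE (inf_le_right : V₀ ⊓ W ≤ W)).op s := hx
    have hy' : y • B.presheaf.map (homOfLE (inf_le_left : V₀ ⊓ W ≤ V₀)).op β =
        B.presheaf.map (homOfLE (inf_le_right : V₀ ⊓ W ≤ W)).op t := hy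
    refine ⟨V₀ ⊓ W, inf_le_right, ⟨hpV₀, hp⟩,
      (x * y) • C.presheaf.map (homOfLE (inf_le_left : V₀ ⊓ W ≤ V₀)).op γ, ?_⟩
    have h1 := rel_smul hT hT₁ x y
    rw [hx', hy'] at h1
    exact h1
  add_left := by
    intro W s s' t w w' h h' V hV α β γ hTV x y hs ht
    obtain ⟨hgα, hgβ, hgγ⟩ := hT.gen hTV
    obtain ⟨x₁, hx₁⟩ := hgα.self.2 (A.presheaf.map (homOfLE hV).op s)
    obtain ⟨x₂, hx₂⟩ := hgα.self.2 (A.presheaf.map (homOfLE hV).op s')
    have hx₁' : x₁ • α = A.presheaf.map (homOfLE hV).op s := hx₁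
    have hx₂' : x₂ • α = A.presheaf.map (homOfLE hV).op s' := hx₂
    have hx : x = x₁ + x₂ := by
      apply hgα.self.1
      show x • α = (x₁ + x₂) • α
      rw [← hs, map_add, add_smul, hx₁', hx₂']
    rw [map_add, h V hV α β γ hTV x₁ y hx₁'.symm ht, h' V hV α β γ hTV x₂ y hx₂'.symm ht, hx,
      ← add_smul, add_mul]
  add_right := by
    intro W s t t' w w' h h' V hV α β γ hTV x y hs ht
    obtain ⟨hgα, hgβ, hgγ⟩ := hT.gen hTV
    obtain ⟨y₁, hy₁⟩ := hgβ.self.2 (B.presheaf.map (homOfLE hV).op t)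
    obtain ⟨y₂, hy₂⟩ := hgβ.self.2 (B.presheaf.map (homOfLE hV).op t')
    have hy₁' : y₁ • β = B.presheaf.map (homOfLE hV).op t := hy₁
    have hy₂' : y₂ • β = B.presheaf.map (homOfLE hV).op t' := hy₂
    have hy : y = y₁ + y₂ := by
      apply hgβ.self.1
      show y • β = (y₁ + y₂) • β
      rw [← ht, map_add, add_smul, hy₁', hy₂']
    rw [map_add, h V hV α β γ hTV x y₁ hs hy₁'.symm, h' V hV α β γ hTV x y₂ hs hy₂'.symm, hy,
      ← add_smul, mul_add]
  smul_left := by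
    intro W a s t w h V hV α β γ hTV x y hs ht
    obtain ⟨hgα, hgβ, hgγ⟩ := hT.gen hTV
    obtain ⟨x₁, hx₁⟩ := hgα.self.2 (A.presheaf.map (homOfLE hV).op s)
    have hx₁' : x₁ • α = A.presheaf.map (homOfLE hV).op s := hx₁
    have hx : x = X.presheaf.map (homOfLE hV).op a * x₁ := by
      apply hgα.self.1
      show x • α = (X.presheaf.map (homOfLE hV).op a * x₁) • α
      rw [← hs, res_smul, mul_smul, hx₁']
    rw [res_smul, h V hV α β γ hTV x₁ y hx₁'.symm ht, hx, ← mul_smul, mul_assoc]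
  smul_right := by
    intro W a s t w h V hV α β γ hTV x y hs ht
    obtain ⟨hgα, hgβ, hgγ⟩ := hT.gen hTV
    obtain ⟨y₁, hy₁⟩ := hgβ.self.2 (B.presheaf.map (homOfLE hV).op t)
    have hy₁' : y₁ • β = B.presheaf.map (homOfLE hV).op t := hy₁
    have hy : y = X.presheaf.map (homOfLE hV).op a * y₁ := by
      apply hgβ.self.1
      show y • β = (X.presheaf.map (homOfLE hV).op a * y₁) • β
      rw [← ht, res_smul, mul_smul, hy₁']
    rw [res_smul, h V hV α β γ hTV x y₁ hs hy₁'.symm, hy, ← mul_smul]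
    congr 1
    ring

/-- A compatible system of trivialisations gives an isomorphism `A ⊗ B ≅ C`. -/
theorem nonempty_iso_of_tripleSys (hT : TripleSys A B C T) :
    Nonempty (CohB1.tensorMod A B ≅ C) := by
  refine BilinGlue.GlueRel.nonempty_iso (glueRel hT) ?_
  intro U p hp
  obtain ⟨V₀, α, β, γ, hpV₀, hT₀⟩ := hT.cover p
  have hT₁ := hT.res (inf_le_right : U ⊓ V₀ ≤ V₀) hT₀
  obtain ⟨hgα, hgβ, hgγ⟩ := hT.gen hT₁
  refine ⟨U ⊓ V₀, inf_le_left, ⟨hp, hpV₀⟩, _, hgβ.self.2, ?_⟩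
  have hmul : ∀ x : Γ(X, U ⊓ V₀), (glueRel hT).mul (U ⊓ V₀)
      (x • A.presheaf.map (homOfLE (inf_le_right : U ⊓ V₀ ≤ V₀)).op α)
      (B.presheaf.map (homOfLE (inf_le_right : U ⊓ V₀ ≤ V₀)).op β) =
      x • C.presheaf.map (homOfLE (inf_le_right : U ⊓ V₀ ≤ V₀)).op γ := by
    intro x
    refine (glueRel hT).mul_eq ?_
    have h1 := rel_smul hT hT₁ x 1
    rw [one_smul, mul_one] at h1
    exact h1
  constructor
  · intro s s' hss
    obtain ⟨x, rfl⟩ := hgα.self.2 s
    obtain ⟨x', rfl⟩ := hgα.self.2 s'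
    have h1 : x • C.presheaf.map (homOfLE (inf_le_right : U ⊓ V₀ ≤ V₀)).op γ =
        x' • C.presheaf.map (homOfLE (inf_le_right : U ⊓ V₀ ≤ V₀)).op γ :=
      (hmul x).symm.trans (hss.trans (hmul x'))
    have h2 : x = x' := hgγ.self.1 h1
    rw [h2]
  · intro c
    obtain ⟨x, hx⟩ := hgγ.self.2 c
    exact ⟨x • A.presheaf.map (homOfLE (inf_le_right : U ⊓ V₀ ≤ V₀)).op α, (hmul x).trans hx⟩

end Glue


/-! ### Tensor powers -/

theorem tripleSys_pow_add {L : X.Modules} (hL : PicF.IsInvertible L) (a b : ℕ) :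
    TripleSys (CohB1.tensorPow L a) (CohB1.tensorPow L b) (CohB1.tensorPow L (a + b))
      (fun V α β γ => ∃ τ : Γ(L, V), IsGen L V τ ∧ α = lp τ a ∧ β = lp τ b ∧
        γ = lp τ (a + b)) where
  gen := by
    rintro V α β γ ⟨τ, hτ, rfl, rfl, rfl⟩
    exact ⟨isGen_lp hτ a, isGen_lp hτ b, isGen_lp hτ (a + b)⟩
  res := by
    rintro V W h α β γ ⟨τ, hτ, rfl, rfl, rfl⟩
    exact ⟨L.presheaf.map (homOfLE h).op τ, hτ.res h, lp_res h τ a, lp_res h τ b,
      lp_res h τ (a + b)⟩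
  cover := by
    intro x
    obtain ⟨V, τ, hxV, hτ⟩ := exists_isGen hL x
    exact ⟨V, _, _, _, hxV, τ, hτ, rfl, rfl, rfl⟩
  compat := by
    rintro V α α' β β' γ γ' u v ⟨τ, hτ, rfl, rfl, rfl⟩ ⟨τ', hτ', rfl, rfl, rfl⟩ hu hv
    obtain ⟨c, hc⟩ := hτ.self.2 τ'
    have hc' : c • τ = τ' := hc
    rw [← hc', lp_smul] at hu hv ⊢
    have hu' : c ^ a = u := (isGen_lp hτ a).self.1 hu
    have hv' : c ^ b = v := (isGen_lp hτ b).self.1 hv
    rw [← hu', ← hv', pow_add]

/-- `L^a ⊗ L^b ≅ L^(a+b)` for an invertible module `L`. -/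
theorem nonempty_tensorPow_add {L : X.Modules} (hL : PicF.IsInvertible L) (a b : ℕ) :
    Nonempty (CohB1.tensorMod (CohB1.tensorPow L a) (CohB1.tensorPow L b) ≅
      CohB1.tensorPow L (a + b)) :=
  nonempty_iso_of_tripleSys (tripleSys_pow_add hL a b)

/-- `(L^n)^k ≅ L^(n k)` for an invertible module `L`. -/
theorem nonempty_tensorPow_tensorPow {L : X.Modules} (hL : PicF.IsInvertible L) (n k : ℕ) :
    Nonempty (CohB1.tensorPow (CohB1.tensorPow L n) k ≅ CohB1.tensorPow L (n * k)) := by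
  induction k with
  | zero => exact ⟨Iso.refl _⟩
  | succ k ih =>
    obtain ⟨e⟩ := ih
    obtain ⟨e1⟩ := TensorModIso.nonempty_tensorMod_congr e (Iso.refl (CohB1.tensorPow L n))
    obtain ⟨e2⟩ := nonempty_tensorPow_add hL (n * k) n
    exact ⟨e1 ≪≫ e2⟩

/-- Tensor powers with equal exponents. -/
theorem nonempty_tensorPow_congr (L : X.Modules) {a b : ℕ} (h : a = b) :
    Nonempty (CohB1.tensorPow L a ≅ CohB1.tensorPow L b) := by
  subst h
  exact ⟨Iso.refl _⟩

/-! ### Sections -/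

/-- The morphism `O ⟶ N` attached to a global section. -/
def secHom (N : X.Modules) (t : Γ(N, ⊤)) : Coh.structureModule X ⟶ N :=
  (SheafOfModules.unitHomEquiv (R := X.ringCatSheaf) N).symm (RestrictUnit.globalSections N t)

theorem sv_secHom (N : X.Modules) (t : Γ(N, ⊤)) (V : X.Opens) :
    sv (secHom N t) V = N.presheaf.map (homOfLE (le_top : V ≤ ⊤)).op t := by
  have h1 := FreeEpi.unitHomEquiv_symm_app_apply N (RestrictUnit.globalSections N t) V 1
  rw [one_smul] at h1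
  exact h1

theorem genLocus_id : CohB1.genLocus (Coh.structureModule X) (𝟙 (Coh.structureModule X)) = ⊤ := by
  refine top_le_iff.mp (Groth.Agent.H22.GenLocus.le_genLocus _ _ ⊤ (fun V _ => ?_))
  have h1 : IsIso ((𝟙 (Coh.structureModule X) : Coh.structureModule X ⟶ _).app V) :=
    (Scheme.Modules.Hom.isIso_iff_isIso_app (φ := 𝟙 (Coh.structureModule X))).mp inferInstance V
  exact (ConcreteCategory.isIso_iff_bijective _).mp h1

theorem genLocus_powHom_succ {M : X.Modules} (hM : PicF.IsInvertible M)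
    (s : Coh.structureModule X ⟶ M) (k : ℕ) :
    CohB1.genLocus (CohB1.tensorPow M (k + 1)) (SecTwist.powHom s (k + 1)) =
      CohB1.genLocus M s := by
  have hstep : ∀ j : ℕ, CohB1.genLocus (CohB1.tensorPow M (j + 1)) (SecTwist.powHom s (j + 1)) =
      CohB1.genLocus (CohB1.tensorPow M j) (SecTwist.powHom s j) ⊓ CohB1.genLocus M s :=
    fun j => genLocus_tmulHom (isInvertible_tensorPow hM j) hM (SecTwist.powHom s j) s
  have hle : ∀ j : ℕ, CohB1.genLocus M s ≤
      CohB1.genLocus (CohB1.tensorPow M j) (SecTwist.powHom s j) := by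
    intro j
    induction j with
    | zero =>
      have h0 : CohB1.genLocus (CohB1.tensorPow M 0) (SecTwist.powHom s 0) = ⊤ := genLocus_id
      rw [h0]
      exact le_top
    | succ j ih =>
      rw [hstep j]
      exact le_inf ih le_rfl
  rw [hstep k]
  exact inf_eq_right.mpr (hle k)

/-- EGA II 4.5.2 (a), key step: a basic open of `X_s` is again of the form `X_{s'}`. -/
theorem exists_section_genLocus_eq_basicOpen [CompactSpace X] [QuasiSeparatedSpace X]
    {L : X.Modules} (hL : PicF.IsInvertible L) {n : ℕ}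
    (s : Coh.structureModule X ⟶ CohB1.tensorPow L (n + 1))
    (f : Γ(X, CohB1.genLocus (CohB1.tensorPow L (n + 1)) s)) :
    ∃ (m : ℕ) (s' : Coh.structureModule X ⟶ CohB1.tensorPow L (m + 1)),
      CohB1.genLocus (CohB1.tensorPow L (m + 1)) s' = X.basicOpen f := by
  have := Groth.Agent.H8.isQuasicoherent_structureModule' X
  have hM := isInvertible_tensorPow hL (n + 1)
  obtain ⟨k, hk, t', ht'⟩ := exists_twist_extends hM s (Coh.structureModule X)
    (show Γ(Coh.structureModule X, CohB1.genLocus (CohB1.tensorPow L (n + 1)) s) from f)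
  have hN : PicF.IsInvertible (CohB1.tensorMod (Coh.structureModule X)
      (CohB1.tensorPow (CohB1.tensorPow L (n + 1)) k)) :=
    isInvertible_tensorMod (Groth.Agent.H8.isInvertible_structureModule X)
      (isInvertible_tensorPow hM k)
  have hs₂ := genLocus_tmulHom hN hM (secHom _ t') s
  have hiff : ∀ p : X, p ∈ CohB1.genLocus (CohB1.tensorPow L (n + 1)) s →
      (p ∈ CohB1.genLocus _ (secHom _ t') ↔ p ∈ X.basicOpen f) := by
    intro p hpXs
    obtain ⟨V₀, μ₀, hpV₀, hμ₀⟩ := exists_isGen hM p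
    have hV : V₀ ⊓ CohB1.genLocus (CohB1.tensorPow L (n + 1)) s ≤
        CohB1.genLocus (CohB1.tensorPow L (n + 1)) s := inf_le_right
    have hpV : p ∈ V₀ ⊓ CohB1.genLocus (CohB1.tensorPow L (n + 1)) s := ⟨hpV₀, hpXs⟩
    have hμ := hμ₀.res (inf_le_left : V₀ ⊓ CohB1.genLocus (CohB1.tensorPow L (n + 1)) s ≤ V₀)
    obtain ⟨c, hc⟩ := hμ.self.2 (sv s (V₀ ⊓ CohB1.genLocus (CohB1.tensorPow L (n + 1)) s))
    have hc' : c • (CohB1.tensorPow L (n + 1)).presheaf.map (homOfLE (inf_le_left :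
        V₀ ⊓ CohB1.genLocus (CohB1.tensorPow L (n + 1)) s ≤ V₀)).op μ₀ =
        sv s (V₀ ⊓ CohB1.genLocus (CohB1.tensorPow L (n + 1)) s) := hc
    have hcV : X.basicOpen c = V₀ ⊓ CohB1.genLocus (CohB1.tensorPow L (n + 1)) s := by
      rw [← genLocus_inf_of_isGen s hμ c hc'.symm]
      exact inf_eq_right.mpr hV
    have hν := isGen_tm (isGen_one (V₀ ⊓ CohB1.genLocus (CohB1.tensorPow L (n + 1)) s))
      (isGen_lp hμ k)
    have hsv : sv (secHom _ t') (V₀ ⊓ CohB1.genLocus (CohB1.tensorPow L (n + 1)) s) =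
        (c ^ k * X.presheaf.map (homOfLE hV).op f) •
          tm (Coh.structureModule X) (CohB1.tensorPow (CohB1.tensorPow L (n + 1)) k)
            (show Γ(Coh.structureModule X, V₀ ⊓ CohB1.genLocus (CohB1.tensorPow L (n + 1)) s)
              from (1 : Γ(X, V₀ ⊓ CohB1.genLocus (CohB1.tensorPow L (n + 1)) s)))
            (lp ((CohB1.tensorPow L (n + 1)).presheaf.map (homOfLE (inf_le_left :
              V₀ ⊓ CohB1.genLocus (CohB1.tensorPow L (n + 1)) s ≤ V₀)).op μ₀) k) := by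
      rw [sv_secHom, ← res_res _ hV le_top, ht', tm_res, lp_res, sv_res, ← hc', lp_smul,
        tm_smul_right, mul_smul]
      congr 1
      rw [← tm_smul_left]
      congr 1
      exact (mul_one (X.presheaf.map (homOfLE hV).op f)).symm
    rw [mem_genLocus_iff_of_isGen (secHom _ t') hν _ hsv p hpV, X.basicOpen_mul,
      X.basicOpen_pow c hk, hcV, X.basicOpen_res]
    exact ⟨fun h => h.2.2, fun h => ⟨hpV, hpV, h⟩⟩
  have hkey : CohB1.genLocus _ (secHom _ t') ⊓ CohB1.genLocus (CohB1.tensorPow L (n + 1)) s =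
      X.basicOpen f := by
    ext p
    constructor
    · rintro ⟨hp1, hp2⟩
      exact (hiff p hp2).mp hp1
    · intro hp
      have hp2 : p ∈ CohB1.genLocus (CohB1.tensorPow L (n + 1)) s := X.basicOpen_le f hp
      exact ⟨(hiff p hp2).mpr hp, hp2⟩
  obtain ⟨e1⟩ := nonempty_tensorPow_tensorPow hL (n + 1) k
  obtain ⟨e2⟩ := TensorModIso.nonempty_tensorMod_congr (Iso.refl (CohB1.tensorPow L 0)) e1
  obtain ⟨e3⟩ := nonempty_tensorPow_add hL 0 ((n + 1) * k)
  obtain ⟨e4⟩ := TensorModIso.nonempty_tensorMod_congr (e2 ≪≫ e3)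
    (Iso.refl (CohB1.tensorPow L (n + 1)))
  obtain ⟨e5⟩ := nonempty_tensorPow_add hL (0 + (n + 1) * k) (n + 1)
  obtain ⟨e6⟩ : Nonempty (CohB1.tensorMod (CohB1.tensorMod (Coh.structureModule X)
      (CohB1.tensorPow (CohB1.tensorPow L (n + 1)) k)) (CohB1.tensorPow L (n + 1)) ≅
      CohB1.tensorPow L (0 + (n + 1) * k + n + 1)) := ⟨e4 ≪≫ e5⟩
  refine ⟨0 + (n + 1) * k + n, SecTwist.tmulHom (secHom _ t') s ≫ e6.hom, ?_⟩
  exact (TwistAmple.genLocus_comp_iso _ e6).trans (hs₂.trans hkey)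

end Groth.Agent.H18.TensorPowIso
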