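import Groth.Agent.H18.ProjBasic
import Mathlib.AlgebraicGeometry.Morphisms.ClosedImmersion

set_option autoImplicit false
universe u

namespace Groth.Agent.H18

open AlgebraicGeometry HomogeneousIdeal HomogeneousLocalization CategoryTheory

section
variable {A B σ τ : Type*} [CommRing A] [SetLike σ A] [AddSubgroupClass σ A]
  [CommRing B] [SetLike τ B] [AddSubgroupClass τ B]
  {𝒜 : ℕ → σ} {ℬ : ℕ → τ} [GradedRing 𝒜] [GradedRing ℬ]

/-- A surjective graded ring hom is surjective on each graded piece. -/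
theorem exists_mem_map_eq (φ : 𝒜 →+*ᵍ ℬ) (hsurj : Function.Surjective φ) {i : ℕ} {b : B}
    (hb : b ∈ ℬ i) : ∃ a ∈ 𝒜 i, φ a = b := by
  classical
  obtain ⟨a', rfl⟩ := hsurj b
  refine ⟨DirectSum.decompose 𝒜 a' i, SetLike.coe_mem _, ?_⟩
  rw [GradedRingHom.map_directSumDecompose, DirectSum.decompose_of_mem_same ℬ hb]

/-- A surjective graded ring hom induces surjections on degree-zero localizations. -/
theorem away_map_surjective (φ : 𝒜 →+*ᵍ ℬ) (hsurj : Function.Surjective φ) {d : ℕ} {s : A}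
    (hs : s ∈ 𝒜 d) : Function.Surjective (Away.map φ s) := by
  intro x
  obtain ⟨n, b, hb, rfl⟩ := Away.mk_surjective ℬ (φ.2 hs) x
  obtain ⟨a, ha, rfl⟩ := exists_mem_map_eq φ hsurj hb
  exact ⟨Away.mk 𝒜 hs n a ha, Away.map_mk φ s hs n a ha⟩

end

section
variable {A B σ τ : Type u} [CommRing A] [SetLike σ A] [AddSubgroupClass σ A]
  [CommRing B] [SetLike τ B] [AddSubgroupClass τ B]
  {𝒜 : ℕ → σ} {ℬ : ℕ → τ} [GradedRing 𝒜] [GradedRing ℬ]

/-- The standard chart square of `Proj.map` is cartesian. -/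
theorem isPullback_awayι_map (φ : 𝒜 →+*ᵍ ℬ) (hφ : ℬ₊ ≤ 𝒜₊.map φ)
    {i : ℕ} (hi : 0 < i) (s : A) (hs : s ∈ 𝒜 i) :
    IsPullback (Spec.map (CommRingCat.ofHom (Away.map φ s))) (Proj.awayι ℬ (φ s) (φ.2 hs) hi)
      (Proj.awayι 𝒜 s hs hi) (Proj.map φ hφ) := by
  apply IsOpenImmersion.isPullback
  · exact Proj.awayι_comp_map φ hφ hi s hs
  · rw [Proj.opensRange_awayι, Proj.opensRange_awayι, Proj.map_preimage_basicOpen]

set_option backward.isDefEq.respectTransparency false in
/-- `Proj` of a surjective graded ring hom is a closed immersion. -/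
theorem proj_map_isClosedImmersion (φ : 𝒜 →+*ᵍ ℬ) (hsurj : Function.Surjective φ)
    (hφ : ℬ₊ ≤ 𝒜₊.map φ) : IsClosedImmersion (Proj.map φ hφ) := by
  apply IsZariskiLocalAtTarget.of_openCover (P := @IsClosedImmersion)
    (Proj.affineOpenCover 𝒜).openCover
  intro s
  have hpb := (isPullback_awayι_map φ hφ s.1.2 s.2.1 s.2.2).flip
  have hcl : IsClosedImmersion (Spec.map (CommRingCat.ofHom (Away.map φ (s.2 : A)))) :=
    IsClosedImmersion.spec_of_surjective _ (away_map_surjective φ hsurj s.2.2)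
  have heq : hpb.isoPullback.hom ≫ Limits.pullback.snd _ _ =
      Spec.map (CommRingCat.ofHom (Away.map φ (s.2 : A))) := hpb.isoPullback_hom_snd
  have key : IsClosedImmersion
      (Limits.pullback.snd (Proj.map φ hφ) (Proj.awayι 𝒜 (s.2 : A) s.2.2 s.1.2)) := by
    rw [← MorphismProperty.cancel_left_of_respectsIso @IsClosedImmersion hpb.isoPullback.hom,
      heq]
    exact hcl
  exact key

end
end Groth.Agent.H18
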