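import Groth.Agent.H18.SecTw
import Groth.Agent.H18.TensorModIso
import Groth.Agent.H18.RestrictUnit

/-!
# Generators of tensor products of invertible modules

`IsGen M V μ`: the section `μ` of `M` over `V` generates `M` freely on every open below `V`.
The tensor product of two generators generates the (sheafified) tensor product.
-/

set_option autoImplicit false
universe u

noncomputable section

namespace Groth.Agent.H18.TensorGen

open CategoryTheory AlgebraicGeometry Opposite TopologicalSpace TensorProduct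
open Groth.Agent.H8 (res_res res_smul ringRes_res section_eq_of_cover)
open Groth.Agent.H18.SecTw

/-- If `α` and `β` are free generators then so is `α ⊗ β`. -/
theorem bijective_smul_tmul {R M N : Type*} [CommRing R] [AddCommGroup M] [Module R M]
    [AddCommGroup N] [Module R N] (α : M) (β : N)
    (hα : Function.Bijective (fun r : R => r • α)) (hβ : Function.Bijective (fun r : R => r • β)) :
    Function.Bijective (fun r : R => r • (α ⊗ₜ[R] β)) := by
  have h1 : Function.Bijective (LinearMap.toSpanSingleton R M α) := by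
    have he : (LinearMap.toSpanSingleton R M α : R → M) = fun r : R => r • α := by
      funext r
      exact LinearMap.toSpanSingleton_apply _ _ _ _
    rw [he]
    exact hα
  have h2 : Function.Bijective (LinearMap.toSpanSingleton R N β) := by
    have he : (LinearMap.toSpanSingleton R N β : R → N) = fun r : R => r • β := by
      funext r
      exact LinearMap.toSpanSingleton_apply _ _ _ _
    rw [he]
    exact hβ
  let e : R ≃ₗ[R] M ⊗[R] N := (TensorProduct.lid R R).symm.trans
    (TensorProduct.congr (LinearEquiv.ofBijective _ h1) (LinearEquiv.ofBijective _ h2))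
  have he : (fun r : R => r • (α ⊗ₜ[R] β)) = e := by
    funext r
    show r • (α ⊗ₜ[R] β) = TensorProduct.congr (LinearEquiv.ofBijective _ h1)
      (LinearEquiv.ofBijective _ h2) ((TensorProduct.lid R R).symm r)
    rw [TensorProduct.lid_symm_apply, TensorProduct.congr_tmul]
    simp [LinearMap.toSpanSingleton_apply, TensorProduct.tmul_smul]
  rw [he]
  exact e.bijective

variable {X : Scheme.{u}}

/-- `μ` freely generates `M` on every open below `V`. -/
def IsGen (M : X.Modules) (V : X.Opens) (μ : Γ(M, V)) : Prop :=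
  ∀ (V' : X.Opens) (h : V' ≤ V), Function.Bijective
    (fun r : Γ(X, V') => r • M.presheaf.map (homOfLE h).op μ)

theorem IsGen.res {M : X.Modules} {V W : X.Opens} {μ : Γ(M, V)} (hμ : IsGen M V μ) (h : W ≤ V) :
    IsGen M W (M.presheaf.map (homOfLE h).op μ) := by
  intro V' h'
  have hb := hμ V' (h'.trans h)
  have he : (fun r : Γ(X, V') => r • M.presheaf.map (homOfLE h').op
      (M.presheaf.map (homOfLE h).op μ)) =
      fun r : Γ(X, V') => r • M.presheaf.map (homOfLE (h'.trans h)).op μ := by
    funext r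
    rw [res_res]
  rw [he]
  exact hb

theorem IsGen.self {M : X.Modules} {V : X.Opens} {μ : Γ(M, V)} (hμ : IsGen M V μ) :
    Function.Bijective (fun r : Γ(X, V) => r • μ) := by
  have hb := hμ V le_rfl
  have he : (fun r : Γ(X, V) => r • M.presheaf.map (homOfLE (le_refl V)).op μ) =
      fun r : Γ(X, V) => r • μ := by
    funext r
    rw [res_self']
  rw [he] at hb
  exact hb

/-- The pure tensor in the sectionwise tensor product. -/
def pt (A B : X.Modules) {W : X.Opens} (a : Γ(A, W)) (b : Γ(B, W)) :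
    ↥((CohB1.tensorPre A B).obj (op W)) :=
  ((show A.val.obj (op W) from a) ⊗ₜ (show B.val.obj (op W) from b))

theorem tm_eq_toTensor_pt (A B : X.Modules) {W : X.Opens} (a : Γ(A, W)) (b : Γ(B, W)) :
    tm A B a b = ((SecTwist.toTensor A B).app (op W)).hom (pt A B a b) := rfl

set_option backward.isDefEq.respectTransparency false in
theorem toTensor_locInj (A B : X.Modules) {U : X.Opens}
    (z z' : ↥((CohB1.tensorPre A B).obj (op U)))
    (h : ((SecTwist.toTensor A B).app (op U)).hom z = ((SecTwist.toTensor A B).app (op U)).hom z')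
    (x : X) (hx : x ∈ U) :
    ∃ (V : X.Opens) (hV : V ≤ U), x ∈ V ∧
      (TensorModIso.tensorPre' A B).map (homOfLE hV).op z =
        (TensorModIso.tensorPre' A B).map (homOfLE hV).op z' := by
  have hinst : Presheaf.IsLocallyInjective (Opens.grothendieckTopology X)
      (CategoryTheory.toSheafify (Opens.grothendieckTopology X)
        (TensorModIso.tensorPre' A B).presheaf) := inferInstance
  have hmem := hinst.equalizerSieve_mem (X := op U) z z' h
  rw [Opens.mem_grothendieckTopology] at hmem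
  obtain ⟨V, f, hf, hxV⟩ := hmem x hx
  exact ⟨V, f.le, hxV, hf⟩

set_option backward.isDefEq.respectTransparency false in
theorem toTensor_locSurj (A B : X.Modules) {U : X.Opens} (w : Γ(CohB1.tensorMod A B, U))
    (x : X) (hx : x ∈ U) :
    ∃ (V : X.Opens) (hV : V ≤ U), x ∈ V ∧ ∃ z : ↥((CohB1.tensorPre A B).obj (op V)),
      ((SecTwist.toTensor A B).app (op V)).hom z =
        (CohB1.tensorMod A B).presheaf.map (homOfLE hV).op w := by
  have hinst : Presheaf.IsLocallySurjective (Opens.grothendieckTopology X)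
      (CategoryTheory.toSheafify (Opens.grothendieckTopology X)
        (TensorModIso.tensorPre' A B).presheaf) := inferInstance
  have hmem := hinst.imageSieve_mem (U := U) w
  rw [Opens.mem_grothendieckTopology] at hmem
  obtain ⟨V, f, ⟨z, hz⟩, hxV⟩ := hmem x hx
  exact ⟨V, f.le, hxV, z, hz⟩


/-- The ring of sections, in the form in which it acts on the sectionwise tensor product. -/
abbrev RR (X : Scheme.{u}) (W : X.Opens) : Type u :=
  ↑((X.sheaf.obj ⋙ forget₂ CommRingCat RingCat).obj (op W))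

/-- Retyping of a function. -/
def toRR {W : X.Opens} (r : Γ(X, W)) : RR X W := r

set_option backward.isDefEq.respectTransparency false in
theorem bijective_smul_pt {A B : X.Modules} {V : X.Opens} {α : Γ(A, V)} {β : Γ(B, V)}
    (hα : IsGen A V α) (hβ : IsGen B V β) (W : X.Opens) (hW : W ≤ V) :
    Function.Bijective (fun r : Γ(X, W) => toRR r •
      pt A B (A.presheaf.map (homOfLE hW).op α) (B.presheaf.map (homOfLE hW).op β)) :=
  bijective_smul_tmul (R := RR X W) (M := ↥((CohB1.toPMod A).obj (op W)))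
    (N := ↥((CohB1.toPMod B).obj (op W))) _ _ (hα W hW) (hβ W hW)

set_option backward.isDefEq.respectTransparency false in
theorem map_smul_pt (A B : X.Modules) {W W' : X.Opens} (h : W' ≤ W) (r : Γ(X, W)) (a : Γ(A, W))
    (b : Γ(B, W)) :
    (TensorModIso.tensorPre' A B).map (homOfLE h).op (toRR r • pt A B a b) =
      toRR (X.presheaf.map (homOfLE h).op r) •
        pt A B (A.presheaf.map (homOfLE h).op a) (B.presheaf.map (homOfLE h).op b) :=
  PresheafOfModules.map_smul (TensorModIso.tensorPre' A B) (homOfLE h).op (toRR r) (pt A B a b)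

set_option backward.isDefEq.respectTransparency false in
theorem toTensor_smul_pt (A B : X.Modules) {W : X.Opens} (r : Γ(X, W)) (a : Γ(A, W))
    (b : Γ(B, W)) :
    ((SecTwist.toTensor A B).app (op W)).hom (toRR r • pt A B a b) = r • tm A B a b :=
  ((SecTwist.toTensor A B).app (op W)).hom.map_smul (toRR r) (pt A B a b)


set_option backward.isDefEq.respectTransparency false in
/-- The tensor product of two generators is a generator of the tensor product. -/
theorem isGen_tm {A B : X.Modules} {V : X.Opens} {α : Γ(A, V)} {β : Γ(B, V)}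
    (hα : IsGen A V α) (hβ : IsGen B V β) : IsGen (CohB1.tensorMod A B) V (tm A B α β) := by
  have hinj : ∀ (W : X.Opens) (hW : W ≤ V) (r r' : Γ(X, W)),
      r • tm A B (A.presheaf.map (homOfLE hW).op α) (B.presheaf.map (homOfLE hW).op β) =
      r' • tm A B (A.presheaf.map (homOfLE hW).op α) (B.presheaf.map (homOfLE hW).op β) →
      r = r' := by
    intro W hW r r' hrr
    have h1 : ((SecTwist.toTensor A B).app (op W)).hom (toRR r •
        pt A B (A.presheaf.map (homOfLE hW).op α) (B.presheaf.map (homOfLE hW).op β)) =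
        ((SecTwist.toTensor A B).app (op W)).hom (toRR r' •
        pt A B (A.presheaf.map (homOfLE hW).op α) (B.presheaf.map (homOfLE hW).op β)) :=
      (toTensor_smul_pt A B r _ _).trans (hrr.trans (toTensor_smul_pt A B r' _ _).symm)
    apply (hα W hW).1
    show r • A.presheaf.map (homOfLE hW).op α = r' • A.presheaf.map (homOfLE hW).op α
    refine section_eq_of_cover A _ _ (fun x hx => ?_)
    obtain ⟨W', hW', hxW', hz⟩ := toTensor_locInj A B _ _ h1 x hx
    refine ⟨W', hW', hxW', ?_⟩
    have hz' := (map_smul_pt A B hW' r _ _).symm.trans (hz.trans (map_smul_pt A B hW' r' _ _))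
    have hb := bijective_smul_pt (hα.res hW) (hβ.res hW) W' hW'
    have hr : X.presheaf.map (homOfLE hW').op r = X.presheaf.map (homOfLE hW').op r' := hb.1 hz'
    rw [res_smul, res_smul, hr]
  intro W hW
  constructor
  · intro r r' hrr
    refine hinj W hW r r' ?_
    have hrr' : r • (CohB1.tensorMod A B).presheaf.map (homOfLE hW).op (tm A B α β) =
        r' • (CohB1.tensorMod A B).presheaf.map (homOfLE hW).op (tm A B α β) := hrr
    rw [tm_res] at hrr'
    exact hrr'
  · intro w
    have hloc : ∀ x : W, ∃ (Wx : X.Opens) (hWx : Wx ≤ W), x.1 ∈ Wx ∧ ∃ rx : Γ(X, Wx),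
        rx • tm A B (A.presheaf.map (homOfLE (hWx.trans hW)).op α)
          (B.presheaf.map (homOfLE (hWx.trans hW)).op β) =
          (CohB1.tensorMod A B).presheaf.map (homOfLE hWx).op w := by
      intro x
      obtain ⟨Wx, hWx, hxWx, z, hz⟩ := toTensor_locSurj A B w x.1 x.2
      obtain ⟨rx, hrx⟩ := (bijective_smul_pt hα hβ Wx (hWx.trans hW)).2 z
      refine ⟨Wx, hWx, hxWx, rx, ?_⟩
      rw [← hz, ← hrx]
      exact (toTensor_smul_pt A B rx _ _).symm
    choose Wf hWf hxWf rf hrf using hloc
    have hcompat : TopCat.Presheaf.IsCompatible A.presheaf Wf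
        (fun x => rf x • A.presheaf.map (homOfLE ((hWf x).trans hW)).op α) := by
      intro x y
      change A.presheaf.map (homOfLE (inf_le_left : Wf x ⊓ Wf y ≤ Wf x)).op (rf x • _) =
        A.presheaf.map (homOfLE (inf_le_right : Wf x ⊓ Wf y ≤ Wf y)).op (rf y • _)
      rw [res_smul, res_smul, res_res, res_res]
      have hr : X.presheaf.map (homOfLE (inf_le_left : Wf x ⊓ Wf y ≤ Wf x)).op (rf x) =
          X.presheaf.map (homOfLE (inf_le_right : Wf x ⊓ Wf y ≤ Wf y)).op (rf y) := by
        apply hinj (Wf x ⊓ Wf y) (inf_le_left.trans ((hWf x).trans hW))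
        have e1 := congrArg ((CohB1.tensorMod A B).presheaf.map
          (homOfLE (inf_le_left : Wf x ⊓ Wf y ≤ Wf x)).op) (hrf x)
        have e2 := congrArg ((CohB1.tensorMod A B).presheaf.map
          (homOfLE (inf_le_right : Wf x ⊓ Wf y ≤ Wf y)).op) (hrf y)
        simp only [res_smul, tm_res, res_res] at e1 e2
        exact e1.trans e2.symm
      rw [hr]
    have hcover : W ≤ iSup Wf := fun x hx => Opens.mem_iSup.mpr ⟨⟨x, hx⟩, hxWf ⟨x, hx⟩⟩
    obtain ⟨a, ha, -⟩ := TopCat.Sheaf.existsUnique_gluing' (F := ⟨A.presheaf, A.isSheaf⟩)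
      Wf W (fun x => homOfLE (hWf x)) hcover _ hcompat
    obtain ⟨r, hr⟩ := (hα W hW).2 a
    refine ⟨r, ?_⟩
    refine section_eq_of_cover (CohB1.tensorMod A B) _ _
      (fun x hx => ⟨Wf ⟨x, hx⟩, hWf ⟨x, hx⟩, hxWf ⟨x, hx⟩, ?_⟩)
    have h1 : A.presheaf.map (homOfLE (hWf ⟨x, hx⟩)).op a =
        rf ⟨x, hx⟩ • A.presheaf.map (homOfLE ((hWf ⟨x, hx⟩).trans hW)).op α := ha ⟨x, hx⟩
    have hr' : r • A.presheaf.map (homOfLE hW).op α = a := hr
    have h2 : X.presheaf.map (homOfLE (hWf ⟨x, hx⟩)).op r = rf ⟨x, hx⟩ := by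
      apply (hα _ ((hWf ⟨x, hx⟩).trans hW)).1
      show X.presheaf.map (homOfLE (hWf ⟨x, hx⟩)).op r •
          A.presheaf.map (homOfLE ((hWf ⟨x, hx⟩).trans hW)).op α =
        rf ⟨x, hx⟩ • A.presheaf.map (homOfLE ((hWf ⟨x, hx⟩).trans hW)).op α
      rw [← h1, ← hr', res_smul, res_res]
    show (CohB1.tensorMod A B).presheaf.map (homOfLE (hWf ⟨x, hx⟩)).op
        (r • (CohB1.tensorMod A B).presheaf.map (homOfLE hW).op (tm A B α β)) =
      (CohB1.tensorMod A B).presheaf.map (homOfLE (hWf ⟨x, hx⟩)).op w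
    rw [res_smul, res_res, tm_res, h2]
    exact hrf ⟨x, hx⟩

theorem isGen_one (V : X.Opens) :
    IsGen (Coh.structureModule X) V (show Γ(Coh.structureModule X, V) from (1 : Γ(X, V))) := by
  intro V' h
  have hres : (Coh.structureModule X).presheaf.map (homOfLE h).op
      (show Γ(Coh.structureModule X, V) from (1 : Γ(X, V))) =
      (show Γ(Coh.structureModule X, V') from (1 : Γ(X, V'))) :=
    map_one (X.presheaf.map (homOfLE h).op).hom
  have he : (fun r : Γ(X, V') => r • (Coh.structureModule X).presheaf.map (homOfLE h).op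
      (show Γ(Coh.structureModule X, V) from (1 : Γ(X, V)))) =
      fun r : Γ(X, V') => (show Γ(Coh.structureModule X, V') from r) := by
    funext r
    rw [hres]
    exact mul_one r
  rw [he]
  exact Function.bijective_id

theorem isGen_lp {L : X.Modules} {V : X.Opens} {τ : Γ(L, V)} (hτ : IsGen L V τ) (n : ℕ) :
    IsGen (CohB1.tensorPow L n) V (lp τ n) := by
  induction n with
  | zero => exact isGen_one V
  | succ n ih => exact isGen_tm ih hτ

theorem isInvertible_of_isGen (M : X.Modules)
    (h : ∀ x : X, ∃ (V : X.Opens) (μ : Γ(M, V)), x ∈ V ∧ IsGen M V μ) : PicF.IsInvertible M := by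
  intro x
  obtain ⟨V, μ, hxV, hμ⟩ := h x
  exact ⟨V, hxV, RestrictUnit.nonempty_restrict_iso_unit V M μ hμ⟩

theorem exists_isGen {L : X.Modules} (hL : PicF.IsInvertible L) (x : X) :
    ∃ (V : X.Opens) (τ : Γ(L, V)), x ∈ V ∧ IsGen L V τ := by
  obtain ⟨U, hxU, ⟨e⟩⟩ := hL x
  obtain ⟨σ, hσ⟩ := Groth.Agent.H22.GenLocus.exists_generator L U e
  exact ⟨U, σ, hxU, hσ⟩

theorem exists_isGen_pair {L L' : X.Modules} (hL : PicF.IsInvertible L)
    (hL' : PicF.IsInvertible L') (x : X) :
    ∃ (V : X.Opens) (τ : Γ(L, V)) (τ' : Γ(L', V)), x ∈ V ∧ IsGen L V τ ∧ IsGen L' V τ' := by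
  obtain ⟨V₁, τ, hx₁, hτ⟩ := exists_isGen hL x
  obtain ⟨V₂, τ', hx₂, hτ'⟩ := exists_isGen hL' x
  exact ⟨V₁ ⊓ V₂, _, _, ⟨hx₁, hx₂⟩, hτ.res inf_le_left, hτ'.res inf_le_right⟩

theorem isInvertible_tensorMod {A B : X.Modules} (hA : PicF.IsInvertible A)
    (hB : PicF.IsInvertible B) : PicF.IsInvertible (CohB1.tensorMod A B) := by
  refine isInvertible_of_isGen _ (fun x => ?_)
  obtain ⟨V, α, β, hxV, hα, hβ⟩ := exists_isGen_pair hA hB x
  exact ⟨V, _, hxV, isGen_tm hα hβ⟩

theorem isInvertible_tensorPow {L : X.Modules} (hL : PicF.IsInvertible L) (n : ℕ) :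
    PicF.IsInvertible (CohB1.tensorPow L n) := by
  refine isInvertible_of_isGen _ (fun x => ?_)
  obtain ⟨V, τ, hxV, hτ⟩ := exists_isGen hL x
  exact ⟨V, _, hxV, isGen_lp hτ n⟩

/-- On an open with a generator, `X_s` is the basic open of the coefficient of `s`. -/
theorem genLocus_inf_of_isGen {M : X.Modules} (s : Coh.structureModule X ⟶ M) {V : X.Opens}
    {μ : Γ(M, V)} (hμ : IsGen M V μ) (a : Γ(X, V)) (ha : sv s V = a • μ) :
    CohB1.genLocus M s ⊓ V = X.basicOpen a := by
  refine Groth.Agent.H22.GenLocus.genLocus_inf_eq_basicOpen M s μ hμ (le_refl V) a ?_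
  rw [res_self']
  exact ha

theorem mem_genLocus_iff_of_isGen {M : X.Modules} (s : Coh.structureModule X ⟶ M) {V : X.Opens}
    {μ : Γ(M, V)} (hμ : IsGen M V μ) (a : Γ(X, V)) (ha : sv s V = a • μ) (x : X) (hx : x ∈ V) :
    x ∈ CohB1.genLocus M s ↔ x ∈ X.basicOpen a := by
  rw [← genLocus_inf_of_isGen s hμ a ha]
  exact ⟨fun h => ⟨h, hx⟩, fun h => h.1⟩

/-- `X_{f ⊗ g} = X_f ∩ X_g` for sections of invertible modules. -/
theorem genLocus_tmulHom {L L' : X.Modules} (hL : PicF.IsInvertible L)
    (hL' : PicF.IsInvertible L') (f : Coh.structureModule X ⟶ L)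
    (g : Coh.structureModule X ⟶ L') :
    CohB1.genLocus (CohB1.tensorMod L L') (SecTwist.tmulHom f g) =
      CohB1.genLocus L f ⊓ CohB1.genLocus L' g := by
  ext x
  obtain ⟨V, α, β, hxV, hα, hβ⟩ := exists_isGen_pair hL hL' x
  obtain ⟨a, ha⟩ := hα.self.2 (sv f V)
  obtain ⟨b, hb⟩ := hβ.self.2 (sv g V)
  have ha' : a • α = sv f V := ha
  have hb' : b • β = sv g V := hb
  have h3 : sv (SecTwist.tmulHom f g) V = (a * b) • tm L L' α β := by
    have h4 : sv (SecTwist.tmulHom f g) V = tm L L' (sv f V) (sv g V) :=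
      SecTwist.val_tmulHom f g V
    rw [h4, ← ha', ← hb', tm_smul_left, tm_smul_right, mul_smul]
  have e1 := mem_genLocus_iff_of_isGen (SecTwist.tmulHom f g) (isGen_tm hα hβ) (a * b) h3 x hxV
  have e2 := mem_genLocus_iff_of_isGen f hα a ha'.symm x hxV
  have e3 := mem_genLocus_iff_of_isGen g hβ b hb'.symm x hxV
  rw [X.basicOpen_mul] at e1
  show x ∈ CohB1.genLocus (CohB1.tensorMod L L') (SecTwist.tmulHom f g) ↔
    x ∈ CohB1.genLocus L f ⊓ CohB1.genLocus L' g
  rw [e1]
  exact ⟨fun h => ⟨e2.mpr h.1, e3.mpr h.2⟩, fun h => ⟨e2.mp h.1, e3.mp h.2⟩⟩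

end Groth.Agent.H18.TensorGen
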