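import Groth.Agent.H18.AmpleTensor
import Groth.Agent.H8.InvRestrict

/-!
# Restriction along open immersions commutes with tensor products of invertible modules;
# restriction of ample modules
-/

set_option autoImplicit false
universe u

noncomputable section

namespace Groth.Agent.H18.RestrictTensor

open CategoryTheory CategoryTheory.Limits AlgebraicGeometry Opposite TopologicalSpace
open AlgebraicGeometry.Scheme.Modules
open Groth.Agent.H8 (res_res res_smul ringRes_res section_eq_of_cover)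
open Groth.Agent.H18.SecTw Groth.Agent.H18.TensorGen Groth.Agent.H18.TensorPowIso

variable {X Y : Scheme.{u}} (j : Y ⟶ X) [IsOpenImmersion j]

/-- Retyping: a section of `M` over `j(V)` as a section of `M|_j` over `V`. -/
def toRes (M : X.Modules) {V : Y.Opens} (μ : Γ(M, j ''ᵁ V)) : Γ(M.restrict j, V) := μ

/-- Retyping: a section of `M|_j` over `V` as a section of `M` over `j(V)`. -/
def ofRes (M : X.Modules) {V : Y.Opens} (μ : Γ(M.restrict j, V)) : Γ(M, j ''ᵁ V) := μ

theorem smul_toRes (M : X.Modules) {V : Y.Opens} (r : Γ(Y, V)) (μ : Γ(M, j ''ᵁ V)) :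
    r • toRes j M μ = toRes j M (((j.appIso V).inv r) • μ) := rfl

theorem isGen_restrict (M : X.Modules) {V : Y.Opens} {μ : Γ(M, j ''ᵁ V)}
    (h : IsGen M (j ''ᵁ V) μ) : IsGen (M.restrict j) V (toRes j M μ) := by
  intro V' hV'
  have hb := h (j ''ᵁ V') (j.image_mono hV')
  have he : (fun r : Γ(Y, V') => r • (M.restrict j).presheaf.map (homOfLE hV').op
      (toRes j M μ)) =
      (fun r' : Γ(X, j ''ᵁ V') => toRes j M
        (r' • M.presheaf.map (homOfLE (j.image_mono hV')).op μ)) ∘
        (fun r : Γ(Y, V') => (j.appIso V').inv r) := by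
    funext r
    rfl
  rw [he]
  exact hb.comp (ConcreteCategory.bijective_of_isIso (j.appIso V').inv)

theorem isGen_of_restrict (M : X.Modules) {V : Y.Opens} {μ : Γ(M.restrict j, V)}
    (h : IsGen (M.restrict j) V μ) : IsGen M (j ''ᵁ V) (ofRes j M μ) := by
  intro W hW
  have hWeq : j ''ᵁ (j ⁻¹ᵁ W) = W := by
    rw [j.image_preimage_eq_opensRange_inf]
    exact inf_eq_right.mpr (hW.trans (j.image_le_opensRange V))
  have hle : j ⁻¹ᵁ W ≤ V := fun z hz => by
    have h1 : z ∈ j ⁻¹ᵁ (j ''ᵁ V) := hW hz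
    rwa [j.preimage_image_eq] at h1
  obtain ⟨W', hW'V, rfl⟩ : ∃ W' : Y.Opens, W' ≤ V ∧ j ''ᵁ W' = W := ⟨_, hle, hWeq⟩
  have hb := h W' hW'V
  have he : (fun r' : Γ(X, j ''ᵁ W') => r' • M.presheaf.map (homOfLE hW).op (ofRes j M μ)) =
      (fun r : Γ(Y, W') => ofRes j M (r • (M.restrict j).presheaf.map (homOfLE hW'V).op μ)) ∘
        (fun r' : Γ(X, j ''ᵁ W') => (j.appIso W').hom r') := by
    funext r'
    show r' • M.presheaf.map (homOfLE hW).op (ofRes j M μ) =
      ((j.appIso W').inv ((j.appIso W').hom r')) • M.presheaf.map (homOfLE hW).op (ofRes j M μ)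
    rw [Iso.hom_inv_id_apply]
  rw [he]
  exact hb.comp (ConcreteCategory.bijective_of_isIso (j.appIso W').hom)

theorem tripleSys_restrict {A B : X.Modules} (hA : PicF.IsInvertible (A.restrict j))
    (hB : PicF.IsInvertible (B.restrict j)) :
    TripleSys (A.restrict j) (B.restrict j) ((CohB1.tensorMod A B).restrict j)
      (fun V α β γ => IsGen A (j ''ᵁ V) (ofRes j A α) ∧ IsGen B (j ''ᵁ V) (ofRes j B β) ∧
        γ = toRes j _ (tm A B (ofRes j A α) (ofRes j B β))) where
  gen := by
    rintro V α β γ ⟨hα, hβ, rfl⟩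
    exact ⟨isGen_restrict j A hα, isGen_restrict j B hβ, isGen_restrict j _ (isGen_tm hα hβ)⟩
  res := by
    rintro V W h α β γ ⟨hα, hβ, rfl⟩
    refine ⟨hα.res (j.image_mono h), hβ.res (j.image_mono h), ?_⟩
    exact tm_res A B (j.image_mono h) (ofRes j A α) (ofRes j B β)
  cover := by
    intro y
    obtain ⟨V, α, β, hyV, hα, hβ⟩ := exists_isGen_pair hA hB y
    exact ⟨V, α, β, _, hyV, isGen_of_restrict j A hα, isGen_of_restrict j B hβ, rfl⟩
  compat := by
    rintro V α α' β β' γ γ' u v ⟨hα, hβ, rfl⟩ ⟨hα', hβ', rfl⟩ hu hv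
    have hu' : ofRes j A α' = ((j.appIso V).inv u) • ofRes j A α := hu
    have hv' : ofRes j B β' = ((j.appIso V).inv v) • ofRes j B β := hv
    show toRes j _ (tm A B (ofRes j A α') (ofRes j B β')) =
      (u * v) • toRes j _ (tm A B (ofRes j A α) (ofRes j B β))
    rw [hu', hv', tm_smul_left, tm_smul_right, ← mul_smul, smul_toRes, map_mul]

/-- `A|_j ⊗ B|_j ≅ (A ⊗ B)|_j`. -/
theorem nonempty_restrict_tensorMod {A B : X.Modules} (hA : PicF.IsInvertible (A.restrict j))
    (hB : PicF.IsInvertible (B.restrict j)) :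
    Nonempty (CohB1.tensorMod (A.restrict j) (B.restrict j) ≅
      (CohB1.tensorMod A B).restrict j) :=
  nonempty_iso_of_tripleSys (tripleSys_restrict j hA hB)

/-- `(L^n)|_j ≅ (L|_j)^n`. -/
theorem nonempty_restrict_tensorPow {L : X.Modules} (hL : PicF.IsInvertible (L.restrict j))
    (n : ℕ) :
    Nonempty ((CohB1.tensorPow L n).restrict j ≅ CohB1.tensorPow (L.restrict j) n) := by
  induction n with
  | zero => exact ⟨restrictUnitIso j⟩
  | succ n ih =>
    obtain ⟨e⟩ := ih
    have hn : PicF.IsInvertible ((CohB1.tensorPow L n).restrict j) :=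
      AmpleIso.isInvertible_of_iso e.symm (isInvertible_tensorPow hL n)
    obtain ⟨e1⟩ := nonempty_restrict_tensorMod j hn hL
    obtain ⟨e2⟩ := TensorModIso.nonempty_tensorMod_congr e (Iso.refl (L.restrict j))
    exact ⟨e1.symm ≪≫ e2⟩

/-- The restriction of a global section. -/
def resHom {M : X.Modules} (s : Coh.structureModule X ⟶ M) :
    Coh.structureModule Y ⟶ M.restrict j :=
  (restrictUnitIso j).inv ≫ (restrictFunctor j).map s

theorem bijective_resHom_app_iff {M : X.Modules} (s : Coh.structureModule X ⟶ M)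
    (V : Y.Opens) :
    Function.Bijective ((resHom j s).app V) ↔ Function.Bijective (s.app (j ''ᵁ V)) := by
  have h1 : Function.Bijective ((restrictUnitIso j).inv.app V) := by
    have h2 : IsIso ((restrictUnitIso j).inv.app V) :=
      (Scheme.Modules.Hom.isIso_iff_isIso_app (φ := (restrictUnitIso j).inv)).mp
        (Iso.isIso_inv (restrictUnitIso j)) V
    exact (ConcreteCategory.isIso_iff_bijective _).mp h2
  constructor
  · intro h
    exact (Function.Bijective.of_comp_iff _ h1).mp h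
  · intro h
    exact h.comp h1

theorem genLocus_resHom {M : X.Modules} (s : Coh.structureModule X ⟶ M) :
    CohB1.genLocus (M.restrict j) (resHom j s) = j ⁻¹ᵁ CohB1.genLocus M s := by
  ext y
  show y ∈ CohB1.genLocus (M.restrict j) (resHom j s) ↔ j y ∈ CohB1.genLocus M s
  rw [Groth.Agent.H22.GenLocus.mem_genLocus_iff, Groth.Agent.H22.GenLocus.mem_genLocus_iff]
  constructor
  · rintro ⟨V, hyV, hV⟩
    refine ⟨j ''ᵁ V, ⟨y, hyV, rfl⟩, fun W hW => ?_⟩
    have hWeq : j ''ᵁ (j ⁻¹ᵁ W) = W := by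
      rw [j.image_preimage_eq_opensRange_inf]
      exact inf_eq_right.mpr (hW.trans (j.image_le_opensRange V))
    have hle : j ⁻¹ᵁ W ≤ V := fun z hz => by
      have h1 : z ∈ j ⁻¹ᵁ (j ''ᵁ V) := hW hz
      rwa [j.preimage_image_eq] at h1
    have h2 := (bijective_resHom_app_iff j s (j ⁻¹ᵁ W)).mp (hV _ hle)
    rw [hWeq] at h2
    exact h2
  · rintro ⟨W, hyW, hW⟩
    refine ⟨j ⁻¹ᵁ W, hyW, fun V hV => ?_⟩
    refine (bijective_resHom_app_iff j s V).mpr (hW _ ?_)
    calc j ''ᵁ V ≤ j ''ᵁ (j ⁻¹ᵁ W) := j.image_mono hV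
      _ ≤ W := by
        rw [j.image_preimage_eq_opensRange_inf]
        exact inf_le_right

/-- The restriction of an ample module to a quasi-compact open subscheme is ample. -/
theorem isAmple_restrict [CompactSpace Y] {L : X.Modules} (hL : CohB1.IsAmple L) :
    CohB1.IsAmple (L.restrict j) := by
  have hB := AmpleBasis.isBasis_affine_of_isAmple hL
  have hinv := Groth.Agent.H8.isInvertible_restrict j hL.1
  refine ⟨hinv, inferInstance, fun y => ?_⟩
  obtain ⟨U', ⟨haff, n, s, rfl⟩, hys, hle⟩ :=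
    Opens.isBasis_iff_nbhd.mp hB (show j y ∈ j.opensRange from ⟨y, rfl⟩)
  obtain ⟨ρ⟩ := nonempty_restrict_tensorPow j hinv (n + 1)
  have hg : CohB1.genLocus _ (resHom j s ≫ ρ.hom) = j ⁻¹ᵁ CohB1.genLocus _ s := by
    rw [TwistAmple.genLocus_comp_iso, genLocus_resHom]
  refine ⟨n, resHom j s ≫ ρ.hom, ?_, ?_⟩
  · rw [hg]
    exact hys
  · rw [hg, ← Scheme.Hom.isAffineOpen_iff_of_isOpenImmersion j,
      j.image_preimage_eq_opensRange_inf, inf_eq_right.mpr hle]
    exact haff

/-- Ampleness descends along an isomorphism. -/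
theorem isAmple_of_restrict_isIso [IsIso j] {L : X.Modules}
    (h : CohB1.IsAmple (L.restrict j)) : CohB1.IsAmple L := by
  have : CompactSpace Y := h.2.1
  have : CompactSpace X := j.homeomorph.compactSpace
  have h1 := isAmple_restrict (inv j) h
  have e : (L.restrict j).restrict (inv j) ≅ L :=
    ((restrictFunctorComp (inv j) j).app L).symm ≪≫
      (restrictFunctorCongr (IsIso.inv_hom_id j)).app L ≪≫ restrictFunctorId.app L
  exact AmpleIso.isAmple_of_iso e h1

end Groth.Agent.H18.RestrictTensor
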