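import Groth.Agent.H18.TensorPowIso
import Groth.Agent.H8.QCohPushLocal
import Groth.Agent.S7390
import Groth.Agent.S9814

/-!
# Ample invertible modules: the opens `X_s` form a basis (EGA II 4.5.2), quasi-affine schemes
-/

set_option autoImplicit false
universe u

noncomputable section

namespace Groth.Agent.H18.AmpleBasis

open CategoryTheory CategoryTheory.Limits AlgebraicGeometry Opposite TopologicalSpace
open Groth.Agent.H8 (res_res res_smul ringRes_res section_eq_of_cover)
open Groth.Agent.H18.SecTw Groth.Agent.H18.TensorGen Groth.Agent.H18.TensorPowIso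

variable {X : Scheme.{u}}

/-- An invertible module is quasi-coherent. -/
theorem isQuasicoherent_of_isInvertible {L : X.Modules} (hL : PicF.IsInvertible L) :
    L.IsQuasicoherent := by
  have hO := Groth.Agent.H8.isQuasicoherent_structureModule' X
  have hloc : ∀ x : X, ∃ (W : X.Opens) (τ : Γ(L, W)), x ∈ W ∧ IsAffineOpen W ∧ IsGen L W τ := by
    intro x
    obtain ⟨V, τ, hxV, hτ⟩ := exists_isGen hL x
    obtain ⟨W, hWaff, hxW, hWV⟩ := Opens.isBasis_iff_nbhd.mp X.isBasis_affineOpens hxV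
    exact ⟨W, _, hxW, hWaff, hτ.res hWV⟩
  choose W τ hxW hWaff hτ using hloc
  refine Groth.Agent.H8.isQuasicoherent_of_sections_cover L W ?_ hWaff ?_ ?_
  · exact IsOpenCover.mk (top_le_iff.mp fun x _ => Opens.mem_iSup.mpr ⟨x, hxW x⟩)
  · intro x a y
    obtain ⟨r, hr⟩ := ((hτ x) _ (X.basicOpen_le a)).2 y
    have hr' : r • L.presheaf.map (homOfLE (X.basicOpen_le a)).op (τ x) = y := hr
    obtain ⟨n, r', hn⟩ := Groth.Agent.H8.exists_smul_eq_res (hWaff x) (Coh.structureModule X) a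
      (show Γ(Coh.structureModule X, X.basicOpen a) from r)
    have hn' : (X.presheaf.map (homOfLE (X.basicOpen_le a)).op a) ^ n * r =
        X.presheaf.map (homOfLE (X.basicOpen_le a)).op (show Γ(X, W x) from r') := hn
    refine ⟨n, (show Γ(X, W x) from r') • τ x, ?_⟩
    rw [res_smul, ← hr', ← mul_smul, hn']
  · intro x a t ht
    obtain ⟨r, hr⟩ := (hτ x).self.2 t
    have hr' : r • τ x = t := hr
    have h0 : X.presheaf.map (homOfLE (X.basicOpen_le a)).op r = 0 := by
      apply ((hτ x) _ (X.basicOpen_le a)).1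
      show X.presheaf.map (homOfLE (X.basicOpen_le a)).op r •
          L.presheaf.map (homOfLE (X.basicOpen_le a)).op (τ x) =
        (0 : Γ(X, X.basicOpen a)) • L.presheaf.map (homOfLE (X.basicOpen_le a)).op (τ x)
      rw [zero_smul, ← res_smul, hr', ht]
    obtain ⟨n, hn⟩ := Groth.Agent.H8.exists_smul_eq_zero (hWaff x) (Coh.structureModule X) a
      (show Γ(Coh.structureModule X, W x) from r) h0
    have hn' : a ^ n * r = 0 := hn
    refine ⟨n, ?_⟩
    rw [← hr', ← mul_smul, hn', zero_smul]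

/-- A scheme carrying an ample invertible module is quasi-separated. -/
theorem quasiSeparatedSpace_of_isAmple {L : X.Modules} (hL : CohB1.IsAmple L) :
    QuasiSeparatedSpace X := by
  obtain ⟨hinv, -, hcov⟩ := hL
  have h := Groth.Agent.S7390.result X (fun x => by
    obtain ⟨n, s, hxs, haff⟩ := hcov x
    exact ⟨_, s, isInvertible_tensorPow hinv (n + 1), hxs, haff⟩)
  rw [quasiSeparatedSpace_iff_quasiSeparated]
  exact ⟨inferInstance⟩

/-- EGA II 4.5.2 (a) ⇒ (b'): for ample `L` the affine opens `X_s` form a basis. -/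
theorem isBasis_affine_of_isAmple {L : X.Modules} (hL : CohB1.IsAmple L) :
    Opens.IsBasis {U : X.Opens | IsAffineOpen U ∧
      ∃ (n : ℕ) (s : Coh.structureModule X ⟶ CohB1.tensorPow L (n + 1)),
        U = CohB1.genLocus _ s} := by
  have hqs := quasiSeparatedSpace_of_isAmple hL
  obtain ⟨hinv, hc, hcov⟩ := hL
  rw [Opens.isBasis_iff_nbhd]
  intro U x hxU
  obtain ⟨n, s, hxs, haff⟩ := hcov x
  obtain ⟨f, hfle, hxf⟩ := haff.exists_basicOpen_le ⟨x, hxU⟩ hxs
  obtain ⟨m, s', hs'⟩ := exists_section_genLocus_eq_basicOpen hinv s f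
  refine ⟨CohB1.genLocus _ s', ⟨?_, m, s', rfl⟩, ?_, ?_⟩
  · rw [hs']
    exact haff.basicOpen f
  · rw [hs']
    exact hxf
  · rw [hs']
    exact hfle

theorem isBasis_of_isAmple {L : X.Modules} (hL : CohB1.IsAmple L) :
    Opens.IsBasis {U : X.Opens |
      ∃ (n : ℕ) (s : Coh.structureModule X ⟶ CohB1.tensorPow L (n + 1)),
        U = CohB1.genLocus _ s} := by
  have h := isBasis_affine_of_isAmple hL
  rw [Opens.isBasis_iff_nbhd] at h ⊢
  intro U x hxU
  obtain ⟨U', ⟨-, n, s, rfl⟩, hx, hle⟩ := h hxU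
  exact ⟨_, ⟨n, s, rfl⟩, hx, hle⟩

theorem isAmple_of_isBasis [CompactSpace X] {L : X.Modules} (hL : PicF.IsInvertible L)
    (hB : Opens.IsBasis {U : X.Opens |
      ∃ (n : ℕ) (s : Coh.structureModule X ⟶ CohB1.tensorPow L (n + 1)),
        U = CohB1.genLocus _ s}) : CohB1.IsAmple L := by
  refine ⟨hL, inferInstance, fun x => ?_⟩
  have h := Groth.Agent.S9814.result X L hL hB
  obtain ⟨U', ⟨haff, n, s, rfl⟩, hx, -⟩ :=
    Opens.isBasis_iff_nbhd.mp h (show x ∈ (⊤ : X.Opens) from trivial)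
  exact ⟨n, s, hx, haff⟩

/-- On a quasi-affine scheme every invertible module is ample. -/
theorem isAmple_of_isQuasiAffine [X.IsQuasiAffine] {L : X.Modules} (hL : PicF.IsInvertible L) :
    CohB1.IsAmple L := by
  refine ⟨hL, inferInstance, fun x => ?_⟩
  have hLq := isQuasicoherent_of_isInvertible hL
  obtain ⟨V, τ, hxV, hτ⟩ := exists_isGen hL x
  obtain ⟨U', ⟨f, hfaff, rfl⟩, hxf, hfV⟩ :=
    Opens.isBasis_iff_nbhd.mp (Scheme.IsQuasiAffine.isBasis_basicOpen X) hxV
  obtain ⟨k, σ, hσ⟩ := Groth.Agent.H8.exists_smul_eq_res_of_qcqs L (W := ⊤) isCompact_univ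
    isQuasiSeparated_univ f (L.presheaf.map (homOfLE hfV).op τ)
  have hO := Groth.Agent.H8.isInvertible_structureModule X
  have h1 := genLocus_tmulHom hO hL (QAffAmple.mulHom f) (secHom L σ)
  rw [QAffAmple.genLocus_mulHom] at h1
  have hle : X.basicOpen f ≤ CohB1.genLocus L (secHom L σ) := by
    intro p hp
    have hgen := hτ.res hfV
    have hsv : sv (secHom L σ) (X.basicOpen f) =
        (X.presheaf.map (homOfLE (X.basicOpen_le f)).op f) ^ k •
          L.presheaf.map (homOfLE hfV).op τ := by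
      rw [sv_secHom]
      exact hσ
    rw [mem_genLocus_iff_of_isGen (secHom L σ) hgen _ hsv p hp]
    have hu : IsUnit ((X.presheaf.map (homOfLE (X.basicOpen_le f)).op f) ^ k) :=
      (X.toRingedSpace.isUnit_res_basicOpen f).pow k
    rw [X.basicOpen_of_isUnit hu]
    exact hp
  have h2 : CohB1.genLocus (CohB1.tensorMod (Coh.structureModule X) L)
      (SecTwist.tmulHom (QAffAmple.mulHom f) (secHom L σ)) = X.basicOpen f :=
    h1.trans (inf_eq_left.mpr hle)
  have h3 : x ∈ CohB1.genLocus (CohB1.tensorMod (Coh.structureModule X) L)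
      (SecTwist.tmulHom (QAffAmple.mulHom f) (secHom L σ)) := by
    rw [h2]
    exact hxf
  have h4 : IsAffineOpen (CohB1.genLocus (CohB1.tensorMod (Coh.structureModule X) L)
      (SecTwist.tmulHom (QAffAmple.mulHom f) (secHom L σ))) := by
    rw [h2]
    exact hfaff
  exact ⟨0, SecTwist.tmulHom (QAffAmple.mulHom f) (secHom L σ), h3, h4⟩

/-- `L` is ample iff `L^n` is ample (`n > 0`). -/
theorem isAmple_tensorPow_iff [CompactSpace X] {L : X.Modules} (hL : PicF.IsInvertible L)
    {n : ℕ} (hn : 0 < n) : CohB1.IsAmple L ↔ CohB1.IsAmple (CohB1.tensorPow L n) := by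
  obtain ⟨n', rfl⟩ := Nat.exists_eq_succ_of_ne_zero hn.ne'
  constructor
  · rintro ⟨-, -, hcov⟩
    refine ⟨isInvertible_tensorPow hL (n' + 1), inferInstance, fun x => ?_⟩
    obtain ⟨m, s, hxs, haff⟩ := hcov x
    obtain ⟨e1⟩ := nonempty_tensorPow_tensorPow hL (m + 1) (n' + 1)
    obtain ⟨e2⟩ := nonempty_tensorPow_congr L (Nat.mul_comm (m + 1) (n' + 1))
    obtain ⟨e3⟩ := nonempty_tensorPow_tensorPow hL (n' + 1) (m + 1)
    have hg := genLocus_powHom_succ (isInvertible_tensorPow hL (m + 1)) s n'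
    refine ⟨m, SecTwist.powHom s (n' + 1) ≫ (e1 ≪≫ e2 ≪≫ e3.symm).hom, ?_, ?_⟩
    · rw [TwistAmple.genLocus_comp_iso, hg]
      exact hxs
    · rw [TwistAmple.genLocus_comp_iso, hg]
      exact haff
  · rintro ⟨-, -, hcov⟩
    refine ⟨hL, inferInstance, fun x => ?_⟩
    obtain ⟨m, s, hxs, haff⟩ := hcov x
    obtain ⟨e1⟩ := nonempty_tensorPow_tensorPow hL (n' + 1) (m + 1)
    obtain ⟨e2⟩ := nonempty_tensorPow_congr L
      (show (n' + 1) * (m + 1) = ((n' + 1) * (m + 1) - 1) + 1 from by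
        have : 0 < (n' + 1) * (m + 1) := Nat.mul_pos (Nat.succ_pos _) (Nat.succ_pos _)
        omega)
    refine ⟨(n' + 1) * (m + 1) - 1, s ≫ (e1 ≪≫ e2).hom, ?_, ?_⟩
    · rw [TwistAmple.genLocus_comp_iso]
      exact hxs
    · rw [TwistAmple.genLocus_comp_iso]
      exact haff

end Groth.Agent.H18.AmpleBasis
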