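import Groth.Agent.H18.TensorGen

/-!
# `s` generates `M` over the whole of `X_s`

* `isGen_sv_genLocus`: for `s : O ⟶ M`, the section named by `s` generates `M` over `X_s`
  (the supremum defining `X_s` is attained).
* `exists_pair`: for two sections `A B : O ⟶ M` the intersection `X_A ∩ X_B` is the basic open of
  the function `B / A` on `X_A`, which is inverse to `A / B` there.
-/

set_option autoImplicit false
universe u

open CategoryTheory AlgebraicGeometry Opposite TopologicalSpace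
open Groth.Agent.H8 (res_res res_smul ringRes_res section_eq_of_cover)
open Groth.Agent.H18.SecTw Groth.Agent.H18.TensorGen

namespace Groth.Agent.H18.GenLocusGen

variable {X : Scheme.{u}}

theorem app_eq_smul_sv {M : X.Modules} (s : Coh.structureModule X ⟶ M) (V : X.Opens)
    (r : Γ(X, V)) :
    s.app V (show Γ(Coh.structureModule X, V) from r) = r • sv s V := by
  have h3 := Scheme.Modules.Hom.app_smul s r
    (show Γ(Coh.structureModule X, V) from (1 : Γ(X, V)))
  have h4 : s.app V (show Γ(Coh.structureModule X, V) from r) =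
      s.app V (r • (show Γ(Coh.structureModule X, V) from (1 : Γ(X, V)))) :=
    congrArg (s.app V) (mul_one r).symm
  rw [h4, h3]
  rfl

theorem bijective_smul_sv_iff {M : X.Modules} (s : Coh.structureModule X ⟶ M) (V : X.Opens) :
    Function.Bijective (fun r : Γ(X, V) => r • sv s V) ↔ Function.Bijective (s.app V) := by
  have he : (fun r : Γ(X, V) => r • sv s V) = fun r : Γ(X, V) =>
      s.app V (show Γ(Coh.structureModule X, V) from r) := by
    funext r
    exact (app_eq_smul_sv s V r).symm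
  rw [he]
  exact Iff.rfl

/-- Local bijectivity around points of `X_s`. -/
theorem exists_nhd_bijective {M : X.Modules} (s : Coh.structureModule X ⟶ M) (x : X)
    (hx : x ∈ CohB1.genLocus M s) :
    ∃ U : X.Opens, x ∈ U ∧ ∀ V : X.Opens, V ≤ U →
      Function.Bijective (fun r : Γ(X, V) => r • sv s V) := by
  obtain ⟨U, hxU, hU⟩ := (Groth.Agent.H22.GenLocus.mem_genLocus_iff M s x).mp hx
  exact ⟨U, hxU, fun V hV => (bijective_smul_sv_iff s V).mpr (hU V hV)⟩

theorem injective_smul_sv {M : X.Modules} (s : Coh.structureModule X ⟶ M) (V : X.Opens)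
    (hV : V ≤ CohB1.genLocus M s) : Function.Injective (fun r : Γ(X, V) => r • sv s V) := by
  intro r r' hrr
  have hrr' : r • sv s V = r' • sv s V := hrr
  have key : (show Γ(Coh.structureModule X, V) from r) =
      (show Γ(Coh.structureModule X, V) from r') := by
    refine section_eq_of_cover (Coh.structureModule X) _ _ (fun x hx => ?_)
    obtain ⟨U, hxU, hU⟩ := exists_nhd_bijective s x (hV hx)
    refine ⟨U ⊓ V, inf_le_right, ⟨hxU, hx⟩, ?_⟩
    have h1 := congrArg (M.presheaf.map (homOfLE (inf_le_right : U ⊓ V ≤ V)).op) hrr'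
    rw [res_smul, res_smul, sv_res] at h1
    exact (hU (U ⊓ V) inf_le_left).1 h1
  exact key

theorem surjective_smul_sv {M : X.Modules} (s : Coh.structureModule X ⟶ M) (V : X.Opens)
    (hV : V ≤ CohB1.genLocus M s) : Function.Surjective (fun r : Γ(X, V) => r • sv s V) := by
  intro m
  have hloc : ∀ x : V, ∃ (U : X.Opens), x.1 ∈ U ∧ ∀ V' : X.Opens, V' ≤ U →
      Function.Bijective (fun r : Γ(X, V') => r • sv s V') := fun x =>
    exists_nhd_bijective s x.1 (hV x.2)
  choose U hxU hU using hloc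
  have hex : ∀ x : V, ∃ r : Γ(X, U x ⊓ V),
      r • sv s (U x ⊓ V) = M.presheaf.map (homOfLE (inf_le_right : U x ⊓ V ≤ V)).op m :=
    fun x => (hU x (U x ⊓ V) inf_le_left).2 _
  choose ρ hρ using hex
  have hcompat : TopCat.Presheaf.IsCompatible (Coh.structureModule X).presheaf
      (fun x : V => U x ⊓ V)
      (fun x => (show Γ(Coh.structureModule X, U x ⊓ V) from ρ x)) := by
    intro x y
    change X.presheaf.map (homOfLE (inf_le_left : (U x ⊓ V) ⊓ (U y ⊓ V) ≤ U x ⊓ V)).op (ρ x) =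
      X.presheaf.map (homOfLE (inf_le_right : (U x ⊓ V) ⊓ (U y ⊓ V) ≤ U y ⊓ V)).op (ρ y)
    apply (hU x ((U x ⊓ V) ⊓ (U y ⊓ V)) (inf_le_left.trans inf_le_left)).1
    have h1 := congrArg (M.presheaf.map
      (homOfLE (inf_le_left : (U x ⊓ V) ⊓ (U y ⊓ V) ≤ U x ⊓ V)).op) (hρ x)
    have h2 := congrArg (M.presheaf.map
      (homOfLE (inf_le_right : (U x ⊓ V) ⊓ (U y ⊓ V) ≤ U y ⊓ V)).op) (hρ y)
    rw [res_smul, sv_res, res_res] at h1 h2
    exact h1.trans h2.symm
  have hcover : V ≤ iSup (fun x : V => U x ⊓ V) :=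
    fun x hx => Opens.mem_iSup.mpr ⟨⟨x, hx⟩, hxU ⟨x, hx⟩, hx⟩
  obtain ⟨r, hr, -⟩ := TopCat.Sheaf.existsUnique_gluing'
    (F := ⟨(Coh.structureModule X).presheaf, (Coh.structureModule X).isSheaf⟩)
    (fun x : V => U x ⊓ V) V (fun x => homOfLE inf_le_right) hcover _ hcompat
  refine ⟨(show Γ(X, V) from r), ?_⟩
  refine section_eq_of_cover M _ _ (fun x hx => ?_)
  refine ⟨U ⟨x, hx⟩ ⊓ V, inf_le_right, ⟨hxU ⟨x, hx⟩, hx⟩, ?_⟩
  have h1 : X.presheaf.map (homOfLE (inf_le_right : U ⟨x, hx⟩ ⊓ V ≤ V)).op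
      (show Γ(X, V) from r) = ρ ⟨x, hx⟩ := hr ⟨x, hx⟩
  change M.presheaf.map (homOfLE (inf_le_right : U ⟨x, hx⟩ ⊓ V ≤ V)).op
    ((show Γ(X, V) from r) • sv s V) = _
  rw [res_smul, sv_res, h1, hρ]

/-- The section named by `s` generates `M` freely over `X_s`. -/
theorem isGen_sv_genLocus {M : X.Modules} (s : Coh.structureModule X ⟶ M) :
    IsGen M (CohB1.genLocus M s) (sv s (CohB1.genLocus M s)) := by
  intro V' h
  rw [sv_res]
  exact ⟨injective_smul_sv s V' h, surjective_smul_sv s V' h⟩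

/-- For two sections `A`, `B` of `M`: `X_A ∩ X_B` is the basic open of `φ = B / A` on `X_A`, and
`φ` is inverse to `ψ = A / B` on the intersection. -/
theorem exists_pair {M : X.Modules} (A B : Coh.structureModule X ⟶ M) {Ua Ub : X.Opens}
    (hA : CohB1.genLocus M A = Ua) (hB : CohB1.genLocus M B = Ub) :
    ∃ (φ : Γ(X, Ua)) (ψ : Γ(X, Ub)), Ua ⊓ Ub = X.basicOpen φ ∧
      X.presheaf.map (homOfLE (inf_le_left : Ua ⊓ Ub ≤ Ua)).op φ *
        X.presheaf.map (homOfLE (inf_le_right : Ua ⊓ Ub ≤ Ub)).op ψ = 1 := by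
  subst hA
  subst hB
  have hGa := isGen_sv_genLocus A
  have hGb := isGen_sv_genLocus B
  obtain ⟨φ, hφ⟩ := hGa.self.2 (sv B (CohB1.genLocus M A))
  obtain ⟨ψ, hψ⟩ := hGb.self.2 (sv A (CohB1.genLocus M B))
  have hφ' : φ • sv A (CohB1.genLocus M A) = sv B (CohB1.genLocus M A) := hφ
  have hψ' : ψ • sv B (CohB1.genLocus M B) = sv A (CohB1.genLocus M B) := hψ
  refine ⟨φ, ψ, ?_, ?_⟩
  · rw [inf_comm]
    exact genLocus_inf_of_isGen B hGa φ hφ'.symm
  · have h1 := congrArg (M.presheaf.map (homOfLE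
      (inf_le_left : CohB1.genLocus M A ⊓ CohB1.genLocus M B ≤ CohB1.genLocus M A)).op) hφ'
    have h2 := congrArg (M.presheaf.map (homOfLE
      (inf_le_right : CohB1.genLocus M A ⊓ CohB1.genLocus M B ≤ CohB1.genLocus M B)).op) hψ'
    rw [res_smul, sv_res, sv_res] at h1 h2
    have h3 := hGa (CohB1.genLocus M A ⊓ CohB1.genLocus M B) inf_le_left
    apply h3.1
    change _ • M.presheaf.map _ (sv A (CohB1.genLocus M A)) =
      (1 : Γ(X, CohB1.genLocus M A ⊓ CohB1.genLocus M B)) • M.presheaf.map _ (sv A _)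
    rw [sv_res, one_smul, mul_comm, mul_smul, h1, h2]

end Groth.Agent.H18.GenLocusGen
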