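import Mathlib

set_option autoImplicit false
universe u
open CategoryTheory CategoryTheory.Limits AlgebraicGeometry Opposite TopologicalSpace

namespace Groth.Agent.H18.SepCover

variable {X : Scheme.{u}}

theorem homOfLE_appTop_topIso {W V : X.Opens} (e : W ≤ V) :
    (X.homOfLE e).appTop ≫ W.topIso.hom = V.topIso.hom ≫ X.presheaf.map (homOfLE e).op := by
  have e' : W ≤ (𝟙 X) ⁻¹ᵁ V := e
  have h : (Scheme.Hom.resLE (𝟙 X) V W e').appTop =
      V.topIso.hom ≫ (𝟙 X : X ⟶ X).appLE V W e' ≫ W.topIso.inv :=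
    Scheme.Hom.resLE_app_top (f := 𝟙 X) (U := V) (V := W) (e := e')
  have h2 : Scheme.Hom.resLE (𝟙 X) V W e' = X.homOfLE e := Scheme.Hom.resLE_id e
  rw [h2] at h
  have h3 : (𝟙 X : X ⟶ X).appLE V W e' = X.presheaf.map (homOfLE e).op := by
    simp only [Scheme.Hom.appLE, Scheme.Hom.id_app]
    rfl
  rw [h, h3]
  simp only [Category.assoc, Iso.inv_hom_id, Category.comp_id]

theorem exists_mul_pow_eq_res {V W : X.Opens} (hV : IsAffineOpen V) (hWV : W ≤ V) (φ : Γ(X, V))
    (hW : W = X.basicOpen φ) (w : Γ(X, W)) :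
    ∃ (n : ℕ) (x : Γ(X, V)), w * (X.presheaf.map (homOfLE hWV).op φ) ^ n =
      X.presheaf.map (homOfLE hWV).op x := by
  subst hW
  haveI := hV.isLocalization_basicOpen φ
  obtain ⟨n, a, h⟩ := IsLocalization.Away.surj φ w
  exact ⟨n, a, h⟩

theorem topIso_inv_res {W V : X.Opens} (e : W ≤ V) (x : Γ(X, V)) :
    W.topIso.inv (X.presheaf.map (homOfLE e).op x) = (X.homOfLE e).appTop (V.topIso.inv x) := by
  have h := homOfLE_appTop_topIso e
  have h2 := congrArg (fun f => f (V.topIso.inv x)) (congrArg (fun f => (ConcreteCategory.hom f : _ → _)) h)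
  simp only [CommRingCat.comp_apply] at h2
  rw [Iso.inv_hom_id_apply] at h2
  rw [← h2, Iso.hom_inv_id_apply]

theorem isSeparated_of_affine_cover {ι : Type u} (U : ι → X.Opens)
    (hU : IsOpenCover U) (hU' : ∀ i, IsAffineOpen (U i))
    (h : ∀ i j, ∃ (φ : Γ(X, U i)) (ψ : Γ(X, U j)), U i ⊓ U j = X.basicOpen φ ∧
      X.presheaf.map (homOfLE (inf_le_left : U i ⊓ U j ≤ U i)).op φ *
        X.presheaf.map (homOfLE (inf_le_right : U i ⊓ U j ≤ U j)).op ψ = 1) :
    X.IsSeparated := by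
  refine ⟨?_⟩
  rw [IsSeparated.isSeparated_eq_diagonal_isClosedImmersion]
  have hP := IsClosedImmersion.hasAffineProperty.{u}
  refine (@HasAffineProperty.diagonal_iff @IsClosedImmersion.{u} _ hP _ _ _ _).mp ?_
  haveI := @HasAffineProperty.isLocal_affineProperty @IsClosedImmersion.{u} _ hP
  let 𝒰 := X.openCoverOfIsOpenCover U hU
  haveI : ∀ i, IsAffine (𝒰.X i) := fun i => hU' i
  refine AffineTargetMorphismProperty.diagonal_of_openCover_source (terminal.from X) 𝒰
    (fun i j => ?_)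
  obtain ⟨φ, ψ, hW, hφψ⟩ := h i j
  change IsAffine (pullback (U i).ι (U j).ι) ∧
    Function.Surjective (pullback.mapDesc (U i).ι (U j).ι (terminal.from X)).appTop
  have hWaff : IsAffineOpen (U i ⊓ U j) := by rw [hW]; exact (hU' i).basicOpen φ
  have hq : Set.range (U i ⊓ U j).ι = Set.range (pullback.fst (U i).ι (U j).ι ≫ (U i).ι) := by
    rw [IsOpenImmersion.range_pullback_to_base_of_left, Scheme.Opens.range_ι,
      Scheme.Opens.range_ι, Scheme.Opens.range_ι]
    rfl
  let e : (U i ⊓ U j).toScheme ≅ pullback (U i).ι (U j).ι :=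
    IsOpenImmersion.isoOfRangeEq (U i ⊓ U j).ι (pullback.fst (U i).ι (U j).ι ≫ (U i).ι) hq
  have he : e.hom ≫ pullback.fst (U i).ι (U j).ι ≫ (U i).ι = (U i ⊓ U j).ι :=
    IsOpenImmersion.isoOfRangeEq_hom_fac _ _ hq
  have haff : IsAffine (pullback (U i).ι (U j).ι) := by
    haveI : IsAffine (U i ⊓ U j).toScheme := hWaff
    exact IsAffine.of_isIso e.inv
  refine ⟨haff, ?_⟩
  set g := pullback.mapDesc (U i).ι (U j).ι (terminal.from X) with hg
  have hg1 : g ≫ pullback.fst _ _ = pullback.fst _ _ :=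
    (pullback.lift_fst _ _ _).trans (Category.comp_id _)
  have hg2 : g ≫ pullback.snd _ _ = pullback.snd _ _ :=
    (pullback.lift_snd _ _ _).trans (Category.comp_id _)
  have hk1 : (e.hom ≫ g) ≫ pullback.fst _ _ = X.homOfLE (inf_le_left : U i ⊓ U j ≤ U i) := by
    rw [← cancel_mono (U i).ι, Scheme.homOfLE_ι, ← he, Category.assoc, Category.assoc,
      reassoc_of% hg1]
  have hk2 : (e.hom ≫ g) ≫ pullback.snd _ _ = X.homOfLE (inf_le_right : U i ⊓ U j ≤ U j) := by
    rw [← cancel_mono (U j).ι, Scheme.homOfLE_ι, ← he, Category.assoc, Category.assoc,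
      reassoc_of% hg2, pullback.condition]
  have hksurj : Function.Surjective (e.hom ≫ g).appTop := by
    intro z'
    obtain ⟨n, x, hx⟩ := exists_mul_pow_eq_res (hU' i) inf_le_left φ hW ((U i ⊓ U j).topIso.hom z')
    have hw : (U i ⊓ U j).topIso.hom z' =
        X.presheaf.map (homOfLE (inf_le_left : U i ⊓ U j ≤ U i)).op x *
          (X.presheaf.map (homOfLE (inf_le_right : U i ⊓ U j ≤ U j)).op ψ) ^ n := by
      rw [← hx, mul_assoc, ← mul_pow, hφψ, one_pow, mul_one]
    set p1 := pullback.fst ((U i).ι ≫ terminal.from X) ((U j).ι ≫ terminal.from X) with hp1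
    set p2 := pullback.snd ((U i).ι ≫ terminal.from X) ((U j).ι ≫ terminal.from X) with hp2
    refine ⟨p1.appTop ((U i).topIso.inv x) * (p2.appTop ((U j).topIso.inv ψ)) ^ n, ?_⟩
    have h1 : (e.hom ≫ g).appTop (p1.appTop ((U i).topIso.inv x)) =
        (X.homOfLE (inf_le_left : U i ⊓ U j ≤ U i)).appTop ((U i).topIso.inv x) := by
      rw [← hk1, Scheme.Hom.comp_appTop]
      rfl
    have h2 : (e.hom ≫ g).appTop (p2.appTop ((U j).topIso.inv ψ)) =
        (X.homOfLE (inf_le_right : U i ⊓ U j ≤ U j)).appTop ((U j).topIso.inv ψ) := by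
      rw [← hk2, Scheme.Hom.comp_appTop]
      rfl
    rw [map_mul, map_pow, h1, h2, ← topIso_inv_res, ← topIso_inv_res, ← map_pow, ← map_mul, ← hw,
      Iso.hom_inv_id_apply]
  intro z
  obtain ⟨y, hy⟩ := hksurj (e.hom.appTop z)
  refine ⟨y, ?_⟩
  have hinj : Function.Injective e.hom.appTop := by
    intro a b hab
    have h1 : e.hom.appTop ≫ e.inv.appTop = 𝟙 _ := by
      rw [← Scheme.Hom.comp_appTop, e.inv_hom_id]
      rfl
    have h2 := congrArg e.inv.appTop hab
    have h3 : ∀ c, e.inv.appTop (e.hom.appTop c) = c := fun c =>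
      congrArg (fun f => (ConcreteCategory.hom f : _ → _) c) h1
    rw [h3, h3] at h2
    exact h2
  apply hinj
  rw [← hy, Scheme.Hom.comp_appTop]
  rfl

end Groth.Agent.H18.SepCover
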