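import Groth.Agent.H18.GlobGen
import Groth.Agent.H18.TensorAssoc
import Groth.Agent.H18.TwistAmple

/-!
# EGA II 4.5.5: twists of a coherent module by high powers of an ample module are generated by
global sections
-/

set_option autoImplicit false
universe u

noncomputable section

namespace Groth.Agent.H18.AmpleGG

open CategoryTheory AlgebraicGeometry Opposite TopologicalSpace
open Groth.Agent.H18.SecTw Groth.Agent.H18.TensorGen Groth.Agent.H18.TensorSec
open Groth.Agent.H18.GlobGen Groth.Agent.H18.TensorPowIso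

variable {X : Scheme.{u}}

theorem exists_section_pow {L : X.Modules} (hL : PicF.IsInvertible L) {a : ℕ}
    (s : Coh.structureModule X ⟶ CohB1.tensorPow L a) (c m : ℕ) (hm : a * (c + 1) = m) :
    ∃ s' : Coh.structureModule X ⟶ CohB1.tensorPow L m,
      CohB1.genLocus _ s' = CohB1.genLocus _ s := by
  obtain ⟨e₁⟩ := nonempty_tensorPow_tensorPow hL a (c + 1)
  obtain ⟨e₂⟩ := nonempty_tensorPow_congr L hm
  refine ⟨SecTwist.powHom s (c + 1) ≫ (e₁ ≪≫ e₂).hom, ?_⟩
  rw [Groth.Agent.H18.TwistAmple.genLocus_comp_iso,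
    genLocus_powHom_succ (isInvertible_tensorPow hL a)]

/-- EGA II 4.5.5 in pointwise form, up to an isomorphism of the twist. -/
theorem exists_iso_ggAt [CompactSpace X] [QuasiSeparatedSpace X] {L : X.Modules}
    (hL : CohB1.IsAmple L) (F : X.Modules) (hF : Coh.IsCoh F) :
    ∃ n₀ : ℕ, ∀ n : ℕ, n₀ ≤ n → ∃ G : X.Modules,
      Nonempty (CohB1.tensorMod F (CohB1.tensorPow L n) ≅ G) ∧ ∀ x : X, GGAt G x := by
  obtain ⟨hinv, -, hpts⟩ := hL
  choose n s hx haff using hpts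
  obtain ⟨ι, hι⟩ := CompactSpace.elim_nhds_subcover
    (fun x => ((CohB1.genLocus _ (s x) : X.Opens) : Set X))
    (fun x => (CohB1.genLocus _ (s x)).2.mem_nhds (hx x))
  obtain ⟨m, hmdef⟩ : ∃ m : ℕ, m = ∏ j ∈ ι, (n j + 1) := ⟨_, rfl⟩
  have hm : 0 < m := by
    rw [hmdef]
    exact Finset.prod_pos (fun j _ => Nat.succ_pos _)
  have hdiv : ∀ j ∈ ι, ∃ c : ℕ, (n j + 1) * (c + 1) = m := by
    intro j hj
    obtain ⟨d, hd⟩ := Finset.dvd_prod_of_mem (fun j => n j + 1) hj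
    rw [← hmdef] at hd
    have hd0 : 0 < d := by
      rcases Nat.eq_zero_or_pos d with h0 | h0
      · rw [h0, Nat.mul_zero] at hd
        omega
      · exact h0
    exact ⟨d - 1, by rw [Nat.sub_add_cancel hd0]; exact hd.symm⟩
  have hsec : ∀ j : X, ∃ s' : Coh.structureModule X ⟶ CohB1.tensorPow L m,
      j ∈ ι → CohB1.genLocus _ s' = CohB1.genLocus _ (s j) := by
    intro j
    by_cases hj : j ∈ ι
    · obtain ⟨c, hc⟩ := hdiv j hj
      obtain ⟨s', h⟩ := exists_section_pow hinv (s j) c m hc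
      exact ⟨s', fun _ => h⟩
    · exact ⟨0, fun h => absurd h hj⟩
  choose s' hs' using hsec
  have hM : ∀ (j : X) (p : ℕ), ∃ k₀ : ℕ, j ∈ ι → ∀ k : ℕ, k₀ ≤ k →
      ∀ x ∈ CohB1.genLocus _ (s j), GGAt (CohB1.tensorMod
        (CohB1.tensorMod F (CohB1.tensorPow L p))
        (CohB1.tensorPow (CohB1.tensorPow L m) k)) x := by
    intro j p
    by_cases hj : j ∈ ι
    · have haff' : IsAffineOpen (CohB1.genLocus _ (s' j)) := by
        rw [hs' j hj]
        exact haff j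
      obtain ⟨k₀, hk₀⟩ := exists_ggAt_twist (isInvertible_tensorPow hinv m) (s' j) haff'
        (CohB1.tensorMod F (CohB1.tensorPow L p))
        (TensorCoh.isCoh_tensorMod hF (isInvertible_tensorPow hinv p))
      refine ⟨k₀, fun _ k hk x hxj => hk₀ k hk x ?_⟩
      rw [hs' j hj]
      exact hxj
    · exact ⟨0, fun h => absurd h hj⟩
  choose K₀ hK₀ using hM
  obtain ⟨K, hKdef⟩ : ∃ K : ℕ, K = ι.sup (fun j => (Finset.range m).sup (fun p => K₀ j p)) :=
    ⟨_, rfl⟩
  refine ⟨m * K, fun nn hnn => ?_⟩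
  obtain ⟨p, hpdef⟩ : ∃ p : ℕ, p = nn % m := ⟨_, rfl⟩
  obtain ⟨k, hkdef⟩ : ∃ k : ℕ, k = nn / m := ⟨_, rfl⟩
  have hpk : p + m * k = nn := by
    rw [hpdef, hkdef]
    exact Nat.mod_add_div nn m
  have hp : p < m := by
    rw [hpdef]
    exact Nat.mod_lt _ hm
  have hk : K ≤ k := by
    rw [hkdef]
    exact (Nat.le_div_iff_mul_le hm).mpr (by rw [mul_comm]; exact hnn)
  refine ⟨CohB1.tensorMod (CohB1.tensorMod F (CohB1.tensorPow L p))
    (CohB1.tensorPow (CohB1.tensorPow L m) k), ?_, ?_⟩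
  · obtain ⟨e1⟩ := nonempty_tensorPow_add hinv p (m * k)
    obtain ⟨e2⟩ := nonempty_tensorPow_tensorPow hinv m k
    obtain ⟨e3⟩ := nonempty_tensorPow_congr L hpk
    obtain ⟨e4⟩ := TensorModIso.nonempty_tensorMod_congr (Iso.refl (CohB1.tensorPow L p)) e2
    obtain ⟨e6⟩ := TensorModIso.nonempty_tensorMod_congr (Iso.refl F) (e4 ≪≫ e1 ≪≫ e3)
    obtain ⟨e7⟩ := TensorAssoc.nonempty_tensorMod_assoc F (CohB1.tensorPow L p)
      (CohB1.tensorPow (CohB1.tensorPow L m) k) (isInvertible_tensorPow hinv p)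
      (isInvertible_tensorPow (isInvertible_tensorPow hinv m) k)
    exact ⟨(e7 ≪≫ e6).symm⟩
  · intro x
    obtain ⟨j, hj, hxj⟩ : ∃ j ∈ ι, x ∈ CohB1.genLocus _ (s j) := by
      have hxu : x ∈ ⋃ j ∈ ι, ((CohB1.genLocus _ (s j) : X.Opens) : Set X) := by
        rw [hι]
        trivial
      obtain ⟨j, hj, hxj⟩ := Set.mem_iUnion₂.mp hxu
      exact ⟨j, hj, hxj⟩
    refine hK₀ j p hj k ?_ x hxj
    have h1 : K₀ j p ≤ (Finset.range m).sup (fun p => K₀ j p) :=
      Finset.le_sup (f := fun p => K₀ j p) (Finset.mem_range.mpr hp)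
    have h2 : (Finset.range m).sup (fun p => K₀ j p) ≤ K := by
      rw [hKdef]
      exact Finset.le_sup (f := fun j => (Finset.range m).sup (fun p => K₀ j p)) hj
    exact (h1.trans h2).trans hk

end Groth.Agent.H18.AmpleGG
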