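import Groth.Agent.H18.ProjUPSym
import Groth.Agent.H18.AmpleBasis
import Groth.Agent.H8.QCohQcqs

/-!
# Global two-term relations between sections of an invertible module on an affine scheme

On an affine scheme `X`, for an invertible module `L` with global sections `s i`, the transition
functions `s j / s i` on `X_{s i}` are locally of the form `b / f ^ N` with a *global* relation
`f ^ N • s j = b • s i`.  Consequently the opens `X_{s i}` and the transition functions are
determined by the global two-term relations among the `s i`.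
-/

set_option autoImplicit false
universe u

open CategoryTheory AlgebraicGeometry TopologicalSpace Opposite
open Groth.Agent.H8 (res_res res_smul ringRes_res section_eq_of_cover app_res)
open Groth.Agent.H18.SecTw Groth.Agent.H18.TensorGen Groth.Agent.H18.ProjUPSym

namespace Groth.Agent.H18.AffineRel

variable {X : Scheme.{u}}

/-- Equality of functions can be checked on an open cover (pointwise form). -/
lemma ring_section_eq_of_cover {W : X.Opens} (a a' : Γ(X, W))
    (h : ∀ x ∈ W, ∃ (V : X.Opens) (hVW : V ≤ W), x ∈ V ∧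
      X.presheaf.map (homOfLE hVW).op a = X.presheaf.map (homOfLE hVW).op a') : a = a' := by
  refine TopCat.Presheaf.section_ext X.sheaf W a a' (fun x hxW => ?_)
  obtain ⟨V, hVW, hxV, hV⟩ := h x hxW
  have h1 := TopCat.Presheaf.germ_res_apply X.presheaf (homOfLE hVW) x hxV a
  have h2 := TopCat.Presheaf.germ_res_apply X.presheaf (homOfLE hVW) x hxV a'
  exact h1.symm.trans ((congrArg _ hV).trans h2)

section One

variable (L : X.Modules) {I : Type*} (s : I → Γ(L, ⊤))

theorem res_s (k : I) {W V : X.Opens} (hW : W ≤ V) :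
    L.presheaf.map (homOfLE (le_top : W ≤ ⊤)).op (s k) =
      L.presheaf.map (homOfLE hW).op (sv (σ L s k) V) := by
  rw [sv_σ, res_res]

/-- A global relation `u • s j = v • s i` computes the transition function `s j / s i`. -/
theorem coeff_of_global_rel (i j : I) (u v : Γ(X, ⊤)) (hrel : u • s j = v • s i)
    (W : X.Opens) (hW : W ≤ Us L s i) :
    X.presheaf.map (homOfLE (le_top : W ≤ ⊤)).op u * X.presheaf.map (homOfLE hW).op (as L s i j) =
      X.presheaf.map (homOfLE (le_top : W ≤ ⊤)).op v := by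
  apply ((isGen_sv L s i) W hW).1
  show (X.presheaf.map (homOfLE (le_top : W ≤ ⊤)).op u *
      X.presheaf.map (homOfLE hW).op (as L s i j)) •
        L.presheaf.map (homOfLE hW).op (sv (σ L s i) (Us L s i)) =
    X.presheaf.map (homOfLE (le_top : W ≤ ⊤)).op v •
      L.presheaf.map (homOfLE hW).op (sv (σ L s i) (Us L s i))
  rw [mul_smul, ← res_smul, as_spec, ← res_s L s j hW, ← res_s L s i hW, ← res_smul, ← res_smul,
    hrel]

theorem le_Us_of_global_rel (i j : I) (f : Γ(X, ⊤)) (N : ℕ) (b : Γ(X, ⊤))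
    (hrel : f ^ N • s j = b • s i) (hD : X.basicOpen f ≤ Us L s j) :
    X.basicOpen f ≤ Us L s i := by
  have h1 := coeff_of_global_rel L s j i b (f ^ N) hrel.symm (X.basicOpen f) hD
  have hu : IsUnit (X.presheaf.map (homOfLE (le_top : X.basicOpen f ≤ ⊤)).op (f ^ N)) := by
    rw [map_pow]
    exact (RingedSpace.isUnit_res_basicOpen X.toRingedSpace f).pow N
  rw [← h1] at hu
  have hu2 : IsUnit (X.presheaf.map (homOfLE hD).op (as L s j i)) := isUnit_of_mul_isUnit_right hu
  have h2 := Scheme.basicOpen_of_isUnit X hu2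
  rw [Scheme.basicOpen_res, as_basicOpen] at h2
  intro x hx
  rw [← h2] at hx
  exact hx.2.1

variable [IsAffine X]

/-- Locally on `X_{s i}`, the transition function `s j / s i` is `b / f ^ N` with a global relation
`f ^ N • s j = b • s i`. -/
theorem exists_global_rel (hL : PicF.IsInvertible L) (i j : I) (x : X) (V : X.Opens) (hxV : x ∈ V)
    (hV : V ≤ Us L s i) :
    ∃ (f : Γ(X, ⊤)) (_ : X.basicOpen f ≤ V) (N : ℕ) (b : Γ(X, ⊤)), x ∈ X.basicOpen f ∧
      f ^ N • s j = b • s i := by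
  obtain ⟨f, hfV, hxf⟩ := (isAffineOpen_top X).exists_basicOpen_le ⟨x, hxV⟩ trivial
  have := (isAffineOpen_top X).isLocalization_basicOpen f
  obtain ⟨N₀, b₀, hb₀⟩ := IsLocalization.Away.surj f
    (X.presheaf.map (homOfLE (hfV.trans hV)).op (as L s i j))
  have hb₀' : X.presheaf.map (homOfLE (hfV.trans hV)).op (as L s i j) *
      X.presheaf.map (homOfLE (le_top : X.basicOpen f ≤ ⊤)).op f ^ N₀ =
      X.presheaf.map (homOfLE (le_top : X.basicOpen f ≤ ⊤)).op b₀ := hb₀
  have ht : L.presheaf.map (homOfLE (X.basicOpen_le f)).op (f ^ N₀ • s j - b₀ • s i) = 0 := by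
    rw [map_sub, res_smul, res_smul, sub_eq_zero]
    have e1 : (homOfLE (X.basicOpen_le f)) = (homOfLE (le_top : X.basicOpen f ≤ ⊤)) := rfl
    rw [e1, res_s L s j (hfV.trans hV), res_s L s i (hfV.trans hV), ← as_spec L s i j, res_smul,
      ← mul_smul, ← hb₀', map_pow, mul_comm]
  have := AmpleBasis.isQuasicoherent_of_isInvertible hL
  obtain ⟨K, hK⟩ := Groth.Agent.H8.exists_pow_smul_eq_zero_of_isCompact L
    (isAffineOpen_top X).isCompact f _ ht
  refine ⟨f, hfV, K + N₀, f ^ K * b₀, hxf, ?_⟩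
  rw [smul_sub, sub_eq_zero, ← mul_smul, ← mul_smul, ← pow_add] at hK
  exact hK

end One

section Two

variable [IsAffine X] (L₁ L₂ : X.Modules) {I : Type*} (s₁ : I → Γ(L₁, ⊤)) (s₂ : I → Γ(L₂, ⊤))
  (h12 : ∀ (i j : I) (u v : Γ(X, ⊤)), u • s₁ j = v • s₁ i → u • s₂ j = v • s₂ i)

include h12 in
theorem Us_le (hL₁ : PicF.IsInvertible L₁) (hcov₂ : ∀ x : X, ∃ j, x ∈ Us L₂ s₂ j) (i : I) :
    Us L₁ s₁ i ≤ Us L₂ s₂ i := by
  intro x hx
  obtain ⟨j, hj⟩ := hcov₂ x
  obtain ⟨f, hf, N, b, hxf, hrel⟩ := exists_global_rel L₁ s₁ hL₁ i j x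
    (Us L₁ s₁ i ⊓ Us L₂ s₂ j) ⟨hx, hj⟩ inf_le_left
  exact le_Us_of_global_rel L₂ s₂ i j f N b (h12 i j _ _ hrel) (hf.trans inf_le_right) hxf

include h12 in
theorem as_eq (hL₁ : PicF.IsInvertible L₁) (i j : I) (hle : Us L₁ s₁ i ≤ Us L₂ s₂ i) :
    as L₁ s₁ i j = X.presheaf.map (homOfLE hle).op (as L₂ s₂ i j) := by
  refine ring_section_eq_of_cover _ _ (fun x hx => ?_)
  obtain ⟨f, hf, N, b, hxf, hrel⟩ := exists_global_rel L₁ s₁ hL₁ i j x (Us L₁ s₁ i) hx le_rfl
  have h1 := coeff_of_global_rel L₁ s₁ i j _ _ hrel (X.basicOpen f) hf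
  have h2 := coeff_of_global_rel L₂ s₂ i j _ _ (h12 i j _ _ hrel) (X.basicOpen f) (hf.trans hle)
  have hu : IsUnit (X.presheaf.map (homOfLE (le_top : X.basicOpen f ≤ ⊤)).op (f ^ N)) := by
    rw [map_pow]
    exact (RingedSpace.isUnit_res_basicOpen X.toRingedSpace f).pow N
  refine ⟨X.basicOpen f, hf, hxf, ?_⟩
  rw [ringRes_res]
  exact hu.mul_left_cancel (h1.trans h2.symm)

end Two

end Groth.Agent.H18.AffineRel
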