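import Mathlib

/-!
# Morphisms to the spectrum of an Artinian local ring: properties checked on the closed fibre
(pieces (RS), (RL) of helper63's squad for S5339/S5340)
-/

set_option autoImplicit false
universe u
open CategoryTheory CategoryTheory.Limits AlgebraicGeometry

namespace Groth.Agent.H18.ArtinResidue

variable {A : Type u} [CommRing A] [IsArtinianRing A] [IsLocalRing A]

instance instIsPrimeAsIdeal (y : Spec (CommRingCat.of A)) :
    (y.asIdeal : Ideal A).IsPrime := y.isPrime

/-- Every prime of an Artinian local ring is the maximal ideal. -/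
theorem asIdeal_eq (y : Spec (CommRingCat.of A)) :
    y.asIdeal = IsLocalRing.maximalIdeal A := by
  have : (y.asIdeal : Ideal A).IsMaximal := IsArtinianRing.isMaximal_of_isPrime y.asIdeal
  exact IsLocalRing.eq_maximalIdeal inferInstance

/-- The map from the residue field of `A` to the residue field at a point of `Spec A`. -/
noncomputable def θ (y : Spec (CommRingCat.of A)) :
    IsLocalRing.ResidueField A →+* y.asIdeal.ResidueField :=
  Ideal.Quotient.lift (IsLocalRing.maximalIdeal A) (algebraMap A y.asIdeal.ResidueField)
    (fun a ha => by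
      rw [Ideal.algebraMap_residueField_eq_zero, asIdeal_eq y]
      exact ha)

theorem θ_comp (y : Spec (CommRingCat.of A)) :
    (θ y).comp (IsLocalRing.residue A) = algebraMap A y.asIdeal.ResidueField := by
  refine RingHom.ext fun a => ?_
  rfl

/-- `Spec κ(y) ⟶ Spec k`. -/
noncomputable def e (y : Spec (CommRingCat.of A)) :
    Spec ((Spec (CommRingCat.of A)).residueField y) ⟶
      Spec (CommRingCat.of (IsLocalRing.ResidueField A)) :=
  Spec.map (Scheme.Spec.residueFieldIso (CommRingCat.of A) y).inv ≫ Spec.map (CommRingCat.ofHom (θ y))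

theorem e_comp (y : Spec (CommRingCat.of A)) :
    e y ≫ Spec.map (CommRingCat.ofHom (IsLocalRing.residue A)) =
      (Spec (CommRingCat.of A)).fromSpecResidueField y := by
  rw [← Scheme.Spec.map_residueFieldIso_inv_eq_fromSpecResidueField, e, Category.assoc, ← Spec.map_comp,
    ← CommRingCat.ofHom_comp, θ_comp]

/-- A property stable under base change holds for all fibres if it holds for the base change to
the residue field. -/
theorem fiber_of_residue (P : MorphismProperty Scheme.{u}) [P.IsStableUnderBaseChange]
    {X : Scheme.{u}} (f : X ⟶ Spec (CommRingCat.of A))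
    (h : P (pullback.snd f (Spec.map (CommRingCat.ofHom (IsLocalRing.residue A)))))
    (y : Spec (CommRingCat.of A)) : P (f.fiberToSpecResidueField y) := by
  have key : ∀ g : Spec ((Spec (CommRingCat.of A)).residueField y) ⟶ Spec (CommRingCat.of A),
      g = e y ≫ Spec.map (CommRingCat.ofHom (IsLocalRing.residue A)) →
      P (pullback.snd f g) := by
    rintro _ rfl
    have h1 : P (pullback.snd (pullback.snd f
        (Spec.map (CommRingCat.ofHom (IsLocalRing.residue A)))) (e y)) :=
      P.pullback_snd _ _ h
    have h2 := pullbackLeftPullbackSndIso_hom_snd f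
      (Spec.map (CommRingCat.ofHom (IsLocalRing.residue A))) (e y)
    have h3 : pullback.snd f (e y ≫ Spec.map (CommRingCat.ofHom (IsLocalRing.residue A))) =
        (pullbackLeftPullbackSndIso f
          (Spec.map (CommRingCat.ofHom (IsLocalRing.residue A))) (e y)).inv ≫
          pullback.snd _ _ := by
      rw [← h2, Iso.inv_hom_id_assoc]
    rw [h3]
    exact (P.cancel_left_of_respectsIso _ _).mpr h1
  exact key _ (e_comp y).symm

/-- (RS) smoothness from the closed fibre. -/
theorem smooth_of_residue
    {X : Scheme.{u}} (f : X ⟶ Spec (CommRingCat.of A)) [Flat f] [LocallyOfFinitePresentation f]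
    (h : Smooth (pullback.snd f (Spec.map (CommRingCat.ofHom (IsLocalRing.residue A))))) :
    Smooth f :=
  Smooth.of_smooth_fiberToSpecResidueField f (fun y => fiber_of_residue @Smooth f h y)

/-- (RS) local quasi-finiteness from the closed fibre. -/
theorem lqf_of_residue
    {X : Scheme.{u}} (f : X ⟶ Spec (CommRingCat.of A))
    (h : LocallyQuasiFinite
      (pullback.snd f (Spec.map (CommRingCat.ofHom (IsLocalRing.residue A))))) :
    LocallyQuasiFinite f :=
  LocallyQuasiFinite.of_fiberToSpecResidueField f
    (fun y => fiber_of_residue @LocallyQuasiFinite f h y)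

/-! ## (RL) locally of finite type from the closed fibre -/

open TensorProduct



theorem isNilpotent_maximalIdeal : IsNilpotent (IsLocalRing.maximalIdeal A) := by
  rw [← IsLocalRing.jacobson_eq_maximalIdeal ⊥]
  · exact IsArtinianRing.isNilpotent_jacobson_bot
  · exact bot_ne_top

/-- nilpotent Nakayama for arbitrary modules -/
theorem eq_top_of_sup_smul_eq_top {M : Type*} [AddCommGroup M] [Module A M]
    {I : Ideal A} (hI : IsNilpotent I) (N : Submodule A M)
    (h : N ⊔ I • (⊤ : Submodule A M) = ⊤) : N = ⊤ := by
  have key : ∀ k : ℕ, N ⊔ (I ^ k) • (⊤ : Submodule A M) = ⊤ := by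
    intro k
    induction k with
    | zero => simp
    | succ k ih =>
      rw [eq_top_iff]
      calc (⊤ : Submodule A M) = N ⊔ I ^ k • (⊤ : Submodule A M) := ih.symm
        _ = N ⊔ I ^ k • (N ⊔ I • (⊤ : Submodule A M)) := by rw [h]
        _ = N ⊔ (I ^ k • N ⊔ I ^ k • (I • (⊤ : Submodule A M))) := by rw [Submodule.smul_sup]
        _ ≤ N ⊔ I ^ (k + 1) • (⊤ : Submodule A M) := by
          refine sup_le le_sup_left (sup_le ?_ ?_)
          · exact le_trans Submodule.smul_le_right le_sup_left
          · rw [← mul_smul, ← pow_succ]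
            exact le_sup_right
  obtain ⟨n, hn⟩ := hI
  have := key n
  rw [hn] at this
  simpa using this



theorem finiteType_of_tensor_residue {B : Type u} [CommRing B] [Algebra A B]
    (h : (Algebra.TensorProduct.includeRight :
      IsLocalRing.ResidueField A →ₐ[A] B ⊗[A] IsLocalRing.ResidueField A).toRingHom.FiniteType) :
    Algebra.FiniteType A B := by
  set k := IsLocalRing.ResidueField A with hk
  -- `B ⊗ k` is of finite type over `A`
  have hT : Algebra.FiniteType A (B ⊗[A] k) := by
    have h1 : (IsLocalRing.residue A).FiniteType :=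
      RingHom.FiniteType.of_surjective _ IsLocalRing.residue_surjective
    have h2 := h.comp h1
    have h3 : (Algebra.TensorProduct.includeRight :
        k →ₐ[A] B ⊗[A] k).toRingHom.comp (IsLocalRing.residue A) = algebraMap A (B ⊗[A] k) := by
      ext a
      exact (Algebra.TensorProduct.includeRight : k →ₐ[A] B ⊗[A] k).commutes a
    rw [h3] at h2
    have h2' : @Algebra.FiniteType A (B ⊗[A] k) _ _ (algebraMap A (B ⊗[A] k)).toAlgebra := h2
    have e : (algebraMap A (B ⊗[A] k)).toAlgebra = (inferInstance : Algebra A (B ⊗[A] k)) :=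
      Algebra.algebra_ext _ _ (fun r => rfl)
    rw [e] at h2'
    exact h2'
  obtain ⟨n, f, hf⟩ := Algebra.FiniteType.iff_quotient_mvPolynomial''.mp hT
  -- `B → B ⊗ k` is surjective
  have hsurj : Function.Surjective
      (Algebra.TensorProduct.includeLeft : B →ₐ[A] B ⊗[A] k) := by
    intro x
    induction x using TensorProduct.induction_on with
    | zero => exact ⟨0, map_zero _⟩
    | tmul b c =>
      obtain ⟨a, rfl⟩ := IsLocalRing.residue_surjective c
      refine ⟨a • b, ?_⟩
      change (a • b) ⊗ₜ[A] (1 : k) = b ⊗ₜ[A] (IsLocalRing.residue A a)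
      rw [TensorProduct.smul_tmul]
      congr 1
      rw [Algebra.smul_def, mul_one]
      rfl
    | add x y hx hy =>
      obtain ⟨x', rfl⟩ := hx
      obtain ⟨y', rfl⟩ := hy
      exact ⟨x' + y', map_add _ _ _⟩
  -- kernel
  have hker : ∀ b : B, (Algebra.TensorProduct.includeLeft : B →ₐ[A] B ⊗[A] k) b = 0 →
      b ∈ (IsLocalRing.maximalIdeal A) • (⊤ : Submodule A B) := by
    intro b hb
    have hb' : b ⊗ₜ[A] (Ideal.Quotient.mk (IsLocalRing.maximalIdeal A) (1 : A)) = 0 := hb
    have := congrArg (TensorProduct.tensorQuotEquivQuotSMul B (IsLocalRing.maximalIdeal A)) hb'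
    rw [TensorProduct.tensorQuotEquivQuotSMul_tmul_mk, one_smul, map_zero] at this
    exact (Submodule.Quotient.mk_eq_zero _).mp this
  -- lift
  choose β hβ using fun i : Fin n => hsurj (f (MvPolynomial.X i))
  let g : MvPolynomial (Fin n) A →ₐ[A] B := MvPolynomial.aeval β
  have hg : (Algebra.TensorProduct.includeLeft : B →ₐ[A] B ⊗[A] k).comp g = f := by
    apply MvPolynomial.algHom_ext
    intro i
    simp [g, hβ]
  have htop : LinearMap.range g.toLinearMap = ⊤ := by
    apply eq_top_of_sup_smul_eq_top (isNilpotent_maximalIdeal (A := A))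
    rw [eq_top_iff]
    intro b _
    obtain ⟨p, hp⟩ := hf ((Algebra.TensorProduct.includeLeft : B →ₐ[A] B ⊗[A] k) b)
    have h0 : (Algebra.TensorProduct.includeLeft : B →ₐ[A] B ⊗[A] k) (b - g p) = 0 := by
      rw [map_sub, ← hp, ← hg]
      simp
    have : b = g p + (b - g p) := by ring
    rw [this]
    exact Submodule.add_mem_sup ⟨p, rfl⟩ (hker _ h0)
  have hgs : Function.Surjective g := by
    intro b
    have : b ∈ LinearMap.range g.toLinearMap := by rw [htop]; trivial
    exact this
  exact Algebra.FiniteType.of_surjective g hgs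


theorem lft_of_residue_aux
    {X : Scheme.{u}} (f : X ⟶ Spec (CommRingCat.of A))
    (h : LocallyOfFiniteType
      (pullback.snd f (Spec.map (CommRingCat.ofHom (IsLocalRing.residue A)))))
    (R : CommRingCat.{u}) (c : Spec R ⟶ X) [IsOpenImmersion c] :
    LocallyOfFiniteType (c ≫ f) := by
  set i := Spec.map (CommRingCat.ofHom (IsLocalRing.residue A)) with hi
  -- the base change of `c ≫ f` is locally of finite type
  have h1 : LocallyOfFiniteType (pullback.snd (c ≫ f) i) := by
    have e := pullbackRightPullbackFstIso_hom_snd f i c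
    have e' : pullback.snd (c ≫ f) i = (pullbackRightPullbackFstIso f i c).inv ≫
        pullback.snd c (pullback.fst f i) ≫ pullback.snd f i := by
      rw [← e, Iso.inv_hom_id_assoc]
    rw [e']
    infer_instance
  -- translate to rings
  let φ : CommRingCat.of A ⟶ R := Spec.preimage (c ≫ f)
  have hφ : Spec.map φ = c ≫ f := Spec.map_preimage _
  let _ : Algebra A R := φ.hom.toAlgebra
  have hφ' : CommRingCat.ofHom (algebraMap A R) = φ := rfl
  have h2 : LocallyOfFiniteType ((pullbackSpecIso A R (IsLocalRing.ResidueField A)).inv ≫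
      pullback.snd _ _) := by
    have : LocallyOfFiniteType (pullback.snd (Spec.map (CommRingCat.ofHom
        (algebraMap A R)))
        (Spec.map (CommRingCat.ofHom (algebraMap A (IsLocalRing.ResidueField A))))) := by
      rw [hφ', hφ]
      exact h1
    infer_instance
  rw [pullbackSpecIso_inv_snd, HasRingHomProperty.Spec_iff (P := @LocallyOfFiniteType)] at h2
  have h3 : Algebra.FiniteType A R := finiteType_of_tensor_residue h2
  rw [← hφ, HasRingHomProperty.Spec_iff (P := @LocallyOfFiniteType)]
  exact h3

set_option backward.isDefEq.respectTransparency.types false in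
theorem lft_of_residue
    {X : Scheme.{u}} (f : X ⟶ Spec (CommRingCat.of A))
    (h : LocallyOfFiniteType
      (pullback.snd f (Spec.map (CommRingCat.ofHom (IsLocalRing.residue A))))) :
    LocallyOfFiniteType f := by
  rw [IsZariskiLocalAtSource.iff_of_openCover (P := @LocallyOfFiniteType)
    X.affineOpenCover.openCover]
  intro j
  exact @lft_of_residue_aux A _ _ _ X f h (X.affineOpenCover.X j) (X.affineOpenCover.f j)
    (X.affineOpenCover.map_prop j)


end Groth.Agent.H18.ArtinResidue
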