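import Mathlib.RingTheory.GradedAlgebra.HomogeneousLocalization
import Mathlib.RingTheory.GradedAlgebra.RingHom
import Mathlib.RingTheory.IsTensorProduct
import Mathlib.Algebra.Category.Ring.Constructions
import Mathlib.CategoryTheory.ConcreteCategory.EpiMono

set_option autoImplicit false
universe u

namespace Groth.Agent.H18.AwayBC

open HomogeneousLocalization TensorProduct

section Generic
variable {R A : Type u} [CommRing R] [CommRing A] [Algebra R A] (𝒜 : ℕ → Submodule R A)
  [GradedAlgebra 𝒜]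

/-- The structure map `R → A_(f)`. -/
noncomputable def baseToAway (f : A) : R →+* Away 𝒜 f :=
  (fromZeroRingHom 𝒜 _).comp (algebraMap R (𝒜 0))

theorem val_baseToAway (f : A) (r : R) :
    (baseToAway 𝒜 f r).val = Localization.mk (algebraMap R A r) 1 := rfl

/-- `A_(f)` as an `R`-algebra. -/
noncomputable def awayAlgebra (f : A) : Algebra R (Away 𝒜 f) := (baseToAway 𝒜 f).toAlgebra

attribute [local instance] awayAlgebra

theorem algebraMap_away (f : A) : algebraMap R (Away 𝒜 f) = baseToAway 𝒜 f := rfl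

variable {𝒜}
variable {n : ℕ} {f : A} (hf : f ∈ 𝒜 n)

theorem mk_zero' (k : ℕ) : Away.mk 𝒜 hf k 0 (zero_mem _) = 0 := by
  apply val_injective
  rw [Away.val_mk, val_zero, Localization.mk_zero]

theorem baseToAway_mul_mk (k : ℕ) (r : R) (a : A) (ha : a ∈ 𝒜 (k • n)) :
    baseToAway 𝒜 f r * Away.mk 𝒜 hf k a ha =
      Away.mk 𝒜 hf k (r • a) (Submodule.smul_mem _ r ha) := by
  apply val_injective
  rw [val_mul, val_baseToAway, Away.val_mk, Away.val_mk, Localization.mk_mul, one_mul,
    Algebra.smul_def]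

include hf in
theorem mem_mul_pow (k m : ℕ) {a : A} (ha : a ∈ 𝒜 (k • n)) : f ^ m * a ∈ 𝒜 ((m + k) • n) := by
  rw [add_smul]
  exact SetLike.mul_mem_graded (SetLike.pow_mem_graded m hf) ha

theorem mk_mul_pow (k m : ℕ) (a : A) (ha : a ∈ 𝒜 (k • n)) :
    Away.mk 𝒜 hf (m + k) (f ^ m * a) (mem_mul_pow hf k m ha) = Away.mk 𝒜 hf k a ha := by
  apply val_injective
  rw [Away.val_mk, Away.val_mk, Localization.mk_eq_mk_iff, Localization.r_iff_exists]
  refine ⟨1, ?_⟩
  simp only [OneMemClass.coe_one, one_mul]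
  rw [pow_add]
  ring

/-- `a ↦ a_{kn}/f^k`. -/
noncomputable def delta (k : ℕ) : A →ₗ[R] Away 𝒜 f where
  toFun a := Away.mk 𝒜 hf k (DirectSum.decompose 𝒜 a (k • n) : A) (SetLike.coe_mem _)
  map_add' a b := by
    apply val_injective
    rw [val_add, Away.val_mk, Away.val_mk, Away.val_mk, Localization.add_mk_self,
      DirectSum.decompose_add, DirectSum.add_apply, Submodule.coe_add]
  map_smul' r a := by
    rw [RingHom.id_apply]
    show _ = baseToAway 𝒜 f r * _
    rw [baseToAway_mul_mk]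
    apply val_injective
    rw [Away.val_mk, Away.val_mk, DirectSum.decompose_smul, DirectSum.smul_apply,
      Submodule.coe_smul]

theorem delta_apply (k : ℕ) (a : A) :
    delta hf k a = Away.mk 𝒜 hf k (DirectSum.decompose 𝒜 a (k • n) : A) (SetLike.coe_mem _) := rfl

theorem delta_of_mem (k : ℕ) {a : A} (ha : a ∈ 𝒜 (k • n)) :
    delta hf k a = Away.mk 𝒜 hf k a ha := by
  apply val_injective
  rw [delta_apply, Away.val_mk, Away.val_mk, DirectSum.decompose_of_mem_same 𝒜 ha]

end Generic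

section BaseChange
variable {R' R B A : Type u} [CommRing R'] [CommRing R] [Algebra R' R]
  [CommRing B] [Algebra R' B] {ℬ : ℕ → Submodule R' B} [GradedAlgebra ℬ]
  [CommRing A] [Algebra R A] [Algebra R' A] [IsScalarTower R' R A] {𝒜 : ℕ → Submodule R A}
  [GradedAlgebra 𝒜] [Algebra B A] [IsScalarTower R' B A] [Algebra.IsPushout R' R B A]
  (φ : ℬ →+*ᵍ 𝒜) (hφA : ∀ b : B, φ b = algebraMap B A b)
  {n : ℕ} {g : B} (hg : g ∈ ℬ n)

attribute [local instance] awayAlgebra

variable (R A) in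
/-- `a ↦ "a_{jn}/g^j"` as a map `A → R ⊗ B_(g)`. -/
noncomputable def Delta (j : ℕ) : A →ₗ[R] R ⊗[R'] Away ℬ g :=
  (Algebra.IsPushout.out (R := R') (S := R) (R' := B) (S' := A)).lift
    ((TensorProduct.mk R' R (Away ℬ g) 1).comp (delta hg j))

include hφA in
theorem Delta_map (j : ℕ) (b : B) : Delta R A hg j (φ b) = 1 ⊗ₜ delta hg j b := by
  rw [hφA]
  exact (Algebra.IsPushout.out (R := R') (S := R) (R' := B) (S' := A)).lift_eq _ b

include hφA in
theorem key (L : R ⊗[R'] Away ℬ g →+* Away 𝒜 (φ g))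
    (hL : ∀ r p, L (r ⊗ₜ p) = baseToAway 𝒜 (φ g) r * Away.map φ g p)
    (t : R ⊗[R'] Away ℬ g) :
    ∃ (k : ℕ) (a : A) (ha : a ∈ 𝒜 (k • n)),
      L t = Away.mk 𝒜 (Graded.map_mem φ hg) k a ha ∧
      ∀ m, Delta R A hg (m + k) (φ g ^ m * a) = t := by
  induction t using TensorProduct.induction_on with
  | zero =>
    exact ⟨0, 0, zero_mem _, by rw [map_zero, mk_zero'], fun m => by rw [mul_zero, map_zero]⟩
  | tmul r p =>
    obtain ⟨k, b, hb, rfl⟩ := Away.mk_surjective ℬ hg p
    refine ⟨k, r • φ b, Submodule.smul_mem _ r (Graded.map_mem φ hb), ?_, fun m => ?_⟩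
    · rw [hL, Away.map_mk, baseToAway_mul_mk]
    · rw [mul_smul_comm, map_smul, ← map_pow, ← map_mul, Delta_map φ hφA hg,
        delta_of_mem hg (m + k) (mem_mul_pow hg k m hb), mk_mul_pow, TensorProduct.smul_tmul',
        smul_eq_mul, mul_one]
  | add t1 t2 h1 h2 =>
    obtain ⟨k1, a1, ha1, e1, d1⟩ := h1
    obtain ⟨k2, a2, ha2, e2, d2⟩ := h2
    have hφg := Graded.map_mem φ hg
    have hm1 : φ g ^ k2 * a1 ∈ 𝒜 ((k1 + k2) • n) := by
      rw [add_comm k1 k2]; exact mem_mul_pow hφg k1 k2 ha1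
    have hm2 : φ g ^ k1 * a2 ∈ 𝒜 ((k1 + k2) • n) := mem_mul_pow hφg k2 k1 ha2
    refine ⟨k1 + k2, φ g ^ k2 * a1 + φ g ^ k1 * a2, add_mem hm1 hm2, ?_, fun m => ?_⟩
    · apply val_injective
      rw [map_add, val_add, e1, e2, Away.val_mk, Away.val_mk, Away.val_mk, Localization.add_mk,
        Localization.mk_eq_mk_iff, Localization.r_iff_exists]
      refine ⟨1, ?_⟩
      simp only [OneMemClass.coe_one, one_mul, Submonoid.coe_mul]
      rw [pow_add]
      ring
    · have q1 : Delta R A hg (m + (k1 + k2)) (φ g ^ (m + k2) * a1) = t1 := by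
        rw [show m + (k1 + k2) = (m + k2) + k1 by omega]; exact d1 (m + k2)
      have q2 : Delta R A hg (m + (k1 + k2)) (φ g ^ (m + k1) * a2) = t2 := by
        rw [show m + (k1 + k2) = (m + k1) + k2 by omega]; exact d2 (m + k1)
      rw [mul_add, map_add, ← mul_assoc, ← mul_assoc, ← pow_add, ← pow_add, q1, q2]

include hφA hg in
theorem L_injective (L : R ⊗[R'] Away ℬ g →+* Away 𝒜 (φ g))
    (hL : ∀ r p, L (r ⊗ₜ p) = baseToAway 𝒜 (φ g) r * Away.map φ g p) :
    Function.Injective L := by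
  rw [injective_iff_map_eq_zero]
  intro t ht
  obtain ⟨k, a, ha, e, d⟩ := key φ hφA hg L hL t
  rw [ht] at e
  have h1 := congrArg val e.symm
  rw [Away.val_mk, val_zero, Localization.mk_eq_mk', IsLocalization.mk'_eq_zero_iff] at h1
  obtain ⟨⟨_, j, rfl⟩, hj⟩ := h1
  have h2 := d j
  rw [show φ g ^ j * a = 0 from hj, map_zero] at h2
  exact h2.symm

include hφA in
theorem L_Delta (L : R ⊗[R'] Away ℬ g →+* Away 𝒜 (φ g))
    (hL : ∀ r p, L (r ⊗ₜ p) = baseToAway 𝒜 (φ g) r * Away.map φ g p) (k : ℕ) (a : A) :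
    L (Delta R A hg k a) = delta (Graded.map_mem φ hg) k a := by
  refine (Algebra.IsPushout.out (R := R') (S := R) (R' := B) (S' := A)).inductionOn a _ ?_ ?_ ?_ ?_
  · rw [map_zero, map_zero, map_zero]
  · intro b
    show L (Delta R A hg k (algebraMap B A b)) = delta _ k (algebraMap B A b)
    rw [← hφA, Delta_map φ hφA hg, hL, map_one, one_mul, delta_apply, Away.map_mk, delta_apply]
    apply val_injective
    rw [Away.val_mk, Away.val_mk, GradedRingHom.map_directSumDecompose]
  · intro r a h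
    have e1 : Delta R A hg k (r • a) =
        algebraMap R (R ⊗[R'] Away ℬ g) r * Delta R A hg k a := by
      rw [map_smul, Algebra.smul_def]
    have e2 : delta (Graded.map_mem φ hg) k (r • a) =
        baseToAway 𝒜 (φ g) r * delta (Graded.map_mem φ hg) k a :=
      (delta (Graded.map_mem φ hg) k).map_smul' r a
    rw [e1, e2, map_mul, h, Algebra.TensorProduct.algebraMap_apply, hL, map_one, mul_one]
    rfl
  · intro a b ha hb
    rw [map_add, map_add, map_add, ha, hb]

include hφA hg in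
theorem L_surjective (L : R ⊗[R'] Away ℬ g →+* Away 𝒜 (φ g))
    (hL : ∀ r p, L (r ⊗ₜ p) = baseToAway 𝒜 (φ g) r * Away.map φ g p) :
    Function.Surjective L := by
  intro q
  obtain ⟨k, a, ha, rfl⟩ := Away.mk_surjective 𝒜 (Graded.map_mem φ hg) q
  exact ⟨Delta R A hg k a, by rw [L_Delta φ hφA hg L hL, delta_of_mem _ k ha]⟩

omit [Algebra.IsPushout R' R B A] in
include hφA in
theorem comm_sq :
    (baseToAway 𝒜 (φ g)).comp (algebraMap R' R) = (Away.map φ g).comp (baseToAway ℬ g) := by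
  apply RingHom.ext
  intro r
  apply val_injective
  rw [RingHom.comp_apply, RingHom.comp_apply, val_baseToAway]
  show _ = (HomogeneousLocalization.map φ _ (baseToAway ℬ g r)).val
  have h1 : baseToAway ℬ g r = HomogeneousLocalization.mk
      ⟨0, algebraMap R' (ℬ 0) r, 1, one_mem _⟩ := rfl
  have h2 : φ (algebraMap R' B r) = algebraMap R A (algebraMap R' R r) := by
    rw [hφA, ← IsScalarTower.algebraMap_apply R' B A, IsScalarTower.algebraMap_apply R' R A]
  rw [h1, HomogeneousLocalization.map_mk, HomogeneousLocalization.val_mk,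
    Localization.mk_eq_mk_iff, Localization.r_iff_exists]
  refine ⟨1, ?_⟩
  simp [h2]

open CategoryTheory in
include hφA hg in
theorem isPushout_away :
    IsPushout (CommRingCat.ofHom (algebraMap R' R)) (CommRingCat.ofHom (baseToAway ℬ g))
      (CommRingCat.ofHom (baseToAway 𝒜 (φ g))) (CommRingCat.ofHom (Away.map φ g)) := by
  have H := CommRingCat.isPushout_tensorProduct R' R (Away ℬ g)
  have hw : CommRingCat.ofHom (algebraMap R' R) ≫ CommRingCat.ofHom (baseToAway 𝒜 (φ g)) =
      CommRingCat.ofHom (algebraMap R' (Away ℬ g)) ≫ CommRingCat.ofHom (Away.map φ g) := by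
    rw [← CommRingCat.ofHom_comp, ← CommRingCat.ofHom_comp, comm_sq φ hφA]
    rfl
  have hinl := H.inl_desc (CommRingCat.ofHom (baseToAway 𝒜 (φ g)))
    (CommRingCat.ofHom (Away.map φ g)) hw
  have hinr := H.inr_desc (CommRingCat.ofHom (baseToAway 𝒜 (φ g)))
    (CommRingCat.ofHom (Away.map φ g)) hw
  set Lc := H.desc (CommRingCat.ofHom (baseToAway 𝒜 (φ g)))
    (CommRingCat.ofHom (Away.map φ g)) hw with hLc
  have hL : ∀ (r : R) (p : Away ℬ g),
      Lc.hom (r ⊗ₜ p) = baseToAway 𝒜 (φ g) r * Away.map φ g p := by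
    intro r p
    have e : (r ⊗ₜ[R'] p : R ⊗[R'] Away ℬ g) = (r ⊗ₜ 1) * (1 ⊗ₜ p) := by
      rw [Algebra.TensorProduct.tmul_mul_tmul, mul_one, one_mul]
    rw [e, map_mul]
    congr 1
    · exact congrArg (fun f => f.hom r) hinl
    · exact congrArg (fun f => f.hom p) hinr
  have hbij : Function.Bijective Lc.hom :=
    ⟨L_injective φ hφA hg _ hL, L_surjective φ hφA hg _ hL⟩
  have hiso : IsIso Lc := (ConcreteCategory.isIso_iff_bijective _).mpr hbij
  refine H.of_iso (Iso.refl _) (Iso.refl _) (Iso.refl _) (asIso Lc) ?_ ?_ ?_ ?_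
  · simp
  · simp only [Iso.refl_hom, Category.comp_id, Category.id_comp]; rfl
  · simpa using hinl
  · simpa using hinr

end BaseChange

end Groth.Agent.H18.AwayBC
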