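import Groth.Agent.H18.ProjUPSymFinal

/-!
# Universal property of `Proj` of a graded ring generated in degree one: uniqueness
-/

set_option autoImplicit false
universe u

open CategoryTheory AlgebraicGeometry TopologicalSpace Opposite
open Groth.Agent.H8 (res_res res_smul ringRes_res section_eq_of_cover app_res)
open Groth.Agent.H18.SecTw Groth.Agent.H18.TensorGen
open Groth.Agent.H18.ToProj Groth.Agent.H18.ToProjGen Groth.Agent.H18.SymScale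
open Groth.Agent.H18.ProjUPSym Groth.Agent.H22.PullGen

namespace Groth.Agent.H18.ProjUPUniq

noncomputable section

section General

variable {X : Scheme.{u}}

/-- A morphism `O_X ⟶ N` is the one attached to its value at `1` over `⊤`. -/
theorem secHom_sv_top {N : X.Modules} (s : Coh.structureModule X ⟶ N) :
    TensorPowIso.secHom N (sv s ⊤) = s := by
  unfold TensorPowIso.secHom
  refine (Equiv.symm_apply_eq _).mpr ?_
  apply Subtype.ext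
  funext V
  exact sv_res s le_top

theorem hom_ext_sv_top {N : X.Modules} (s s' : Coh.structureModule X ⟶ N)
    (h : sv s ⊤ = sv s' ⊤) : s = s' := by
  rw [← secHom_sv_top s, ← secHom_sv_top s', h]

theorem sv_secHom_top (N : X.Modules) (t : Γ(N, ⊤)) : sv (TensorPowIso.secHom N t) ⊤ = t := by
  rw [TensorPowIso.sv_secHom]
  have h : (homOfLE (le_top : (⊤ : X.Opens) ≤ ⊤)).op = 𝟙 (op (⊤ : X.Opens)) := rfl
  rw [h, CategoryTheory.Functor.map_id]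
  rfl

theorem sv_comp {N N' : X.Modules} (s : Coh.structureModule X ⟶ N) (φ : N ⟶ N') (V : X.Opens) :
    sv (s ≫ φ) V = φ.app V (sv s V) := rfl

set_option backward.isDefEq.respectTransparency.types false in
/-- The pullback of a section, evaluated on the whole space. -/
theorem sv_pbSec_top {Y : Scheme.{u}} (f : X ⟶ Y) {N : Y.Modules}
    (s : Coh.structureModule Y ⟶ N) :
    sv (pbSec f s) ⊤ = ProjUP.pullSec f N (sv s ⊤) := by
  obtain ⟨τ, hτ⟩ : ∃ τ, τ = pbSec f s := ⟨_, rfl⟩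
  rw [← hτ]
  have h1 : (Scheme.Modules.pullback f).map s = (pullbackUnitIso f).hom ≫ τ := by
    rw [hτ]
    unfold pbSec
    rw [Iso.hom_inv_id_assoc]
  have h2 := congrArg ((Scheme.Modules.pullbackPushforwardAdjunction f).homEquiv _ _) h1
  rw [Adjunction.homEquiv_naturality_right] at h2
  have h2' : (Scheme.Modules.pullbackPushforwardAdjunction f).homEquiv _ _
      ((Scheme.Modules.pullback f).map s) =
      s ≫ (Scheme.Modules.pullbackPushforwardAdjunction f).unit.app N := by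
    rw [Adjunction.homEquiv_apply]
    exact ((Scheme.Modules.pullbackPushforwardAdjunction f).unit.naturality s).symm
  rw [h2'] at h2
  obtain ⟨υ, hυ⟩ : ∃ υ : Coh.structureModule Y ⟶
      (Scheme.Modules.pushforward f).obj (Coh.structureModule X),
      υ = SheafOfModules.unitToPushforwardObjUnit f.toRingCatSheafHom := ⟨_, rfl⟩
  have h3 : (Scheme.Modules.pullbackPushforwardAdjunction f).homEquiv _ _ (pullbackUnitIso f).hom =
      υ := by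
    rw [hυ]
    exact SheafOfModules.pullbackPushforwardAdjunction_homEquiv_pullbackObjUnitToUnit _
  rw [h3] at h2
  have h4 := congrArg (fun φ : Coh.structureModule Y ⟶
    (Scheme.Modules.pushforward f).obj ((Scheme.Modules.pullback f).obj N) =>
      φ.app ⊤ (show Γ(Coh.structureModule Y, ⊤) from (1 : Γ(Y, ⊤)))) h2
  have h5 : υ.app ⊤ (show Γ(Coh.structureModule Y, ⊤) from (1 : Γ(Y, ⊤))) =
      (show Γ((Scheme.Modules.pushforward f).obj (Coh.structureModule X), ⊤) from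
        (1 : Γ(X, ⊤))) := by
    rw [hυ]
    exact map_one f.appTop.hom
  have h6 : (υ ≫ (Scheme.Modules.pushforward f).map τ).app ⊤
        (show Γ(Coh.structureModule Y, ⊤) from (1 : Γ(Y, ⊤))) = sv τ ⊤ := by
    show ((Scheme.Modules.pushforward f).map τ).app ⊤ (υ.app ⊤ _) = _
    rw [h5]
    rfl
  exact h6.symm.trans h4.symm

end General

section NSide

variable {R A : Type u} [CommRing R] [CommRing A] [Algebra R A] (𝒜 : ℕ → Submodule R A)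
  [GradedAlgebra 𝒜]

open HomogeneousLocalization

theorem top_le_awayι_preimage {g : A} (hg : g ∈ 𝒜 1) :
    ⊤ ≤ Proj.awayι 𝒜 g hg Nat.one_pos ⁻¹ᵁ Proj.basicOpen 𝒜 g := by
  rw [← Proj.opensRange_awayι 𝒜 g hg Nat.one_pos]
  intro x _
  exact ⟨x, rfl⟩

theorem isLocalizationElem_eq {g h : A} (hg : g ∈ 𝒜 1) (hh : h ∈ 𝒜 1) :
    Away.isLocalizationElem hg hh = uFracG 𝒜 hg hh := by
  apply HomogeneousLocalization.val_injective
  unfold uFracG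
  rw [HomogeneousLocalization.Away.val_mk, HomogeneousLocalization.Away.val_mk, pow_one]

theorem basicOpen_uSecG {g h : A} (hg : g ∈ 𝒜 1) (hh : h ∈ 𝒜 1) :
    (Proj 𝒜).basicOpen (uSecG 𝒜 hg hh) = Proj.basicOpen 𝒜 g ⊓ Proj.basicOpen 𝒜 h := by
  have e := top_le_awayι_preimage 𝒜 hg
  have h1 := Scheme.basicOpen_appLE (Proj.awayι 𝒜 g hg Nat.one_pos) ⊤ (Proj.basicOpen 𝒜 g) e
    (uSecG 𝒜 hg hh)
  have h2 : ((Proj.awayι 𝒜 g hg Nat.one_pos).appLE (Proj.basicOpen 𝒜 g) ⊤ e).hom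
      (uSecG 𝒜 hg hh) =
      (Scheme.ΓSpecIso (CommRingCat.of (Away 𝒜 g))).inv.hom (uFracG 𝒜 hg hh) :=
    congrArg (fun φ => φ.hom (uFracG 𝒜 hg hh)) (awayToSection_awayι_appLE 𝒜 hg Nat.one_pos e)
  have h3 : (Spec (CommRingCat.of (Away 𝒜 g))).basicOpen
      ((Scheme.ΓSpecIso (CommRingCat.of (Away 𝒜 g))).inv.hom (uFracG 𝒜 hg hh)) =
      Proj.awayι 𝒜 g hg Nat.one_pos ⁻¹ᵁ Proj.basicOpen 𝒜 h := by
    rw [Proj.awayι_preimage_basicOpen 𝒜 hg Nat.one_pos hh Nat.one_pos, isLocalizationElem_eq]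
    exact basicOpen_eq_of_affine _
  have h4 : Proj.awayι 𝒜 g hg Nat.one_pos ⁻¹ᵁ Proj.basicOpen 𝒜 h =
      Proj.awayι 𝒜 g hg Nat.one_pos ⁻¹ᵁ (Proj 𝒜).basicOpen (uSecG 𝒜 hg hh) := by
    rw [← h3, ← top_inf_eq (Proj.awayι 𝒜 g hg Nat.one_pos ⁻¹ᵁ (Proj 𝒜).basicOpen (uSecG 𝒜 hg hh)),
      ← h1]
    exact congrArg _ h2.symm
  apply le_antisymm
  · intro x hx
    have hxg : x ∈ Proj.basicOpen 𝒜 g := Scheme.basicOpen_le _ _ hx
    refine ⟨hxg, ?_⟩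
    rw [← Proj.opensRange_awayι 𝒜 g hg Nat.one_pos] at hxg
    obtain ⟨y, rfl⟩ := hxg
    have hy : y ∈ Proj.awayι 𝒜 g hg Nat.one_pos ⁻¹ᵁ (Proj 𝒜).basicOpen (uSecG 𝒜 hg hh) := hx
    rw [← h4] at hy
    exact hy
  · rintro x ⟨hxg, hxh⟩
    rw [← Proj.opensRange_awayι 𝒜 g hg Nat.one_pos] at hxg
    obtain ⟨y, rfl⟩ := hxg
    have hy : y ∈ Proj.awayι 𝒜 g hg Nat.one_pos ⁻¹ᵁ Proj.basicOpen 𝒜 h := hxh
    rw [h4] at hy
    exact hy

variable {I : Type u} (g : I → A) (hg : ∀ i, g i ∈ 𝒜 1)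
  (hDcov : ∀ p : Proj 𝒜, ∃ i, p ∈ Proj.basicOpen 𝒜 (g i))

include hDcov in
theorem genLocus_secHom_tG (i : I) :
    CohB1.genLocus (N1 𝒜) (TensorPowIso.secHom (N1 𝒜) (tG 𝒜 (hg i))) =
      Proj.basicOpen 𝒜 (g i) := by
  refine Opens.ext (Set.ext fun x => ?_)
  obtain ⟨k, hk⟩ := hDcov x
  have hrel : sv (TensorPowIso.secHom (N1 𝒜) (tG 𝒜 (hg i))) (Proj.basicOpen 𝒜 (g k)) =
      uSecG 𝒜 (hg k) (hg i) • αG 𝒜 (hg k) := by
    rw [TensorPowIso.sv_secHom]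
    exact tG_res 𝒜 (hg k) (hg i)
  have h1 := mem_genLocus_iff_of_isGen (TensorPowIso.secHom (N1 𝒜) (tG 𝒜 (hg i)))
    (isGen_αG 𝒜 (hg k)) (uSecG 𝒜 (hg k) (hg i)) hrel x hk
  rw [SetLike.mem_coe, h1, basicOpen_uSecG]
  exact ⟨fun h => h.2, fun h => ⟨hk, h⟩⟩

end NSide

section Converse

variable {R A : Type u} [CommRing R] [CommRing A] [Algebra R A] (𝒜 : ℕ → Submodule R A)
  [GradedAlgebra 𝒜]
variable {X : Scheme.{u}} (r : X ⟶ Proj 𝒜)

/-- The relation `r^* h = r^♯(h / g) • r^* g` over `r⁻¹ D₊(g)`. -/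
theorem pullSec_res {g h : A} (hg : g ∈ 𝒜 1) (hh : h ∈ 𝒜 1) :
    ((Scheme.Modules.pullback r).obj (N1 𝒜)).presheaf.map
        (homOfLE (le_top : r ⁻¹ᵁ Proj.basicOpen 𝒜 g ≤ ⊤)).op
        (ProjUP.pullSec r (N1 𝒜) (tG 𝒜 hh)) =
      (r.app (Proj.basicOpen 𝒜 g)).hom (uSecG 𝒜 hg hh) •
        ((Scheme.Modules.pullback r).obj (N1 𝒜)).presheaf.map
          (homOfLE (le_top : r ⁻¹ᵁ Proj.basicOpen 𝒜 g ≤ ⊤)).op
          (ProjUP.pullSec r (N1 𝒜) (tG 𝒜 hg)) := by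
  obtain ⟨η, hη⟩ : ∃ η : N1 𝒜 ⟶ (Scheme.Modules.pushforward r).obj
      ((Scheme.Modules.pullback r).obj (N1 𝒜)),
      η = (Scheme.Modules.pullbackPushforwardAdjunction r).unit.app (N1 𝒜) := ⟨_, rfl⟩
  have hp : ∀ t : Γ(N1 𝒜, ⊤), ProjUP.pullSec r (N1 𝒜) t = η.app ⊤ t := by
    intro t
    rw [hη]
    rfl
  have h1 := app_res η (le_top : Proj.basicOpen 𝒜 g ≤ ⊤) (tG 𝒜 hh)
  rw [tG_res 𝒜 hg hh, Scheme.Modules.Hom.app_smul] at h1
  have h2 := app_res η (le_top : Proj.basicOpen 𝒜 g ≤ ⊤) (tG 𝒜 hg)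
  rw [hp, hp]
  refine h1.symm.trans ?_
  exact congrArg (fun z => (r.app (Proj.basicOpen 𝒜 g)).hom (uSecG 𝒜 hg hh) •
    (show Γ((Scheme.Modules.pullback r).obj (N1 𝒜), r ⁻¹ᵁ Proj.basicOpen 𝒜 g) from z)) h2

variable {I : Type u} (g : I → A) (hg : ∀ i, g i ∈ 𝒜 1)
  (hDcov : ∀ p : Proj 𝒜, ∃ i, p ∈ Proj.basicOpen 𝒜 (g i))
variable (L : X.Modules) (s : I → Γ(L, ⊤))
  (τ : (Scheme.Modules.pullback r).obj (N1 𝒜) ≅ L)
  (hτ : ∀ i, τ.hom.app ⊤ (ProjUP.pullSec r (N1 𝒜) (tG 𝒜 (hg i))) = s i)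

include hτ in
theorem σ_eq (i : I) :
    σ L s i = pbSec r (TensorPowIso.secHom (N1 𝒜) (tG 𝒜 (hg i))) ≫ τ.hom := by
  apply hom_ext_sv_top
  rw [sv_comp, sv_pbSec_top, sv_secHom_top, hτ i]
  exact sv_secHom_top L (s i)

include hDcov hτ in
theorem hpre_of_iso (i : I) : r ⁻¹ᵁ Proj.basicOpen 𝒜 (g i) = Us L s i := by
  have hN : PicF.IsInvertible (N1 𝒜) := isInvertible_N1 𝒜 (fun y => by
    obtain ⟨i, hi⟩ := hDcov y
    exact ⟨g i, hg i, (ProjectiveSpectrum.mem_basicOpen 𝒜 _ _).mp hi⟩)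
  unfold Us
  rw [σ_eq 𝒜 r g hg L s τ hτ i, TwistAmple.genLocus_comp_iso, genLocus_pbSec r hN,
    genLocus_secHom_tG 𝒜 g hg hDcov i]

include hτ in
theorem hP4_of_iso (i j : I) (e : Us L s i ≤ r ⁻¹ᵁ Proj.basicOpen 𝒜 (g i)) :
    (r.appLE (Proj.basicOpen 𝒜 (g i)) (Us L s i) e).hom (uSecG 𝒜 (hg i) (hg j)) =
      as L s i j := by
  symm
  refine as_eq_of L s i j _ ?_
  have hs : ∀ k, sv (σ L s k) (Us L s i) = τ.hom.app (Us L s i)
      (((Scheme.Modules.pullback r).obj (N1 𝒜)).presheaf.map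
        (homOfLE (le_top : Us L s i ≤ ⊤)).op (ProjUP.pullSec r (N1 𝒜) (tG 𝒜 (hg k)))) := by
    intro k
    rw [sv_σ, ← hτ k, app_res]
  rw [hs i, hs j, ← Scheme.Modules.Hom.app_smul]
  congr 1
  rw [← res_res _ e le_top, ← res_res _ e le_top, pullSec_res 𝒜 r (hg i) (hg j), res_smul]
  rfl

end Converse

section Uniq

variable {R A : Type u} [CommRing R] [CommRing A] [Algebra R A] (𝒜 : ℕ → Submodule R A)
  [GradedAlgebra 𝒜]
variable {X : Scheme.{u}} (r : X ⟶ Proj 𝒜)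

open HomogeneousLocalization

/-- A morphism to an affine scheme is determined by its effect on global sections. -/
theorem eq_toSpecΓ_map {Y : Scheme.{u}} {S : CommRingCat.{u}} (l : Y ⟶ Spec S) :
    l = Y.toSpecΓ ≫ Spec.map ((Scheme.ΓSpecIso S).inv ≫ l.appTop) := by
  rw [Spec.map_comp, ← Category.assoc, ← Scheme.toSpecΓ_naturality, Category.assoc,
    toSpecΓ_SpecMap_ΓSpecIso_inv, Category.comp_id]

/-- The restriction of `r : X ⟶ Proj 𝒜` to an open mapped into `D₊(g)` in terms of the ring map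
`A_(g) → Γ(X, U)`. -/
theorem restrict_eq_lift {g : A} (hg : g ∈ 𝒜 1) (U : X.Opens)
    (e : U ≤ r ⁻¹ᵁ Proj.basicOpen 𝒜 g) :
    U.ι ≫ r = U.toSpecΓ ≫
      Spec.map (Proj.awayToSection 𝒜 g ≫ r.appLE (Proj.basicOpen 𝒜 g) U e) ≫
      Proj.awayι 𝒜 g hg Nat.one_pos := by
  have hrange : Set.range (U.ι ≫ r) ⊆ Set.range (Proj.awayι 𝒜 g hg Nat.one_pos) := by
    rintro _ ⟨y, rfl⟩
    have h1 : (U.ι ≫ r) y ∈ Proj.basicOpen 𝒜 g := e y.2
    rw [← Proj.opensRange_awayι 𝒜 g hg Nat.one_pos] at h1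
    exact h1
  obtain ⟨l, hl⟩ : ∃ l : (U : Scheme.{u}) ⟶ Spec (CommRingCat.of (Away 𝒜 g)),
      l ≫ Proj.awayι 𝒜 g hg Nat.one_pos = U.ι ≫ r :=
    ⟨IsOpenImmersion.lift _ _ hrange, IsOpenImmersion.lift_fac _ _ _⟩
  rw [← hl, ← Category.assoc]
  congr 1
  have e0 := top_le_awayι_preimage 𝒜 hg
  have e' : (⊤ : (U : Scheme.{u}).Opens) ≤ U.ι ⁻¹ᵁ U := by
    rw [Scheme.Opens.ι_preimage_self]
  have h0 : r.appLE (Proj.basicOpen 𝒜 g) U e ≫ U.ι.appLE U ⊤ e' =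
      (U.ι ≫ r).appLE (Proj.basicOpen 𝒜 g) ⊤
        (e'.trans ((Opens.map U.ι.base).map (homOfLE e)).le) :=
    Scheme.Hom.appLE_comp_appLE _ _ _ _ _ _ _
  have h0' : U.ι.appLE U ⊤ e' = U.topIso.inv := by
    rw [Scheme.Opens.ι_appLE]
    rfl
  have h2 : ∀ (f f' : (U : Scheme.{u}) ⟶ Proj 𝒜) (hf : f = f')
      (e₁ : ⊤ ≤ f ⁻¹ᵁ Proj.basicOpen 𝒜 g),
      f.appLE (Proj.basicOpen 𝒜 g) ⊤ e₁ = f'.appLE (Proj.basicOpen 𝒜 g) ⊤ (hf ▸ e₁) := by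
    rintro f _ rfl _
    rfl
  have h3 : (Proj.awayι 𝒜 g hg Nat.one_pos).appLE (Proj.basicOpen 𝒜 g) ⊤ e0 ≫
      l.appLE ⊤ ⊤ le_top =
      (l ≫ Proj.awayι 𝒜 g hg Nat.one_pos).appLE (Proj.basicOpen 𝒜 g) ⊤
        (hl.symm ▸ (e'.trans ((Opens.map U.ι.base).map (homOfLE e)).le)) :=
    Scheme.Hom.appLE_comp_appLE _ _ _ _ _ _ _
  have h4 : l.appLE ⊤ ⊤ le_top = l.appTop := Scheme.Hom.appLE_eq_app _
  have key : Proj.awayToSection 𝒜 g ≫ r.appLE (Proj.basicOpen 𝒜 g) U e ≫ U.topIso.inv =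
      (Scheme.ΓSpecIso _).inv ≫ l.appTop := by
    rw [← h0', h0, h2 _ _ hl.symm, ← h3, ← Category.assoc, awayToSection_awayι_appLE, h4]
  conv_lhs => rw [eq_toSpecΓ_map l, ← key]
  unfold Scheme.Opens.toSpecΓ
  rw [Category.assoc, ← Spec.map_comp, Category.assoc]

theorem toSpecΓ_map_injective (U : X.Opens) {S : CommRingCat.{u}} (κ κ' : S ⟶ Γ(X, U))
    (h : U.toSpecΓ ≫ Spec.map κ = U.toSpecΓ ≫ Spec.map κ') : κ = κ' := by
  have key : ∀ κ : S ⟶ Γ(X, U),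
      (Scheme.ΓSpecIso S).inv ≫ (U.toSpecΓ ≫ Spec.map κ).appTop = κ ≫ U.topIso.inv := by
    intro κ
    rw [Scheme.Hom.comp_appTop, ← Category.assoc, ← Scheme.ΓSpecIso_inv_naturality,
      Scheme.Opens.toSpecΓ_appTop, Category.assoc, Iso.inv_hom_id_assoc]
  rw [← cancel_mono U.topIso.inv, ← key κ, ← key κ', h]

/-- `R`-constants in `A_(g)`. -/
def constMapG (g : A) : R →+* Away 𝒜 g :=
  (fromZeroRingHom 𝒜 (Submonoid.powers g)).comp (algebraMap R (𝒜 0))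

variable {I : Type u} (g : I → A) (hg : ∀ i, g i ∈ 𝒜 1)
  (hDcov : ∀ p : Proj 𝒜, ∃ i, p ∈ Proj.basicOpen 𝒜 (g i))

include hDcov in
/-- Uniqueness in the universal property of `Proj 𝒜`, for `𝒜` such that ring maps out of the
`A_(g i)` are determined by the `R`-constants and the fractions `g j / g i`. -/
theorem to_proj_ext
    (hext : ∀ (i : I) (B : Type u) [CommRing B] (φ φ' : Away 𝒜 (g i) →+* B),
      (∀ c : R, φ (constMapG 𝒜 (g i) c) = φ' (constMapG 𝒜 (g i) c)) →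
      (∀ j, φ (uFracG 𝒜 (hg i) (hg j)) = φ' (uFracG 𝒜 (hg i) (hg j))) → φ = φ')
    (r r' : X ⟶ Proj 𝒜)
    (hrr' : r ≫ Proj.toSpecZero 𝒜 ≫ Spec.map (CommRingCat.ofHom (algebraMap R (𝒜 0))) =
      r' ≫ Proj.toSpecZero 𝒜 ≫ Spec.map (CommRingCat.ofHom (algebraMap R (𝒜 0))))
    (τ : (Scheme.Modules.pullback r).obj (N1 𝒜) ≅ (Scheme.Modules.pullback r').obj (N1 𝒜))
    (hτ : ∀ i, τ.hom.app ⊤ (ProjUP.pullSec r (N1 𝒜) (tG 𝒜 (hg i))) =
      ProjUP.pullSec r' (N1 𝒜) (tG 𝒜 (hg i))) : r = r' := by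
  obtain ⟨L, hL⟩ : ∃ L : X.Modules, L = (Scheme.Modules.pullback r').obj (N1 𝒜) := ⟨_, rfl⟩
  obtain ⟨s, hs⟩ : ∃ s : I → Γ((Scheme.Modules.pullback r').obj (N1 𝒜), ⊤),
      s = fun i => ProjUP.pullSec r' (N1 𝒜) (tG 𝒜 (hg i)) := ⟨_, rfl⟩
  have hτ1 : ∀ i, τ.hom.app ⊤ (ProjUP.pullSec r (N1 𝒜) (tG 𝒜 (hg i))) = s i := fun i => by
    rw [hs]
    exact hτ i
  have hτ2 : ∀ i, (Iso.refl ((Scheme.Modules.pullback r').obj (N1 𝒜))).hom.app ⊤
      (ProjUP.pullSec r' (N1 𝒜) (tG 𝒜 (hg i))) = s i := fun i => by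
    rw [hs]
    rfl
  have hpre := hpre_of_iso 𝒜 r g hg hDcov _ s τ hτ1
  have hpre' := hpre_of_iso 𝒜 r' g hg hDcov _ s (Iso.refl _) hτ2
  have hP4 := fun i j => hP4_of_iso 𝒜 r g hg _ s τ hτ1 i j (hpre i).ge
  have hP4' := fun i j => hP4_of_iso 𝒜 r' g hg _ s (Iso.refl _) hτ2 i j (hpre' i).ge
  have hcov : ∀ x : X, ∃ i, x ∈ Us _ s i := fun x => by
    obtain ⟨i, hi⟩ := hDcov (r x)
    refine ⟨i, ?_⟩
    rw [← hpre i]
    exact hi
  have hU : IsOpenCover (Us _ s) := isOpenCover_of_forall _ hcov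
  refine (X.openCoverOfIsOpenCover _ hU).hom_ext _ _ fun i => ?_
  show (Us _ s i).ι ≫ r = (Us _ s i).ι ≫ r'
  have hk : ∀ (ρ : X ⟶ Proj 𝒜) (e : Us _ s i ≤ ρ ⁻¹ᵁ Proj.basicOpen 𝒜 (g i)),
      (Us _ s i).toSpecΓ ≫ Spec.map (CommRingCat.ofHom (algebraMap R (𝒜 0)) ≫
        CommRingCat.ofHom (fromZeroRingHom 𝒜 (Submonoid.powers (g i))) ≫
        (Proj.awayToSection 𝒜 (g i) ≫ ρ.appLE (Proj.basicOpen 𝒜 (g i)) (Us _ s i) e)) =
      (Us _ s i).ι ≫ ρ ≫ Proj.toSpecZero 𝒜 ≫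
        Spec.map (CommRingCat.ofHom (algebraMap R (𝒜 0))) := by
    intro ρ e
    rw [Spec.map_comp, Spec.map_comp, ← Proj.awayι_toSpecZero 𝒜 (g i) (hg i) Nat.one_pos,
      ← Category.assoc (Us _ s i).ι, restrict_eq_lift 𝒜 ρ (hg i) (Us _ s i) e]
    simp only [Category.assoc]
  have hφ : Proj.awayToSection 𝒜 (g i) ≫
      r.appLE (Proj.basicOpen 𝒜 (g i)) (Us _ s i) (hpre i).ge =
      Proj.awayToSection 𝒜 (g i) ≫
      r'.appLE (Proj.basicOpen 𝒜 (g i)) (Us _ s i) (hpre' i).ge := by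
    apply CommRingCat.hom_ext
    refine hext i _ _ _ (fun c => ?_) (fun j => ?_)
    · have h1 := toSpecΓ_map_injective (Us _ s i) _ _
        ((hk r (hpre i).ge).trans ((congrArg (fun f => (Us _ s i).ι ≫ f) hrr').trans
          (hk r' (hpre' i).ge).symm))
      exact congrArg (fun κ => κ.hom c) h1
    · exact (hP4 i j).trans (hP4' i j).symm
  rw [restrict_eq_lift 𝒜 r (hg i) _ (hpre i).ge, restrict_eq_lift 𝒜 r' (hg i) _ (hpre' i).ge, hφ]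

end Uniq

end

end Groth.Agent.H18.ProjUPUniq
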