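import Groth.Agent.H18.ProjUPSym
import Groth.Agent.H18.TwistAmple

/-!
# Sections of `O(n)` on `Proj 𝒜` given by elements of degree `n` (degree-`n` version of the
`NSide` section of `H18/ProjUPSym`)
-/

set_option autoImplicit false
universe u

open CategoryTheory AlgebraicGeometry TopologicalSpace Opposite
open Groth.Agent.H8 (res_res res_smul ringRes_res section_eq_of_cover app_res)
open Groth.Agent.H18.SecTw Groth.Agent.H18.TensorGen

namespace Groth.Agent.H18.TwistSecN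

noncomputable section

variable {R A : Type u} [CommRing R] [CommRing A] [Algebra R A] (𝒜 : ℕ → Submodule R A)
  [GradedAlgebra 𝒜] {n : ℕ}

/-- `O(n)` on `Proj 𝒜`. -/
abbrev Nn (n : ℕ) : (Proj 𝒜).Modules := Twist.twist 𝒜 (n : ℤ)

/-- The global section `g / 1` of `O(n)` for `g` of degree `n`. -/
def tG {g : A} (hg : g ∈ 𝒜 n) : Γ(Nn 𝒜 n, ⊤) := Twist.globalOf 𝒜 ⟨g, hg⟩

/-- The section `g / 1` restricted to `D₊(g)`. -/
def αG {g : A} (hg : g ∈ 𝒜 n) : Γ(Nn 𝒜 n, Proj.basicOpen 𝒜 g) :=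
  (Nn 𝒜 n).presheaf.map (homOfLE (le_top : Proj.basicOpen 𝒜 g ≤ ⊤)).op (tG 𝒜 hg)

set_option backward.isDefEq.respectTransparency false in
theorem isGen_αG {g : A} (hg : g ∈ 𝒜 n) : IsGen (Nn 𝒜 n) (Proj.basicOpen 𝒜 g) (αG 𝒜 hg) := by
  intro V' h
  exact TwistRestrict.bijective_smul_of_fraction 𝒜
    (W := TwistRestrict.ofProjOpens 𝒜 V') (k := (n : ℤ)) (p := n) (q := 0)
    (u := g) (v := 1) hg SetLike.GradedOne.one_mem (by norm_num)
    (fun y => (ProjectiveSpectrum.mem_basicOpen 𝒜 _ _).mp (h y.2))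
    (fun y hy => y.1.isPrime.ne_top ((Ideal.eq_top_iff_one _).mpr hy))
    ((Nn 𝒜 n).presheaf.map (homOfLE h).op (αG 𝒜 hg)) (fun y => rfl)

theorem mem_one_smul {h : A} (hh : h ∈ 𝒜 n) : h ∈ 𝒜 (1 • n) := by
  rwa [one_smul]

/-- The fraction `h / g`. -/
def uFracG {g h : A} (hg : g ∈ 𝒜 n) (hh : h ∈ 𝒜 n) : HomogeneousLocalization.Away 𝒜 g :=
  HomogeneousLocalization.Away.mk 𝒜 hg 1 h (mem_one_smul 𝒜 hh)

/-- The function `h / g` on `D₊(g)`. -/
def uSecG {g h : A} (hg : g ∈ 𝒜 n) (hh : h ∈ 𝒜 n) : Γ(Proj 𝒜, Proj.basicOpen 𝒜 g) :=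
  (Proj.awayToSection 𝒜 g).hom (uFracG 𝒜 hg hh)

set_option backward.isDefEq.respectTransparency false in
theorem uSecG_val {g h : A} (hg : g ∈ 𝒜 n) (hh : h ∈ 𝒜 n) (y : Proj.basicOpen 𝒜 g) :
    (((uSecG 𝒜 hg hh).1 y : Twist.A0 𝒜 y.1)).val =
      Localization.mk h ⟨g, (ProjectiveSpectrum.mem_basicOpen 𝒜 _ _).mp y.2⟩ := by
  have h1 := ProjectiveSpectrum.Proj.awayToSection_apply 𝒜 g (uFracG 𝒜 hg hh) y
  refine h1.trans ?_
  unfold uFracG
  rw [HomogeneousLocalization.Away.val_mk, Localization.mk_eq_mk', IsLocalization.map_mk',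
    ← Localization.mk_eq_mk']
  refine Localization.mk_eq_mk_iff.mpr ?_
  rw [Localization.r_iff_exists]
  exact ⟨1, by simp⟩

set_option backward.isDefEq.respectTransparency false in
theorem tG_res {g h : A} (hg : g ∈ 𝒜 n) (hh : h ∈ 𝒜 n) :
    (Nn 𝒜 n).presheaf.map (homOfLE (le_top : Proj.basicOpen 𝒜 g ≤ ⊤)).op (tG 𝒜 hh) =
      uSecG 𝒜 hg hh • αG 𝒜 hg := by
  apply Subtype.ext
  funext y
  apply Subtype.ext
  have h1 := Twist.coe_smul_val (𝒜 := 𝒜) (n : ℤ) y.1 ((uSecG 𝒜 hg hh).1 y) ((αG 𝒜 hg).1 y)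
  refine Eq.trans ?_ h1.symm
  rw [uSecG_val]
  show Localization.mk h ⟨1, _⟩ = _ * Localization.mk g ⟨1, _⟩
  rw [Localization.mk_mul]
  refine Localization.mk_eq_mk_iff.mpr ?_
  rw [Localization.r_iff_exists]
  exact ⟨1, by simp; ring⟩

end

end Groth.Agent.H18.TwistSecN
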