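import Groth.Agent.H18.Dehom
import Groth.Agent.H18.TwistSecN
import Groth.Agent.H18.ProjUPUniq

/-!
# Generation of `A_(g^n)` by fractions of degree `n` (for `g` of degree one)
-/

set_option autoImplicit false
universe u

open HomogeneousLocalization
open Groth.Agent.H18.ProjUPUniq (constMapG)
open Groth.Agent.H18.TwistSecN (uFracG)

namespace Groth.Agent.H18.AwayGenN

noncomputable section

variable {R A : Type u} [CommRing R] [CommRing A] [Algebra R A]

/-- A finite type algebra generated by a set is generated by a finite subset. -/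
theorem exists_finset_subset_adjoin_eq_top [Algebra.FiniteType R A] {S : Set A}
    (hS : Algebra.adjoin R S = ⊤) : ∃ S₀ : Finset A, (S₀ : Set A) ⊆ S ∧
      Algebra.adjoin R (S₀ : Set A) = ⊤ := by
  classical
  obtain ⟨t, ht⟩ := (Algebra.FiniteType.out : (⊤ : Subalgebra R A).FG)
  have key : ∀ y ∈ Algebra.adjoin R S, ∃ S' : Finset A, (S' : Set A) ⊆ S ∧
      y ∈ Algebra.adjoin R (S' : Set A) := by
    intro y hy
    induction hy using Algebra.adjoin_induction with
    | mem x hx =>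
      exact ⟨{x}, by simpa using hx, Algebra.subset_adjoin (by simp)⟩
    | algebraMap r => exact ⟨∅, by simp, Subalgebra.algebraMap_mem _ r⟩
    | add x y _ _ hx hy =>
      obtain ⟨S₁, h₁, hx⟩ := hx
      obtain ⟨S₂, h₂, hy⟩ := hy
      refine ⟨S₁ ∪ S₂, by simpa using ⟨h₁, h₂⟩, ?_⟩
      exact add_mem (Algebra.adjoin_mono (by simp) hx) (Algebra.adjoin_mono (by simp) hy)
    | mul x y _ _ hx hy =>
      obtain ⟨S₁, h₁, hx⟩ := hx
      obtain ⟨S₂, h₂, hy⟩ := hy
      refine ⟨S₁ ∪ S₂, by simpa using ⟨h₁, h₂⟩, ?_⟩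
      exact mul_mem (Algebra.adjoin_mono (by simp) hx) (Algebra.adjoin_mono (by simp) hy)
  have key' : ∀ y : A, ∃ S' : Finset A, (S' : Set A) ⊆ S ∧
      y ∈ Algebra.adjoin R (S' : Set A) := fun y => key y (by rw [hS]; trivial)
  choose S' hS'1 hS'2 using key'
  refine ⟨t.biUnion S', ?_, ?_⟩
  · intro x hx
    simp only [Finset.coe_biUnion, Set.mem_iUnion] at hx
    obtain ⟨y, -, hxy⟩ := hx
    exact hS'1 y hxy
  · rw [eq_top_iff, ← ht]
    refine Algebra.adjoin_le ?_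
    intro y hy
    refine Algebra.adjoin_mono ?_ (hS'2 y)
    intro x hx
    simp only [Finset.coe_biUnion, Set.mem_iUnion]
    exact ⟨y, hy, hx⟩

variable (𝒜 : ℕ → Submodule R A) [GradedAlgebra 𝒜]

/-- If `A` is generated by homogeneous elements of positive degree, `R → 𝒜 0` is surjective. -/
theorem algebraMap_zero_surjective {S : Set A} (hS : Algebra.adjoin R S = ⊤)
    (hpos : ∀ x ∈ S, ∃ i : ℕ, 0 < i ∧ x ∈ 𝒜 i) :
    Function.Surjective (algebraMap R (𝒜 0)) := by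
  have key : ∀ y ∈ Algebra.adjoin R S,
      (GradedRing.projZeroRingHom 𝒜 y) ∈ Set.range (algebraMap R A) := by
    intro y hy
    induction hy using Algebra.adjoin_induction with
    | mem x hx =>
      obtain ⟨i, hi, hxi⟩ := hpos x hx
      refine ⟨0, ?_⟩
      rw [map_zero]
      symm
      show ((DirectSum.decompose 𝒜 x) 0 : A) = 0
      rw [DirectSum.decompose_of_mem_ne 𝒜 hxi hi.ne']
    | algebraMap r =>
      refine ⟨r, ?_⟩
      symm
      show ((DirectSum.decompose 𝒜 (algebraMap R A r)) 0 : A) = _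
      rw [DirectSum.decompose_of_mem_same 𝒜 (SetLike.algebraMap_mem_graded 𝒜 r)]
    | add x y _ _ hx hy =>
      rw [map_add]
      obtain ⟨a, ha⟩ := hx
      obtain ⟨b, hb⟩ := hy
      exact ⟨a + b, by rw [map_add, ha, hb]⟩
    | mul x y _ _ hx hy =>
      rw [map_mul]
      obtain ⟨a, ha⟩ := hx
      obtain ⟨b, hb⟩ := hy
      exact ⟨a * b, by rw [map_mul, ha, hb]⟩
  intro y
  obtain ⟨r, hr⟩ := key (y : A) (by rw [hS]; trivial)
  refine ⟨r, Subtype.ext ?_⟩
  refine Eq.trans (show ((algebraMap R (𝒜 0) r : 𝒜 0) : A) = algebraMap R A r from rfl) ?_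
  rw [hr]
  show ((DirectSum.decompose 𝒜 (y : A)) 0 : A) = y
  rw [DirectSum.decompose_of_mem_same 𝒜 y.2]

section theta

variable {g : A} (hg : g ∈ 𝒜 1) (m : ℕ) {x : A} (hx : x = g * g ^ m)

include hg in
theorem pow_mem_m : g ^ m ∈ 𝒜 (m • 1) := SetLike.pow_mem_graded m hg

/-- The map `A → A_(x)`, `x = g ^ (m + 1)`, sending `a` of degree `d` to `a / g ^ d`. -/
def θ : A →+* Away 𝒜 x := (awayMap 𝒜 (pow_mem_m 𝒜 hg m) hx).comp (Dehom.dehom 𝒜 hg)

theorem θ_of_mem {d : ℕ} {a : A} (ha : a ∈ 𝒜 d) :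
    (θ 𝒜 hg m hx a).val = Localization.mk (a * (g ^ m) ^ d)
      ⟨x ^ d, (Submonoid.mem_powers_iff _ _).mpr ⟨d, rfl⟩⟩ := by
  unfold θ
  rw [RingHom.comp_apply, Dehom.dehom_of_mem 𝒜 hg ha, awayMap_mk, Away.val_mk]

theorem θ_surjective (hxm : x ∈ 𝒜 (m + 1)) : Function.Surjective (θ 𝒜 hg m hx) := by
  intro z
  obtain ⟨q, a, ha, rfl⟩ := Away.mk_surjective 𝒜 hxm z
  refine ⟨a, ?_⟩
  apply HomogeneousLocalization.val_injective
  rw [θ_of_mem 𝒜 hg m hx ha, Away.val_mk]
  refine Localization.mk_eq_mk_iff.mpr ?_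
  rw [Localization.r_iff_exists]
  refine ⟨1, ?_⟩
  subst hx
  simp only [OneMemClass.coe_one, one_mul, smul_eq_mul]
  ring

theorem θ_algebraMap (r : R) : θ 𝒜 hg m hx (algebraMap R A r) = constMapG 𝒜 x r := by
  apply HomogeneousLocalization.val_injective
  rw [θ_of_mem 𝒜 hg m hx (SetLike.algebraMap_mem_graded 𝒜 r)]
  show _ = Localization.mk (algebraMap R A r) 1
  refine Localization.mk_eq_mk_iff.mpr ?_
  rw [Localization.r_iff_exists]
  exact ⟨1, by simp⟩

/-- `θ f = (g ^ k * f) / x` for `f` of degree `e' + 1`, `m = k + e'`. -/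
theorem θ_eq_uFracG {k e' : ℕ} (hm : m = k + e') {f : A} (hf : f ∈ 𝒜 (e' + 1))
    (hxm : x ∈ 𝒜 (m + 1)) {h : A} (hh : h ∈ 𝒜 (m + 1)) (hhf : h = g ^ k * f) :
    θ 𝒜 hg m hx f = uFracG 𝒜 hxm hh := by
  apply HomogeneousLocalization.val_injective
  rw [θ_of_mem 𝒜 hg m hx hf]
  unfold uFracG
  rw [Away.val_mk]
  refine Localization.mk_eq_mk_iff.mpr ?_
  rw [Localization.r_iff_exists]
  refine ⟨1, ?_⟩
  subst hx hhf hm
  simp only [OneMemClass.coe_one, one_mul]
  ring

theorem subring_eq_top (hxm : x ∈ 𝒜 (m + 1)) (F : Set A) (hF : Algebra.adjoin R F = ⊤)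
    (T : Subring (Away 𝒜 x)) (hc : ∀ c : R, constMapG 𝒜 x c ∈ T)
    (hf : ∀ f ∈ F, θ 𝒜 hg m hx f ∈ T) : T = ⊤ := by
  have h1 : ∀ a : A, θ 𝒜 hg m hx a ∈ T := by
    intro a
    have ha : a ∈ Algebra.adjoin R F := by rw [hF]; trivial
    induction ha using Algebra.adjoin_induction with
    | mem y hy => exact hf y hy
    | algebraMap r =>
      rw [θ_algebraMap]
      exact hc r
    | add y z _ _ hy hz =>
      rw [map_add]
      exact T.add_mem hy hz
    | mul y z _ _ hy hz =>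
      rw [map_mul]
      exact T.mul_mem hy hz
  rw [eq_top_iff]
  intro z _
  obtain ⟨a, rfl⟩ := θ_surjective 𝒜 hg m hx hxm z
  exact h1 a

end theta

end

end Groth.Agent.H18.AwayGenN
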