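import Mathlib.Algebra.Polynomial.Laurent
import Mathlib.RingTheory.GradedAlgebra.HomogeneousLocalization
import Mathlib.RingTheory.TensorProduct.MonoidAlgebra
import Mathlib.RingTheory.FiniteType

set_option autoImplicit false
universe u

namespace Groth.Agent.H18

open HomogeneousLocalization LaurentPolynomial

section AwayMk
variable {A σ : Type*} [CommRing A] [SetLike σ A] [AddSubgroupClass σ A] (𝒜 : ℕ → σ)
  [GradedRing 𝒜] {d : ℕ} {f : A} (hf : f ∈ 𝒜 d)

theorem awayMk_zero (n : ℕ) (h0 : (0 : A) ∈ 𝒜 (n • d)) : Away.mk 𝒜 hf n 0 h0 = 0 := by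
  apply HomogeneousLocalization.val_injective
  simp only [Away.val_mk, Localization.mk_zero, val_zero]

theorem awayMk_add (n : ℕ) (a b : A) (ha : a ∈ 𝒜 (n • d)) (hb : b ∈ 𝒜 (n • d))
    (hab : a + b ∈ 𝒜 (n • d)) :
    Away.mk 𝒜 hf n (a + b) hab = Away.mk 𝒜 hf n a ha + Away.mk 𝒜 hf n b hb := by
  apply HomogeneousLocalization.val_injective
  simp only [val_add, Away.val_mk, Localization.add_mk_self]

theorem awayMk_mul (n m : ℕ) (a b : A) (ha : a ∈ 𝒜 (n • d)) (hb : b ∈ 𝒜 (m • d))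
    (hab : a * b ∈ 𝒜 ((n + m) • d)) :
    Away.mk 𝒜 hf (n + m) (a * b) hab = Away.mk 𝒜 hf n a ha * Away.mk 𝒜 hf m b hb := by
  apply HomogeneousLocalization.val_injective
  simp only [val_mul, Away.val_mk, Localization.mk_mul]
  congr 1
  first
    | exact Subtype.ext (pow_add f n m)
    | exact pow_add f n m

theorem awayMk_self_pow (k : ℕ) (h : f ^ k ∈ 𝒜 (k • d)) : Away.mk 𝒜 hf k (f ^ k) h = 1 := by
  apply HomogeneousLocalization.val_injective
  simp only [Away.val_mk, val_one]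
  exact Localization.mk_self (⟨f ^ k, k, rfl⟩ : Submonoid.powers f)

theorem awayMk_one (h1 : (1 : A) ∈ 𝒜 (0 • d)) : Away.mk 𝒜 hf 0 1 h1 = 1 := by
  have := awayMk_self_pow 𝒜 hf 0 (by simpa using h1)
  simpa using this

end AwayMk

section Laurent
variable {A σ : Type u} [CommRing A] [SetLike σ A] [AddSubgroupClass σ A] (𝒜 : ℕ → σ)
  [GradedRing 𝒜] {f : A} (hf : f ∈ 𝒜 1)

theorem mem_smul_one {n : ℕ} {a : A} (ha : a ∈ 𝒜 n) : a ∈ 𝒜 (n • 1) := by simpa using ha

/-- The degree `n` piece of the map `A → A_(f)[T, T⁻¹]`, `a ↦ (a / f ^ n) T ^ n`. -/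
noncomputable def laurentPiece (n : ℕ) : 𝒜 n →+ (Away 𝒜 f)[T;T⁻¹] where
  toFun a := C (Away.mk 𝒜 hf n a (mem_smul_one 𝒜 a.2)) * T n
  map_zero' := by
    show C (Away.mk 𝒜 hf n (0 : A) _) * T n = 0
    rw [awayMk_zero, map_zero, zero_mul]
  map_add' a b := by
    show C (Away.mk 𝒜 hf n ((a : A) + b) _) * T n = _
    rw [awayMk_add 𝒜 hf n a b (mem_smul_one 𝒜 a.2) (mem_smul_one 𝒜 b.2), map_add, add_mul]

/-- The ring homomorphism `A → A_(f)[T, T⁻¹]`, `a ↦ ∑ (a_n / f ^ n) T ^ n`. -/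
noncomputable def toLaurent₀ : A →+* (Away 𝒜 f)[T;T⁻¹] :=
  (DirectSum.toSemiring (laurentPiece 𝒜 hf)
    (by
      show C (Away.mk 𝒜 hf 0 (1 : A) _) * T ((0 : ℕ) : ℤ) = 1
      rw [awayMk_one, map_one, Nat.cast_zero, T_zero, mul_one])
    (by
      intro i j ai aj
      show C (Away.mk 𝒜 hf (i + j) ((ai : A) * aj) _) * T ((i + j : ℕ) : ℤ) =
        (C (Away.mk 𝒜 hf i ai _) * T i) * (C (Away.mk 𝒜 hf j aj _) * T j)
      rw [awayMk_mul 𝒜 hf i j ai aj (mem_smul_one 𝒜 ai.2) (mem_smul_one 𝒜 aj.2), map_mul,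
        Nat.cast_add, T_add]
      ring)).comp (DirectSum.decomposeRingEquiv 𝒜).toRingHom

theorem toLaurent₀_of_mem {n : ℕ} {a : A} (ha : a ∈ 𝒜 n) :
    toLaurent₀ 𝒜 hf a = C (Away.mk 𝒜 hf n a (mem_smul_one 𝒜 ha)) * T n := by
  unfold toLaurent₀
  simp only [RingHom.comp_apply]
  show DirectSum.toSemiring _ _ _ (DirectSum.decompose 𝒜 a) = _
  rw [DirectSum.decompose_of_mem 𝒜 ha, DirectSum.toSemiring_of]
  rfl

theorem toLaurent₀_self : toLaurent₀ 𝒜 hf f = T 1 := by
  rw [toLaurent₀_of_mem 𝒜 hf hf]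
  have : Away.mk 𝒜 hf 1 f (mem_smul_one 𝒜 hf) = 1 := by
    have := awayMk_self_pow 𝒜 hf 1 (by simpa using hf)
    simpa using this
  rw [this, map_one, one_mul, Nat.cast_one]

theorem laurent_ringHom_ext {R S : Type*} [CommRing R] [CommRing S] {j k : R[T;T⁻¹] →+* S}
    (hC : ∀ r, j (C r) = k (C r)) (hT : j (T 1) = k (T 1)) : j = k := by
  apply IsLocalization.ringHom_ext (Submonoid.powers (Polynomial.X : Polynomial R))
  apply Polynomial.ringHom_ext
  · intro r
    simp only [RingHom.comp_apply, LaurentPolynomial.algebraMap_eq_toLaurent,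
      Polynomial.toLaurent_C, hC]
  · simp only [RingHom.comp_apply, LaurentPolynomial.algebraMap_eq_toLaurent,
      Polynomial.toLaurent_X, hT]

/-- The unit `f / 1` of `A_f`. -/
noncomputable def awayUnit (f : A) : (Localization.Away f)ˣ :=
  (IsLocalization.Away.algebraMap_isUnit (S := Localization.Away f) f).unit

theorem awayUnit_val (f : A) : (awayUnit f : Localization.Away f) = algebraMap A _ f :=
  IsUnit.unit_spec _

/-- `A_(f)[T, T⁻¹] → A_f`, `T ↦ f`. -/
noncomputable def laurentToAway : (Away 𝒜 f)[T;T⁻¹] →+* Localization.Away f :=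
  LaurentPolynomial.eval₂ (algebraMap (Away 𝒜 f) (Localization.Away f)) (awayUnit f)

/-- `A_f → A_(f)[T, T⁻¹]`. -/
noncomputable def awayToLaurent : Localization.Away f →+* (Away 𝒜 f)[T;T⁻¹] :=
  IsLocalization.Away.lift f (g := toLaurent₀ 𝒜 hf)
    (by rw [toLaurent₀_self]; exact isUnit_T 1)

theorem awayToLaurent_algebraMap (a : A) :
    awayToLaurent 𝒜 hf (algebraMap A (Localization.Away f) a) = toLaurent₀ 𝒜 hf a :=
  IsLocalization.Away.lift_eq _ _ _

theorem val_mul_pow {k : ℕ} {a : A} (ha : a ∈ 𝒜 (k • 1)) :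
    (Away.mk 𝒜 hf k a ha).val * algebraMap A (Localization.Away f) (f ^ k) =
      algebraMap A (Localization.Away f) a := by
  rw [Away.val_mk, Localization.mk_eq_mk']
  exact IsLocalization.mk'_spec _ a (⟨f ^ k, k, rfl⟩ : Submonoid.powers f)

theorem laurentToAway_comp_awayToLaurent :
    (laurentToAway 𝒜 (f := f)).comp (awayToLaurent 𝒜 hf) = RingHom.id _ := by
  apply IsLocalization.ringHom_ext (Submonoid.powers f)
  ext a
  simp only [RingHom.comp_apply, RingHom.id_apply, awayToLaurent_algebraMap]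
  induction a using DirectSum.Decomposition.inductionOn 𝒜 with
  | zero => simp
  | homogeneous a =>
    rw [toLaurent₀_of_mem 𝒜 hf a.2, laurentToAway, LaurentPolynomial.eval₂_C_mul_T,
      zpow_natCast, Units.val_pow_eq_pow_val, awayUnit_val,
      HomogeneousLocalization.algebraMap_apply, ← map_pow]
    exact val_mul_pow 𝒜 hf _
  | add x y hx hy => rw [map_add, map_add, map_add, hx, hy]

theorem awayToLaurent_val (c : Away 𝒜 f) :
    awayToLaurent 𝒜 hf c.val = C c := by
  obtain ⟨k, a, ha, rfl⟩ := Away.mk_surjective 𝒜 hf c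
  have ha' : a ∈ 𝒜 k := by simpa using ha
  have h1 : awayToLaurent 𝒜 hf (Away.mk 𝒜 hf k a ha).val * T k =
      C (Away.mk 𝒜 hf k a ha) * T k := by
    calc awayToLaurent 𝒜 hf (Away.mk 𝒜 hf k a ha).val * T k
        = awayToLaurent 𝒜 hf (Away.mk 𝒜 hf k a ha).val *
            awayToLaurent 𝒜 hf (algebraMap A _ (f ^ k)) := by
          rw [awayToLaurent_algebraMap, map_pow, toLaurent₀_self, T_pow, mul_one]
      _ = awayToLaurent 𝒜 hf (algebraMap A _ a) := by
          rw [← map_mul, val_mul_pow]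
      _ = C (Away.mk 𝒜 hf k a ha) * T k := by
          rw [awayToLaurent_algebraMap, toLaurent₀_of_mem 𝒜 hf ha']
  exact (isUnit_T (k : ℤ)).mul_left_inj.mp h1

theorem awayToLaurent_comp_laurentToAway :
    (awayToLaurent 𝒜 hf).comp (laurentToAway 𝒜 (f := f)) = RingHom.id _ := by
  apply laurent_ringHom_ext
  · intro c
    simp only [RingHom.comp_apply, RingHom.id_apply, laurentToAway, LaurentPolynomial.eval₂_C,
      HomogeneousLocalization.algebraMap_apply]
    exact awayToLaurent_val 𝒜 hf c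
  · simp only [RingHom.comp_apply, RingHom.id_apply, laurentToAway, LaurentPolynomial.eval₂_T,
      zpow_one, awayUnit_val, awayToLaurent_algebraMap, toLaurent₀_self]

/-- For `f` of degree one, `A_f ≅ A_(f)[T, T⁻¹]` as `A_(f)`-algebras. -/
noncomputable def awayLaurentEquiv : Localization.Away f ≃ₐ[Away 𝒜 f] (Away 𝒜 f)[T;T⁻¹] :=
  AlgEquiv.ofRingEquiv
    (f := RingEquiv.ofRingHom (awayToLaurent 𝒜 hf) (laurentToAway 𝒜 (f := f))
      (awayToLaurent_comp_laurentToAway 𝒜 hf) (laurentToAway_comp_awayToLaurent 𝒜 hf))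
    (by
      intro c
      show awayToLaurent 𝒜 hf (algebraMap (Away 𝒜 f) (Localization.Away f) c) = _
      rw [HomogeneousLocalization.algebraMap_apply, awayToLaurent_val,
        LaurentPolynomial.algebraMap_apply]
      rfl)

include hf in
theorem finiteType_algebraMap_away :
    (algebraMap (Away 𝒜 f) (Localization.Away f)).FiniteType := by
  rw [RingHom.finiteType_algebraMap]
  have : Algebra.FiniteType (Away 𝒜 f) (Away 𝒜 f)[T;T⁻¹] :=
    AddMonoidAlgebra.finiteType_of_fg _ _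
  exact this.equiv (awayLaurentEquiv 𝒜 hf).symm

end Laurent
end Groth.Agent.H18
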