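import Mathlib.AlgebraicGeometry.ProjectiveSpectrum.Basic
import Mathlib.Algebra.Polynomial.AlgebraMap
import Mathlib.Algebra.Polynomial.Eval.Degree
import Mathlib.RingTheory.GradedAlgebra.RingHom

set_option autoImplicit false
universe u

namespace Groth.Agent.H18

open HomogeneousLocalization Polynomial

section
variable {R A : Type u} [CommRing R] [CommRing A] [Algebra R A] (𝒜 : ℕ → Submodule R A) [GradedAlgebra 𝒜]
    {B : Type u} [CommRing B] [Algebra R B] (ℬ : ℕ → Submodule R B) [GradedAlgebra ℬ]
    [Algebra A B] (φ : 𝒜 →+*ᵍ ℬ) (hφ : ∀ a : A, φ a = algebraMap A B a)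
    (z : B) (hz : z ∈ ℬ 1) (hhat : Function.Bijective (Polynomial.aeval (R := A) z))

include hφ hz hhat in
/-- Structure of the homogeneous elements of `B = A[z]`: the coefficients are homogeneous of
complementary degree. -/
theorem coeff_mem_of_aeval_mem {k : ℕ} (P : A[X]) (hP : Polynomial.aeval z P ∈ ℬ k) (i : ℕ) :
    (i ≤ k → P.coeff i ∈ 𝒜 (k - i)) ∧ (k < i → P.coeff i = 0) := by
  classical
  set N := max (P.natDegree + 1) (k + 1) with hN
  have hzi : ∀ i : ℕ, z ^ i ∈ ℬ i := fun i => by
    have := SetLike.pow_mem_graded i hz
    simpa using this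
  -- the candidate polynomial
  let Q : A[X] := ∑ i ∈ Finset.range N,
    if i ≤ k then C ((DirectSum.decompose 𝒜 (P.coeff i) (k - i) : A)) * X ^ i else 0
  have hQcoeff : ∀ i, Q.coeff i =
      if i ≤ k then (DirectSum.decompose 𝒜 (P.coeff i) (k - i) : A) else 0 := by
    intro i
    simp only [Q, Polynomial.finset_sum_coeff]
    by_cases hi : i ∈ Finset.range N
    · rw [Finset.sum_eq_single i]
      · split_ifs
        · simp
        · simp
      · intro j _ hji
        split_ifs
        · rw [coeff_C_mul, coeff_X_pow, if_neg (Ne.symm hji), mul_zero]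
        · simp
      · intro h; exact absurd hi h
    · have hik : ¬ i ≤ k := by
        intro hik
        apply hi
        rw [Finset.mem_range]
        omega
      rw [if_neg hik]
      apply Finset.sum_eq_zero
      intro j hj
      have hji : j ≠ i := fun h => hi (h ▸ hj)
      split_ifs
      · rw [coeff_C_mul, coeff_X_pow, if_neg (Ne.symm hji), mul_zero]
      · simp
  have hQ : Polynomial.aeval z Q = Polynomial.aeval z P := by
    have h1 : Polynomial.aeval z P = ∑ i ∈ Finset.range N, φ (P.coeff i) * z ^ i := by
      rw [Polynomial.aeval_eq_sum_range' (n := N) (by omega)]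
      refine Finset.sum_congr rfl fun i _ => ?_
      rw [Algebra.smul_def, hφ]
    have h2 : Polynomial.aeval z P =
        ((DirectSum.decompose ℬ (Polynomial.aeval z P) k : ℬ k) : B) :=
      (DirectSum.decompose_of_mem_same ℬ hP).symm
    rw [h2, h1, DirectSum.decompose_sum, DFinsupp.finsetSum_apply,
      AddSubmonoidClass.coe_finsetSum]
    simp only [Q, map_sum]
    refine Finset.sum_congr rfl fun i _ => ?_
    rw [DirectSum.coe_decompose_mul_of_right_mem ℬ k (hzi i)]
    split_ifs with hik
    · rw [map_mul, Polynomial.aeval_C, Polynomial.aeval_X_pow, ← hφ,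
        GradedRingHom.map_directSumDecompose]
    · simp
  have hQP : Q = P := hhat.1 hQ
  constructor
  · intro hik
    have := hQcoeff i
    rw [hQP, if_pos hik] at this
    rw [this]
    exact SetLike.coe_mem _
  · intro hki
    have := hQcoeff i
    rw [hQP, if_neg (by omega)] at this
    exact this


/-- "Evaluate `z = 1`": the ring hom `B = A[z] → A`. -/
noncomputable def evalOne : B →+* A :=
  (Polynomial.evalRingHom (1 : A)).comp
    (AlgEquiv.ofBijective (Polynomial.aeval (R := A) z) hhat).symm.toRingHom

theorem evalOne_aeval (P : A[X]) : evalOne z hhat (Polynomial.aeval z P) = P.eval 1 := by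
  have h : (AlgEquiv.ofBijective (Polynomial.aeval (R := A) z) hhat).symm (Polynomial.aeval z P) = P :=
    (AlgEquiv.ofBijective (Polynomial.aeval (R := A) z) hhat).symm_apply_apply P
  show (Polynomial.evalRingHom (1 : A))
    ((AlgEquiv.ofBijective (Polynomial.aeval (R := A) z) hhat).symm (Polynomial.aeval z P)) = _
  rw [h]
  rfl

theorem evalOne_z : evalOne z hhat z = 1 := by
  have := evalOne_aeval z hhat (X : A[X])
  simpa using this

theorem evalOne_algebraMap (a : A) : evalOne z hhat (algebraMap A B a) = a := by
  have := evalOne_aeval z hhat (C a : A[X])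
  simpa using this

/-- The ring hom `B_(z) → A`. -/
noncomputable def awayToBase : Away ℬ z →+* A :=
  (IsLocalization.Away.lift z (g := evalOne z hhat)
    (by rw [evalOne_z]; exact isUnit_one)).comp
    (algebraMap (Away ℬ z) (Localization.Away z))

include hz in
theorem awayToBase_mk (k : ℕ) (b : B) (hb : b ∈ ℬ (k • 1)) :
    awayToBase ℬ z hhat (Away.mk ℬ hz k b hb) = evalOne z hhat b := by
  have hg : IsUnit (evalOne z hhat z) := by rw [evalOne_z]; exact isUnit_one
  have h1 : (IsLocalization.mk' (Localization.Away z) b
      (⟨z ^ k, k, rfl⟩ : Submonoid.powers z)) * algebraMap B (Localization.Away z) (z ^ k) =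
      algebraMap B (Localization.Away z) b := IsLocalization.mk'_spec ..
  have h2 := congrArg (IsLocalization.Away.lift z (g := evalOne z hhat) hg) h1
  rw [map_mul, IsLocalization.Away.lift_eq, IsLocalization.Away.lift_eq, map_pow, evalOne_z,
    one_pow, mul_one] at h2
  rw [← h2]
  simp only [awayToBase, RingHom.comp_apply, HomogeneousLocalization.algebraMap_apply,
    Away.val_mk, Localization.mk_eq_mk']

include hφ hz in
theorem awayToBase_bijective : Function.Bijective (awayToBase ℬ z hhat) := by
  classical
  constructor
  · rw [injective_iff_map_eq_zero]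
    intro x hx
    obtain ⟨k, b, hb, rfl⟩ := Away.mk_surjective ℬ hz x
    rw [awayToBase_mk ℬ z hz hhat] at hx
    obtain ⟨P, rfl⟩ := hhat.2 b
    have hb' : Polynomial.aeval z P ∈ ℬ k := by simpa using hb
    have hstruct := coeff_mem_of_aeval_mem 𝒜 ℬ φ hφ z hz hhat P hb'
    rw [evalOne_aeval] at hx
    set N := max (P.natDegree + 1) (k + 1) with hN
    rw [Polynomial.eval_eq_sum_range' (n := N) (by omega)] at hx
    simp only [one_pow, mul_one] at hx
    have hP0 : P = 0 := by
      ext i
      rw [Polynomial.coeff_zero]
      by_cases hik : i ≤ k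
      · have hdec : ((DirectSum.decompose 𝒜 (∑ j ∈ Finset.range N, P.coeff j) (k - i) : 𝒜 (k - i)) : A) =
            P.coeff i := by
          rw [DirectSum.decompose_sum, DFinsupp.finsetSum_apply, AddSubmonoidClass.coe_finsetSum]
          rw [Finset.sum_eq_single i]
          · exact DirectSum.decompose_of_mem_same 𝒜 ((hstruct i).1 hik)
          · intro j _ hji
            by_cases hjk : j ≤ k
            · exact DirectSum.decompose_of_mem_ne 𝒜 ((hstruct j).1 hjk) (by omega)
            · rw [(hstruct j).2 (by omega)]
              simp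
          · intro hi
            exfalso
            apply hi
            rw [Finset.mem_range]
            omega
        rw [← hdec, hx, DirectSum.decompose_zero]
        rfl
      · exact (hstruct i).2 (by omega)
    apply HomogeneousLocalization.val_injective
    rw [Away.val_mk, hP0]
    simp [Localization.mk_zero]
  · intro a
    refine ⟨∑ n ∈ (DirectSum.decompose 𝒜 a).support,
      Away.mk ℬ hz n (φ (DirectSum.decompose 𝒜 a n : A))
        (by simpa using φ.2 (SetLike.coe_mem (DirectSum.decompose 𝒜 a n))), ?_⟩
    rw [map_sum]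
    conv_rhs => rw [← DirectSum.sum_support_decompose 𝒜 a]
    refine Finset.sum_congr rfl fun n _ => ?_
    rw [awayToBase_mk ℬ z hz hhat, hφ, evalOne_algebraMap]

end
end Groth.Agent.H18
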