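import Groth.Agent.H18.AwayLaurent
import Groth.Agent.H18.ConeIso
import Mathlib.RingTheory.PolynomialAlgebra

set_option autoImplicit false
universe u

namespace Groth.Agent.H18

open HomogeneousLocalization
open scoped Polynomial LaurentPolynomial

section General
variable {A σ : Type u} [CommRing A] [SetLike σ A] [AddSubgroupClass σ A] (𝒜 : ℕ → σ)
  [GradedRing 𝒜] {d : ℕ} {s : A} (hs : s ∈ 𝒜 d)

theorem val_mul_pow' {k : ℕ} {a : A} (ha : a ∈ 𝒜 (k • d)) :
    (Away.mk 𝒜 hs k a ha).val * algebraMap A (Localization.Away s) (s ^ k) =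
      algebraMap A (Localization.Away s) a := by
  rw [Away.val_mk, Localization.mk_eq_mk']
  exact IsLocalization.mk'_spec _ a (⟨s ^ k, k, rfl⟩ : Submonoid.powers s)

theorem val_eq_mul_inv_pow {k : ℕ} {a : A} (ha : a ∈ 𝒜 (k • d)) :
    (Away.mk 𝒜 hs k a ha).val =
      algebraMap A (Localization.Away s) a * ((awayUnit s)⁻¹ ^ k : (Localization.Away s)ˣ) := by
  have h := val_mul_pow' 𝒜 hs ha
  rw [map_pow, ← awayUnit_val, ← Units.val_pow_eq_pow_val] at h
  rw [inv_pow, Units.eq_mul_inv_iff_mul_eq]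
  exact h

theorem laurentC_injective {R : Type*} [CommRing R] :
    Function.Injective (LaurentPolynomial.C : R →+* R[T;T⁻¹]) := by
  have h : Function.LeftInverse (LaurentPolynomial.eval₂ (RingHom.id R) (1 : Rˣ))
      (LaurentPolynomial.C : R →+* R[T;T⁻¹]) := fun r => by
    rw [LaurentPolynomial.eval₂_C]; rfl
  exact h.injective

end General

section
variable {R A : Type u} [CommRing R] [CommRing A] [Algebra R A] (𝒜 : ℕ → Submodule R A)
    [GradedAlgebra 𝒜]
    {B : Type u} [CommRing B] [Algebra R B] (ℬ : ℕ → Submodule R B) [GradedAlgebra ℬ]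
    [Algebra A B] (φ : 𝒜 →+*ᵍ ℬ) (hφ : ∀ a : A, φ a = algebraMap A B a)
    (z : B) (hz : z ∈ ℬ 1) (hhat : Function.Bijective (Polynomial.aeval (R := A) z))
    {f : A} (hf : f ∈ 𝒜 1)

/-- The element `z / f` of `B_(f)`. -/
noncomputable def zOverF : Away ℬ (φ f) :=
  Away.mk ℬ (φ.2 hf) 1 z (mem_smul_one ℬ hz)

/-- `A_(f)[X] → B_(f)`, `X ↦ z / f`. -/
noncomputable def polyToAway : (Away 𝒜 f)[X] →+* Away ℬ (φ f) :=
  Polynomial.eval₂RingHom (Away.map φ f) (zOverF 𝒜 ℬ φ z hz hf)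

/-- The auxiliary map `B = A[z] → A_(f)[T, T⁻¹][X]`, `a ↦ Σ (a_n / f ^ n) T ^ n`, `z ↦ T X`. -/
noncomputable def xiHom : B →+* ((Away 𝒜 f)[T;T⁻¹])[X] :=
  (Polynomial.eval₂RingHom ((Polynomial.C).comp (toLaurent₀ 𝒜 hf))
    (Polynomial.C (LaurentPolynomial.T 1) * Polynomial.X)).comp
    (AlgEquiv.ofBijective (Polynomial.aeval (R := A) z) hhat).symm.toRingHom

theorem xiHom_aeval (P : A[X]) :
    xiHom 𝒜 z hhat hf (Polynomial.aeval z P) =
      Polynomial.eval₂ ((Polynomial.C).comp (toLaurent₀ 𝒜 hf))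
        (Polynomial.C (LaurentPolynomial.T 1) * Polynomial.X) P := by
  have h : (AlgEquiv.ofBijective (Polynomial.aeval (R := A) z) hhat).symm
      (Polynomial.aeval z P) = P :=
    (AlgEquiv.ofBijective (Polynomial.aeval (R := A) z) hhat).symm_apply_apply P
  show Polynomial.eval₂RingHom _ _
    ((AlgEquiv.ofBijective (Polynomial.aeval (R := A) z) hhat).symm (Polynomial.aeval z P)) = _
  rw [h]
  rfl

theorem xiHom_z :
    xiHom 𝒜 z hhat hf z = Polynomial.C (LaurentPolynomial.T 1) * Polynomial.X := by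
  have := xiHom_aeval 𝒜 z hhat hf (Polynomial.X : A[X])
  simpa using this

theorem xiHom_algebraMap (a : A) :
    xiHom 𝒜 z hhat hf (algebraMap A B a) = Polynomial.C (toLaurent₀ 𝒜 hf a) := by
  have := xiHom_aeval 𝒜 z hhat hf (Polynomial.C a : A[X])
  simpa using this

include hφ in
theorem isUnit_xiHom_phi_f : IsUnit (xiHom 𝒜 z hhat hf (φ f)) := by
  rw [hφ, xiHom_algebraMap, toLaurent₀_self]
  exact (LaurentPolynomial.isUnit_T 1).map Polynomial.C

/-- The extension of `xiHom` to `B_f`. -/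
noncomputable def xiLoc : Localization.Away (φ f) →+* ((Away 𝒜 f)[T;T⁻¹])[X] :=
  IsLocalization.Away.lift (φ f) (g := xiHom 𝒜 z hhat hf) (isUnit_xiHom_phi_f 𝒜 ℬ φ hφ z hhat hf)

theorem xiLoc_algebraMap (b : B) :
    xiLoc 𝒜 ℬ φ hφ z hhat hf (algebraMap B (Localization.Away (φ f)) b) = xiHom 𝒜 z hhat hf b :=
  IsLocalization.Away.lift_eq _ _ _

/-- The map `B_(f) → A_(f)[T, T⁻¹][X]`. -/
noncomputable def thetaHom : Away ℬ (φ f) →+* ((Away 𝒜 f)[T;T⁻¹])[X] :=
  (xiLoc 𝒜 ℬ φ hφ z hhat hf).comp (algebraMap (Away ℬ (φ f)) (Localization.Away (φ f)))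

theorem isUnit_C_T (k : ℕ) :
    IsUnit (Polynomial.C (LaurentPolynomial.T (k : ℤ)) : ((Away 𝒜 f)[T;T⁻¹])[X]) :=
  (LaurentPolynomial.isUnit_T (k : ℤ)).map Polynomial.C

theorem xiLoc_pow (k : ℕ) :
    xiLoc 𝒜 ℬ φ hφ z hhat hf (algebraMap B (Localization.Away (φ f)) (φ f ^ k)) =
      Polynomial.C (LaurentPolynomial.T (k : ℤ)) := by
  rw [xiLoc_algebraMap, map_pow, hφ, xiHom_algebraMap, toLaurent₀_self, ← map_pow,
    LaurentPolynomial.T_pow, mul_one]

theorem thetaHom_comp_polyToAway :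
    (thetaHom 𝒜 ℬ φ hφ z hhat hf).comp (polyToAway 𝒜 ℬ φ z hz hf) =
      Polynomial.mapRingHom (LaurentPolynomial.C : Away 𝒜 f →+* (Away 𝒜 f)[T;T⁻¹]) := by
  apply Polynomial.ringHom_ext
  · intro c
    simp only [RingHom.comp_apply, polyToAway, Polynomial.coe_eval₂RingHom, Polynomial.eval₂_C,
      Polynomial.coe_mapRingHom, Polynomial.map_C, thetaHom,
      HomogeneousLocalization.algebraMap_apply]
    obtain ⟨k, a, ha, rfl⟩ := Away.mk_surjective 𝒜 hf c
    have ha' : a ∈ 𝒜 k := by simpa using ha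
    rw [Away.map_mk]
    apply (isUnit_C_T 𝒜 (f := f) k).mul_left_inj.mp
    rw [← xiLoc_pow 𝒜 ℬ φ hφ z hhat hf k, ← map_mul, val_mul_pow' ℬ (s := φ f) (φ.2 hf), xiLoc_algebraMap, hφ,
      xiHom_algebraMap, toLaurent₀_of_mem 𝒜 hf ha', map_mul, xiLoc_pow 𝒜 ℬ φ hφ z hhat hf k]
  · simp only [RingHom.comp_apply, polyToAway, Polynomial.coe_eval₂RingHom, Polynomial.eval₂_X,
      Polynomial.coe_mapRingHom, Polynomial.map_X, thetaHom,
      HomogeneousLocalization.algebraMap_apply, zOverF]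
    apply (isUnit_C_T 𝒜 (f := f) 1).mul_left_inj.mp
    rw [← xiLoc_pow 𝒜 ℬ φ hφ z hhat hf 1, ← map_mul, val_mul_pow' ℬ (s := φ f) (φ.2 hf), xiLoc_algebraMap,
      xiHom_z, xiLoc_pow 𝒜 ℬ φ hφ z hhat hf 1, mul_comm, Nat.cast_one]

include hφ hhat in
theorem polyToAway_injective : Function.Injective (polyToAway 𝒜 ℬ φ z hz hf) := by
  have h : Function.Injective ((thetaHom 𝒜 ℬ φ hφ z hhat hf).comp (polyToAway 𝒜 ℬ φ z hz hf)) := by
    rw [thetaHom_comp_polyToAway]
    exact Polynomial.map_injective _ laurentC_injective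
  rw [RingHom.coe_comp] at h
  exact Function.Injective.of_comp h

include hφ hhat in
theorem polyToAway_surjective : Function.Surjective (polyToAway 𝒜 ℬ φ z hz hf) := by
  intro c
  obtain ⟨n, b, hb, rfl⟩ := Away.mk_surjective ℬ (φ.2 hf) c
  have hb' : b ∈ ℬ n := by simpa using hb
  obtain ⟨P, rfl⟩ := hhat.2 b
  have hstruct := coeff_mem_of_aeval_mem 𝒜 ℬ φ hφ z hz hhat P hb'
  -- the subring of `B_f` reached by `polyToAway`
  let ι : Away ℬ (φ f) →+* Localization.Away (φ f) :=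
    algebraMap (Away ℬ (φ f)) (Localization.Away (φ f))
  let S : Subring (Localization.Away (φ f)) := (ι.comp (polyToAway 𝒜 ℬ φ z hz hf)).range
  have hS1 : ∀ c : Away 𝒜 f, (Away.map φ f c).val ∈ S := fun c =>
    ⟨Polynomial.C c, by
      simp only [RingHom.comp_apply, polyToAway, Polynomial.coe_eval₂RingHom, Polynomial.eval₂_C,
        ι, HomogeneousLocalization.algebraMap_apply]⟩
  have hS2 : (zOverF 𝒜 ℬ φ z hz hf).val ∈ S :=
    ⟨Polynomial.X, by
      simp only [RingHom.comp_apply, polyToAway, Polynomial.coe_eval₂RingHom, Polynomial.eval₂_X,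
        ι, HomogeneousLocalization.algebraMap_apply]⟩
  have hdeg : P.natDegree < n + 1 := by
    have : P.natDegree ≤ n := by
      rw [Polynomial.natDegree_le_iff_coeff_eq_zero]
      intro N hN
      exact (hstruct N).2 hN
    omega
  have hsum : Polynomial.aeval z P = ∑ i ∈ Finset.range (n + 1), φ (P.coeff i) * z ^ i := by
    rw [Polynomial.aeval_eq_sum_range' hdeg]
    refine Finset.sum_congr rfl fun i _ => ?_
    rw [Algebra.smul_def, hφ]
  have hmem : (Away.mk ℬ (φ.2 hf) n (Polynomial.aeval z P) hb).val ∈ S := by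
    rw [val_eq_mul_inv_pow ℬ (s := φ f) (φ.2 hf) hb, hsum, map_sum, Finset.sum_mul]
    refine Subring.sum_mem _ fun i hi => ?_
    have hin : i ≤ n := by
      have := Finset.mem_range.mp hi
      omega
    have hci : P.coeff i ∈ 𝒜 ((n - i) • 1) := by
      have := (hstruct i).1 hin
      simpa using this
    have e1 : (Away.map φ f (Away.mk 𝒜 hf (n - i) (P.coeff i) hci)).val =
        algebraMap B (Localization.Away (φ f)) (φ (P.coeff i)) *
          ((awayUnit (φ f))⁻¹ ^ (n - i) : (Localization.Away (φ f))ˣ) := by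
      rw [Away.map_mk, val_eq_mul_inv_pow ℬ (s := φ f) (φ.2 hf)]
    have e2 : (zOverF 𝒜 ℬ φ z hz hf).val =
        algebraMap B (Localization.Away (φ f)) z *
          ((awayUnit (φ f))⁻¹ : (Localization.Away (φ f))ˣ) := by
      rw [zOverF, val_eq_mul_inv_pow ℬ (s := φ f) (φ.2 hf), pow_one]
    have e3 : algebraMap B (Localization.Away (φ f)) (φ (P.coeff i) * z ^ i) *
          ((awayUnit (φ f))⁻¹ ^ n : (Localization.Away (φ f))ˣ) =
        (Away.map φ f (Away.mk 𝒜 hf (n - i) (P.coeff i) hci)).val *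
          (zOverF 𝒜 ℬ φ z hz hf).val ^ i := by
      rw [e1, e2, mul_pow, map_mul, map_pow]
      have : ((awayUnit (φ f))⁻¹ ^ n : (Localization.Away (φ f))ˣ) =
          (awayUnit (φ f))⁻¹ ^ (n - i) * (awayUnit (φ f))⁻¹ ^ i := by
        rw [← pow_add, Nat.sub_add_cancel hin]
      rw [this, Units.val_mul, Units.val_pow_eq_pow_val, Units.val_pow_eq_pow_val]
      ring
    rw [e3]
    exact S.mul_mem (hS1 _) (S.pow_mem hS2 i)
  obtain ⟨Q, hQ⟩ := hmem
  refine ⟨Q, ?_⟩
  apply HomogeneousLocalization.val_injective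
  simpa only [RingHom.comp_apply, ι, HomogeneousLocalization.algebraMap_apply] using hQ

end
end Groth.Agent.H18
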