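import Groth.Agent.H18.TensorPowIso
import Groth.Agent.H18.TwistAmple

/-!
# Base loci of powers of an invertible module

`Bs L m`: the set of points where every global section of `L^{⊗ m}` vanishes.
* `isClosed_Bs`, `Bs_mul_subset`: `Bs (a * b) ⊆ Bs a`.
* `exists_stable`: on a Noetherian space there is `n₀ > 0` with
  `⋂_{m > 0} Bs m = Bs (k * n₀)` for all `k > 0`.
-/

set_option autoImplicit false
universe u

noncomputable section

namespace Groth.Agent.H18.BaseLocus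

open CategoryTheory AlgebraicGeometry Opposite TopologicalSpace
open Groth.Agent.H18.TensorGen Groth.Agent.H18.TensorPowIso

variable {X : Scheme.{u}}

/-- The base locus of `L^{⊗ m}`. -/
def Bs (L : X.Modules) (m : ℕ) : Set X :=
  {x : X | ∀ s : Coh.structureModule X ⟶ CohB1.tensorPow L m,
    x ∉ CohB1.genLocus (CohB1.tensorPow L m) s}

/-- The stable base locus. -/
def SB (L : X.Modules) : Set X :=
  {x : X | ∀ m : ℕ, 0 < m → ∀ s : Coh.structureModule X ⟶ CohB1.tensorPow L m,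
    x ∉ CohB1.genLocus (CohB1.tensorPow L m) s}

theorem SB_subset_Bs (L : X.Modules) {m : ℕ} (hm : 0 < m) : SB L ⊆ Bs L m :=
  fun _ hx s => hx m hm s

theorem isClosed_Bs (L : X.Modules) (m : ℕ) : IsClosed (Bs L m) := by
  have h : Bs L m = (⋃ s : Coh.structureModule X ⟶ CohB1.tensorPow L m,
      ((CohB1.genLocus (CohB1.tensorPow L m) s : X.Opens) : Set X))ᶜ := by
    ext x
    simp only [Bs, Set.mem_ofPred_eq, Set.mem_compl_iff, Set.mem_iUnion, not_exists]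
    rfl
  rw [h]
  exact (isOpen_iUnion fun s => (CohB1.genLocus (CohB1.tensorPow L m) s).2).isClosed_compl

theorem Bs_mul_subset {L : X.Modules} (hL : PicF.IsInvertible L) {a b : ℕ} (ha : 0 < a)
    (hb : 0 < b) : Bs L (a * b) ⊆ Bs L a := by
  intro x hx s hxs
  obtain ⟨a', rfl⟩ := Nat.exists_eq_succ_of_ne_zero ha.ne'
  obtain ⟨b', rfl⟩ := Nat.exists_eq_succ_of_ne_zero hb.ne'
  obtain ⟨e⟩ := nonempty_tensorPow_tensorPow hL (a' + 1) (b' + 1)
  refine hx (SecTwist.powHom s (b' + 1) ≫ e.hom) ?_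
  rw [TwistAmple.genLocus_comp_iso, genLocus_powHom_succ (isInvertible_tensorPow hL (a' + 1)) s b']
  exact hxs

theorem Bs_mul_subset' {L : X.Modules} (hL : PicF.IsInvertible L) {a b : ℕ} (ha : 0 < a)
    (hb : 0 < b) : Bs L (a * b) ⊆ Bs L b := by
  rw [Nat.mul_comm]
  exact Bs_mul_subset hL hb ha

/-- On a Noetherian space, the stable base locus is the base locus of `L^{k n₀}` for some `n₀ > 0`
and all `k > 0`. -/
theorem exists_stable [NoetherianSpace X] {L : X.Modules} (hL : PicF.IsInvertible L) :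
    ∃ n₀ : ℕ, 0 < n₀ ∧ ∀ k : ℕ, 0 < k → SB L = Bs L (k * n₀) := by
  let F : {m : ℕ // 0 < m} → Closeds X := fun m => ⟨Bs L m.1, isClosed_Bs L m.1⟩
  have hwf : WellFounded ((· < ·) : Closeds X → Closeds X → Prop) := wellFounded_lt
  obtain ⟨C, ⟨⟨n₀, hn₀⟩, rfl⟩, hmin⟩ := hwf.has_min (Set.range F) ⟨F ⟨1, Nat.one_pos⟩, ⟨_, rfl⟩⟩
  have hmin' : ∀ m : ℕ, 0 < m → Bs L m ⊆ Bs L n₀ → Bs L m = Bs L n₀ := by
    intro m hm hsub
    by_contra hne
    refine hmin (F ⟨m, hm⟩) ⟨_, rfl⟩ ?_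
    refine lt_of_le_of_ne (show (F ⟨m, hm⟩ : Set X) ⊆ F ⟨n₀, hn₀⟩ from hsub) ?_
    intro heq
    exact hne (congrArg (fun C : Closeds X => (C : Set X)) heq)
  have hSB : SB L = Bs L n₀ := by
    refine Set.Subset.antisymm (SB_subset_Bs L hn₀) ?_
    intro x hx m hm s
    have h1 : Bs L (n₀ * m) = Bs L n₀ :=
      hmin' (n₀ * m) (Nat.mul_pos hn₀ hm) (Bs_mul_subset hL hn₀ hm)
    have h2 : x ∈ Bs L (n₀ * m) := h1 ▸ hx
    exact Bs_mul_subset' hL hn₀ hm h2 s
  refine ⟨n₀, hn₀, fun k hk => ?_⟩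
  refine Set.Subset.antisymm (SB_subset_Bs L (Nat.mul_pos hk hn₀)) ?_
  rw [hSB]
  exact Bs_mul_subset' hL hk hn₀

end Groth.Agent.H18.BaseLocus
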