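import Groth.Agent.H18.ConeProps
import Groth.Agent.H18.AwayLaurent
import Mathlib.AlgebraicGeometry.Morphisms.FiniteType
import Mathlib.AlgebraicGeometry.ResidueField

set_option autoImplicit false
universe u

namespace Groth.Agent.H18

open AlgebraicGeometry CategoryTheory CategoryTheory.Limits HomogeneousLocalization TopologicalSpace
open LaurentPolynomial
open scoped TensorProduct

section Algebra
variable {B : Type u} [CommRing B] (κ : Type u) [CommRing κ] [Algebra B κ]
  {S : Type u} [CommRing S] [Algebra B S]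

/-- Base change of a Laurent polynomial algebra. -/
noncomputable def fibreRingEquiv (e₁ : S ≃ₐ[B] B[T;T⁻¹]) : S ⊗[B] κ ≃+* κ[T;T⁻¹] :=
  (((Algebra.TensorProduct.congr e₁ (AlgEquiv.refl : κ ≃ₐ[B] κ)).trans
    (Algebra.TensorProduct.comm B (B[T;T⁻¹]) κ)).toRingEquiv).trans
      (AddMonoidAlgebra.scalarTensorEquiv (M := ℤ) B κ).toRingEquiv

theorem fibreRingEquiv_one_tmul (e₁ : S ≃ₐ[B] B[T;T⁻¹]) (c : κ) :
    fibreRingEquiv κ e₁ (1 ⊗ₜ c) = algebraMap κ κ[T;T⁻¹] c := by
  simp [fibreRingEquiv, AddMonoidAlgebra.scalarTensorEquiv_tmul, Algebra.smul_def]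

end Algebra

section
variable {R A : Type u} [CommRing R] [CommRing A] [Algebra R A] {𝒜 : ℕ → Submodule R A}
  [GradedAlgebra 𝒜]
  (π : (Cone.pointed 𝒜 : Scheme.{u}) ⟶ Proj 𝒜)
  (hπ : ∀ (d : ℕ) (f : A) (hd : 0 < d) (hf : f ∈ 𝒜 d),
        Cone.chart hf hd ≫ π =
          Spec.map (CommRingCat.ofHom (algebraMap (Away 𝒜 f) (Localization.Away f))) ≫
            Proj.awayι 𝒜 f hf hd)

include hπ in
theorem cone_isPullback_chart {d : ℕ} {f : A} (hd : 0 < d) (hf : f ∈ 𝒜 d) :
    IsPullback (Cone.chart hf hd)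
      (Spec.map (CommRingCat.ofHom (algebraMap (Away 𝒜 f) (Localization.Away f)))) π
      (Proj.awayι 𝒜 f hf hd) := by
  refine (IsOpenImmersion.isPullback _ _ _ _ (hπ d f hd hf) ?_).flip
  rw [Proj.opensRange_awayι, cone_preimage_basicOpen π hπ hd hf, opensRange_coneChart]

theorem exists_degree_one_not_mem
    (hgen : (HomogeneousIdeal.irrelevant 𝒜).toIdeal = Ideal.span (𝒜 1 : Set A)) (x : Proj 𝒜) :
    ∃ f ∈ 𝒜 1, f ∉ x.asHomogeneousIdeal := by
  by_contra hcon
  push Not at hcon
  apply x.not_irrelevant_le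
  show (HomogeneousIdeal.irrelevant 𝒜).toIdeal ≤ x.asHomogeneousIdeal.toIdeal
  rw [hgen, Ideal.span_le]
  intro f hf
  exact hcon f hf

set_option backward.isDefEq.respectTransparency false in
include hπ in
theorem cone_retraction_locallyOfFiniteType
    (hgen : (HomogeneousIdeal.irrelevant 𝒜).toIdeal = Ideal.span (𝒜 1 : Set A)) :
    LocallyOfFiniteType π := by
  have hle : (HomogeneousIdeal.irrelevant 𝒜).toIdeal ≤
      Ideal.span (Set.range (fun f : 𝒜 1 => (f : A))) := by
    rw [hgen]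
    apply Ideal.span_mono
    intro a ha
    exact ⟨⟨a, ha⟩, rfl⟩
  apply IsZariskiLocalAtTarget.of_openCover (P := @LocallyOfFiniteType)
    (Proj.affineOpenCoverOfIrrelevantLESpan 𝒜 (fun f : 𝒜 1 => (f : A)) (fun f => f.2)
      (fun _ => one_pos) hle).openCover
  intro (s : 𝒜 1)
  have hpb := cone_isPullback_chart π hπ one_pos s.2
  have heq : hpb.isoPullback.hom ≫ pullback.snd _ _ =
      Spec.map (CommRingCat.ofHom (algebraMap (Away 𝒜 (s : A)) (Localization.Away (s : A)))) :=
    hpb.isoPullback_hom_snd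
  have hft : LocallyOfFiniteType
      (Spec.map (CommRingCat.ofHom (algebraMap (Away 𝒜 (s : A)) (Localization.Away (s : A))))) := by
    rw [HasRingHomProperty.Spec_iff (P := @LocallyOfFiniteType)]
    exact finiteType_algebraMap_away 𝒜 s.2
  have key : LocallyOfFiniteType (pullback.snd π (Proj.awayι 𝒜 (s : A) s.2 one_pos)) := by
    rw [← MorphismProperty.cancel_left_of_respectsIso @LocallyOfFiniteType hpb.isoPullback.hom,
      heq]
    exact hft
  exact key

include hπ in
theorem cone_fibre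
    (hgen : (HomogeneousIdeal.irrelevant 𝒜).toIdeal = Ideal.span (𝒜 1 : Set A)) (x : Proj 𝒜) :
    ∃ e : pullback π ((Proj 𝒜).fromSpecResidueField x) ≅
        Spec (CommRingCat.of (LaurentPolynomial ((Proj 𝒜).residueField x))),
      e.hom ≫ Spec.map (CommRingCat.ofHom (algebraMap ((Proj 𝒜).residueField x)
        (LaurentPolynomial ((Proj 𝒜).residueField x)))) =
        pullback.snd π ((Proj 𝒜).fromSpecResidueField x) := by
  obtain ⟨f, hf, hfx⟩ := exists_degree_one_not_mem hgen x
  have hrange : Set.range ((Proj 𝒜).fromSpecResidueField x).base ⊆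
      Set.range (Proj.awayι 𝒜 f hf one_pos).base := by
    rw [Scheme.range_fromSpecResidueField]
    intro y hy
    rw [Set.mem_singleton_iff] at hy
    rw [hy]
    have : x ∈ (Proj.awayι 𝒜 f hf one_pos).opensRange := by
      rw [Proj.opensRange_awayι]; exact hfx
    exact this
  obtain ⟨ρ, hρ⟩ : ∃ ρ : Away 𝒜 f →+* (Proj 𝒜).residueField x,
      Spec.map (CommRingCat.ofHom ρ) ≫ Proj.awayι 𝒜 f hf one_pos =
        (Proj 𝒜).fromSpecResidueField x := by
    refine ⟨(Spec.preimage (IsOpenImmersion.lift (Proj.awayι 𝒜 f hf one_pos) _ hrange)).hom, ?_⟩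
    rw [CommRingCat.ofHom_hom, Spec.map_preimage, IsOpenImmersion.lift_fac]
  let _ : Algebra (Away 𝒜 f) ((Proj 𝒜).residueField x) := ρ.toAlgebra
  have hsq1 := IsPullback.of_hasPullback
    (Spec.map (CommRingCat.ofHom (algebraMap (Away 𝒜 f) (Localization.Away f))))
    (Spec.map (CommRingCat.ofHom ρ))
  have hsq2 := cone_isPullback_chart π hπ one_pos hf
  have hbig := hsq1.paste_horiz hsq2
  rw [hρ] at hbig
  let iso2 := pullbackSpecIso (Away 𝒜 f) (Localization.Away f) ((Proj 𝒜).residueField x)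
  let ε := fibreRingEquiv ((Proj 𝒜).residueField x) (awayLaurentEquiv 𝒜 hf)
  have hε : ε.symm.toRingHom.comp (algebraMap ((Proj 𝒜).residueField x)
        (LaurentPolynomial ((Proj 𝒜).residueField x))) =
      RingHomClass.toRingHom (Algebra.TensorProduct.includeRight (R := Away 𝒜 f)
        (A := Localization.Away f) (B := (Proj 𝒜).residueField x)) := by
    ext c
    apply ε.injective
    simp only [RingHom.comp_apply, RingEquiv.toRingHom_eq_coe, RingHom.coe_coe,
      RingEquiv.apply_symm_apply]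
    exact (fibreRingEquiv_one_tmul _ _ c).symm
  let iso3 : Spec (CommRingCat.of (Localization.Away f ⊗[Away 𝒜 f] (Proj 𝒜).residueField x)) ≅
      Spec (CommRingCat.of (LaurentPolynomial ((Proj 𝒜).residueField x))) :=
    { hom := Spec.map (CommRingCat.ofHom ε.symm.toRingHom)
      inv := Spec.map (CommRingCat.ofHom ε.toRingHom)
      hom_inv_id := by
        rw [← Spec.map_comp, ← CommRingCat.ofHom_comp]
        rw [RingEquiv.symm_toRingHom_comp_toRingHom]; exact Spec.map_id _
      inv_hom_id := by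
        rw [← Spec.map_comp, ← CommRingCat.ofHom_comp]
        rw [RingEquiv.toRingHom_comp_symm_toRingHom]; exact Spec.map_id _ }
  refine ⟨hbig.isoPullback.symm ≪≫ iso2 ≪≫ iso3, ?_⟩
  simp only [Iso.trans_hom, Iso.symm_hom, Category.assoc]
  show hbig.isoPullback.inv ≫ iso2.hom ≫ Spec.map (CommRingCat.ofHom ε.symm.toRingHom) ≫
    Spec.map (CommRingCat.ofHom (algebraMap ((Proj 𝒜).residueField x)
        (LaurentPolynomial ((Proj 𝒜).residueField x)))) = _
  rw [← Spec.map_comp, ← CommRingCat.ofHom_comp, hε, pullbackSpecIso_hom_snd]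
  exact hbig.isoPullback_inv_snd

end
end Groth.Agent.H18
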