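import Groth.Agent.H18.ConeRetract

set_option autoImplicit false
universe u

namespace Groth.Agent.H18

open AlgebraicGeometry CategoryTheory CategoryTheory.Limits HomogeneousLocalization TopologicalSpace

section
variable {R A : Type u} [CommRing R] [CommRing A] [Algebra R A] {𝒜 : ℕ → Submodule R A}
  [GradedAlgebra 𝒜]
  (π : (Cone.pointed 𝒜 : Scheme.{u}) ⟶ Proj 𝒜)
  (hπ : ∀ (d : ℕ) (f : A) (hd : 0 < d) (hf : f ∈ 𝒜 d),
        Cone.chart hf hd ≫ π =
          Spec.map (CommRingCat.ofHom (algebraMap (Away 𝒜 f) (Localization.Away f))) ≫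
            Proj.awayι 𝒜 f hf hd)

/-- A prime of `A_g` contains `a^e/g^d` iff it contains `a`. -/
theorem isLocalizationElem_val_mem_iff {e d : ℕ} {g a : A} (hg : g ∈ 𝒜 e) (he : 0 < e)
    (ha : a ∈ 𝒜 d) (𝔮 : Ideal (Localization.Away g)) [h𝔮 : 𝔮.IsPrime] :
    algebraMap (Away 𝒜 g) (Localization.Away g) (Away.isLocalizationElem hg ha) ∈ 𝔮 ↔
      algebraMap A (Localization.Away g) a ∈ 𝔮 := by
  rw [HomogeneousLocalization.algebraMap_apply, Away.val_mk, Localization.mk_eq_mk']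
  constructor
  · intro h
    have h2 := 𝔮.mul_mem_right (algebraMap A (Localization.Away g)
      ((⟨g ^ d, d, rfl⟩ : Submonoid.powers g) : A)) h
    rw [IsLocalization.mk'_spec, map_pow] at h2
    exact h𝔮.mem_of_pow_mem _ h2
  · intro h
    rw [IsLocalization.mk'_eq_mul_mk'_one, map_pow]
    exact 𝔮.mul_mem_right _ (Ideal.pow_mem_of_mem _ h e he)

include hπ in
/-- The preimage of `D₊(a)` under the retraction is `D(a) ∩ E`. -/
theorem cone_preimage_basicOpen {d : ℕ} {a : A} (hd : 0 < d) (ha : a ∈ 𝒜 d) :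
    π ⁻¹ᵁ Proj.basicOpen 𝒜 a = (Cone.pointed 𝒜).ι ⁻¹ᵁ Cone.coneOpen a := by
  ext y
  obtain ⟨e, g, hg, he, y', rfl⟩ := exists_coneChart_eq y
  have h1 : (Cone.chart hg he).base y' ∈ π ⁻¹ᵁ Proj.basicOpen 𝒜 a ↔
      y' ∈ (Cone.chart hg he ≫ π) ⁻¹ᵁ Proj.basicOpen 𝒜 a := Iff.rfl
  have h2 : (Cone.chart hg he).base y' ∈ (Cone.pointed 𝒜).ι ⁻¹ᵁ Cone.coneOpen a ↔
      y' ∈ (Cone.chart hg he ≫ (Cone.pointed 𝒜).ι) ⁻¹ᵁ Cone.coneOpen a := Iff.rfl
  have h4 := Proj.awayι_preimage_basicOpen 𝒜 hg he ha hd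
  rw [SetLike.mem_coe, SetLike.mem_coe, h1, h2, hπ e g he hg, coneChart_ι,
    Scheme.Hom.comp_preimage, h4]
  show (algebraMap (Away 𝒜 g) (Localization.Away g) (Away.isLocalizationElem hg ha)) ∉ y'.asIdeal ↔
    algebraMap A (Localization.Away g) a ∉ y'.asIdeal
  exact not_congr (isLocalizationElem_val_mem_iff hg he ha y'.asIdeal)

include hπ in
/-- Homogeneous elements of `π p` are those of `p`. -/
theorem cone_mem_asHomogeneousIdeal_iff (p : (Cone.pointed 𝒜 : Scheme.{u})) {n : ℕ} {a : A}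
    (ha : a ∈ 𝒜 n) :
    a ∈ (π.base p).asHomogeneousIdeal ↔ a ∈ ((Cone.pointed 𝒜).ι.base p).asIdeal := by
  obtain ⟨e, g, he, hg, hgp⟩ := exists_homogeneous_not_mem_of_mem_pointed p
  have hag : a * g ∈ 𝒜 (n + e) := SetLike.mul_mem_graded ha hg
  have hpos : 0 < n + e := by omega
  have h3 := cone_preimage_basicOpen π hπ hpos hag
  have h3g := cone_preimage_basicOpen π hπ he hg
  have hp1 : a * g ∉ (π.base p).asHomogeneousIdeal ↔
      a * g ∉ ((Cone.pointed 𝒜).ι.base p).asIdeal := by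
    have : p ∈ π ⁻¹ᵁ Proj.basicOpen 𝒜 (a * g) ↔
        p ∈ (Cone.pointed 𝒜).ι ⁻¹ᵁ Cone.coneOpen (a * g) := by rw [h3]
    exact this
  have hp2 : g ∉ (π.base p).asHomogeneousIdeal ↔
      g ∉ ((Cone.pointed 𝒜).ι.base p).asIdeal := by
    have : p ∈ π ⁻¹ᵁ Proj.basicOpen 𝒜 g ↔
        p ∈ (Cone.pointed 𝒜).ι ⁻¹ᵁ Cone.coneOpen g := by rw [h3g]
    exact this
  have hgπ : g ∉ (π.base p).asHomogeneousIdeal := hp2.mpr hgp
  constructor
  · intro h
    by_contra hcon
    have h' : a * g ∉ ((Cone.pointed 𝒜).ι.base p).asIdeal := fun h' =>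
      (((Cone.pointed 𝒜).ι.base p).isPrime.mem_or_mem h').elim hcon hgp
    exact hp1.mpr h' (Ideal.mul_mem_right g _ h)
  · intro h
    by_contra hcon
    have h' : a * g ∉ (π.base p).asHomogeneousIdeal := fun h' =>
      ((π.base p).isPrime.mem_or_mem h').elim hcon hgπ
    exact hp1.mp h' (Ideal.mul_mem_right g _ h)

include hπ in
/-- `π` sends a prime to its homogeneous core. -/
theorem cone_base_asHomogeneousIdeal (p : (Cone.pointed 𝒜 : Scheme.{u})) :
    (π.base p).asHomogeneousIdeal =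
      (((Cone.pointed 𝒜).ι.base p).asIdeal).homogeneousCore 𝒜 := by
  apply HomogeneousIdeal.ext'
  intro i x hx
  rw [cone_mem_asHomogeneousIdeal_iff π hπ p hx]
  constructor
  · intro h
    exact Ideal.mem_homogeneousCore_of_homogeneous_of_mem ⟨i, hx⟩ h
  · intro h
    exact Ideal.toIdeal_homogeneousCore_le 𝒜 _ h

include hπ in
theorem cone_retraction_surjective : Surjective π := by
  refine ⟨fun x => ?_⟩
  have hmem : (⟨x.asHomogeneousIdeal.toIdeal, x.isPrime⟩ : PrimeSpectrum A) ∈ Cone.pointed 𝒜 := by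
    intro h
    apply x.not_irrelevant_le
    exact (PrimeSpectrum.mem_zeroLocus _ _).mp h
  refine ⟨⟨_, hmem⟩, ?_⟩
  apply ProjectiveSpectrum.ext
  rw [cone_base_asHomogeneousIdeal π hπ]
  exact HomogeneousIdeal.toIdeal_homogeneousCore_eq_self x.asHomogeneousIdeal

include hπ in
theorem cone_retraction_isAffineHom : IsAffineHom π := by
  apply isAffineHom_of_forall_exists_isAffineOpen
  intro x
  obtain ⟨d, hd, f, hf, hfx⟩ := exists_homogeneous_pos_not_mem 𝒜 x
  refine ⟨Proj.basicOpen 𝒜 f, hfx, Proj.isAffineOpen_basicOpen 𝒜 f hf hd, ?_⟩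
  rw [cone_preimage_basicOpen π hπ hd hf, ← opensRange_coneChart hf hd]
  exact isAffineOpen_opensRange (Cone.chart hf hd)

end
end Groth.Agent.H18
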