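import Groth.Prelude.Def_Cone
import Groth.Agent.H18.ProjBasic
import Mathlib.AlgebraicGeometry.Pullbacks
import Mathlib.AlgebraicGeometry.Gluing
import Mathlib.AlgebraicGeometry.Morphisms.Affine
import Mathlib.AlgebraicGeometry.Morphisms.UnderlyingMap

set_option autoImplicit false
universe u

namespace Groth.Agent.H18

open AlgebraicGeometry CategoryTheory CategoryTheory.Limits HomogeneousLocalization TopologicalSpace
open scoped TensorProduct

section
variable {R A : Type u} [CommRing R] [CommRing A] [Algebra R A] {𝒜 : ℕ → Submodule R A}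
  [GradedAlgebra 𝒜]

theorem coneChart_ι {d : ℕ} {f : A} (hf : f ∈ 𝒜 d) (hd : 0 < d) :
    Cone.chart hf hd ≫ (Cone.pointed 𝒜).ι =
      Spec.map (CommRingCat.ofHom (algebraMap A (Localization.Away f))) :=
  IsOpenImmersion.lift_fac _ _ _

instance coneChart_isOpenImmersion {d : ℕ} {f : A} (hf : f ∈ 𝒜 d) (hd : 0 < d) :
    IsOpenImmersion (Cone.chart hf hd) := by
  have : IsOpenImmersion (Cone.chart hf hd ≫ (Cone.pointed 𝒜).ι) := by
    rw [coneChart_ι]; infer_instance
  exact IsOpenImmersion.of_comp _ (Cone.pointed 𝒜).ι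

theorem opensRange_coneChart {d : ℕ} {f : A} (hf : f ∈ 𝒜 d) (hd : 0 < d) :
    (Cone.chart hf hd).opensRange = (Cone.pointed 𝒜).ι ⁻¹ᵁ Cone.coneOpen f := by
  ext y
  have h1 : (Cone.pointed 𝒜).ι.base y ∈ Cone.coneOpen f ↔
      (Cone.pointed 𝒜).ι.base y ∈
        Set.range (Spec.map (CommRingCat.ofHom (algebraMap A (Localization.Away f)))).base := by
    have := PrimeSpectrum.localization_away_comap_range (Localization.Away f) f
    show _ ∈ (PrimeSpectrum.basicOpen f : Set (PrimeSpectrum A)) ↔ _
    rw [← this]; rfl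
  show y ∈ Set.range (Cone.chart hf hd).base ↔ (Cone.pointed 𝒜).ι.base y ∈ Cone.coneOpen f
  rw [h1]
  constructor
  · rintro ⟨y', rfl⟩
    refine ⟨y', ?_⟩
    rw [← coneChart_ι hf hd]
    rfl
  · rintro ⟨y', hy'⟩
    refine ⟨y', ?_⟩
    apply (Cone.pointed 𝒜).ι.isOpenEmbedding.injective
    rw [← hy', ← coneChart_ι hf hd]
    rfl

/-- Every point of the pointed cone avoids a homogeneous element of positive degree. -/
theorem exists_homogeneous_not_mem_of_mem_pointed (y : (Cone.pointed 𝒜 : Scheme.{u})) :
    ∃ (d : ℕ) (f : A), 0 < d ∧ f ∈ 𝒜 d ∧ f ∉ ((Cone.pointed 𝒜).ι.base y).asIdeal := by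
  have hy : (Cone.pointed 𝒜).ι.base y ∈ Cone.pointed 𝒜 := y.2
  by_contra hcon
  push Not at hcon
  apply hy
  show _ ∈ PrimeSpectrum.zeroLocus _
  rw [PrimeSpectrum.mem_zeroLocus, SetLike.coe_subset_coe,
    HomogeneousIdeal.toIdeal_irrelevant_le]
  intro i hi x hx
  exact hcon i x hi hx

/-- Every point of the pointed cone lies in some chart. -/
theorem exists_coneChart_eq (y : (Cone.pointed 𝒜 : Scheme.{u})) :
    ∃ (d : ℕ) (g : A) (hg : g ∈ 𝒜 d) (hd : 0 < d) (y' : _), (Cone.chart hg hd).base y' = y := by
  obtain ⟨d, g, hd, hg, hgy⟩ := exists_homogeneous_not_mem_of_mem_pointed y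
  have : y ∈ (Cone.chart hg hd).opensRange := by
    rw [opensRange_coneChart]
    exact hgy
  obtain ⟨y', hy'⟩ := this
  exact ⟨d, g, hg, hd, y', hy'⟩

section compat
variable {m m' : ℕ} {f g : A} (hf : f ∈ 𝒜 m) (hg : g ∈ 𝒜 m')

theorem isUnit_algebraMap_tensor_mul (f g : A) :
    IsUnit (algebraMap A (Localization.Away f ⊗[A] Localization.Away g) (f * g)) := by
  rw [map_mul]
  refine IsUnit.mul ?_ ?_
  · have h := (IsLocalization.Away.algebraMap_isUnit (S := Localization.Away f) f).map
      (Algebra.TensorProduct.includeLeft (R := A) (S := A) (A := Localization.Away f)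
        (B := Localization.Away g))
    rwa [AlgHom.commutes] at h
  · have h := (IsLocalization.Away.algebraMap_isUnit (S := Localization.Away g) g).map
      (Algebra.TensorProduct.includeRight (R := A) (A := Localization.Away f)
        (B := Localization.Away g))
    rwa [AlgHom.commutes] at h

/-- The comparison map `A_(fg) → A_f ⊗ A_g`. -/
noncomputable def tensorTheta (f g : A) :
    Away 𝒜 (f * g) →+* Localization.Away f ⊗[A] Localization.Away g :=
  (IsLocalization.Away.lift (S := Localization.Away (f * g)) (f * g)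
    (isUnit_algebraMap_tensor_mul f g)).comp
    (algebraMap (Away 𝒜 (f * g)) (Localization.Away (f * g)))

include hg in
theorem tensorTheta_left :
    (Algebra.TensorProduct.includeLeftRingHom (R := A) (A := Localization.Away f)
      (B := Localization.Away g)).comp (algebraMap (Away 𝒜 f) (Localization.Away f)) =
      (tensorTheta (𝒜 := 𝒜) f g).comp (awayMap 𝒜 hg rfl) := by
  have key : ∀ hunit : IsUnit (algebraMap A (Localization.Away (f * g)) f),
      (IsLocalization.Away.lift (S := Localization.Away (f * g)) (f * g)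
        (isUnit_algebraMap_tensor_mul f g)).comp
        (Localization.awayLift (algebraMap A (Localization.Away (f * g))) f hunit) =
      Algebra.TensorProduct.includeLeftRingHom := by
    intro hunit
    apply IsLocalization.ringHom_ext (Submonoid.powers f)
    ext a
    simp only [RingHom.comp_apply, Localization.awayLift, IsLocalization.Away.lift_eq]
    exact ((Algebra.TensorProduct.includeLeft (R := A) (S := A) (A := Localization.Away f)
        (B := Localization.Away g)).commutes a).symm
  ext y
  simp only [RingHom.comp_apply, tensorTheta, HomogeneousLocalization.algebraMap_apply]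
  rw [val_awayMap, ← RingHom.comp_apply, key]

include hf in
theorem tensorTheta_right :
    (RingHomClass.toRingHom (Algebra.TensorProduct.includeRight (R := A)
      (A := Localization.Away f) (B := Localization.Away g))).comp
        (algebraMap (Away 𝒜 g) (Localization.Away g)) =
      (tensorTheta (𝒜 := 𝒜) f g).comp (awayMap 𝒜 hf (mul_comm f g)) := by
  have key : ∀ hunit : IsUnit (algebraMap A (Localization.Away (f * g)) g),
      (IsLocalization.Away.lift (S := Localization.Away (f * g)) (f * g)
        (isUnit_algebraMap_tensor_mul f g)).comp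
        (Localization.awayLift (algebraMap A (Localization.Away (f * g))) g hunit) =
      RingHomClass.toRingHom (Algebra.TensorProduct.includeRight (R := A)
      (A := Localization.Away f) (B := Localization.Away g)) := by
    intro hunit
    apply IsLocalization.ringHom_ext (Submonoid.powers g)
    ext a
    simp only [RingHom.comp_apply, Localization.awayLift, IsLocalization.Away.lift_eq]
    exact ((Algebra.TensorProduct.includeRight (R := A) (A := Localization.Away f)
        (B := Localization.Away g)).commutes a).symm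
  ext y
  simp only [RingHom.comp_apply, tensorTheta, HomogeneousLocalization.algebraMap_apply]
  rw [val_awayMap, ← RingHom.comp_apply, key]

/-- The local pieces of the canonical retraction agree on overlaps. -/
theorem coneChart_compat (hm : 0 < m) (hm' : 0 < m') :
    pullback.fst (Cone.chart hf hm) (Cone.chart hg hm') ≫
      Spec.map (CommRingCat.ofHom (algebraMap (Away 𝒜 f) (Localization.Away f))) ≫
        Proj.awayι 𝒜 f hf hm =
    pullback.snd (Cone.chart hf hm) (Cone.chart hg hm') ≫
      Spec.map (CommRingCat.ofHom (algebraMap (Away 𝒜 g) (Localization.Away g))) ≫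
        Proj.awayι 𝒜 g hg hm' := by
  obtain ⟨θ, hθ1, hθ2⟩ : ∃ θ : pullback (Cone.chart hf hm) (Cone.chart hg hm') ⟶
      pullback (Spec.map (CommRingCat.ofHom (algebraMap A (Localization.Away f))))
        (Spec.map (CommRingCat.ofHom (algebraMap A (Localization.Away g)))),
      θ ≫ pullback.fst _ _ = pullback.fst _ _ ∧ θ ≫ pullback.snd _ _ = pullback.snd _ _ :=
    ⟨pullback.lift (pullback.fst _ _) (pullback.snd _ _) (by
      rw [← coneChart_ι hf hm, ← coneChart_ι hg hm', pullback.condition_assoc]),
      pullback.lift_fst _ _ _, pullback.lift_snd _ _ _⟩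
  have hfst : pullback.fst (Cone.chart hf hm) (Cone.chart hg hm') =
      θ ≫ (pullbackSpecIso A (Localization.Away f) (Localization.Away g)).hom ≫
        Spec.map (CommRingCat.ofHom Algebra.TensorProduct.includeLeftRingHom) := by
    rw [pullbackSpecIso_hom_fst]; exact hθ1.symm
  have hsnd : pullback.snd (Cone.chart hf hm) (Cone.chart hg hm') =
      θ ≫ (pullbackSpecIso A (Localization.Away f) (Localization.Away g)).hom ≫
        Spec.map (CommRingCat.ofHom
          (RingHomClass.toRingHom (Algebra.TensorProduct.includeRight (R := A)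
            (A := Localization.Away f) (B := Localization.Away g)))) := by
    rw [pullbackSpecIso_hom_snd]; exact hθ2.symm
  have e1 : Spec.map (CommRingCat.ofHom (Algebra.TensorProduct.includeLeftRingHom (R := A)
        (A := Localization.Away f) (B := Localization.Away g))) ≫
      Spec.map (CommRingCat.ofHom (algebraMap (Away 𝒜 f) (Localization.Away f))) =
      Spec.map (CommRingCat.ofHom (tensorTheta (𝒜 := 𝒜) f g)) ≫
        Spec.map (CommRingCat.ofHom (awayMap 𝒜 hg rfl)) := by
    rw [← Spec.map_comp, ← Spec.map_comp, ← CommRingCat.ofHom_comp, ← CommRingCat.ofHom_comp,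
      tensorTheta_left hg]
  have e2 : Spec.map (CommRingCat.ofHom
        (RingHomClass.toRingHom (Algebra.TensorProduct.includeRight (R := A)
            (A := Localization.Away f) (B := Localization.Away g)))) ≫
      Spec.map (CommRingCat.ofHom (algebraMap (Away 𝒜 g) (Localization.Away g))) =
      Spec.map (CommRingCat.ofHom (tensorTheta (𝒜 := 𝒜) f g)) ≫
        Spec.map (CommRingCat.ofHom (awayMap 𝒜 hf (mul_comm f g))) := by
    rw [← Spec.map_comp, ← Spec.map_comp, ← CommRingCat.ofHom_comp, ← CommRingCat.ofHom_comp,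
      tensorTheta_right hf]
  have key : Spec.map (CommRingCat.ofHom (Algebra.TensorProduct.includeLeftRingHom (R := A)
        (A := Localization.Away f) (B := Localization.Away g))) ≫
      Spec.map (CommRingCat.ofHom (algebraMap (Away 𝒜 f) (Localization.Away f))) ≫
        Proj.awayι 𝒜 f hf hm =
      Spec.map (CommRingCat.ofHom
        (RingHomClass.toRingHom (Algebra.TensorProduct.includeRight (R := A)
            (A := Localization.Away f) (B := Localization.Away g)))) ≫
      Spec.map (CommRingCat.ofHom (algebraMap (Away 𝒜 g) (Localization.Away g))) ≫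
        Proj.awayι 𝒜 g hg hm' := by
    rw [← Category.assoc, e1, ← Category.assoc _ _ (Proj.awayι 𝒜 g hg hm'), e2, Category.assoc,
      Category.assoc, Proj.SpecMap_awayMap_awayι, Proj.SpecMap_awayMap_awayι]
    congr 1
  rw [hfst, hsnd, Category.assoc, Category.assoc, Category.assoc, Category.assoc, key]

end compat

/-- The charts of the pointed cone form an open cover. -/
noncomputable def coneChartCover : Scheme.OpenCover.{u} (Cone.pointed 𝒜 : Scheme.{u}) :=
  Scheme.Cover.mkOfCovers (Σ i : PNat, 𝒜 i)
    (fun s => Spec (CommRingCat.of (Localization.Away (s.2.1 : A))))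
    (fun s => Cone.chart s.2.2 s.1.2)
    (fun y => by
      obtain ⟨d, g, hg, hd, y', hy'⟩ := exists_coneChart_eq y
      exact ⟨⟨⟨d, hd⟩, ⟨g, hg⟩⟩, y', hy'⟩)
    (fun s => coneChart_isOpenImmersion s.2.2 s.1.2)

variable (𝒜) in
/-- The canonical retraction `E ⟶ Proj 𝒜` of the pointed affine cone. -/
noncomputable def coneRetraction : (Cone.pointed 𝒜 : Scheme.{u}) ⟶ Proj 𝒜 :=
  (coneChartCover (𝒜 := 𝒜)).glueMorphisms
    (fun s => Spec.map (CommRingCat.ofHom
      (algebraMap (Away 𝒜 (s.2.1 : A)) (Localization.Away (s.2.1 : A)))) ≫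
        Proj.awayι 𝒜 s.2.1 s.2.2 s.1.2)
    (fun s t => coneChart_compat s.2.2 t.2.2 s.1.2 t.1.2)

theorem coneChart_retraction {d : ℕ} {f : A} (hd : 0 < d) (hf : f ∈ 𝒜 d) :
    Cone.chart hf hd ≫ coneRetraction 𝒜 =
      Spec.map (CommRingCat.ofHom (algebraMap (Away 𝒜 f) (Localization.Away f))) ≫
        Proj.awayι 𝒜 f hf hd :=
  (coneChartCover (𝒜 := 𝒜)).ι_glueMorphisms _ _ ⟨⟨d, hd⟩, ⟨f, hf⟩⟩

theorem coneRetraction_unique (q : (Cone.pointed 𝒜 : Scheme.{u}) ⟶ Proj 𝒜)
    (hq : ∀ (d : ℕ) (f : A) (hd : 0 < d) (hf : f ∈ 𝒜 d),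
        Cone.chart hf hd ≫ q =
          Spec.map (CommRingCat.ofHom (algebraMap (Away 𝒜 f) (Localization.Away f))) ≫
            Proj.awayι 𝒜 f hf hd) :
    q = coneRetraction 𝒜 := by
  refine (coneChartCover (𝒜 := 𝒜)).hom_ext _ _ fun s => ?_
  exact (hq s.1.1 s.2.1 s.1.2 s.2.2).trans (coneChart_retraction s.1.2 s.2.2).symm

end
end Groth.Agent.H18
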