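import Mathlib.AlgebraicGeometry.Limits
import Mathlib.AlgebraicGeometry.Morphisms.ClosedImmersion

set_option autoImplicit false
universe u
open CategoryTheory CategoryTheory.Limits AlgebraicGeometry

namespace Groth.Agent.H18.CoprodCI

/-- `coprod.desc` of two closed immersions with disjoint ranges is a closed immersion. -/
theorem isClosedImmersion_coprod_desc {X Y Z : Scheme.{u}} (a : X ⟶ Z) (b : Y ⟶ Z)
    [IsClosedImmersion a] [IsClosedImmersion b]
    (h : ∀ (x : X) (y : Y), a x ≠ b y) : IsClosedImmersion (coprod.desc a b) := by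
  have hs : SurjectiveOnStalks (coprod.desc a b) := by
    rw [IsZariskiLocalAtSource.iff_of_openCover (P := @SurjectiveOnStalks) (coprodOpenCover.{u, u} X Y)]
    rintro (_ | _)
    · change SurjectiveOnStalks (coprod.inl ≫ coprod.desc a b)
      rw [coprod.inl_desc]; infer_instance
    · change SurjectiveOnStalks (coprod.inr ≫ coprod.desc a b)
      rw [coprod.inr_desc]; infer_instance
  have hfun : ((coprod.desc a b : X ⨿ Y ⟶ Z) : ↥(X ⨿ Y) → ↥Z) =
      Sum.elim (a : X → Z) (b : Y → Z) ∘ (coprodMk X Y).symm := by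
    funext z
    obtain ⟨w, rfl⟩ := (coprodMk X Y).surjective z
    rw [Function.comp_apply, Homeomorph.symm_apply_apply]
    rcases w with w | w
    · rw [coprodMk_inl, Sum.elim_inl, ← Scheme.Hom.comp_apply, coprod.inl_desc]
    · rw [coprodMk_inr, Sum.elim_inr, ← Scheme.Hom.comp_apply, coprod.inr_desc]
  refine { toSurjectiveOnStalks := hs, isClosedEmbedding := ?_ }
  rw [hfun]
  refine Topology.IsClosedEmbedding.comp ?_ (coprodMk X Y).symm.isClosedEmbedding
  refine Topology.IsClosedEmbedding.sumElim a.isClosedEmbedding b.isClosedEmbedding ?_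
  rw [Sum.elim_injective]
  exact ⟨a.isClosedEmbedding.injective, b.isClosedEmbedding.injective, h⟩

end Groth.Agent.H18.CoprodCI
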