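import Mathlib

/-!
# Dehomogenisation

For a graded ring `𝒜` and `g` of degree one, the ring map `A → A_(g)`, `a ↦ a / g ^ d` for `a`
homogeneous of degree `d`; consequently ring maps out of `A_(g)` are determined by their values on
the images of ring generators of `A`.
-/

set_option autoImplicit false
universe u

open HomogeneousLocalization

namespace Groth.Agent.H18.Dehom

noncomputable section

variable {R A : Type u} [CommRing R] [CommRing A] [Algebra R A] (𝒜 : ℕ → Submodule R A)
  [GradedAlgebra 𝒜] {g : A} (hg : g ∈ 𝒜 1)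

omit [GradedAlgebra 𝒜] in
theorem mem_smul_one {d : ℕ} {a : A} (ha : a ∈ 𝒜 d) : a ∈ 𝒜 (d • 1) := by
  rw [smul_eq_mul, mul_one]
  exact ha

/-- `a ↦ a / g ^ d` on the degree `d` part. -/
def dehomAdd (d : ℕ) : 𝒜 d →+ Away 𝒜 g where
  toFun a := Away.mk 𝒜 hg d a.1 (mem_smul_one 𝒜 a.2)
  map_zero' := by
    apply HomogeneousLocalization.val_injective
    rw [Away.val_mk, HomogeneousLocalization.val_zero]
    exact Localization.mk_zero _
  map_add' a b := by
    apply HomogeneousLocalization.val_injective
    rw [HomogeneousLocalization.val_add, Away.val_mk, Away.val_mk, Away.val_mk]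
    exact (Localization.add_mk_self _ _ _).symm

/-- The dehomogenisation map `A → A_(g)`. -/
def dehom : A →+* Away 𝒜 g :=
  (DirectSum.toSemiring (fun d => dehomAdd 𝒜 hg d)
    (by
      apply HomogeneousLocalization.val_injective
      show (Away.mk 𝒜 hg 0 (1 : A) _).val = _
      rw [Away.val_mk, HomogeneousLocalization.val_one]
      refine (Localization.mk_eq_mk_iff.mpr ?_).trans Localization.mk_one
      rw [Localization.r_iff_exists]
      exact ⟨1, by simp⟩)
    (by
      intro i j ai aj
      apply HomogeneousLocalization.val_injective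
      show (Away.mk 𝒜 hg (i + j) (ai.1 * aj.1) _).val = _
      rw [HomogeneousLocalization.val_mul]
      show _ = (Away.mk 𝒜 hg i ai.1 _).val * (Away.mk 𝒜 hg j aj.1 _).val
      rw [Away.val_mk, Away.val_mk, Away.val_mk, Localization.mk_mul]
      congr 1
      apply Subtype.ext
      exact pow_add g i j)).comp (DirectSum.decomposeRingEquiv 𝒜).toRingHom

theorem dehom_of_mem {d : ℕ} {a : A} (ha : a ∈ 𝒜 d) :
    dehom 𝒜 hg a = Away.mk 𝒜 hg d a (mem_smul_one 𝒜 ha) := by
  unfold dehom
  rw [RingHom.comp_apply]
  have h1 : (DirectSum.decomposeRingEquiv 𝒜).toRingHom a =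
      DirectSum.of (fun i => 𝒜 i) d ⟨a, ha⟩ := DirectSum.decompose_of_mem 𝒜 ha
  rw [h1, DirectSum.toSemiring_of]
  rfl

end

end Groth.Agent.H18.Dehom
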