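import Groth.Agent.H18.PConeBasic
import Mathlib.AlgebraicGeometry.Morphisms.IsIso

set_option autoImplicit false
universe u

namespace Groth.Agent.H18.EventuallyBij

open AlgebraicGeometry CategoryTheory CategoryTheory.Limits HomogeneousLocalization TopologicalSpace

section
variable {R A B : Type u} [CommRing R] [CommRing A] [Algebra R A] {𝒜 : ℕ → Submodule R A}
  [GradedAlgebra 𝒜] [CommRing B] [Algebra R B] {ℬ : ℕ → Submodule R B} [GradedAlgebra ℬ]
  (ψ : 𝒜 →+*ᵍ ℬ) (d₀ : ℕ) (hbij : ∀ d : ℕ, d₀ ≤ d → Set.BijOn ψ (𝒜 d) (ℬ d))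

include hbij in
theorem dom_eq_top : PCone.dom ψ = ⊤ := by
  rw [eq_top_iff]
  intro x _
  obtain ⟨e, he, g, hg, hgx⟩ := exists_homogeneous_pos_not_mem ℬ x
  have hge : g ^ (d₀ + 1) ∈ ℬ ((d₀ + 1) • e) := SetLike.pow_mem_graded _ hg
  have hle : d₀ ≤ (d₀ + 1) • e := by
    rw [smul_eq_mul]; nlinarith
  obtain ⟨a, ha, hag⟩ := (hbij _ hle).surjOn hge
  have hpos : 0 < (d₀ + 1) • e := by rw [smul_eq_mul]; positivity
  refine Opens.mem_iSup.mpr ⟨⟨a, _, hpos, ha⟩, ?_⟩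
  show x ∈ Proj.basicOpen ℬ (ψ a)
  rw [Proj.mem_basicOpen, hag]
  intro h
  exact hgx (x.isPrime.mem_of_pow_mem _ h)

include hbij in
theorem awayMap_injective {d : ℕ} {f : A} (hd : 0 < d) (hf : f ∈ 𝒜 d) :
    Function.Injective (Away.map ψ f) := by
  rw [injective_iff_map_eq_zero]
  intro z hz
  obtain ⟨k, a, ha, rfl⟩ := Away.mk_surjective 𝒜 hf z
  rw [Away.map_mk] at hz
  have h1 := congrArg val hz
  rw [Away.val_mk, val_zero, Localization.mk_eq_mk', IsLocalization.mk'_eq_zero_iff] at h1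
  obtain ⟨⟨m, j, rfl⟩, hm⟩ := h1
  apply val_injective
  rw [Away.val_mk, val_zero, Localization.mk_eq_mk', IsLocalization.mk'_eq_zero_iff]
  refine ⟨⟨f ^ (j + d₀), j + d₀, rfl⟩, ?_⟩
  have hmem : f ^ (j + d₀) * a ∈ 𝒜 ((j + d₀) • d + k • d) :=
    SetLike.mul_mem_graded (SetLike.pow_mem_graded _ hf) ha
  have hle : d₀ ≤ (j + d₀) • d + k • d := by
    simp only [smul_eq_mul]; nlinarith
  apply (hbij _ hle).injOn hmem (zero_mem _)
  rw [map_zero, map_mul, map_pow, pow_add, mul_right_comm]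
  have hm' : ψ f ^ j * ψ a = 0 := hm
  rw [hm', zero_mul]

include hbij in
theorem awayMap_surjective {d : ℕ} {f : A} (hd : 0 < d) (hf : f ∈ 𝒜 d) :
    Function.Surjective (Away.map ψ f) := by
  intro w
  obtain ⟨k, b, hb, rfl⟩ := Away.mk_surjective ℬ (Graded.map_mem ψ hf) w
  have hmem : ψ f ^ d₀ * b ∈ ℬ (d₀ • d + k • d) :=
    SetLike.mul_mem_graded (SetLike.pow_mem_graded _ (Graded.map_mem ψ hf)) hb
  have hle : d₀ ≤ d₀ • d + k • d := by
    simp only [smul_eq_mul]; nlinarith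
  obtain ⟨a, ha, hab⟩ := (hbij _ hle).surjOn hmem
  have ha' : a ∈ 𝒜 ((d₀ + k) • d) := by rwa [add_smul]
  refine ⟨Away.mk 𝒜 hf (d₀ + k) a ha', ?_⟩
  rw [Away.map_mk]
  apply val_injective
  rw [Away.val_mk, Away.val_mk, Localization.mk_eq_mk_iff, Localization.r_iff_exists]
  refine ⟨1, ?_⟩
  simp only [OneMemClass.coe_one, one_mul]
  rw [hab, pow_add]
  ring

set_option backward.isDefEq.respectTransparency false in
include hbij in
theorem isIso_of_chart_compat (r : (PCone.dom ψ : Scheme.{u}) ⟶ Proj 𝒜)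
    (hr : ∀ (d : ℕ) (f : A) (hd : 0 < d) (hf : f ∈ 𝒜 d),
      PCone.chart ψ hf hd ≫ r =
        Spec.map (CommRingCat.ofHom (Away.map ψ f)) ≫ Proj.awayι 𝒜 f hf hd) :
    IsIso r := by
  have key : MorphismProperty.isomorphisms Scheme r := by
    apply IsZariskiLocalAtTarget.of_openCover (P := MorphismProperty.isomorphisms Scheme)
      (Proj.affineOpenCover 𝒜).openCover
    intro (s : Σ i : PNat, 𝒜 i)
    have hpb : IsPullback (PCone.chart ψ s.2.2 s.1.2)
        (Spec.map (CommRingCat.ofHom (Away.map ψ s.2.1))) r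
        (Proj.awayι 𝒜 s.2.1 s.2.2 s.1.2) := by
      refine (IsOpenImmersion.isPullback _ _ _ _ (hr _ _ s.1.2 s.2.2) ?_).flip
      rw [Proj.opensRange_awayι, preimage_basicOpen_of_chart_compat ψ r hr s.1.2 s.2.2,
        opensRange_chart]
    have heq : hpb.isoPullback.hom ≫ pullback.snd _ _ =
        Spec.map (CommRingCat.ofHom (Away.map ψ s.2.1)) := hpb.isoPullback_hom_snd
    have hiso : IsIso (Spec.map (CommRingCat.ofHom (Away.map ψ s.2.1))) := by
      rw [isIso_SpecMap_iff]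
      exact ⟨awayMap_injective ψ d₀ hbij s.1.2 s.2.2, awayMap_surjective ψ d₀ hbij s.1.2 s.2.2⟩
    have h2 : pullback.snd r (Proj.awayι 𝒜 s.2.1 s.2.2 s.1.2) =
        hpb.isoPullback.inv ≫ Spec.map (CommRingCat.ofHom (Away.map ψ s.2.1)) :=
      ((Iso.inv_comp_eq _).mpr heq.symm).symm
    show IsIso (pullback.snd r (Proj.awayι 𝒜 s.2.1 s.2.2 s.1.2))
    rw [h2]
    infer_instance
  exact key

end
end Groth.Agent.H18.EventuallyBij
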