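import Groth.Agent.H18.EventuallyBij
import Mathlib.RingTheory.GradedAlgebra.FiniteType
import Mathlib.RingTheory.Finiteness.Ideal
import Mathlib.Algebra.Group.Subgroup.Pointwise

set_option autoImplicit false
universe u

namespace Groth.Agent.H18.EventuallyGen

open AlgebraicGeometry CategoryTheory CategoryTheory.Limits HomogeneousLocalization TopologicalSpace

section Generation
variable {R B : Type*} [CommRing R] [CommRing B] [Algebra R B] (ℬ : ℕ → Submodule R B)
  [GradedAlgebra ℬ]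

/-- A multiplicative family of additive subgroups containing degree zero and homogeneous generators
contains every homogeneous element (degree by degree). -/
theorem graded_generation (s : Set B) (hs : Algebra.adjoin (ℬ 0) s = ⊤) (d : B → ℕ)
    (hd : ∀ x ∈ s, x ∈ ℬ (d x)) (W : ℕ → AddSubgroup B) (hW0 : ∀ x ∈ ℬ 0, x ∈ W 0)
    (hWs : ∀ x ∈ s, x ∈ W (d x))
    (hWmul : ∀ m n x y, x ∈ ℬ m → x ∈ W m → y ∈ ℬ n → y ∈ W n → x * y ∈ W (m + n)) :
    ∀ n, ∀ x ∈ ℬ n, x ∈ W n := by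
  let V : ℕ → AddSubgroup B := fun n => (ℬ n).toAddSubgroup ⊓ W n
  have hVmem : ∀ n x, x ∈ V n ↔ x ∈ ℬ n ∧ x ∈ W n := fun n x => by
    simp only [V, AddSubgroup.mem_inf, Submodule.mem_toAddSubgroup]
  have hmul : ∀ x y, x ∈ ⨆ n, V n → y ∈ ⨆ n, V n → x * y ∈ ⨆ n, V n := by
    intro x y hx hy
    refine AddSubgroup.iSup_induction V (C := fun x => x * y ∈ ⨆ n, V n) hx ?_ ?_ ?_
    · intro m x hxm
      refine AddSubgroup.iSup_induction V (C := fun y => x * y ∈ ⨆ n, V n) hy ?_ ?_ ?_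
      · intro n y hyn
        obtain ⟨hx1, hx2⟩ := (hVmem m x).mp hxm
        obtain ⟨hy1, hy2⟩ := (hVmem n y).mp hyn
        exact AddSubgroup.mem_iSup_of_mem (m + n)
          ((hVmem _ _).mpr ⟨SetLike.mul_mem_graded hx1 hy1, hWmul m n x y hx1 hx2 hy1 hy2⟩)
      · rw [mul_zero]; exact zero_mem _
      · intro y₁ y₂ h₁ h₂; rw [mul_add]; exact add_mem h₁ h₂
    · rw [zero_mul]; exact zero_mem _
    · intro x₁ x₂ h₁ h₂; rw [add_mul]; exact add_mem h₁ h₂
  have hall : ∀ x : B, x ∈ ⨆ n, V n := by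
    intro x
    have hx : x ∈ Algebra.adjoin (ℬ 0) s := by rw [hs]; exact Algebra.mem_top
    induction hx using Algebra.adjoin_induction with
    | mem x hx => exact AddSubgroup.mem_iSup_of_mem (d x) ((hVmem _ _).mpr ⟨hd x hx, hWs x hx⟩)
    | algebraMap r =>
      have h1 : ((r : ℬ 0) : B) ∈ V 0 := (hVmem _ _).mpr ⟨r.2, hW0 _ r.2⟩
      exact AddSubgroup.mem_iSup_of_mem 0 h1
    | add x y _ _ hx hy => exact add_mem hx hy
    | mul x y _ _ hx hy => exact hmul x y hx hy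
  have hproj : ∀ x, x ∈ ⨆ n, V n → ∀ n, ((DirectSum.decompose ℬ x n : ℬ n) : B) ∈ W n := by
    intro x hx
    refine AddSubgroup.iSup_induction V
      (C := fun x => ∀ n, ((DirectSum.decompose ℬ x n : ℬ n) : B) ∈ W n) hx ?_ ?_ ?_
    · intro k x hxk n
      obtain ⟨hx1, hx2⟩ := (hVmem k x).mp hxk
      by_cases hkn : k = n
      · subst hkn
        rw [DirectSum.decompose_of_mem_same ℬ hx1]; exact hx2
      · rw [DirectSum.decompose_of_mem_ne ℬ hx1 hkn]; exact zero_mem _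
    · intro n
      rw [DirectSum.decompose_zero, DirectSum.zero_apply, ZeroMemClass.coe_zero]
      exact zero_mem _
    · intro x y hx hy n
      rw [DirectSum.decompose_add, DirectSum.add_apply, Submodule.coe_add]
      exact add_mem (hx n) (hy n)
  intro n x hx
  have := hproj x (hall x) n
  rwa [DirectSum.decompose_of_mem_same ℬ hx] at this

/-- `(ℬ 1) ^ n ≤ ℬ n`. -/
theorem pow_degOne_le (n : ℕ) : ℬ 1 ^ n ≤ ℬ n := by
  induction n with
  | zero =>
    rw [pow_zero, Submodule.one_le]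
    exact SetLike.GradedOne.one_mem
  | succ k ih =>
    rw [pow_succ, Submodule.mul_le]
    intro m hm n hn
    exact SetLike.mul_mem_graded (ih hm) hn

/-- Elements of the submodule power `(ℬ 1) ^ n` lie in the `n`-th power of the ideal spanned by
`ℬ 1`. -/
theorem pow_le_span_pow (n : ℕ) {x : B} (hx : x ∈ ℬ 1 ^ n) :
    x ∈ Ideal.span (ℬ 1 : Set B) ^ n := by
  induction n generalizing x with
  | zero => simp only [pow_zero, Ideal.one_eq_top, Submodule.mem_top]
  | succ k ih =>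
    rw [pow_succ] at hx ⊢
    refine Submodule.mul_induction_on hx ?_ ?_
    · intro m hm n hn
      exact Ideal.mul_mem_mul (ih hm) (Ideal.subset_span hn)
    · intro x y hx hy
      exact add_mem hx hy

/-- The `k`-th power of the ideal spanned by `ℬ 1` is contained in the ideal spanned by `ℬ k`. -/
theorem span_pow_le (k : ℕ) : Ideal.span (ℬ 1 : Set B) ^ k ≤ Ideal.span (ℬ k : Set B) := by
  induction k with
  | zero =>
    intro x _
    have h : Ideal.span (ℬ 0 : Set B) = ⊤ :=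
      (Ideal.eq_top_iff_one _).mpr (Ideal.subset_span SetLike.GradedOne.one_mem)
    rw [h]; trivial
  | succ k ih =>
    rw [pow_succ]
    refine (Ideal.mul_mono ih le_rfl).trans ?_
    rw [Ideal.span_mul_span']
    apply Ideal.span_mono
    rintro _ ⟨x, hx, y, hy, rfl⟩
    exact SetLike.mul_mem_graded hx hy

end Generation

section Main
variable {R A B : Type u} [CommRing R] [CommRing A] [Algebra R A] {𝒜 : ℕ → Submodule R A}
  [GradedAlgebra 𝒜] [CommRing B] [Algebra R B] {ℬ : ℕ → Submodule R B} [GradedAlgebra ℬ]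
  (φ : 𝒜 →+*ᵍ ℬ)

/-- If the induced morphism is an isomorphism, all the maps `A_(f) → B_(φ f)` are bijective. -/
theorem awayMap_bijective_of_isIso (p : (PCone.dom φ : Scheme.{u}) ⟶ Proj 𝒜)
    (hp : ∀ (d : ℕ) (f : A) (hd : 0 < d) (hf : f ∈ 𝒜 d),
      PCone.chart φ hf hd ≫ p =
        Spec.map (CommRingCat.ofHom (Away.map φ f)) ≫ Proj.awayι 𝒜 f hf hd)
    [IsIso p] {d : ℕ} {f : A} (hd : 0 < d) (hf : f ∈ 𝒜 d) :
    Function.Bijective (Away.map φ f) := by
  have hpb : IsPullback (PCone.chart φ hf hd)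
      (Spec.map (CommRingCat.ofHom (Away.map φ f))) p (Proj.awayι 𝒜 f hf hd) := by
    refine (IsOpenImmersion.isPullback _ _ _ _ (hp _ _ hd hf) ?_).flip
    rw [Proj.opensRange_awayι, preimage_basicOpen_of_chart_compat φ p hp hd hf,
      opensRange_chart]
  have hiso : IsIso (Spec.map (CommRingCat.ofHom (Away.map φ f))) := hpb.isIso_snd_of_isIso
  rw [isIso_SpecMap_iff] at hiso
  exact hiso

/-- Surjectivity of `A_(f) → B_(φ f)` for `f` of degree one: every homogeneous `b` is moved into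
the image of `φ` by a power of `φ f`. -/
theorem exists_pow_mul_eq_map {f : A} (hf : f ∈ 𝒜 1)
    (hsurj : Function.Surjective (Away.map φ f)) {n : ℕ} {b : B} (hb : b ∈ ℬ n) :
    ∃ (N : ℕ) (a : A), φ a = φ f ^ N * b := by
  have hb' : b ∈ ℬ (n • 1) := by simpa using hb
  obtain ⟨z, hz⟩ := hsurj (Away.mk ℬ (φ.2 hf) n b hb')
  obtain ⟨m, a, ha, rfl⟩ := Away.mk_surjective 𝒜 hf z
  rw [Away.map_mk] at hz
  have h1 := congrArg HomogeneousLocalization.val hz
  rw [Away.val_mk, Away.val_mk, Localization.mk_eq_mk_iff, Localization.r_iff_exists] at h1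
  obtain ⟨⟨c, k, rfl⟩, hc⟩ := h1
  have hc' : φ f ^ k * (φ f ^ n * φ a) = φ f ^ k * (φ f ^ m * b) := hc
  refine ⟨k + m, f ^ (k + n) * a, ?_⟩
  rw [map_mul, map_pow, pow_add, pow_add, mul_assoc, mul_assoc]
  exact hc'

/-- The image of `φ` is a graded subring. -/
theorem exists_mem_map_eq {n : ℕ} {b : B} (hb : b ∈ ℬ n) {a : A} (ha : φ a = b) :
    ∃ a' ∈ 𝒜 n, φ a' = b := by
  refine ⟨(DirectSum.decompose 𝒜 a n : A), SetLike.coe_mem _, ?_⟩
  rw [GradedRingHom.map_directSumDecompose, ha, DirectSum.decompose_of_mem_same ℬ hb]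

/-- `φ` maps `(𝒜 1) ^ (k + 1)` into `(ℬ 1) ^ (k + 1)` (no linearity over the base is needed). -/
theorem map_mem_pow (k : ℕ) {a : A} (ha : a ∈ 𝒜 1 ^ (k + 1)) : φ a ∈ ℬ 1 ^ (k + 1) := by
  induction k generalizing a with
  | zero =>
    rw [zero_add, pow_one] at ha ⊢
    exact φ.2 ha
  | succ k ih =>
    rw [pow_succ] at ha ⊢
    refine Submodule.mul_induction_on ha ?_ ?_
    · intro m hm n hn
      rw [map_mul]
      exact Submodule.mul_mem_mul (ih hm) (φ.2 hn)
    · intro x y hx hy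
      rw [map_add]
      exact add_mem hx hy

/-- `φ` maps homogeneous elements of positive degree into the ideal spanned by `ℬ 1`, when `𝒜` is
generated in degree one. -/
theorem map_mem_span_degOne (hgen : ∀ n : ℕ, 1 ≤ n → 𝒜 n = 𝒜 1 ^ n) {d : ℕ} (hd : 0 < d) {f : A}
    (hf : f ∈ 𝒜 d) : φ f ∈ Ideal.span (ℬ 1 : Set B) := by
  obtain ⟨k, rfl⟩ : ∃ k, d = k + 1 := ⟨d - 1, by omega⟩
  rw [hgen _ (by omega), pow_succ] at hf
  refine Submodule.mul_induction_on hf ?_ ?_
  · intro m _ n hn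
    rw [map_mul]
    exact Ideal.mul_mem_left _ _ (Ideal.subset_span (φ.2 hn))
  · intro x y hx hy
    rw [map_add]
    exact add_mem hx hy

/-- If `G(φ)` is everything, homogeneous elements of positive degree are nilpotent modulo the ideal
spanned by `ℬ 1`. -/
theorem mem_radical_span_degOne (hgen : ∀ n : ℕ, 1 ≤ n → 𝒜 n = 𝒜 1 ^ n)
    (hdom : PCone.dom φ = ⊤) {n : ℕ} (hn : 0 < n) {b : B} (hb : b ∈ ℬ n) :
    b ∈ (Ideal.span (ℬ 1 : Set B)).radical := by
  by_contra hcon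
  rw [Ideal.radical_eq_sInf, Ideal.mem_sInf] at hcon
  push Not at hcon
  obtain ⟨P, ⟨hIP, hP⟩, hbP⟩ := hcon
  have hcore : (P.homogeneousCore ℬ).toIdeal.IsPrime := hP.homogeneousCore
  have hle : (P.homogeneousCore ℬ).toIdeal ≤ P := Ideal.toIdeal_homogeneousCore_le ℬ P
  have hbQ : b ∉ P.homogeneousCore ℬ := fun h => hbP (hle h)
  let x : ProjectiveSpectrum ℬ :=
    ⟨P.homogeneousCore ℬ, hcore,
      fun hirr => hbQ (hirr (HomogeneousIdeal.mem_irrelevant_of_mem ℬ hn hb))⟩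
  have hx : x ∈ PCone.dom φ := by rw [hdom]; trivial
  obtain ⟨⟨f, d, hd, hf⟩, hxf⟩ := Opens.mem_iSup.mp hx
  have hxf' : φ f ∉ x.asHomogeneousIdeal := hxf
  apply hxf'
  show φ f ∈ P.homogeneousCore ℬ
  apply Ideal.mem_homogeneousCore_of_homogeneous_of_mem ⟨d, φ.2 hf⟩
  apply hIP
  exact map_mem_span_degOne φ hgen hd hf

/-- The ideal of those `a` with `φ a * b` in the image of `φ`. -/
def condIdeal (b : B) : Ideal A where
  carrier := {a | ∃ a', φ a' = φ a * b}
  add_mem' := by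
    rintro x y ⟨x', hx⟩ ⟨y', hy⟩
    exact ⟨x' + y', by rw [map_add, map_add, add_mul, hx, hy]⟩
  zero_mem' := ⟨0, by rw [map_zero, zero_mul]⟩
  smul_mem' := by
    rintro c x ⟨x', hx⟩
    exact ⟨c * x', by rw [smul_eq_mul, map_mul, map_mul, hx, mul_assoc]⟩

theorem mem_condIdeal {b : B} {a : A} : a ∈ condIdeal φ b ↔ ∃ a', φ a' = φ a * b := Iff.rfl

/-- The conductor of the image of `φ` in `B`. -/
def conductor : Ideal B where
  carrier := {c | ∀ x, ∃ a, φ a = c * x}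
  add_mem' := by
    intro c c' hc hc' x
    obtain ⟨a, ha⟩ := hc x
    obtain ⟨a', ha'⟩ := hc' x
    exact ⟨a + a', by rw [map_add, ha, ha', add_mul]⟩
  zero_mem' := fun x => ⟨0, by rw [map_zero, zero_mul]⟩
  smul_mem' := by
    intro y c hc x
    obtain ⟨a, ha⟩ := hc (y * x)
    exact ⟨a, by rw [ha, smul_eq_mul]; ring⟩

theorem mem_conductor {c : B} : c ∈ conductor φ ↔ ∀ x, ∃ a, φ a = c * x := Iff.rfl

theorem eventually_eq_pow [Algebra.FiniteType (ℬ 0) B] (hφ : Function.Injective φ)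
    (h0 : Set.BijOn φ (𝒜 0) (ℬ 0)) (h1 : Set.BijOn φ (𝒜 1) (ℬ 1))
    (hgen : ∀ n : ℕ, 1 ≤ n → 𝒜 n = 𝒜 1 ^ n) (hdom : PCone.dom φ = ⊤)
    (hsurj : ∀ f ∈ 𝒜 1, Function.Surjective (Away.map φ f)) :
    ∃ n₀ : ℕ, ∀ n : ℕ, n₀ ≤ n → ℬ n = ℬ 1 ^ n := by
  classical
  obtain ⟨s, hs, hsdeg⟩ := GradedAlgebra.exists_finset_adjoin_eq_top_and_homogeneous_ne_zero ℬ
  choose! d hd using hsdeg
  have hd0 : ∀ x ∈ s, d x ≠ 0 := fun x hx => (hd x hx).1
  have hdm : ∀ x ∈ s, x ∈ ℬ (d x) := fun x hx => (hd x hx).2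
  have hdm' : ∀ x ∈ (s : Set B), x ∈ ℬ (d x) := fun x hx => hdm x (Finset.mem_coe.mp hx)
  -- Step 1: the ideal spanned by `𝒜 1` is finitely generated
  obtain ⟨𝔪, h𝔪⟩ : ∃ 𝔪 : Ideal A, 𝔪 = Ideal.span (𝒜 1 : Set A) := ⟨_, rfl⟩
  obtain ⟨F, hF⟩ : ∃ F : Set A, F = (𝒜 1 : Set A) ∩ φ ⁻¹' (s : Set B) := ⟨_, rfl⟩
  have hFfin : F.Finite := by
    rw [hF]
    exact (Set.Finite.preimage (Set.injOn_of_injective hφ) s.finite_toSet).subset
      Set.inter_subset_right
  have h𝔪F : 𝔪 = Ideal.span F := by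
    apply le_antisymm
    · rw [h𝔪, Ideal.span_le]
      intro a ha
      let W1 : AddSubgroup B := (Ideal.span F).toAddSubgroup.map (φ.toRingHom.toAddMonoidHom)
      let W : ℕ → AddSubgroup B := fun n => if n = 1 then W1 else ⊤
      have hW1 : ∀ x, x ∈ W 1 ↔ ∃ a ∈ Ideal.span F, φ a = x := by
        intro x
        show x ∈ (if (1 : ℕ) = 1 then W1 else ⊤) ↔ _
        rw [if_pos rfl, AddSubgroup.mem_map]
        rfl
      have hWne : ∀ n, n ≠ 1 → W n = ⊤ := fun n hn => if_neg hn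
      have hgen1 := graded_generation ℬ (s : Set B) hs d hdm' W
        (fun x _ => by rw [hWne 0 (by norm_num)]; trivial)
        (by
          intro x hx
          by_cases hdx : d x = 1
          · have hx1 : x ∈ ℬ 1 := by rw [← hdx]; exact hdm' x hx
            rw [hdx, hW1]
            obtain ⟨a, ha, rfl⟩ := h1.surjOn hx1
            exact ⟨a, Ideal.subset_span (by rw [hF]; exact ⟨ha, hx⟩), rfl⟩
          · rw [hWne _ hdx]; trivial)
        (by
          intro m n x y hxm hxW hyn hyW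
          by_cases hmn : m + n = 1
          · rcases (by omega : (m = 0 ∧ n = 1) ∨ (m = 1 ∧ n = 0)) with ⟨rfl, rfl⟩ | ⟨rfl, rfl⟩
            · show x * y ∈ W 1
              rw [hW1] at hyW ⊢
              obtain ⟨y', hy', rfl⟩ := hyW
              obtain ⟨x', _, rfl⟩ := h0.surjOn hxm
              exact ⟨x' * y', Ideal.mul_mem_left _ _ hy', map_mul φ x' y'⟩
            · show x * y ∈ W 1
              rw [hW1] at hxW ⊢
              obtain ⟨x', hx', rfl⟩ := hxW
              obtain ⟨y', _, rfl⟩ := h0.surjOn hyn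
              exact ⟨x' * y', Ideal.mul_mem_right _ _ hx', map_mul φ x' y'⟩
          · rw [hWne _ hmn]; trivial)
      obtain ⟨a', ha', haa⟩ := (hW1 _).mp (hgen1 1 (φ a) (φ.2 ha))
      rw [← hφ haa]
      exact ha'
    · rw [h𝔪, hF]
      exact Ideal.span_mono Set.inter_subset_left
  have h𝔪FG : 𝔪.FG := by
    rw [h𝔪F]
    exact Submodule.fg_span hFfin
  -- Step 2: a uniform power of `𝔪` moves every generator into the image
  have hrad : ∀ x ∈ s, 𝔪 ≤ (condIdeal φ x).radical := by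
    intro x hx
    rw [h𝔪, Ideal.span_le]
    intro f hf
    obtain ⟨N, a, ha⟩ := exists_pow_mul_eq_map φ hf (hsurj f hf) (hdm x hx)
    exact Ideal.mem_radical_iff.mpr ⟨N, (mem_condIdeal φ).mpr ⟨a, by rw [ha, map_pow]⟩⟩
  choose! k hk using fun x (hx : x ∈ s) =>
    Ideal.exists_pow_le_of_le_radical_of_fg (hrad x hx) h𝔪FG
  obtain ⟨M, hM1, hM⟩ : ∃ M, 1 ≤ M ∧ ∀ x ∈ s, 𝔪 ^ M ≤ condIdeal φ x := by
    refine ⟨s.sup k + 1, Nat.le_add_left 1 _, fun x hx => ?_⟩
    have hle : k x ≤ s.sup k + 1 := by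
      have := Finset.le_sup (f := k) hx
      omega
    exact (Ideal.pow_le_pow_right hle).trans (hk x hx)
  -- Step 3: the ideal `G` of `A` generated by the degrees `≥ M` is stable
  obtain ⟨G, hG⟩ : ∃ G : Ideal A, G = Ideal.span {a | ∃ n, M ≤ n ∧ a ∈ 𝒜 n} := ⟨_, rfl⟩
  have hGsub : ∀ n, M ≤ n → ∀ a ∈ 𝒜 n, a ∈ G := fun n hn a ha => by
    rw [hG]; exact Ideal.subset_span ⟨n, hn, ha⟩
  have hG𝔪 : G ≤ 𝔪 ^ M := by
    rw [hG, Ideal.span_le]
    rintro a ⟨n, hn, ha⟩
    rw [hgen n (hM1.trans hn)] at ha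
    rw [h𝔪]
    exact Ideal.pow_le_pow_right hn (pow_le_span_pow 𝒜 n ha)
  have hPgen : ∀ x ∈ s, ∀ a ∈ G, ∃ a' ∈ G, φ a' = φ a * x := by
    intro x hx a ha
    rw [hG] at ha
    refine Submodule.span_induction (p := fun a _ => ∃ a' ∈ G, φ a' = φ a * x) ?_ ?_ ?_ ?_ ha
    · rintro a ⟨n, hn, han⟩
      obtain ⟨a'', ha''⟩ := (mem_condIdeal φ).mp (hM x hx (hG𝔪 (hGsub n hn a han)))
      have hmem : φ a * x ∈ ℬ (n + d x) := SetLike.mul_mem_graded (φ.2 han) (hdm x hx)
      obtain ⟨a', ha', haa'⟩ := exists_mem_map_eq φ hmem ha''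
      exact ⟨a', hGsub (n + d x) (by omega) a' ha', haa'⟩
    · exact ⟨0, zero_mem _, by rw [map_zero, zero_mul]⟩
    · rintro a b _ _ ⟨a', ha', haa⟩ ⟨b', hb', hbb⟩
      exact ⟨a' + b', add_mem ha' hb', by rw [map_add, map_add, add_mul, haa, hbb]⟩
    · rintro c a _ ⟨a', ha', haa⟩
      exact ⟨c * a', Ideal.mul_mem_left _ _ ha', by
        rw [smul_eq_mul, map_mul, map_mul, haa, mul_assoc]⟩
  have hP : ∀ x : B, ∀ a ∈ G, ∃ a' ∈ G, φ a' = φ a * x := by
    intro x
    have hx : x ∈ Algebra.adjoin (ℬ 0) (s : Set B) := by rw [hs]; exact Algebra.mem_top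
    induction hx using Algebra.adjoin_induction with
    | mem x hx => exact hPgen x (Finset.mem_coe.mp hx)
    | algebraMap r =>
      intro a ha
      obtain ⟨r', _, hrr⟩ := h0.surjOn r.2
      refine ⟨a * r', Ideal.mul_mem_right _ _ ha, ?_⟩
      rw [map_mul, hrr]
      rfl
    | add x y _ _ hx hy =>
      intro a ha
      obtain ⟨a₁, ha₁, h₁⟩ := hx a ha
      obtain ⟨a₂, ha₂, h₂⟩ := hy a ha
      exact ⟨a₁ + a₂, add_mem ha₁ ha₂, by rw [map_add, h₁, h₂, mul_add]⟩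
    | mul x y _ _ hx hy =>
      intro a ha
      obtain ⟨a₁, ha₁, h₁⟩ := hx a ha
      obtain ⟨a₂, ha₂, h₂⟩ := hy a₁ ha₁
      exact ⟨a₂, ha₂, by rw [h₂, h₁, mul_assoc]⟩
  -- Step 4: the conductor contains a power of the irrelevant ideal
  have hGK : ∀ a ∈ G, φ a ∈ conductor φ := by
    intro a ha
    refine (mem_conductor φ).mpr fun x => ?_
    obtain ⟨a', _, h⟩ := hP x a ha
    exact ⟨a', h⟩
  have hI : Ideal.span (ℬ 1 : Set B) ^ M ≤ conductor φ := by
    have e1 : Ideal.span (ℬ 1 : Set B) = Ideal.map φ (Ideal.span (𝒜 1 : Set A)) := by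
      rw [Ideal.map_span, h1.image_eq]
    rw [e1, ← Ideal.map_pow, Ideal.map_le_iff_le_comap]
    refine (span_pow_le 𝒜 M).trans ?_
    rw [Ideal.span_le]
    intro a ha
    show φ a ∈ conductor φ
    exact hGK a (hGsub M le_rfl a ha)
  have h𝔫rad : Ideal.span (s : Set B) ≤ (conductor φ).radical := by
    rw [Ideal.span_le]
    intro x hx
    have hx' : x ∈ s := Finset.mem_coe.mp hx
    have hpos : 0 < d x := Nat.pos_of_ne_zero (hd0 x hx')
    obtain ⟨e, he⟩ := Ideal.mem_radical_iff.mp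
      (mem_radical_span_degOne φ hgen hdom hpos (hdm x hx'))
    refine Ideal.mem_radical_iff.mpr ⟨e * M, ?_⟩
    rw [pow_mul]
    exact hI (Ideal.pow_mem_pow he M)
  obtain ⟨K, hK⟩ := Ideal.exists_pow_le_of_le_radical_of_fg h𝔫rad ⟨s, rfl⟩
  -- Step 5: elements of high degree lie in high powers of the irrelevant ideal
  obtain ⟨D, hD⟩ : ∃ D, D = s.sup d := ⟨_, rfl⟩
  have hDpos : 0 < D + 1 := Nat.succ_pos D
  have hdD : ∀ x ∈ s, d x ≤ D := fun x hx => by
    rw [hD]; exact Finset.le_sup (f := d) hx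
  have hsub : ∀ m n, (m + n + D) / (D + 1) ≤ (m + D) / (D + 1) + (n + D) / (D + 1) := by
    intro m n
    have h1 := Nat.lt_div_mul_add (a := m + D) (b := D + 1) hDpos
    have h2 := Nat.lt_div_mul_add (a := n + D) (b := D + 1) hDpos
    generalize (m + D) / (D + 1) = p at h1 ⊢
    generalize (n + D) / (D + 1) = q at h2 ⊢
    apply Nat.lt_succ_iff.mp
    rw [Nat.div_lt_iff_lt_mul hDpos]
    have h3 : (p + q).succ * (D + 1) = p * (D + 1) + q * (D + 1) + (D + 1) := by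
      rw [Nat.succ_eq_add_one]; ring
    rw [h3]
    omega
  have hfilt' := graded_generation ℬ (s : Set B) hs d hdm'
    (fun n => (Ideal.span (s : Set B) ^ ((n + D) / (D + 1))).toAddSubgroup)
    (by
      intro x _
      show x ∈ Ideal.span (s : Set B) ^ ((0 + D) / (D + 1))
      rw [zero_add, Nat.div_eq_of_lt (Nat.lt_succ_self D), pow_zero, Ideal.one_eq_top]
      trivial)
    (by
      intro x hx
      have hx' := Finset.mem_coe.mp hx
      have h1 : (d x + D) / (D + 1) ≤ 1 := by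
        apply Nat.lt_succ_iff.mp
        rw [Nat.div_lt_iff_lt_mul hDpos]
        have := hdD x hx'
        omega
      show x ∈ Ideal.span (s : Set B) ^ ((d x + D) / (D + 1))
      exact Ideal.pow_le_pow_right h1 (by rw [pow_one]; exact Ideal.subset_span hx))
    (by
      intro m n x y _ hx _ hy
      show x * y ∈ Ideal.span (s : Set B) ^ ((m + n + D) / (D + 1))
      have hx' : x ∈ Ideal.span (s : Set B) ^ ((m + D) / (D + 1)) := hx
      have hy' : y ∈ Ideal.span (s : Set B) ^ ((n + D) / (D + 1)) := hy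
      have h2 : x * y ∈ Ideal.span (s : Set B) ^ ((m + D) / (D + 1) + (n + D) / (D + 1)) := by
        rw [pow_add]; exact Ideal.mul_mem_mul hx' hy'
      exact Ideal.pow_le_pow_right (hsub m n) h2)
  have hfilt : ∀ n, ∀ x ∈ ℬ n, x ∈ Ideal.span (s : Set B) ^ ((n + D) / (D + 1)) :=
    fun n x hx => hfilt' n x hx
  -- Step 6: conclusion
  refine ⟨K * (D + 1) + 1, fun n hn => le_antisymm ?_ (pow_degOne_le ℬ n)⟩
  intro b hb
  have hKn : K ≤ (n + D) / (D + 1) := (Nat.le_div_iff_mul_le hDpos).mpr (by omega)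
  have hb1 : b ∈ conductor φ := hK (Ideal.pow_le_pow_right hKn (hfilt n b hb))
  obtain ⟨a, ha⟩ := (mem_conductor φ).mp hb1 1
  rw [mul_one] at ha
  obtain ⟨a', ha', haa'⟩ := exists_mem_map_eq φ hb ha
  obtain ⟨j, rfl⟩ : ∃ j, n = j + 1 := ⟨n - 1, by omega⟩
  rw [hgen _ (by omega)] at ha'
  rw [← haa']
  exact map_mem_pow φ j ha'

end Main

end Groth.Agent.H18.EventuallyGen
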