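import Groth.Agent.H18.GenLocusGen
import Groth.Agent.H18.TensorPowIso
import Groth.Agent.H18.TwistAmple

/-!
# Sections of invertible modules on integral schemes

* `hom_ext_sv`: morphisms `O ⟶ L` are determined by their sections.
* `isIso_of_genLocus_eq_top`: a section which generates everywhere is an isomorphism.
* `eq_zero_of_sv_eq_zero`: on an integral scheme a section of an invertible module vanishing on a
  nonempty open is zero.
* `tmulHom_ne_zero`, `powHom_ne_zero`: products/powers of nonzero sections are nonzero.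
* `genLocus_eq_top_of_ne_zero`: if `Γ(X, O)` is a field, a nonzero endomorphism of `O` generates
  everywhere.
-/

set_option autoImplicit false
universe u

noncomputable section

namespace Groth.Agent.H18.SectionIntegral

open CategoryTheory AlgebraicGeometry Opposite TopologicalSpace
open Groth.Agent.H8 (res_res res_smul ringRes_res section_eq_of_cover)
open Groth.Agent.H18.SecTw Groth.Agent.H18.TensorGen Groth.Agent.H18.TensorPowIso
open Groth.Agent.H18.GenLocusGen

variable {X : Scheme.{u}}

theorem hom_ext_sv {L : X.Modules} (s s' : Coh.structureModule X ⟶ L)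
    (h : ∀ U : X.Opens, sv s U = sv s' U) : s = s' :=
  (SheafOfModules.unitHomEquiv (R := X.ringCatSheaf) L).injective
    (PresheafOfModules.sections_ext _ _ (fun U => h U.unop))

theorem sv_zero (L : X.Modules) (U : X.Opens) : sv (0 : Coh.structureModule X ⟶ L) U = 0 := rfl

/-- A section which generates everywhere is an isomorphism. -/
theorem isIso_of_genLocus_eq_top {L : X.Modules} (s : Coh.structureModule X ⟶ L)
    (h : CohB1.genLocus L s = ⊤) : IsIso s := by
  rw [Scheme.Modules.Hom.isIso_iff_isIso_app]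
  intro V
  rw [ConcreteCategory.isIso_iff_bijective]
  have hV : V ≤ CohB1.genLocus L s := h ▸ le_top
  exact (bijective_smul_sv_iff s V).mp ⟨injective_smul_sv s V hV, surjective_smul_sv s V hV⟩

/-- On an integral scheme, a section of an invertible module vanishing on a nonempty open is
zero. -/
theorem eq_zero_of_sv_eq_zero [IsIntegral X] {L : X.Modules} (hL : PicF.IsInvertible L)
    (s : Coh.structureModule X ⟶ L) {V : X.Opens} (hV : (V : Set X).Nonempty)
    (h : sv s V = 0) : s = 0 := by
  apply hom_ext_sv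
  intro U
  rw [sv_zero]
  refine section_eq_of_cover L _ _ (fun x hx => ?_)
  obtain ⟨W, μ, hxW, hμ⟩ := exists_isGen hL x
  refine ⟨W ⊓ U, inf_le_right, ⟨hxW, hx⟩, ?_⟩
  rw [map_zero, sv_res]
  obtain ⟨c, hc⟩ := hμ.self.2 (sv s W)
  have hc' : c • μ = sv s W := hc
  have hne : ((W ⊓ V : X.Opens) : Set X).Nonempty :=
    nonempty_preirreducible_inter W.2 V.2 ⟨x, hxW⟩ hV
  have h0 : X.presheaf.map (homOfLE (inf_le_left : W ⊓ V ≤ W)).op c = 0 := by
    apply (hμ (W ⊓ V) inf_le_left).1
    show X.presheaf.map (homOfLE (inf_le_left : W ⊓ V ≤ W)).op c • _ = (0 : Γ(X, W ⊓ V)) • _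
    rw [zero_smul, ← res_smul, hc', sv_res, ← sv_res s (inf_le_right : W ⊓ V ≤ V), h, map_zero]
  have hc0 : c = 0 := by
    have : Nonempty (W ⊓ V : X.Opens) := hne.to_subtype
    apply map_injective_of_isIntegral X (homOfLE (inf_le_left : W ⊓ V ≤ W))
    rw [h0, map_zero]
  rw [← sv_res s (inf_le_left : W ⊓ U ≤ W), ← hc', hc0, zero_smul, map_zero]

/-- On an integral scheme, the product of two nonzero sections of invertible modules is
nonzero. -/
theorem tmulHom_ne_zero [IsIntegral X] {L M : X.Modules} (hL : PicF.IsInvertible L)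
    (hM : PicF.IsInvertible M) (s : Coh.structureModule X ⟶ L) (t : Coh.structureModule X ⟶ M)
    (hs : s ≠ 0) (ht : t ≠ 0) : SecTwist.tmulHom s t ≠ 0 := by
  intro h0
  obtain ⟨x⟩ : Nonempty X := inferInstance
  obtain ⟨V, α, β, hxV, hα, hβ⟩ := exists_isGen_pair hL hM x
  have : Nonempty V := ⟨⟨x, hxV⟩⟩
  obtain ⟨a, ha⟩ := hα.self.2 (sv s V)
  obtain ⟨b, hb⟩ := hβ.self.2 (sv t V)
  have ha' : a • α = sv s V := ha
  have hb' : b • β = sv t V := hb
  have h3 : sv (SecTwist.tmulHom s t) V = (a * b) • tm L M α β := by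
    have h4 : sv (SecTwist.tmulHom s t) V = tm L M (sv s V) (sv t V) :=
      SecTwist.val_tmulHom s t V
    rw [h4, ← ha', ← hb', tm_smul_left, tm_smul_right, mul_smul]
  rw [h0, sv_zero] at h3
  have hab : a * b = 0 := by
    apply (isGen_tm hα hβ).self.1
    show (a * b) • _ = (0 : Γ(X, V)) • _
    rw [zero_smul]
    exact h3.symm
  rcases mul_eq_zero.mp hab with h | h
  · exact hs (eq_zero_of_sv_eq_zero hL s ⟨x, hxV⟩ (by rw [← ha', h, zero_smul]))
  · exact ht (eq_zero_of_sv_eq_zero hM t ⟨x, hxV⟩ (by rw [← hb', h, zero_smul]))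

/-- On an integral scheme, powers of a nonzero section of an invertible module are nonzero. -/
theorem powHom_ne_zero [IsIntegral X] {L : X.Modules} (hL : PicF.IsInvertible L)
    (s : Coh.structureModule X ⟶ L) (hs : s ≠ 0) (n : ℕ) : SecTwist.powHom s n ≠ 0 := by
  induction n with
  | zero =>
    intro h0
    have h3 : (𝟙 (Coh.structureModule X)) = 0 := h0
    exact hs (by rw [← Category.id_comp s, h3, Limits.zero_comp])
  | succ n ih => exact tmulHom_ne_zero (isInvertible_tensorPow hL n) hL _ s ih hs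

/-- If `Γ(X, O)` is a field, a nonzero endomorphism of `O` generates everywhere. -/
theorem genLocus_eq_top_of_ne_zero (hfield : IsField (Γ(X, ⊤) : Type u))
    (t : Coh.structureModule X ⟶ Coh.structureModule X) (ht : t ≠ 0) :
    CohB1.genLocus (Coh.structureModule X) t = ⊤ := by
  obtain ⟨a, ha⟩ : ∃ a : Γ(X, ⊤), sv t ⊤ = a • (show Γ(Coh.structureModule X, ⊤) from
      (1 : Γ(X, ⊤))) :=
    ⟨(show Γ(X, ⊤) from sv t ⊤), (mul_one (show Γ(X, ⊤) from sv t ⊤)).symm⟩
  have hane : a ≠ 0 := by
    intro h0
    apply ht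
    apply hom_ext_sv
    intro U
    rw [sv_zero, ← sv_res t (le_top : U ≤ ⊤), ha, h0, zero_smul, map_zero]
  have hu : IsUnit a := by
    let _ := hfield.toField
    exact isUnit_iff_ne_zero.mpr hane
  have h1 := genLocus_inf_of_isGen t (isGen_one ⊤) a ha
  rw [inf_top_eq, X.basicOpen_of_isUnit hu] at h1
  exact h1

end Groth.Agent.H18.SectionIntegral
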