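import Groth.Agent.H18.GlobGenConv
import Groth.Agent.H18.AmpleBasis
import Groth.Agent.H18.AmpleIso
import Groth.Agent.H18.RestrictTensor
import Groth.Agent.H18.SectionIntegral

/-!
# Sections of invertible modules not vanishing at finitely many points

* `exists_mem_family`: a topological avoidance lemma (the combinatorial core of prime avoidance):
  a family of opens which is a basis inside `W` and closed under a "sum" operation contains a
  member through any given finite subset of `W`.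
* `genLocus_add_le`, `mem_genLocus_add`: `X_{s+s'} ⊆ X_s ∪ X_{s'}` and `X_s ∖ X_{s'} ⊆ X_{s+s'}`.
* `genLocus_secHom_smul`: `X_{f σ} = X_f ∩ X_σ`.
* `exists_basicOpen_of_finite`: prime avoidance on a quasi-affine scheme.
* `exists_section_of_finite`: on a quasi-affine scheme, an invertible module has a section with
  `E ⊆ X_s ⊆ W`, `X_s` affine.
* `exists_pow_section_of_finite`, `exists_pow_section_affine_of_finite`: for ample `L`, a section
  of a positive power with `E ⊆ X_s ⊆ W` (and `X_s` affine).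
-/

set_option autoImplicit false
universe u

noncomputable section

namespace Groth.Agent.H18.FinPts

open CategoryTheory AlgebraicGeometry Opposite TopologicalSpace
open Groth.Agent.H8 (res_res res_smul ringRes_res section_eq_of_cover)
open Groth.Agent.H18.SecTw Groth.Agent.H18.TensorGen Groth.Agent.H18.TensorPowIso
open Groth.Agent.H18.GenLocusGen

/-! ### Topological avoidance -/

/-- Let `𝔉` be a family of opens of `T` such that (a) members of `𝔉` inside `W` form a basis of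
`W`, and (b) for `V₁ V₂ ∈ 𝔉` there is `V ∈ 𝔉` with `V₁ ∆ V₂ ⊆ V ⊆ V₁ ∪ V₂`.  Then every finite
subset of `W` lies in a member of `𝔉` contained in `W`. -/
theorem exists_mem_family {T : Type*} [TopologicalSpace T] (𝔉 : Set (Opens T)) (W : Opens T)
    (hbot : ∃ V ∈ 𝔉, V ≤ W)
    (hbasis : ∀ x ∈ W, ∀ W' : Opens T, x ∈ W' → ∃ V ∈ 𝔉, x ∈ V ∧ V ≤ W' ⊓ W)
    (hsum : ∀ V₁ ∈ 𝔉, ∀ V₂ ∈ 𝔉, ∃ V ∈ 𝔉, V ≤ V₁ ⊔ V₂ ∧
      (∀ x, x ∈ V₁ → x ∉ V₂ → x ∈ V) ∧ (∀ x, x ∈ V₂ → x ∉ V₁ → x ∈ V))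
    (E : Finset T) (hEW : ∀ e ∈ E, e ∈ W) : ∃ V ∈ 𝔉, (∀ e ∈ E, e ∈ V) ∧ V ≤ W := by
  classical
  induction E using Finset.strongInduction with
  | H E ih =>
    by_cases hE : E = ∅
    · subst hE
      obtain ⟨V, hV, hVW⟩ := hbot
      exact ⟨V, hV, fun e he => absurd he (Finset.notMem_empty e), hVW⟩
    by_cases hsp : ∃ a ∈ E, ∃ e ∈ E, e ≠ a ∧ e ⤳ a
    · obtain ⟨a, ha, e, he, hne, hea⟩ := hsp
      obtain ⟨V, hV, hEV, hVW⟩ := ih (E.erase e) (Finset.erase_ssubset he)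
        (fun z hz => hEW z (Finset.mem_of_mem_erase hz))
      refine ⟨V, hV, fun z hz => ?_, hVW⟩
      by_cases hze : z = e
      · rw [hze]
        exact hea.mem_open V.2 (hEV a (Finset.mem_erase.mpr ⟨hne.symm, ha⟩))
      · exact hEV z (Finset.mem_erase.mpr ⟨hze, hz⟩)
    · push Not at hsp
      obtain ⟨a, ha⟩ := Finset.nonempty_of_ne_empty hE
      obtain ⟨V₁, hV₁, hEV₁, hV₁W⟩ := ih (E.erase a) (Finset.erase_ssubset ha)
        (fun z hz => hEW z (Finset.mem_of_mem_erase hz))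
      by_cases haV : a ∈ V₁
      · refine ⟨V₁, hV₁, fun z hz => ?_, hV₁W⟩
        by_cases hza : z = a
        · rw [hza]
          exact haV
        · exact hEV₁ z (Finset.mem_erase.mpr ⟨hza, hz⟩)
      · have haC : a ∉ closure ((E.erase a : Finset T) : Set T) := by
          intro hmem
          have hU : ((E.erase a : Finset T) : Set T) = ⋃ e ∈ E.erase a, ({e} : Set T) := by
            ext z
            simp [and_comm]
          rw [hU, Finset.closure_biUnion] at hmem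
          obtain ⟨e, he, hae⟩ := Set.mem_iUnion₂.mp hmem
          have hee : e ∈ E := Finset.mem_of_mem_erase he
          have hne : e ≠ a := (Finset.mem_erase.mp he).1
          exact hsp a ha e hee hne (specializes_iff_mem_closure.mpr hae)
        obtain ⟨V₂, hV₂, haV₂, hV₂W⟩ := hbasis a (hEW a ha)
          ⟨(closure ((E.erase a : Finset T) : Set T))ᶜ, isClosed_closure.isOpen_compl⟩ haC
        obtain ⟨V, hV, hle, h1, h2⟩ := hsum V₁ hV₁ V₂ hV₂
        refine ⟨V, hV, fun z hz => ?_, hle.trans (sup_le hV₁W (hV₂W.trans inf_le_right))⟩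
        by_cases hza : z = a
        · rw [hza]
          exact h2 a haV₂ haV
        · have hz' : z ∈ E.erase a := Finset.mem_erase.mpr ⟨hza, hz⟩
          refine h1 z (hEV₁ z hz') (fun hzV₂ => ?_)
          have h3 : z ∈ (closure ((E.erase a : Finset T) : Set T))ᶜ := (hV₂W hzV₂).1
          exact h3 (subset_closure (Finset.mem_coe.mpr hz'))

/-! ### Sums and multiples of sections -/

variable {X : Scheme.{u}}

theorem sv_add {M : X.Modules} (s s' : Coh.structureModule X ⟶ M) (V : X.Opens) :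
    sv (s + s') V = sv s V + sv s' V := rfl

/-- Local description of two sections through a common generator. -/
theorem exists_coeff_pair {M : X.Modules} (hM : PicF.IsInvertible M)
    (s s' : Coh.structureModule X ⟶ M) (x : X) :
    ∃ (V : X.Opens) (_ : x ∈ V) (a a' : Γ(X, V)),
      (x ∈ CohB1.genLocus M s ↔ x ∈ X.basicOpen a) ∧
      (x ∈ CohB1.genLocus M s' ↔ x ∈ X.basicOpen a') ∧
      (x ∈ CohB1.genLocus M (s + s') ↔ x ∈ X.basicOpen (a + a')) := by
  obtain ⟨V, μ, hxV, hμ⟩ := exists_isGen hM x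
  obtain ⟨a, ha⟩ := hμ.self.2 (sv s V)
  obtain ⟨a', ha'⟩ := hμ.self.2 (sv s' V)
  have h1 : sv s V = a • μ := ha.symm
  have h2 : sv s' V = a' • μ := ha'.symm
  have h3 : sv (s + s') V = (a + a') • μ := by
    rw [sv_add, h1, h2, add_smul]
  exact ⟨V, hxV, a, a', mem_genLocus_iff_of_isGen s hμ a h1 x hxV,
    mem_genLocus_iff_of_isGen s' hμ a' h2 x hxV,
    mem_genLocus_iff_of_isGen (s + s') hμ (a + a') h3 x hxV⟩

/-- `X_{s+s'} ⊆ X_s ∪ X_{s'}`. -/
theorem genLocus_add_le {M : X.Modules} (hM : PicF.IsInvertible M)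
    (s s' : Coh.structureModule X ⟶ M) :
    CohB1.genLocus M (s + s') ≤ CohB1.genLocus M s ⊔ CohB1.genLocus M s' := by
  intro x hx
  obtain ⟨V, hxV, a, a', e1, e2, e3⟩ := exists_coeff_pair hM s s' x
  rw [e3, X.mem_basicOpen _ x hxV] at hx
  by_contra hcon
  have hn1 : x ∉ CohB1.genLocus M s := fun h => hcon (Or.inl h)
  have hn2 : x ∉ CohB1.genLocus M s' := fun h => hcon (Or.inr h)
  rw [e1, X.mem_basicOpen _ x hxV] at hn1
  rw [e2, X.mem_basicOpen _ x hxV] at hn2
  have h4 := IsLocalRing.nonunits_add (mem_nonunits_iff.mpr hn1) (mem_nonunits_iff.mpr hn2)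
  rw [← map_add] at h4
  exact (mem_nonunits_iff.mp h4) hx

/-- `X_s ∖ X_{s'} ⊆ X_{s+s'}`. -/
theorem mem_genLocus_add {M : X.Modules} (hM : PicF.IsInvertible M)
    (s s' : Coh.structureModule X ⟶ M) {x : X} (hx : x ∈ CohB1.genLocus M s)
    (hx' : x ∉ CohB1.genLocus M s') : x ∈ CohB1.genLocus M (s + s') := by
  obtain ⟨V, hxV, a, a', e1, e2, e3⟩ := exists_coeff_pair hM s s' x
  rw [e1, X.mem_basicOpen _ x hxV] at hx
  rw [e2, X.mem_basicOpen _ x hxV] at hx'
  rw [e3, X.mem_basicOpen _ x hxV]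
  by_contra hcon
  have h4 := IsLocalRing.nonunits_add (mem_nonunits_iff.mpr hcon)
    (mem_nonunits_iff.mpr (show ¬ IsUnit (-(X.presheaf.germ V x hxV a')) from
      fun h => hx' (by simpa using h.neg)))
  rw [map_add, add_neg_cancel_right] at h4
  exact (mem_nonunits_iff.mp h4) hx

theorem mem_genLocus_add' {M : X.Modules} (hM : PicF.IsInvertible M)
    (s s' : Coh.structureModule X ⟶ M) {x : X} (hx : x ∈ CohB1.genLocus M s')
    (hx' : x ∉ CohB1.genLocus M s) : x ∈ CohB1.genLocus M (s + s') := by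
  rw [add_comm]
  exact mem_genLocus_add hM s' s hx hx'

/-- `X_{f σ} = X_f ∩ X_σ`. -/
theorem genLocus_secHom_smul {M : X.Modules} (hM : PicF.IsInvertible M) (f : Γ(X, ⊤))
    (σ : Γ(M, ⊤)) :
    CohB1.genLocus M (secHom M (f • σ)) = X.basicOpen f ⊓ CohB1.genLocus M (secHom M σ) := by
  ext x
  obtain ⟨V, μ, hxV, hμ⟩ := exists_isGen hM x
  obtain ⟨a, ha⟩ := hμ.self.2 (sv (secHom M σ) V)
  have h1 : sv (secHom M σ) V = a • μ := ha.symm
  have h2 : sv (secHom M (f • σ)) V =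
      (X.presheaf.map (homOfLE (le_top : V ≤ ⊤)).op f * a) • μ := by
    rw [sv_secHom, res_smul, mul_smul, ← h1, sv_secHom]
  have e1 := mem_genLocus_iff_of_isGen (secHom M σ) hμ a h1 x hxV
  have e2 := mem_genLocus_iff_of_isGen (secHom M (f • σ)) hμ _ h2 x hxV
  rw [X.basicOpen_mul, X.basicOpen_res] at e2
  show x ∈ CohB1.genLocus M (secHom M (f • σ)) ↔
    x ∈ X.basicOpen f ⊓ CohB1.genLocus M (secHom M σ)
  rw [e2]
  exact ⟨fun h => ⟨h.1.2, e1.mpr h.2⟩, fun h => ⟨⟨hxV, h.1⟩, e1.mp h.2⟩⟩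

theorem genLocus_zero {M : X.Modules} (hM : PicF.IsInvertible M) :
    CohB1.genLocus M (0 : Coh.structureModule X ⟶ M) = ⊥ := by
  rw [eq_bot_iff]
  intro x hx
  obtain ⟨V, μ, hxV, hμ⟩ := exists_isGen hM x
  have h1 : sv (0 : Coh.structureModule X ⟶ M) V = (0 : Γ(X, V)) • μ := by
    rw [zero_smul]
    rfl
  rw [mem_genLocus_iff_of_isGen _ hμ 0 h1 x hxV, X.mem_basicOpen _ x hxV, map_zero] at hx
  exact not_isUnit_zero hx

/-! ### Prime avoidance on quasi-affine schemes -/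

/-- On a quasi-affine scheme, a finite subset of an open `W` lies in an affine basic open
`X_f ⊆ W`. -/
theorem exists_basicOpen_of_finite [X.IsQuasiAffine] (W : X.Opens) (E : Set X) (hE : E.Finite)
    (hEW : E ⊆ W) :
    ∃ f : Γ(X, ⊤), IsAffineOpen (X.basicOpen f) ∧ E ⊆ X.basicOpen f ∧ X.basicOpen f ≤ W := by
  classical
  rcases E.eq_empty_or_nonempty with hE0 | ⟨e₀, he₀⟩
  · refine ⟨0, ?_, ?_, ?_⟩
    · rw [X.basicOpen_zero]
      exact isAffineOpen_bot X
    · rw [hE0]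
      exact Set.empty_subset _
    · rw [X.basicOpen_zero]
      exact bot_le
  obtain ⟨I, hI⟩ := (PrimeSpectrum.isClosed_iff_zeroLocus_ideal _).mp
    (X.toSpecΓ ''ᵁ W).2.isClosed_compl
  have hnot : ¬ ((I : Set Γ(X, ⊤)) ⊆ ⋃ e ∈ (hE.toFinset : Set X),
      (((X.toSpecΓ e : PrimeSpectrum Γ(X, ⊤))).asIdeal : Set Γ(X, ⊤))) := by
    intro hsub
    obtain ⟨e, he, hle⟩ := (Ideal.subset_union_prime (s := hE.toFinset)
      (f := fun e : X => ((X.toSpecΓ e : PrimeSpectrum Γ(X, ⊤))).asIdeal) e₀ e₀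
      (fun i _ _ _ => (X.toSpecΓ i : PrimeSpectrum Γ(X, ⊤)).isPrime)).mp hsub
    have heE : e ∈ E := hE.mem_toFinset.mp he
    have h1 : (X.toSpecΓ e : PrimeSpectrum Γ(X, ⊤)) ∈ PrimeSpectrum.zeroLocus (I : Set Γ(X, ⊤)) :=
      (PrimeSpectrum.mem_zeroLocus _ _).mpr hle
    rw [← hI] at h1
    exact h1 ⟨e, hEW heE, rfl⟩
  obtain ⟨f, hfI, hf⟩ := Set.not_subset.mp hnot
  have hfE : ∀ e ∈ E, f ∉ ((X.toSpecΓ e : PrimeSpectrum Γ(X, ⊤))).asIdeal := by
    intro e he hmem
    exact hf (Set.mem_iUnion₂.mpr ⟨e, Finset.mem_coe.mpr (hE.mem_toFinset.mpr he), hmem⟩)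
  have hsubW : ∀ p : ↥(Spec Γ(X, ⊤)), p ∈ PrimeSpectrum.basicOpen f →
      p ∈ X.toSpecΓ ''ᵁ W := by
    intro p hp
    by_contra hcon
    have h1 : p ∈ ((X.toSpecΓ ''ᵁ W : (Spec Γ(X, ⊤)).Opens) : Set _)ᶜ := hcon
    have h1' : p ∈ PrimeSpectrum.zeroLocus (I : Set Γ(X, ⊤)) := by
      rw [← hI]
      exact h1
    have h2 : (I : Set Γ(X, ⊤)) ⊆ (p : PrimeSpectrum Γ(X, ⊤)).asIdeal :=
      (PrimeSpectrum.mem_zeroLocus (p : PrimeSpectrum Γ(X, ⊤)) (I : Set Γ(X, ⊤))).mp h1'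
    exact hp (h2 hfI)
  refine ⟨f, ?_, ?_, ?_⟩
  · rw [← X.toSpecΓ_preimage_basicOpen, ← Scheme.Hom.isAffineOpen_iff_of_isOpenImmersion X.toSpecΓ]
    have heq : X.toSpecΓ ''ᵁ X.toSpecΓ ⁻¹ᵁ PrimeSpectrum.basicOpen f =
        PrimeSpectrum.basicOpen f :=
      SetLike.coe_injective (Set.image_preimage_eq_of_subset
        (fun p hp => X.toSpecΓ.image_le_opensRange W (hsubW p hp)))
    rw [heq]
    exact IsAffineOpen.Spec_basicOpen f
  · intro e he
    rw [← X.toSpecΓ_preimage_basicOpen]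
    exact hfE e he
  · intro x hx
    rw [← X.toSpecΓ_preimage_basicOpen] at hx
    obtain ⟨w, hw, hwx⟩ := hsubW _ hx
    rw [← X.toSpecΓ.isOpenEmbedding.injective hwx]
    exact hw

/-- On a quasi-affine scheme, an invertible module has a global section `s` with `X_s` affine
and `E ⊆ X_s ⊆ W`, for `E` finite and `W` open. -/
theorem exists_section_of_finite [X.IsQuasiAffine] {L : X.Modules} (hL : PicF.IsInvertible L)
    (W : X.Opens) (E : Set X) (hE : E.Finite) (hEW : E ⊆ W) :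
    ∃ s : Coh.structureModule X ⟶ L, IsAffineOpen (CohB1.genLocus L s) ∧
      E ⊆ CohB1.genLocus L s ∧ CohB1.genLocus L s ≤ W := by
  obtain ⟨f₀, haff, hE₀, hW₀⟩ := exists_basicOpen_of_finite W E hE hEW
  have hLq := AmpleBasis.isQuasicoherent_of_isInvertible hL
  obtain ⟨V, ⟨s, rfl⟩, hEV, hVW⟩ := exists_mem_family
    {V : X.Opens | ∃ s : Coh.structureModule X ⟶ L, V = CohB1.genLocus L s} (X.basicOpen f₀)
    ⟨_, ⟨0, rfl⟩, by rw [genLocus_zero hL]; exact bot_le⟩
    (by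
      intro x hx W' hxW'
      obtain ⟨V, τ, hxV, hτ⟩ := exists_isGen hL x
      obtain ⟨U', ⟨f, hfaff, rfl⟩, hxf, hfV⟩ :=
        Opens.isBasis_iff_nbhd.mp (Scheme.IsQuasiAffine.isBasis_basicOpen X)
          (show x ∈ V ⊓ (W' ⊓ X.basicOpen f₀) from ⟨hxV, hxW', hx⟩)
      have hfV' : X.basicOpen f ≤ V := hfV.trans inf_le_left
      obtain ⟨k, σ, hσ⟩ := Groth.Agent.H8.exists_smul_eq_res_of_qcqs L (W := ⊤) isCompact_univ
        isQuasiSeparated_univ f (L.presheaf.map (homOfLE hfV').op τ)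
      have hle : X.basicOpen f ≤ CohB1.genLocus L (secHom L σ) := by
        intro p hp
        have hgen := hτ.res hfV'
        have hsv : sv (secHom L σ) (X.basicOpen f) =
            (X.presheaf.map (homOfLE (X.basicOpen_le f)).op f) ^ k •
              L.presheaf.map (homOfLE hfV').op τ := by
          rw [sv_secHom]
          exact hσ
        rw [mem_genLocus_iff_of_isGen (secHom L σ) hgen _ hsv p hp]
        have hu : IsUnit ((X.presheaf.map (homOfLE (X.basicOpen_le f)).op f) ^ k) :=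
          (X.toRingedSpace.isUnit_res_basicOpen f).pow k
        rw [X.basicOpen_of_isUnit hu]
        exact hp
      have h2 : CohB1.genLocus L (secHom L (f • σ)) = X.basicOpen f :=
        (genLocus_secHom_smul hL f σ).trans (inf_eq_left.mpr hle)
      refine ⟨_, ⟨secHom L (f • σ), rfl⟩, ?_, ?_⟩
      · rw [h2]
        exact hxf
      · rw [h2]
        exact hfV.trans inf_le_right)
    (by
      rintro _ ⟨s₁, rfl⟩ _ ⟨s₂, rfl⟩
      exact ⟨_, ⟨s₁ + s₂, rfl⟩, genLocus_add_le hL s₁ s₂,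
        fun x h1 h2 => mem_genLocus_add hL s₁ s₂ h1 h2,
        fun x h1 h2 => mem_genLocus_add' hL s₁ s₂ h1 h2⟩)
    hE.toFinset (fun e he => hE₀ (hE.mem_toFinset.mp he))
  refine ⟨s, ?_, fun e he => hEV e (hE.mem_toFinset.mpr he), hVW.trans hW₀⟩
  have h := GlobGenConv.isAffineOpen_genLocus_inf hL s haff
  rwa [inf_eq_left.mpr hVW] at h

end Groth.Agent.H18.FinPts
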