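import Groth.Agent.H18.FinPts

/-!
# Finite sets of points on a scheme with an ample invertible module

* `exists_sum_pow`: for sections `s`, `s'` of positive powers of an invertible `L`, a section `σ`
  of a positive power with `X_s ∆ X_{s'} ⊆ X_σ ⊆ X_s ∪ X_{s'}`.
* `exists_pow_section_of_finite`: for ample `L`, `E` finite inside an open `W`, a section `s` of
  a positive power of `L` with `E ⊆ X_s ⊆ W`.
* `isQuasiAffine_genLocus`: for ample `L`, the open subscheme `X_s` is quasi-affine.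
* `exists_affine_of_finite`: for ample `L`, every finite subset of an open `W` lies in an affine
  open contained in `W`.
* `exists_pow_section_affine_of_finite`: same as `exists_pow_section_of_finite` with `X_s`
  affine.
-/

set_option autoImplicit false
universe u

noncomputable section

namespace Groth.Agent.H18.FinPtsAmple

open CategoryTheory AlgebraicGeometry Opposite TopologicalSpace
open Groth.Agent.H8 (res_res res_smul ringRes_res section_eq_of_cover)
open Groth.Agent.H18.SecTw Groth.Agent.H18.TensorGen Groth.Agent.H18.TensorPowIso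
open Groth.Agent.H18.GenLocusGen Groth.Agent.H18.FinPts

variable {X : Scheme.{u}}

/-- Graded sum of two sections of positive powers of an invertible module. -/
theorem exists_sum_pow {L : X.Modules} (hL : PicF.IsInvertible L) {a b : ℕ}
    (s : Coh.structureModule X ⟶ CohB1.tensorPow L (a + 1))
    (s' : Coh.structureModule X ⟶ CohB1.tensorPow L (b + 1)) :
    ∃ (N : ℕ) (σ : Coh.structureModule X ⟶ CohB1.tensorPow L (N + 1)),
      CohB1.genLocus _ σ ≤ CohB1.genLocus _ s ⊔ CohB1.genLocus _ s' ∧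
      (∀ x, x ∈ CohB1.genLocus _ s → x ∉ CohB1.genLocus _ s' → x ∈ CohB1.genLocus _ σ) ∧
      (∀ x, x ∈ CohB1.genLocus _ s' → x ∉ CohB1.genLocus _ s → x ∈ CohB1.genLocus _ σ) := by
  obtain ⟨e₁⟩ := nonempty_tensorPow_tensorPow hL (a + 1) (b + 1)
  obtain ⟨c₁⟩ := nonempty_tensorPow_congr L
    (show (a + 1) * (b + 1) = (a * b + a + b) + 1 by ring)
  obtain ⟨e₂⟩ := nonempty_tensorPow_tensorPow hL (b + 1) (a + 1)
  obtain ⟨c₂⟩ := nonempty_tensorPow_congr L
    (show (b + 1) * (a + 1) = (a * b + a + b) + 1 by ring)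
  have hN := isInvertible_tensorPow hL ((a * b + a + b) + 1)
  have h1 : CohB1.genLocus _ (SecTwist.powHom s (b + 1) ≫ (e₁ ≪≫ c₁).hom) =
      CohB1.genLocus _ s := by
    rw [TwistAmple.genLocus_comp_iso, genLocus_powHom_succ (isInvertible_tensorPow hL (a + 1))]
  have h2 : CohB1.genLocus _ (SecTwist.powHom s' (a + 1) ≫ (e₂ ≪≫ c₂).hom) =
      CohB1.genLocus _ s' := by
    rw [TwistAmple.genLocus_comp_iso, genLocus_powHom_succ (isInvertible_tensorPow hL (b + 1))]
  refine ⟨a * b + a + b, SecTwist.powHom s (b + 1) ≫ (e₁ ≪≫ c₁).hom +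
    SecTwist.powHom s' (a + 1) ≫ (e₂ ≪≫ c₂).hom, ?_, ?_, ?_⟩
  · have h := genLocus_add_le hN (SecTwist.powHom s (b + 1) ≫ (e₁ ≪≫ c₁).hom)
      (SecTwist.powHom s' (a + 1) ≫ (e₂ ≪≫ c₂).hom)
    rwa [h1, h2] at h
  · intro x hx hx'
    refine mem_genLocus_add hN _ _ ?_ ?_
    · rw [h1]
      exact hx
    · rw [h2]
      exact hx'
  · intro x hx hx'
    refine mem_genLocus_add' hN _ _ ?_ ?_
    · rw [h2]
      exact hx
    · rw [h1]
      exact hx'

/-- For ample `L`, `E` finite inside an open `W`: a section `s` of a positive power of `L` with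
`E ⊆ X_s ⊆ W`. -/
theorem exists_pow_section_of_finite {L : X.Modules} (hL : CohB1.IsAmple L)
    (W : X.Opens) (E : Set X) (hE : E.Finite) (hEW : E ⊆ W) :
    ∃ (n : ℕ) (s : Coh.structureModule X ⟶ CohB1.tensorPow L (n + 1)),
      E ⊆ CohB1.genLocus _ s ∧ CohB1.genLocus _ s ≤ W := by
  have hB := AmpleBasis.isBasis_of_isAmple hL
  have hinv := hL.1
  obtain ⟨V, ⟨n, s, rfl⟩, hEV, hVW⟩ := exists_mem_family
    {V : X.Opens | ∃ (n : ℕ) (s : Coh.structureModule X ⟶ CohB1.tensorPow L (n + 1)),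
      V = CohB1.genLocus _ s} W
    ⟨_, ⟨0, 0, rfl⟩, by rw [genLocus_zero (isInvertible_tensorPow hinv 1)]; exact bot_le⟩
    (by
      intro x hx W' hxW'
      obtain ⟨U', ⟨n, s, rfl⟩, hxs, hle⟩ :=
        Opens.isBasis_iff_nbhd.mp hB (show x ∈ W' ⊓ W from ⟨hxW', hx⟩)
      exact ⟨_, ⟨n, s, rfl⟩, hxs, hle⟩)
    (by
      rintro _ ⟨a, s₁, rfl⟩ _ ⟨b, s₂, rfl⟩
      obtain ⟨N, σ, h1, h2, h3⟩ := exists_sum_pow hinv s₁ s₂
      exact ⟨_, ⟨N, σ, rfl⟩, h1, h2, h3⟩)
    hE.toFinset (fun e he => hEW (hE.mem_toFinset.mp he))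
  exact ⟨n, s, fun e he => hEV e (hE.mem_toFinset.mpr he), hVW⟩

/-- For ample `L` and a section `s` of a positive power of `L`, the open subscheme `X_s` is
quasi-affine. -/
theorem isQuasiAffine_genLocus {L : X.Modules} (hL : CohB1.IsAmple L) {n : ℕ}
    (s : Coh.structureModule X ⟶ CohB1.tensorPow L (n + 1)) :
    (↑(CohB1.genLocus (CohB1.tensorPow L (n + 1)) s) : Scheme.{u}).IsQuasiAffine := by
  have hinv := hL.1
  have hcX : CompactSpace X := hL.2.1
  have haffhom := GlobGenConv.isAffineHom_genLocus_ι (isInvertible_tensorPow hinv (n + 1)) s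
  have hcY : CompactSpace (↑(CohB1.genLocus (CohB1.tensorPow L (n + 1)) s) : Scheme.{u}) :=
    QuasiCompact.compactSpace_of_compactSpace (CohB1.genLocus (CohB1.tensorPow L (n + 1)) s).ι
  have hLY := RestrictTensor.isAmple_restrict
    (CohB1.genLocus (CohB1.tensorPow L (n + 1)) s).ι hL
  have hinvY := hLY.1
  obtain ⟨ρ⟩ := RestrictTensor.nonempty_restrict_tensorPow
    (CohB1.genLocus (CohB1.tensorPow L (n + 1)) s).ι hinvY (n + 1)
  obtain ⟨θ⟩ := RestrictUnit.nonempty_restrict_iso_unit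
    (CohB1.genLocus (CohB1.tensorPow L (n + 1)) s) (CohB1.tensorPow L (n + 1))
    (sv s _) (isGen_sv_genLocus s)
  have hpow := (AmpleBasis.isAmple_tensorPow_iff hinvY (Nat.succ_pos n)).mp hLY
  have hO : CohB1.IsAmple (Coh.structureModule
      (↑(CohB1.genLocus (CohB1.tensorPow L (n + 1)) s) : Scheme.{u})) :=
    AmpleIso.isAmple_of_iso (ρ.symm ≪≫ θ) hpow
  exact AmpleIso.isQuasiAffine_iff_isAmple_structureModule.mpr hO

/-- For ample `L`, every finite subset of an open `W` lies in an affine open contained in `W`. -/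
theorem exists_affine_of_finite {L : X.Modules} (hL : CohB1.IsAmple L)
    (W : X.Opens) (E : Set X) (hE : E.Finite) (hEW : E ⊆ W) :
    ∃ W₀ : X.Opens, IsAffineOpen W₀ ∧ E ⊆ W₀ ∧ W₀ ≤ W := by
  obtain ⟨n, s, hEs, hsW⟩ := exists_pow_section_of_finite hL W E hE hEW
  have hq := isQuasiAffine_genLocus hL s
  obtain ⟨f, haff, hEf, -⟩ := exists_basicOpen_of_finite
    (X := (↑(CohB1.genLocus (CohB1.tensorPow L (n + 1)) s) : Scheme.{u})) ⊤
    ((CohB1.genLocus (CohB1.tensorPow L (n + 1)) s).ι ⁻¹' E)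
    (hE.preimage (Set.injOn_of_injective
      (CohB1.genLocus (CohB1.tensorPow L (n + 1)) s).ι.isOpenEmbedding.injective))
    (fun _ _ => trivial)
  refine ⟨(CohB1.genLocus (CohB1.tensorPow L (n + 1)) s).ι ''ᵁ
    (Scheme.basicOpen _ f), haff.image_of_isOpenImmersion _, ?_, ?_⟩
  · intro e he
    exact ⟨⟨e, hEs he⟩, hEf (show (CohB1.genLocus (CohB1.tensorPow L (n + 1)) s).ι ⟨e, hEs he⟩ ∈ E
      from he), rfl⟩
  · exact ((CohB1.genLocus (CohB1.tensorPow L (n + 1)) s).ι_image_le _).trans hsW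

/-- For ample `L`, `E` finite inside an open `W`: a section `s` of a positive power of `L` with
`E ⊆ X_s ⊆ W` and `X_s` affine. -/
theorem exists_pow_section_affine_of_finite {L : X.Modules} (hL : CohB1.IsAmple L)
    (W : X.Opens) (E : Set X) (hE : E.Finite) (hEW : E ⊆ W) :
    ∃ (n : ℕ) (s : Coh.structureModule X ⟶ CohB1.tensorPow L (n + 1)),
      E ⊆ CohB1.genLocus _ s ∧ CohB1.genLocus _ s ≤ W ∧ IsAffineOpen (CohB1.genLocus _ s) := by
  obtain ⟨W₀, haff, hEW₀, hW₀W⟩ := exists_affine_of_finite hL W E hE hEW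
  obtain ⟨n, s, hEs, hsW₀⟩ := exists_pow_section_of_finite hL W₀ E hE hEW₀
  refine ⟨n, s, hEs, hsW₀.trans hW₀W, ?_⟩
  have h := GlobGenConv.isAffineOpen_genLocus_inf (isInvertible_tensorPow hL.1 (n + 1)) s haff
  rwa [inf_eq_left.mpr hsW₀] at h

end Groth.Agent.H18.FinPtsAmple
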