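import Groth.Agent.H18.SecTw

/-!
# Uniform version of `exists_twist_extends`: all large powers work
-/

set_option autoImplicit false
universe u

open CategoryTheory AlgebraicGeometry Opposite TopologicalSpace
open Groth.Agent.H8 (res_res res_smul ringRes_res section_eq_of_cover)
open Groth.Agent.H18.SecTw

noncomputable section

namespace Groth.Agent.H18.SecTwGe

variable {X : Scheme.{u}}

/-- A section of a quasi-coherent module over `X_s`, multiplied by a power of `s`, extends to a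
global section. -/
theorem exists_twist_extends_ge [CompactSpace X] [QuasiSeparatedSpace X] {L : X.Modules}
    (hL : PicF.IsInvertible L) (s : Coh.structureModule X ⟶ L) (F : X.Modules)
    [F.IsQuasicoherent] (t : Γ(F, CohB1.genLocus L s)) :
    ∃ N : ℕ, ∀ n : ℕ, N ≤ n → ∃ t' : Γ(CohB1.tensorMod F (CohB1.tensorPow L n), ⊤),
      (CohB1.tensorMod F (CohB1.tensorPow L n)).presheaf.map
          (homOfLE (le_top : CohB1.genLocus L s ≤ ⊤)).op t' =
        tm F (CohB1.tensorPow L n) t (lp (sv s (CohB1.genLocus L s)) n) := by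
  choose T₀ hT₀ using fun x => exists_triv hL s x
  obtain ⟨ι, hι⟩ := CompactSpace.elim_nhds_subcover (fun x => ((T₀ x).W : Set X))
    (fun x => (T₀ x).W.2.mem_nhds (hT₀ x))
  obtain ⟨T, hTdef⟩ : ∃ T : ι → Triv L s, T = fun i => T₀ i.1 := ⟨_, rfl⟩
  have hcov : ∀ y : X, ∃ i : ι, y ∈ (T i).W := by
    intro y
    have : y ∈ ⋃ x ∈ ι, ((T₀ x).W : Set X) := by rw [hι]; trivial
    obtain ⟨x, hx, hy⟩ := Set.mem_iUnion₂.mp this
    exact ⟨⟨x, hx⟩, by rw [hTdef]; exact hy⟩
  -- Step 1: extend on each member of the cover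
  have h1 : ∀ i : ι, ∃ (n : ℕ) (y : Γ(F, (T i).W)),
      (X.presheaf.map (homOfLE (X.basicOpen_le (T i).a)).op (T i).a) ^ n •
        F.presheaf.map (homOfLE (T i).basicOpen_le_genLocus).op t =
      F.presheaf.map (homOfLE (X.basicOpen_le (T i).a)).op y :=
    fun i => Groth.Agent.H8.exists_smul_eq_res (T i).hW F (T i).a _
  choose n y hy using h1
  obtain ⟨n₀, hn₀⟩ : ∃ n₀ : ℕ, n₀ = Finset.univ.sup n + 1 := ⟨_, rfl⟩
  have h2 : ∀ i : ι, ∃ y' : Γ(F, (T i).W), ∀ (D' : X.Opens)
      (hD' : D' ≤ X.basicOpen (T i).a),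
      F.presheaf.map (homOfLE (hD'.trans (X.basicOpen_le _))).op y' =
        (X.presheaf.map (homOfLE (hD'.trans (X.basicOpen_le _))).op (T i).a) ^ n₀ •
        F.presheaf.map (homOfLE (hD'.trans (T i).basicOpen_le_genLocus)).op t := by
    intro i
    refine ⟨(T i).a ^ (n₀ - n i) • y i, fun D' hD' => ?_⟩
    have hk : n₀ = (n₀ - n i) + n i := by
      have : n i ≤ n₀ := by
        rw [hn₀]
        exact (Finset.le_sup (Finset.mem_univ i)).trans (Nat.le_succ _)
      omega
    rw [← res_res F hD' (X.basicOpen_le _), res_smul, ← hy i]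
    simp only [res_smul, map_pow, ringRes_res, res_res, ← mul_smul, ← pow_add]
    rw [← hk]
  choose y' hy' using h2
  -- Step 2: transition functions
  have h3 : ∀ i j : ι, ∃ u : Γ(X, (T i).W ⊓ (T j).W),
      L.presheaf.map (homOfLE (inf_le_left : (T i).W ⊓ (T j).W ≤ (T i).W)).op (T i).τ =
        u • L.presheaf.map (homOfLE (inf_le_right : (T i).W ⊓ (T j).W ≤ (T j).W)).op (T j).τ ∧
      X.presheaf.map (homOfLE (inf_le_right : (T i).W ⊓ (T j).W ≤ (T j).W)).op (T j).a =
        X.presheaf.map (homOfLE (inf_le_left : (T i).W ⊓ (T j).W ≤ (T i).W)).op (T i).a * u := by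
    intro i j
    obtain ⟨u, hu⟩ := ((T j).hτ _ inf_le_right).2
      (L.presheaf.map (homOfLE (inf_le_left : (T i).W ⊓ (T j).W ≤ (T i).W)).op (T i).τ)
    have hu' : u • L.presheaf.map (homOfLE (inf_le_right : (T i).W ⊓ (T j).W ≤ (T j).W)).op
        (T j).τ = L.presheaf.map (homOfLE (inf_le_left : (T i).W ⊓ (T j).W ≤ (T i).W)).op
        (T i).τ := hu
    refine ⟨u, hu'.symm, ?_⟩
    apply ((T j).hτ _ inf_le_right).1
    show X.presheaf.map (homOfLE (inf_le_right : (T i).W ⊓ (T j).W ≤ (T j).W)).op (T j).a •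
        L.presheaf.map (homOfLE (inf_le_right : (T i).W ⊓ (T j).W ≤ (T j).W)).op (T j).τ =
      (X.presheaf.map (homOfLE (inf_le_left : (T i).W ⊓ (T j).W ≤ (T i).W)).op (T i).a * u) •
        L.presheaf.map (homOfLE (inf_le_right : (T i).W ⊓ (T j).W ≤ (T j).W)).op (T j).τ
    rw [mul_smul, hu', ← (T j).sv_eq inf_le_right, ← (T i).sv_eq inf_le_left]
  choose u hu hau using h3
  -- Step 3: on overlaps the difference is killed by a power of the coefficient
  have hcomp : ∀ i j : ι, IsCompact ((((T i).W ⊓ (T j).W : X.Opens)) : Set X) := fun i j =>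
    QuasiSeparatedSpace.inter_isCompact _ _ (T i).W.2 (T i).hW.isCompact (T j).W.2
      (T j).hW.isCompact
  have h4 : ∀ i j : ι, ∃ m : ℕ,
      (X.presheaf.map (homOfLE (inf_le_right : (T i).W ⊓ (T j).W ≤ (T j).W)).op (T j).a) ^ m •
        (u i j ^ n₀ • F.presheaf.map
            (homOfLE (inf_le_left : (T i).W ⊓ (T j).W ≤ (T i).W)).op (y' i) -
          F.presheaf.map (homOfLE (inf_le_right : (T i).W ⊓ (T j).W ≤ (T j).W)).op (y' j)) =
        0 := by
    intro i j
    refine Groth.Agent.H8.exists_pow_smul_eq_zero_of_isCompact F (hcomp i j) _ _ ?_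
    have hBj : X.basicOpen (X.presheaf.map
        (homOfLE (inf_le_right : (T i).W ⊓ (T j).W ≤ (T j).W)).op (T j).a) ≤
        X.basicOpen (T j).a := by
      rw [X.basicOpen_res]
      exact inf_le_right
    have hBi : X.basicOpen (X.presheaf.map
        (homOfLE (inf_le_right : (T i).W ⊓ (T j).W ≤ (T j).W)).op (T j).a) ≤
        X.basicOpen (T i).a := by
      rw [← (T i).genLocus_inf]
      exact le_inf (hBj.trans (T j).basicOpen_le_genLocus)
        ((X.basicOpen_le _).trans inf_le_left)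
    have e1 := hy' i _ hBi
    have e2 := hy' j _ hBj
    have e3 := congrArg (X.presheaf.map (homOfLE (X.basicOpen_le (X.presheaf.map
        (homOfLE (inf_le_right : (T i).W ⊓ (T j).W ≤ (T j).W)).op (T j).a))).op) (hau i j)
    rw [map_mul, ringRes_res, ringRes_res] at e3
    rw [map_sub, sub_eq_zero, res_smul, res_res, res_res, map_pow]
    refine (congrArg (fun z => _ • z) e1).trans (Eq.trans ?_ e2.symm)
    rw [← mul_smul, ← mul_pow]
    congr 2
    rw [mul_comm]
    exact e3.symm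
  choose m hm using h4
  obtain ⟨M₀, hM₀⟩ : ∃ M₀ : ℕ, M₀ = Finset.univ.sup (fun p : ι × ι => m p.1 p.2) := ⟨_, rfl⟩
  refine ⟨n₀ + M₀, fun nn hnn => ?_⟩
  obtain ⟨M, rfl⟩ : ∃ M : ℕ, nn = n₀ + M := ⟨nn - n₀, by omega⟩
  have hM : M₀ ≤ M := by omega
  -- Step 4: the local sections and their compatibility
  have hcompat : TopCat.Presheaf.IsCompatible
      (CohB1.tensorMod F (CohB1.tensorPow L (n₀ + M))).presheaf (fun i : ι => (T i).W)
      (fun i => tm F (CohB1.tensorPow L (n₀ + M)) ((T i).a ^ M • y' i)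
        (lp (T i).τ (n₀ + M))) := by
    intro i j
    change (CohB1.tensorMod F (CohB1.tensorPow L (n₀ + M))).presheaf.map
        (homOfLE (inf_le_left : (T i).W ⊓ (T j).W ≤ (T i).W)).op _ =
      (CohB1.tensorMod F (CohB1.tensorPow L (n₀ + M))).presheaf.map
        (homOfLE (inf_le_right : (T i).W ⊓ (T j).W ≤ (T j).W)).op _
    rw [tm_res, tm_res, lp_res, lp_res, hu i j, lp_smul, tm_smul_right, ← tm_smul_left,
      ← sub_eq_zero, ← tm_sub_left]
    have hk : M = (M - m i j) + m i j := by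
      have : m i j ≤ M₀ := by
        rw [hM₀]
        exact Finset.le_sup (f := fun p : ι × ι => m p.1 p.2) (Finset.mem_univ (i, j))
      omega
    have hzero : u i j ^ (n₀ + M) • F.presheaf.map
          (homOfLE (inf_le_left : (T i).W ⊓ (T j).W ≤ (T i).W)).op ((T i).a ^ M • y' i) -
        F.presheaf.map (homOfLE (inf_le_right : (T i).W ⊓ (T j).W ≤ (T j).W)).op
          ((T j).a ^ M • y' j) = 0 := by
      rw [res_smul, res_smul, map_pow, map_pow, hau i j]
      have e : u i j ^ (n₀ + M) •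
          (X.presheaf.map (homOfLE (inf_le_left : (T i).W ⊓ (T j).W ≤ (T i).W)).op (T i).a) ^ M •
            F.presheaf.map (homOfLE (inf_le_left : (T i).W ⊓ (T j).W ≤ (T i).W)).op (y' i) =
          (X.presheaf.map (homOfLE (inf_le_left : (T i).W ⊓ (T j).W ≤ (T i).W)).op (T i).a *
            u i j) ^ M • (u i j ^ n₀ •
              F.presheaf.map (homOfLE (inf_le_left : (T i).W ⊓ (T j).W ≤ (T i).W)).op (y' i)) := by
        rw [← mul_smul, ← mul_smul]
        congr 1
        ring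
      rw [e, ← smul_sub, ← hau i j, hk, pow_add, mul_smul, hm i j, smul_zero]
    rw [hzero, tm_zero_left]
  have hcover : (⊤ : X.Opens) ≤ iSup (fun i : ι => (T i).W) := by
    intro x _
    obtain ⟨i, hi⟩ := hcov x
    exact Opens.mem_iSup.mpr ⟨i, hi⟩
  obtain ⟨t', ht', -⟩ := TopCat.Sheaf.existsUnique_gluing'
    (F := ⟨(CohB1.tensorMod F (CohB1.tensorPow L (n₀ + M))).presheaf,
      (CohB1.tensorMod F (CohB1.tensorPow L (n₀ + M))).isSheaf⟩)
    (fun i : ι => (T i).W) ⊤ (fun i => homOfLE le_top) hcover _ hcompat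
  refine ⟨t', ?_⟩
  -- Step 5: check on the cover of `X_s` by the `D(a_i)`
  refine section_eq_of_cover _ _ _ (fun x hx => ?_)
  obtain ⟨i, hxi⟩ := hcov x
  have hxD : x ∈ X.basicOpen (T i).a := by
    rw [← (T i).genLocus_inf]
    exact ⟨hx, hxi⟩
  refine ⟨X.basicOpen (T i).a, (T i).basicOpen_le_genLocus, hxD, ?_⟩
  have ht'i : (CohB1.tensorMod F (CohB1.tensorPow L (n₀ + M))).presheaf.map
      (homOfLE (le_top : (T i).W ≤ ⊤)).op t' =
      tm F (CohB1.tensorPow L (n₀ + M)) ((T i).a ^ M • y' i) (lp (T i).τ (n₀ + M)) := ht' i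
  have e1 := hy' i _ (le_refl (X.basicOpen (T i).a))
  rw [res_res, ← res_res _ (X.basicOpen_le (T i).a) (le_top : (T i).W ≤ ⊤), ht'i, tm_res, tm_res,
    lp_res, lp_res, sv_res, (T i).lp_sv (X.basicOpen_le (T i).a), tm_smul_right, res_smul, map_pow,
    e1, ← mul_smul, ← pow_add, tm_smul_left, add_comm M n₀]

end Groth.Agent.H18.SecTwGe

end
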