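import Groth.Agent.H18.FinPtsAmple
import Groth.Agent.H18.SecTwGe

/-!
# Sections of twists generating at finitely many points

* `exists_local_of_mem_genLocus_restrict`: transport of "a section of `M|_Y` generates at `y`"
  to `X` along an open immersion `j : Y ⟶ X`.
* `exists_sections_twists`: let `t` be a section of an invertible module `L₁` on a quasi-compact
  quasi-separated scheme with `X_t` affine, `E` invertible and `P ⊆ X_t` finite. Then for all large
  `m` there is a global section of `E ⊗ L₁^m` generating at every point of `P`.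
-/

set_option autoImplicit false
universe u

noncomputable section

namespace Groth.Agent.H18.FinPtsTwist

open CategoryTheory AlgebraicGeometry Opposite TopologicalSpace
open Groth.Agent.H8 (res_res res_smul ringRes_res section_eq_of_cover)
open Groth.Agent.H18.SecTw Groth.Agent.H18.TensorGen Groth.Agent.H18.TensorPowIso
open Groth.Agent.H18.GenLocusGen Groth.Agent.H18.FinPts

variable {X : Scheme.{u}}

/-- Transport of local generation along an open immersion. -/
theorem exists_local_of_mem_genLocus_restrict {Y : Scheme.{u}} (j : Y ⟶ X) [IsOpenImmersion j]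
    {M : X.Modules} (hM : PicF.IsInvertible M)
    (s' : Coh.structureModule Y ⟶ M.restrict j) (y : Y)
    (hy : y ∈ CohB1.genLocus (M.restrict j) s') :
    ∃ (V' : Y.Opens) (_ : y ∈ V') (ε : Γ(M, j ''ᵁ V')) (a : Γ(X, j ''ᵁ V')),
      IsGen M (j ''ᵁ V') ε ∧ RestrictTensor.ofRes j M (sv s' V') = a • ε ∧
        j y ∈ X.basicOpen a := by
  have hMY := Groth.Agent.H8.isInvertible_restrict j hM
  obtain ⟨V', ε', hyV', hε'⟩ := exists_isGen hMY y
  obtain ⟨a', ha'⟩ := hε'.self.2 (sv s' V')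
  have h1 : sv s' V' = a' • ε' := ha'.symm
  have h2 := (mem_genLocus_iff_of_isGen s' hε' a' h1 y hyV').mp hy
  refine ⟨V', hyV', RestrictTensor.ofRes j M ε', (j.appIso V').inv a',
    RestrictTensor.isGen_of_restrict j M hε', ?_, ?_⟩
  · rw [h1]
    rfl
  · rw [← Scheme.image_basicOpen j]
    exact ⟨y, h2, rfl⟩

/-- Sections of `E ⊗ L₁^m` generating at finitely many points of an affine `X_t`. -/
theorem exists_sections_twists [CompactSpace X] [QuasiSeparatedSpace X] {L₁ : X.Modules}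
    (hL₁ : PicF.IsInvertible L₁) (t : Coh.structureModule X ⟶ L₁)
    (haff : IsAffineOpen (CohB1.genLocus L₁ t)) {E : X.Modules} (hE : PicF.IsInvertible E)
    (P : Set X) (hP : P.Finite) (hPt : P ⊆ CohB1.genLocus L₁ t) :
    ∃ N : ℕ, ∀ m : ℕ, N ≤ m →
      ∃ σ : Coh.structureModule X ⟶ CohB1.tensorMod E (CohB1.tensorPow L₁ m),
        P ⊆ CohB1.genLocus _ σ := by
  have : IsAffine (↑(CohB1.genLocus L₁ t) : Scheme.{u}) := haff
  have hEY := Groth.Agent.H8.isInvertible_restrict (CohB1.genLocus L₁ t).ι hE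
  obtain ⟨s', -, hPs', -⟩ := exists_section_of_finite
    (X := (↑(CohB1.genLocus L₁ t) : Scheme.{u})) hEY ⊤ ((CohB1.genLocus L₁ t).ι ⁻¹' P)
    (hP.preimage (Set.injOn_of_injective (CohB1.genLocus L₁ t).ι.isOpenEmbedding.injective))
    (fun _ _ => trivial)
  have hUle : CohB1.genLocus L₁ t ≤ (CohB1.genLocus L₁ t).ι ''ᵁ ⊤ := by
    rw [Scheme.Opens.ι_image_top]
  have hEq := AmpleBasis.isQuasicoherent_of_isInvertible hE
  have : E.IsQuasicoherent := hEq
  obtain ⟨N, hN⟩ := SecTwGe.exists_twist_extends_ge hL₁ t E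
    (E.presheaf.map (homOfLE hUle).op
      (RestrictTensor.ofRes (CohB1.genLocus L₁ t).ι E (sv s' ⊤)))
  refine ⟨N, fun m hm => ?_⟩
  obtain ⟨t', ht'⟩ := hN m hm
  refine ⟨secHom _ t', fun p hp => ?_⟩
  have hpU : p ∈ CohB1.genLocus L₁ t := hPt hp
  obtain ⟨V', hyV', ε, a, hε, hsa, hpa⟩ := exists_local_of_mem_genLocus_restrict
    (CohB1.genLocus L₁ t).ι hE s' ⟨p, hpU⟩
    (hPs' (show (CohB1.genLocus L₁ t).ι ⟨p, hpU⟩ ∈ P from hp))
  have hVU : (CohB1.genLocus L₁ t).ι ''ᵁ V' ≤ CohB1.genLocus L₁ t :=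
    (CohB1.genLocus L₁ t).ι_image_le V'
  have hgenL : IsGen (CohB1.tensorPow L₁ m) ((CohB1.genLocus L₁ t).ι ''ᵁ V')
      (lp (sv t ((CohB1.genLocus L₁ t).ι ''ᵁ V')) m) := by
    have h1 := (isGen_sv_genLocus t).res hVU
    rw [sv_res] at h1
    exact isGen_lp h1 m
  have hgen := isGen_tm hε hgenL
  have hres : E.presheaf.map (homOfLE hVU).op (E.presheaf.map (homOfLE hUle).op
      (RestrictTensor.ofRes (CohB1.genLocus L₁ t).ι E (sv s' ⊤))) = a • ε := by
    rw [← hsa, res_res, ← sv_res s' (le_top : V' ≤ ⊤)]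
    rfl
  have hsv : sv (secHom _ t') ((CohB1.genLocus L₁ t).ι ''ᵁ V') =
      a • tm E (CohB1.tensorPow L₁ m) ε (lp (sv t ((CohB1.genLocus L₁ t).ι ''ᵁ V')) m) := by
    rw [sv_secHom, ← res_res _ hVU le_top, ht', tm_res, lp_res, sv_res, hres, tm_smul_left]
  exact (mem_genLocus_iff_of_isGen _ hgen a hsv p ⟨⟨p, hpU⟩, hyV', rfl⟩).mpr hpa

end Groth.Agent.H18.FinPtsTwist
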