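import Groth.Agent.H18.TensorCoh
import Groth.Agent.H18.SecTwGe
import Groth.Agent.H18.GenLocusGen
import Groth.Agent.H18.TensorPowIso
import Groth.Prelude.Def_Curv2

/-!
# Generation by global sections, pointwise (`GGAt`)

* `isGloballyGenerated_of_ggAt`: a module generated by global sections at every point is a
  quotient of a free module.
* `exists_section_of_ggAt`: for an invertible module, generation at `x` gives a global section
  not vanishing at `x`.
* `exists_ggAt_twist`: EGA II 4.5.5, the local step: for `s : O ⟶ A` with `X_s` affine and `G`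
  coherent, `G ⊗ A^k` is generated by global sections at all points of `X_s` for all large `k`.
-/

set_option autoImplicit false
universe u

noncomputable section

namespace Groth.Agent.H18.GlobGen

open CategoryTheory AlgebraicGeometry Opposite TopologicalSpace
open Groth.Agent.H8 (res_res res_smul ringRes_res section_eq_of_cover)
open Groth.Agent.H18.SecTw Groth.Agent.H18.TensorGen Groth.Agent.H18.TensorSec

variable {X : Scheme.{u}}

/-- `P` is generated by its global sections at `x`. -/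
def GGAt (P : X.Modules) (x : X) : Prop :=
  ∀ (U : X.Opens) (t : Γ(P, U)), x ∈ U → ∃ (V : X.Opens) (hV : V ≤ U), x ∈ V ∧
    P.presheaf.map (homOfLE hV).op t ∈ Submodule.span Γ(X, V)
      (Set.range fun g : Γ(P, ⊤) => P.presheaf.map (homOfLE (le_top : V ≤ ⊤)).op g)

/-- A morphism of `𝒪_X`-modules which is locally surjective on sections is an epimorphism. -/
lemma epi_of_locally {M N : X.Modules} (p : M ⟶ N)
    (h : ∀ (U : X.Opens) (t : Γ(N, U)) (x : X), x ∈ U → ∃ (V : X.Opens) (hV : V ≤ U),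
      x ∈ V ∧ ∃ s : Γ(M, V), p.app V s = N.presheaf.map (homOfLE hV).op t) : Epi p := by
  have h1 : Epi ((SheafOfModules.toSheaf X.ringCatSheaf).map p) := by
    refine (TopCat.Sheaf.isLocallySurjective_iff_epi (X := X.toTopCat) (C := AddCommGrpCat.{u})
      ((SheafOfModules.toSheaf X.ringCatSheaf).map p)).mp ?_
    rw [TopCat.Presheaf.isLocallySurjective_iff]
    intro U t x hx
    obtain ⟨V, hV, hxV, s, hs⟩ := h U t x hx
    exact ⟨V, hV, ⟨s, hs⟩, hxV⟩
  exact (SheafOfModules.toSheaf X.ringCatSheaf).epi_of_epi_map h1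

/-- The section of a sheaf of modules on a scheme given by a section over the whole space. -/
def secOfTop (M : SheafOfModules.{u} X.ringCatSheaf) (t : M.val.obj (op ⊤)) : M.sections :=
  PresheafOfModules.sectionsMk
    (fun U => M.val.map (homOfLE (le_top : U.unop ≤ ⊤)).op t) (by
      intro U V f
      rw [← PresheafOfModules.map_comp_apply]
      rfl)

theorem isGloballyGenerated_of_ggAt (P : X.Modules) (h : ∀ x : X, GGAt P x) :
    Curv2.IsGloballyGenerated P := by
  let ι : Type u := P.val.obj (op ⊤)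
  let sec : ι → (P : SheafOfModules.{u} X.ringCatSheaf).sections := fun t => secOfTop P t
  let Fr : X.Modules := SheafOfModules.free ι
  let p : Fr ⟶ P := (SheafOfModules.freeHomEquiv _).symm sec
  refine ⟨ι, p, ?_⟩
  apply epi_of_locally
  intro U t x hxU
  obtain ⟨V, hV, hxV, hmem⟩ := h x U t hxU
  refine ⟨V, hV, hxV, ?_⟩
  refine Submodule.span_induction (p := fun z _ => ∃ s : Γ(Fr, V), p.app V s = z)
    ?_ ?_ ?_ ?_ hmem
  · rintro _ ⟨g, rfl⟩
    refine ⟨(SheafOfModules.freeSection (R := X.ringCatSheaf) (g : ι)).eval (op V), ?_⟩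
    have h2 := SheafOfModules.sectionsMap_freeHomEquiv_symm_freeSection
      (M := (P : SheafOfModules.{u} X.ringCatSheaf)) sec (g : ι)
    have h3 := congrArg (fun z => z.eval (op V)) h2
    exact h3
  · exact ⟨0, map_zero _⟩
  · rintro z z' _ _ ⟨s, hs⟩ ⟨s', hs'⟩
    exact ⟨s + s', by rw [map_add, hs, hs']⟩
  · rintro c z _ ⟨s, hs⟩
    exact ⟨c • s, by rw [Scheme.Modules.Hom.app_smul, hs]⟩

/-- For an invertible module generated by global sections at `x`, some global section does not
vanish at `x`. -/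
theorem exists_section_of_ggAt {N : X.Modules} (hN : PicF.IsInvertible N) (x : X)
    (h : GGAt N x) : ∃ σ : Coh.structureModule X ⟶ N, x ∈ CohB1.genLocus N σ := by
  obtain ⟨V, τ, hxV, hτ⟩ := exists_isGen hN x
  obtain ⟨V', hV', hxV', hmem⟩ := h V τ hxV
  have hτ' := hτ.res hV'
  by_contra hne
  push Not at hne
  have hall : ∀ (g : Γ(N, ⊤)) (a : Γ(X, V')),
      N.presheaf.map (homOfLE (le_top : V' ≤ ⊤)).op g = a • N.presheaf.map (homOfLE hV').op τ →
      x ∉ X.basicOpen a := by
    intro g a hga hxa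
    refine hne (TensorPowIso.secHom N g) ?_
    refine (mem_genLocus_iff_of_isGen _ hτ' a ?_ x hxV').mpr hxa
    rw [TensorPowIso.sv_secHom]
    exact hga
  have key : ∃ a : Γ(X, V'), N.presheaf.map (homOfLE hV').op τ =
      a • N.presheaf.map (homOfLE hV').op τ ∧ x ∉ X.basicOpen a := by
    refine Submodule.span_induction (p := fun z _ => ∃ a : Γ(X, V'),
      z = a • N.presheaf.map (homOfLE hV').op τ ∧ x ∉ X.basicOpen a) ?_ ?_ ?_ ?_ hmem
    · rintro _ ⟨g, rfl⟩
      obtain ⟨a, ha⟩ := hτ'.self.2 (N.presheaf.map (homOfLE (le_top : V' ≤ ⊤)).op g)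
      have ha' : a • N.presheaf.map (homOfLE hV').op τ = _ := ha
      exact ⟨a, ha'.symm, hall g a ha'.symm⟩
    · refine ⟨0, (zero_smul _ _).symm, ?_⟩
      rw [Scheme.basicOpen_zero]
      exact fun h => h
    · rintro z z' _ _ ⟨a, ha, hxa⟩ ⟨b, hb, hxb⟩
      refine ⟨a + b, by rw [ha, hb, add_smul], fun hx => ?_⟩
      rcases X.basicOpen_add_le a b hx with h1 | h1
      · exact hxa h1
      · exact hxb h1
    · rintro c z _ ⟨a, ha, hxa⟩
      refine ⟨c * a, by rw [ha, mul_smul], fun hx => ?_⟩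
      rw [Scheme.basicOpen_mul] at hx
      exact hxa hx.2
  obtain ⟨a, ha, hxa⟩ := key
  have h1 : a = 1 := by
    apply hτ'.self.1
    show a • _ = (1 : Γ(X, V')) • _
    rw [one_smul]
    exact ha.symm
  rw [h1, Scheme.basicOpen_one] at hxa
  exact hxa hxV'

/-- EGA II 4.5.5, local step. -/
theorem exists_ggAt_twist [CompactSpace X] [QuasiSeparatedSpace X] {A : X.Modules}
    (hA : PicF.IsInvertible A) (s : Coh.structureModule X ⟶ A)
    (hs : IsAffineOpen (CohB1.genLocus A s)) (G : X.Modules) (hG : Coh.IsCoh G) :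
    ∃ k₀ : ℕ, ∀ k : ℕ, k₀ ≤ k → ∀ x ∈ CohB1.genLocus A s,
      GGAt (CohB1.tensorMod G (CohB1.tensorPow A k)) x := by
  haveI : G.IsQuasicoherent := hG.1
  have hfin : Module.Finite Γ(X, CohB1.genLocus A s) Γ(G, CohB1.genLocus A s) :=
    Groth.Agent.H8.finite_sections_of_isCoh G hG hs
  obtain ⟨S, hS⟩ := hfin.fg_top
  choose N hN using fun h : Γ(G, CohB1.genLocus A s) =>
    SecTwGe.exists_twist_extends_ge hA s G h
  refine ⟨S.sup N, fun k hk x hx U t hxU => ?_⟩
  have hT : ∀ h ∈ S, ∃ t' : Γ(CohB1.tensorMod G (CohB1.tensorPow A k), ⊤),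
      (CohB1.tensorMod G (CohB1.tensorPow A k)).presheaf.map
          (homOfLE (le_top : CohB1.genLocus A s ≤ ⊤)).op t' =
        tm G (CohB1.tensorPow A k) h (lp (sv s (CohB1.genLocus A s)) k) :=
    fun h hh => hN h k ((Finset.le_sup hh).trans hk)
  have hσ : IsGen (CohB1.tensorPow A k) (CohB1.genLocus A s)
      (lp (sv s (CohB1.genLocus A s)) k) :=
    isGen_lp (GenLocusGen.isGen_sv_genLocus s) k
  have hxUX : x ∈ U ⊓ CohB1.genLocus A s := ⟨hxU, hx⟩
  obtain ⟨a, haU, hxa⟩ := hs.exists_basicOpen_le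
    (V := U ⊓ CohB1.genLocus A s) ⟨x, hxUX⟩ hx
  have hDU : X.basicOpen a ≤ U := haU.trans inf_le_left
  have hDX : X.basicOpen a ≤ CohB1.genLocus A s := X.basicOpen_le a
  refine ⟨X.basicOpen a, hDU, hxa, ?_⟩
  obtain ⟨g, hg⟩ := surjective_tm (F := G) (hσ.res hDX)
    ((CohB1.tensorMod G (CohB1.tensorPow A k)).presheaf.map (homOfLE hDU).op t)
  have hg' : tm G (CohB1.tensorPow A k) g _ = _ := hg
  obtain ⟨n, y, hy⟩ := Groth.Agent.H8.exists_smul_eq_res hs G a g
  have hua : IsUnit (X.presheaf.map (homOfLE (X.basicOpen_le a)).op a) :=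
    RingedSpace.isUnit_res_basicOpen X.toRingedSpace a
  obtain ⟨u, hu⟩ := (hua.pow n).exists_left_inv
  have hgy : g = u • G.presheaf.map (homOfLE hDX).op y := by
    rw [← hy, ← mul_smul, hu, one_smul]
  have ht : (CohB1.tensorMod G (CohB1.tensorPow A k)).presheaf.map (homOfLE hDU).op t =
      u • (CohB1.tensorMod G (CohB1.tensorPow A k)).presheaf.map (homOfLE hDX).op
        (tm G (CohB1.tensorPow A k) y (lp (sv s (CohB1.genLocus A s)) k)) := by
    rw [← hg', hgy, tm_smul_left, tm_res]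
  rw [ht]
  apply Submodule.smul_mem
  have hy_mem : y ∈ Submodule.span Γ(X, CohB1.genLocus A s) (S : Set Γ(G, CohB1.genLocus A s)) := by
    rw [hS]
    trivial
  refine Submodule.span_induction (p := fun y _ =>
    (CohB1.tensorMod G (CohB1.tensorPow A k)).presheaf.map (homOfLE hDX).op
        (tm G (CohB1.tensorPow A k) y (lp (sv s (CohB1.genLocus A s)) k)) ∈
      Submodule.span Γ(X, X.basicOpen a)
        (Set.range fun g : Γ(CohB1.tensorMod G (CohB1.tensorPow A k), ⊤) =>
          (CohB1.tensorMod G (CohB1.tensorPow A k)).presheaf.map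
            (homOfLE (le_top : X.basicOpen a ≤ ⊤)).op g)) ?_ ?_ ?_ ?_ hy_mem
  · intro h hh
    obtain ⟨t', ht'⟩ := hT h hh
    apply Submodule.subset_span
    refine ⟨t', ?_⟩
    show (CohB1.tensorMod G (CohB1.tensorPow A k)).presheaf.map _ t' = _
    rw [← ht', res_res]
  · rw [tm_zero_left, map_zero]
    exact Submodule.zero_mem _
  · intro y₁ y₂ _ _ h₁ h₂
    rw [tm_add_left, map_add]
    exact Submodule.add_mem _ h₁ h₂
  · intro c y₁ _ h₁
    rw [tm_smul_left, res_smul]
    exact Submodule.smul_mem _ _ h₁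

end Groth.Agent.H18.GlobGen
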