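import Groth.Agent.H18.GlobGen
import Groth.Agent.H22.SubSh

/-!
# Global generation: converse direction, and affineness of `X_t ∩ U`

* `genSub P`: the subsheaf of `P` generated by the global sections.
* `ggAt_of_isGloballyGenerated`: a quotient of a free module is generated by its global sections
  at every point.
* `isAffineHom_genLocus_ι`, `isAffineOpen_genLocus_inf`: for a section `t` of an invertible
  module the open immersion `X_t ⟶ X` is affine; `X_t ∩ U` is affine for `U` affine.
-/

set_option autoImplicit false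
universe u

noncomputable section

namespace Groth.Agent.H18.GlobGenConv

open CategoryTheory AlgebraicGeometry Opposite TopologicalSpace
open Groth.Agent.H8 (res_res res_smul ringRes_res section_eq_of_cover)
open Groth.Agent.H18.SecTw Groth.Agent.H18.TensorGen Groth.Agent.H18.GlobGen

variable {X : Scheme.{u}}

/-- The span of the restrictions of global sections. -/
def gspan (P : X.Modules) (V : X.Opens) : Submodule Γ(X, V) Γ(P, V) :=
  Submodule.span Γ(X, V)
    (Set.range fun g : Γ(P, ⊤) => P.presheaf.map (homOfLE (le_top : V ≤ ⊤)).op g)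

lemma gspan_res (P : X.Modules) {V W : X.Opens} (h : W ≤ V) {z : Γ(P, V)}
    (hz : z ∈ gspan P V) : P.presheaf.map (homOfLE h).op z ∈ gspan P W := by
  refine Submodule.span_induction (p := fun z _ => P.presheaf.map (homOfLE h).op z ∈ gspan P W)
    ?_ ?_ ?_ ?_ hz
  · rintro _ ⟨g, rfl⟩
    rw [res_res]
    exact Submodule.subset_span ⟨g, rfl⟩
  · rw [map_zero]
    exact Submodule.zero_mem _
  · intro a b _ _ ha hb
    rw [map_add]
    exact Submodule.add_mem _ ha hb
  · intro c a _ ha
    rw [res_smul]
    exact Submodule.smul_mem _ _ ha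

/-- The subsheaf of `P` generated by the global sections. -/
def genSub (P : X.Modules) : Groth.Agent.H22.SubSh P where
  mem A x := ∀ p ∈ A, ∃ (V : X.Opens) (hV : V ≤ A), p ∈ V ∧
    P.presheaf.map (homOfLE hV).op x ∈ gspan P V
  zero_mem A p hp := ⟨A, le_rfl, hp, by rw [map_zero]; exact Submodule.zero_mem _⟩
  add_mem A x y hx hy p hp := by
    obtain ⟨V, hV, hpV, h1⟩ := hx p hp
    obtain ⟨V', hV', hpV', h2⟩ := hy p hp
    refine ⟨V ⊓ V', inf_le_left.trans hV, ⟨hpV, hpV'⟩, ?_⟩
    rw [map_add]
    refine Submodule.add_mem _ ?_ ?_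
    · have := gspan_res P (inf_le_left : V ⊓ V' ≤ V) h1
      rwa [res_res] at this
    · have := gspan_res P (inf_le_right : V ⊓ V' ≤ V') h2
      rwa [res_res] at this
  smul_mem A r x hx p hp := by
    obtain ⟨V, hV, hpV, h1⟩ := hx p hp
    refine ⟨V, hV, hpV, ?_⟩
    rw [res_smul]
    exact Submodule.smul_mem _ _ h1
  res_mem {A B} h x hx p hp := by
    obtain ⟨V, hV, hpV, h1⟩ := hx p (h hp)
    refine ⟨V ⊓ B, inf_le_right, ⟨hpV, hp⟩, ?_⟩
    rw [res_res]
    have := gspan_res P (inf_le_left : V ⊓ B ≤ V) h1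
    rwa [res_res] at this
  local_mem A x h p hp := by
    obtain ⟨B, hB, hpB, hmem⟩ := h p hp
    obtain ⟨V, hV, hpV, h1⟩ := hmem p hpB
    refine ⟨V, hV.trans hB, hpV, ?_⟩
    rw [res_res] at h1
    exact h1

/-- A quotient of a free module is generated by its global sections at every point. -/
theorem ggAt_of_isGloballyGenerated (P : X.Modules) (h : Curv2.IsGloballyGenerated P) (x : X) :
    GGAt P x := by
  obtain ⟨ι, p, hp⟩ := h
  let K := genSub P
  have hglob : ∀ g : Γ(P, ⊤), K.mem ⊤ g := fun g q hq =>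
    ⟨⊤, le_rfl, hq, Submodule.subset_span ⟨g, rfl⟩⟩
  let σ : ι → (P : SheafOfModules.{u} X.ringCatSheaf).sections :=
    SheafOfModules.freeHomEquiv _ p
  choose y hy using fun i => K.exists_ι_app_eq (hglob ((σ i).eval (op ⊤)))
  let p' : (SheafOfModules.free ι : X.Modules) ⟶ K.toModules :=
    (SheafOfModules.freeHomEquiv _).symm (fun i => secOfTop K.toModules (y i))
  have hfac : p' ≫ K.ι = p := by
    apply (SheafOfModules.freeHomEquiv _).injective
    funext i
    have e2 : (SheafOfModules.freeHomEquiv K.toModules) p' i = secOfTop K.toModules (y i) :=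
      congrFun (Equiv.apply_symm_apply _ _) i
    have e1 : (SheafOfModules.freeHomEquiv P) (p' ≫ K.ι) i =
        SheafOfModules.sectionsMap K.ι (secOfTop K.toModules (y i)) := by
      rw [← e2]
      rfl
    refine e1.trans ?_
    apply PresheafOfModules.sections_ext
    intro U
    have h1 : K.ι.app U.unop (K.toModules.presheaf.map (homOfLE (le_top : U.unop ≤ ⊤)).op (y i)) =
        P.presheaf.map (homOfLE (le_top : U.unop ≤ ⊤)).op (K.ι.app ⊤ (y i)) :=
      Groth.Agent.H8.app_res K.ι le_top (y i)
    have h2 : P.presheaf.map (homOfLE (le_top : U.unop ≤ ⊤)).op ((σ i).eval (op ⊤)) =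
        (σ i).eval U := PresheafOfModules.sections_property (σ i) (homOfLE le_top).op
    rw [hy i] at h1
    exact h1.trans h2
  have : Epi (p' ≫ K.ι) := by rw [hfac]; exact hp
  have : Epi K.ι := epi_of_epi p' K.ι
  have : IsIso K.ι := isIso_of_mono_of_epi K.ι
  intro U t hxU
  have hiso : IsIso (K.ι.app U) := inferInstance
  obtain ⟨y', rfl⟩ := ((ConcreteCategory.isIso_iff_bijective _).mp hiso).2 t
  exact K.ι_app_mem U y' x hxU

/-- For a section `t` of an invertible module the open immersion `X_t ⟶ X` is affine. -/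
theorem isAffineHom_genLocus_ι {M : X.Modules} (hM : PicF.IsInvertible M)
    (t : Coh.structureModule X ⟶ M) : IsAffineHom (CohB1.genLocus M t).ι := by
  apply isAffineHom_of_forall_exists_isAffineOpen
  intro x
  obtain ⟨W, μ, hW, hxW, hμ⟩ := TensorCoh.exists_affine_gen hM x
  obtain ⟨a, ha⟩ := hμ.self.2 (sv t W)
  have ha' : a • μ = sv t W := ha
  refine ⟨W, hxW, hW, ?_⟩
  have h1 : CohB1.genLocus M t ⊓ W = X.basicOpen a := genLocus_inf_of_isGen t hμ a ha'.symm
  rw [← Scheme.Hom.isAffineOpen_iff_of_isOpenImmersion (CohB1.genLocus M t).ι,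
    Scheme.Hom.image_preimage_eq_opensRange_inf, Scheme.Opens.opensRange_ι, h1]
  exact hW.basicOpen a

/-- `X_t ∩ U` is affine for `U` affine and `t` a section of an invertible module. -/
theorem isAffineOpen_genLocus_inf {M : X.Modules} (hM : PicF.IsInvertible M)
    (t : Coh.structureModule X ⟶ M) {U : X.Opens} (hU : IsAffineOpen U) :
    IsAffineOpen (CohB1.genLocus M t ⊓ U) := by
  have := isAffineHom_genLocus_ι hM t
  have h := hU.preimage (CohB1.genLocus M t).ι
  rw [← Scheme.Hom.isAffineOpen_iff_of_isOpenImmersion (CohB1.genLocus M t).ι,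
    Scheme.Hom.image_preimage_eq_opensRange_inf, Scheme.Opens.opensRange_ι] at h
  exact h

end Groth.Agent.H18.GlobGenConv
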