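import Groth.Agent.H18.ProjBasic
import Mathlib.Algebra.GradedMulAction
import Mathlib.Algebra.Module.LocalizedModule.Basic
import Mathlib.Algebra.DirectSum.Decomposition

set_option autoImplicit false
universe u

namespace Groth.Agent.H18

open AlgebraicGeometry HomogeneousIdeal

section
variable {R A : Type*} [CommRing R] [CommRing A] [Algebra R A] (𝒜 : ℕ → Submodule R A)
  [GradedAlgebra 𝒜]
  {M : Type*} [AddCommGroup M] [Module R M] [Module A M] (ℳ : ℕ → Submodule R M)
  [DirectSum.Decomposition ℳ] [SetLike.GradedSMul 𝒜 ℳ]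

/-- If `c` kills a homogeneous element `m`, so does each homogeneous component of `c`. -/
theorem component_smul_eq_zero {i : ℕ} {m : M} (hm : m ∈ ℳ i) {c : A} (hc : c • m = 0) (j : ℕ) :
    (DirectSum.decompose 𝒜 c j : A) • m = 0 := by
  classical
  have hsum : c • m = ∑ l ∈ (DirectSum.decompose 𝒜 c).support, (DirectSum.decompose 𝒜 c l : A) • m := by
    conv_lhs => rw [← DirectSum.sum_support_decompose 𝒜 c, Finset.sum_smul]
  have hmem : ∀ l, (DirectSum.decompose 𝒜 c l : A) • m ∈ ℳ (l + i) := fun l =>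
    SetLike.GradedSMul.smul_mem (i := l) (j := i) (SetLike.coe_mem _) hm
  have key : ((DirectSum.decompose ℳ (c • m)) (j + i) : M) = (DirectSum.decompose 𝒜 c j : A) • m := by
    rw [hsum, DirectSum.decompose_sum, DFinsupp.finset_sum_apply, AddSubmonoidClass.coe_finset_sum]
    rw [Finset.sum_eq_single j]
    · exact DirectSum.decompose_of_mem_same ℳ (hmem j)
    · intro l _ hlj
      exact DirectSum.decompose_of_mem_ne ℳ (hmem l) (by omega)
    · intro hj
      have : DirectSum.decompose 𝒜 c j = 0 := by simpa using hj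
      rw [this]
      simp
  rw [← key, hc, DirectSum.decompose_zero]
  rfl

end

section
variable {R A : Type*} [CommRing R] [CommRing A] [Algebra R A] (𝒜 : ℕ → Submodule R A)
  [GradedAlgebra 𝒜]
  {M : Type*} [AddCommGroup M] [Module R M] [Module A M] (ℳ : ℕ → Submodule R M)
  [DirectSum.Decomposition ℳ] [SetLike.GradedSMul 𝒜 ℳ]

/-- If a homogeneous element `m` becomes zero in the localization of the module at every point of
`D₊(f)`, with `f` homogeneous of positive degree, a power of `f` kills `m`. -/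
theorem exists_pow_smul_eq_zero_of_forall_localized_eq_zero {d : ℕ} (hd : 0 < d) {f : A}
    (hf : f ∈ 𝒜 d) {i : ℕ} {m : M} (hm : m ∈ ℳ i)
    (h : ∀ x : ProjectiveSpectrum 𝒜, f ∉ x.asHomogeneousIdeal →
      ∃ c : A, c ∉ x.asHomogeneousIdeal ∧ c • m = 0) :
    ∃ N : ℕ, f ^ N • m = 0 := by
  classical
  let I : Ideal A := LinearMap.ker (LinearMap.toSpanSingleton A M m)
  have hI : ∀ a : A, a ∈ I ↔ a • m = 0 := fun a => by
    simp [I, LinearMap.mem_ker, LinearMap.toSpanSingleton_apply]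
  by_contra hcon
  push Not at hcon
  have hfrad : f ∉ I.radical := by
    rintro ⟨N, hN⟩
    exact hcon N ((hI _).mp hN)
  rw [Ideal.radical_eq_sInf, Ideal.mem_sInf] at hfrad
  push Not at hfrad
  obtain ⟨P, ⟨hIP, hP⟩, hfP⟩ := hfrad
  have hcore : (P.homogeneousCore 𝒜).toIdeal.IsPrime := hP.homogeneousCore
  have hle : (P.homogeneousCore 𝒜).toIdeal ≤ P := Ideal.toIdeal_homogeneousCore_le 𝒜 P
  have hfQ : f ∉ P.homogeneousCore 𝒜 := fun hfQ => hfP (hle hfQ)
  let x : ProjectiveSpectrum 𝒜 :=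
    ⟨P.homogeneousCore 𝒜, hcore, fun hirr => hfQ (hirr (HomogeneousIdeal.mem_irrelevant_of_mem 𝒜 hd hf))⟩
  obtain ⟨c, hcx, hcm⟩ := h x hfQ
  apply hcx
  show c ∈ (P.homogeneousCore 𝒜).toIdeal
  rw [(P.homogeneousCore 𝒜).isHomogeneous.mem_iff]
  intro j
  apply Ideal.mem_homogeneousCore_of_homogeneous_of_mem ⟨j, SetLike.coe_mem _⟩
  apply hIP
  rw [hI]
  exact component_smul_eq_zero 𝒜 ℳ hm hcm j

end
end Groth.Agent.H18
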