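import Groth.Agent.S1616
import Groth.Prelude.Def_RelProj

/-!
# Compositions of H-projective morphisms are H-projective (via the Segre embedding)

* `bc n g : P^n_Y ⟶ P^n_Z` for `g : Y ⟶ Z`, and `isPullback_bc`.
* `kk n m g j : P^n_Y ⟶ P^n_Z ×_Z P^m_Z` for `j : Y ⟶ P^m_Z` over `Z`; it is a base change of `j`.
* `isHProjective_comp`.
-/

set_option autoImplicit false
universe u

open CategoryTheory CategoryTheory.Limits AlgebraicGeometry

namespace Groth.Agent.H18.HProjComp

noncomputable section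

variable {Y Z : Scheme.{u}} (n m : ℕ) (g : Y ⟶ Z)

theorem bc_compat :
    pullback.fst (CohB1.ProjSpace.toSpec n (ULift.{u} ℤ)) (specULiftZIsTerminal.from Y) ≫
        CohB1.ProjSpace.toSpec n (ULift.{u} ℤ) =
      (pullback.snd (CohB1.ProjSpace.toSpec n (ULift.{u} ℤ)) (specULiftZIsTerminal.from Y) ≫ g) ≫
        specULiftZIsTerminal.from Z := by
  rw [pullback.condition, Category.assoc]
  congr 1
  exact specULiftZIsTerminal.hom_ext _ _

/-- The base change map `P^n_Y ⟶ P^n_Z` along `g : Y ⟶ Z`. -/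
def bc : CohB1.ProjSpaceOver n Y ⟶ CohB1.ProjSpaceOver n Z :=
  pullback.lift (pullback.fst (CohB1.ProjSpace.toSpec n (ULift.{u} ℤ)) (specULiftZIsTerminal.from Y))
    (pullback.snd (CohB1.ProjSpace.toSpec n (ULift.{u} ℤ)) (specULiftZIsTerminal.from Y) ≫ g)
    (bc_compat n g)

theorem bc_fst : bc n g ≫ pullback.fst (CohB1.ProjSpace.toSpec n (ULift.{u} ℤ))
      (specULiftZIsTerminal.from Z) =
    pullback.fst (CohB1.ProjSpace.toSpec n (ULift.{u} ℤ)) (specULiftZIsTerminal.from Y) :=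
  pullback.lift_fst _ _ _

theorem bc_snd : bc n g ≫ CohB1.ProjSpaceOver.toBase n Z = CohB1.ProjSpaceOver.toBase n Y ≫ g :=
  pullback.lift_snd _ _ _

/-- `P^n_Y = P^n_Z ×_Z Y`. -/
theorem isPullback_bc :
    IsPullback (bc n g) (CohB1.ProjSpaceOver.toBase n Y) (CohB1.ProjSpaceOver.toBase n Z) g := by
  have hZ := IsPullback.of_hasPullback (CohB1.ProjSpace.toSpec n (ULift.{u} ℤ))
    (specULiftZIsTerminal.from Z)
  have hY := IsPullback.of_hasPullback (CohB1.ProjSpace.toSpec n (ULift.{u} ℤ))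
    (specULiftZIsTerminal.from Y)
  have hY' : IsPullback (bc n g ≫ pullback.fst (CohB1.ProjSpace.toSpec n (ULift.{u} ℤ))
      (specULiftZIsTerminal.from Z))
      (pullback.snd (CohB1.ProjSpace.toSpec n (ULift.{u} ℤ)) (specULiftZIsTerminal.from Y))
      (CohB1.ProjSpace.toSpec n (ULift.{u} ℤ)) (g ≫ specULiftZIsTerminal.from Z) := by
    rw [bc_fst, specULiftZIsTerminal.hom_ext (g ≫ specULiftZIsTerminal.from Z)
      (specULiftZIsTerminal.from Y)]
    exact hY
  exact IsPullback.of_right hY' (bc_snd n g) hZ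

variable (j : Y ⟶ CohB1.ProjSpaceOver m Z) (hj : j ≫ CohB1.ProjSpaceOver.toBase m Z = g)

include hj in
theorem kk_compat : bc n g ≫ CohB1.ProjSpaceOver.toBase n Z =
    (CohB1.ProjSpaceOver.toBase n Y ≫ j) ≫ CohB1.ProjSpaceOver.toBase m Z := by
  rw [bc_snd, Category.assoc, hj]

/-- The map `P^n_Y ⟶ P^n_Z ×_Z P^m_Z` induced by `j : Y ⟶ P^m_Z`. -/
def kk : CohB1.ProjSpaceOver n Y ⟶
    pullback (CohB1.ProjSpaceOver.toBase n Z) (CohB1.ProjSpaceOver.toBase m Z) :=
  pullback.lift (bc n g) (CohB1.ProjSpaceOver.toBase n Y ≫ j) (kk_compat n m g j hj)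

theorem kk_fst : kk n m g j hj ≫ pullback.fst (CohB1.ProjSpaceOver.toBase n Z)
    (CohB1.ProjSpaceOver.toBase m Z) = bc n g := pullback.lift_fst _ _ _

theorem kk_snd : kk n m g j hj ≫ pullback.snd (CohB1.ProjSpaceOver.toBase n Z)
    (CohB1.ProjSpaceOver.toBase m Z) = CohB1.ProjSpaceOver.toBase n Y ≫ j := pullback.lift_snd _ _ _

/-- `kk` is a base change of `j`. -/
theorem isPullback_kk :
    IsPullback (kk n m g j hj) (CohB1.ProjSpaceOver.toBase n Y)
      (pullback.snd (CohB1.ProjSpaceOver.toBase n Z) (CohB1.ProjSpaceOver.toBase m Z)) j := by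
  have hW := IsPullback.of_hasPullback (CohB1.ProjSpaceOver.toBase n Z)
    (CohB1.ProjSpaceOver.toBase m Z)
  have hbig : IsPullback (kk n m g j hj ≫ pullback.fst (CohB1.ProjSpaceOver.toBase n Z)
      (CohB1.ProjSpaceOver.toBase m Z)) (CohB1.ProjSpaceOver.toBase n Y)
      (CohB1.ProjSpaceOver.toBase n Z) (j ≫ CohB1.ProjSpaceOver.toBase m Z) := by
    rw [kk_fst, hj]
    exact isPullback_bc n g
  exact IsPullback.of_right hbig (kk_snd n m g j hj) hW

theorem isClosedImmersion_kk [IsClosedImmersion j] : IsClosedImmersion (kk n m g j hj) :=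
  MorphismProperty.of_isPullback (P := @IsClosedImmersion) (isPullback_kk n m g j hj).flip
    inferInstance

end

/-- A composition of H-projective morphisms is H-projective. -/
theorem isHProjective_comp {X Y Z : Scheme.{u}} (f : X ⟶ Y) (g : Y ⟶ Z)
    (hf : RelProj.IsHProjective f) (hg : RelProj.IsHProjective g) :
    RelProj.IsHProjective (f ≫ g) := by
  obtain ⟨n, i, hi, hif⟩ := hf
  obtain ⟨m, j, hj, hjg⟩ := hg
  obtain ⟨φ, hφ, hφc⟩ := Groth.Agent.S1616.result Z n m
  have hk : IsClosedImmersion (kk n m g j hjg) := isClosedImmersion_kk n m g j hjg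
  have h1 : IsClosedImmersion (kk n m g j hjg ≫ φ) := inferInstance
  have h2 : IsClosedImmersion (i ≫ kk n m g j hjg ≫ φ) := inferInstance
  refine ⟨n * m + n + m, i ≫ kk n m g j hjg ≫ φ, h2, ?_⟩
  rw [Category.assoc, Category.assoc, hφc, ← Category.assoc (kk n m g j hjg), kk_fst, bc_snd,
    ← Category.assoc, hif]

end Groth.Agent.H18.HProjComp
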