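import Groth.Agent.H8.IsoCover
import Groth.Agent.H18.TensorGen

/-!
# Gluing a morphism of modules from a local, valuewise relation; morphisms out of a module
# with given local generators

* `LinRel A C R`: axioms on a relation `R W s w` ("`w` is the image of `s` over `W`") which
  make it the graph of a morphism `A ⟶ C` (`LinRel.hom`, with `LinRel.hom_app`).
* `exists_hom_of_gens`: if `A` is freely generated by `α i` over the members `D i` of an open
  cover, and `γ i` are sections of `C` over `D i` with the same transition functions, there is a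
  morphism `φ : A ⟶ C` with `φ (α i) = γ i`.
* `hom_ext_of_gens`: two morphisms out of such an `A` which agree on the `α i` are equal.
-/

set_option autoImplicit false
universe u

open CategoryTheory AlgebraicGeometry TopologicalSpace Opposite
open Groth.Agent.H8 (res_res res_smul ringRes_res section_eq_of_cover app_res)
open Groth.Agent.H18.SecTw Groth.Agent.H18.TensorGen

noncomputable section

namespace Groth.Agent.H18.HomOfGens

variable {X : Scheme.{u}} (A C : X.Modules)

/-- The axioms on a graph relation. -/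
structure LinRel (R : ∀ W : X.Opens, Γ(A, W) → Γ(C, W) → Prop) : Prop where
  unique : ∀ (W : X.Opens) (s : Γ(A, W)) (w w' : Γ(C, W)), R W s w → R W s w' → w = w'
  res : ∀ {W V : X.Opens} (h : V ≤ W) (s : Γ(A, W)) (w : Γ(C, W)), R W s w →
    R V (A.presheaf.map (homOfLE h).op s) (C.presheaf.map (homOfLE h).op w)
  of_local : ∀ (W : X.Opens) (s : Γ(A, W)) (w : Γ(C, W)),
    (∀ x ∈ W, ∃ (V : X.Opens) (h : V ≤ W), x ∈ V ∧
      R V (A.presheaf.map (homOfLE h).op s) (C.presheaf.map (homOfLE h).op w)) → R W s w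
  exists_local : ∀ (W : X.Opens) (s : Γ(A, W)), ∀ x ∈ W,
    ∃ (V : X.Opens) (h : V ≤ W), x ∈ V ∧ ∃ w : Γ(C, V), R V (A.presheaf.map (homOfLE h).op s) w
  add : ∀ (W : X.Opens) (s s' : Γ(A, W)) (w w' : Γ(C, W)),
    R W s w → R W s' w' → R W (s + s') (w + w')
  smul : ∀ (W : X.Opens) (a : Γ(X, W)) (s : Γ(A, W)) (w : Γ(C, W)), R W s w → R W (a • s) (a • w)

namespace LinRel

variable {A C} {R : ∀ W : X.Opens, Γ(A, W) → Γ(C, W) → Prop}

theorem exists_map (hR : LinRel A C R) (W : X.Opens) (s : Γ(A, W)) : ∃ w : Γ(C, W), R W s w := by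
  classical
  choose V hV hxV τ hτ using fun x : W => hR.exists_local W s x.1 x.2
  have hcompat : TopCat.Presheaf.IsCompatible C.presheaf V τ := by
    intro x y
    change C.presheaf.map (homOfLE (inf_le_left : V x ⊓ V y ≤ V x)).op (τ x) =
      C.presheaf.map (homOfLE (inf_le_right : V x ⊓ V y ≤ V y)).op (τ y)
    have h1 := hR.res (inf_le_left : V x ⊓ V y ≤ V x) _ _ (hτ x)
    have h2 := hR.res (inf_le_right : V x ⊓ V y ≤ V y) _ _ (hτ y)
    rw [res_res] at h1 h2
    exact hR.unique _ _ _ _ h1 h2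
  have hcover : W ≤ iSup V := fun x hx => Opens.mem_iSup.mpr ⟨⟨x, hx⟩, hxV ⟨x, hx⟩⟩
  obtain ⟨w, hw, -⟩ := TopCat.Sheaf.existsUnique_gluing' (F := ⟨C.presheaf, C.isSheaf⟩)
    V W (fun x => homOfLE (hV x)) hcover τ hcompat
  refine ⟨w, hR.of_local W s w fun x hx => ⟨V ⟨x, hx⟩, hV ⟨x, hx⟩, hxV ⟨x, hx⟩, ?_⟩⟩
  have h1 : C.presheaf.map (homOfLE (hV ⟨x, hx⟩)).op w = τ ⟨x, hx⟩ := hw ⟨x, hx⟩
  rw [h1]
  exact hτ ⟨x, hx⟩

/-- The map determined by the relation. -/
def map (hR : LinRel A C R) (W : X.Opens) (s : Γ(A, W)) : Γ(C, W) :=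
  (hR.exists_map W s).choose

theorem map_spec (hR : LinRel A C R) (W : X.Opens) (s : Γ(A, W)) : R W s (hR.map W s) :=
  (hR.exists_map W s).choose_spec

theorem map_eq (hR : LinRel A C R) {W : X.Opens} {s : Γ(A, W)} {w : Γ(C, W)} (h : R W s w) :
    hR.map W s = w :=
  hR.unique _ _ _ _ (hR.map_spec W s) h

theorem map_res (hR : LinRel A C R) {W V : X.Opens} (h : V ≤ W) (s : Γ(A, W)) :
    hR.map V (A.presheaf.map (homOfLE h).op s) = C.presheaf.map (homOfLE h).op (hR.map W s) :=
  hR.map_eq (hR.res h s _ (hR.map_spec W s))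

theorem map_add (hR : LinRel A C R) (W : X.Opens) (s s' : Γ(A, W)) :
    hR.map W (s + s') = hR.map W s + hR.map W s' :=
  hR.map_eq (hR.add _ _ _ _ _ (hR.map_spec W s) (hR.map_spec W s'))

theorem map_smul (hR : LinRel A C R) (W : X.Opens) (a : Γ(X, W)) (s : Γ(A, W)) :
    hR.map W (a • s) = a • hR.map W s :=
  hR.map_eq (hR.smul _ a _ _ (hR.map_spec W s))

theorem map_zero (hR : LinRel A C R) (W : X.Opens) : hR.map W 0 = 0 := by
  have h := hR.map_smul W 0 0
  rwa [zero_smul, zero_smul] at h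

/-- The morphism of modules determined by the relation. -/
def hom (hR : LinRel A C R) : A ⟶ C :=
  ⟨PresheafOfModules.homMk
    { app := fun U => AddCommGrpCat.ofHom
        { toFun := fun s => hR.map U.unop s
          map_zero' := hR.map_zero U.unop
          map_add' := hR.map_add U.unop }
      naturality := fun U V f => by
        ext s
        have hle : V.unop ≤ U.unop := f.unop.le
        have hf : f = (homOfLE hle).op := Quiver.Hom.unop_inj (Subsingleton.elim _ _)
        subst hf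
        change hR.map _ (A.presheaf.map (homOfLE hle).op s) =
          C.presheaf.map (homOfLE hle).op (hR.map _ s)
        exact hR.map_res hle s }
    (fun U r s => hR.map_smul U.unop r s)⟩

theorem hom_app (hR : LinRel A C R) (W : X.Opens) (s : Γ(A, W)) :
    hR.hom.app W s = hR.map W s := rfl

end LinRel

/-! ### Morphisms out of a module with local generators -/

section Gens

variable {A C} {ι : Type*} {D : ι → X.Opens} {α : ∀ i, Γ(A, D i)} {γ : ∀ i, Γ(C, D i)}

/-- The key coherence: the transition functions of the `α i` and of the `γ i` agree. -/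
def Coh (D : ι → X.Opens) (α : ∀ i, Γ(A, D i)) (γ : ∀ i, Γ(C, D i)) : Prop :=
  ∀ (i j : ι) (V : X.Opens) (hi : V ≤ D i) (hj : V ≤ D j) (x y : Γ(X, V)),
    x • A.presheaf.map (homOfLE hi).op (α i) = y • A.presheaf.map (homOfLE hj).op (α j) →
    x • C.presheaf.map (homOfLE hi).op (γ i) = y • C.presheaf.map (homOfLE hj).op (γ j)

/-- The coherence follows from equality of transition functions on the double overlaps. -/
theorem coh_of_transition (hα : ∀ i, IsGen A (D i) (α i))
    (u : ∀ i j, Γ(X, D i ⊓ D j))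
    (hαu : ∀ i j, A.presheaf.map (homOfLE (inf_le_right : D i ⊓ D j ≤ D j)).op (α j) =
      u i j • A.presheaf.map (homOfLE (inf_le_left : D i ⊓ D j ≤ D i)).op (α i))
    (hγu : ∀ i j, C.presheaf.map (homOfLE (inf_le_right : D i ⊓ D j ≤ D j)).op (γ j) =
      u i j • C.presheaf.map (homOfLE (inf_le_left : D i ⊓ D j ≤ D i)).op (γ i)) :
    Coh D α γ := by
  intro i j V hi hj x y hxy
  have hV : V ≤ D i ⊓ D j := le_inf hi hj
  have h1 := congrArg (A.presheaf.map (homOfLE hV).op) (hαu i j)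
  have h2 := congrArg (C.presheaf.map (homOfLE hV).op) (hγu i j)
  rw [res_res, res_smul, res_res] at h1 h2
  rw [h1, ← mul_smul] at hxy
  have h3 : x = y * X.presheaf.map (homOfLE hV).op (u i j) := (hα i V hi).1 hxy
  rw [h2, ← mul_smul, h3]

/-- The graph relation of the morphism with `α i ↦ γ i`. -/
def Rel (D : ι → X.Opens) (α : ∀ i, Γ(A, D i)) (γ : ∀ i, Γ(C, D i)) (W : X.Opens)
    (s : Γ(A, W)) (w : Γ(C, W)) : Prop :=
  ∀ (i : ι) (V : X.Opens) (hVW : V ≤ W) (hVi : V ≤ D i) (x : Γ(X, V)),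
    A.presheaf.map (homOfLE hVW).op s = x • A.presheaf.map (homOfLE hVi).op (α i) →
    C.presheaf.map (homOfLE hVW).op w = x • C.presheaf.map (homOfLE hVi).op (γ i)

theorem linRel (hD : ∀ p : X, ∃ i, p ∈ D i) (hα : ∀ i, IsGen A (D i) (α i))
    (hcoh : Coh D α γ) : LinRel A C (Rel D α γ) where
  unique := by
    intro W s w w' h h'
    refine section_eq_of_cover C _ _ (fun p hp => ?_)
    obtain ⟨i, hpi⟩ := hD p
    obtain ⟨x, hx⟩ := (hα i (W ⊓ D i) inf_le_right).2
      (A.presheaf.map (homOfLE (inf_le_left : W ⊓ D i ≤ W)).op s)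
    refine ⟨W ⊓ D i, inf_le_left, ⟨hp, hpi⟩, ?_⟩
    rw [h i _ inf_le_left inf_le_right x hx.symm, h' i _ inf_le_left inf_le_right x hx.symm]
  res := by
    intro W W' hW' s w h i V hVW hVi x hs
    rw [res_res] at hs ⊢
    exact h i V (hVW.trans hW') hVi x hs
  of_local := by
    intro W s w hloc i V hVW hVi x hs
    refine section_eq_of_cover C _ _ (fun p hp => ?_)
    obtain ⟨Vp, hVp, hpVp, hRp⟩ := hloc p (hVW hp)
    refine ⟨V ⊓ Vp, inf_le_left, ⟨hp, hpVp⟩, ?_⟩
    have h1 := hRp i (V ⊓ Vp) inf_le_right (inf_le_left.trans hVi)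
      (X.presheaf.map (homOfLE (inf_le_left : V ⊓ Vp ≤ V)).op x)
      (by rw [res_res, ← res_res A (inf_le_left : V ⊓ Vp ≤ V) hVW, hs, res_smul, res_res])
    rw [res_res] at h1
    rw [res_res, h1, res_smul, res_res]
  exists_local := by
    intro W s p hp
    obtain ⟨i, hpi⟩ := hD p
    obtain ⟨x, hx⟩ := (hα i (W ⊓ D i) inf_le_right).2
      (A.presheaf.map (homOfLE (inf_le_left : W ⊓ D i ≤ W)).op s)
    have hx' : x • A.presheaf.map (homOfLE (inf_le_right : W ⊓ D i ≤ D i)).op (α i) =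
        A.presheaf.map (homOfLE (inf_le_left : W ⊓ D i ≤ W)).op s := hx
    refine ⟨W ⊓ D i, inf_le_left, ⟨hp, hpi⟩,
      x • C.presheaf.map (homOfLE (inf_le_right : W ⊓ D i ≤ D i)).op (γ i), ?_⟩
    intro j V hVW hVj y hs
    rw [res_smul, res_res]
    rw [← hx', res_smul, res_res] at hs
    exact hcoh i j V (hVW.trans inf_le_right) hVj _ y hs
  add := by
    intro W s s' w w' h h' i V hVW hVi x hs
    obtain ⟨x₁, hx₁⟩ := (hα i V hVi).2 (A.presheaf.map (homOfLE hVW).op s)
    obtain ⟨x₂, hx₂⟩ := (hα i V hVi).2 (A.presheaf.map (homOfLE hVW).op s')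
    have hx₁' : x₁ • A.presheaf.map (homOfLE hVi).op (α i) =
        A.presheaf.map (homOfLE hVW).op s := hx₁
    have hx₂' : x₂ • A.presheaf.map (homOfLE hVi).op (α i) =
        A.presheaf.map (homOfLE hVW).op s' := hx₂
    have hx : x = x₁ + x₂ := by
      apply (hα i V hVi).1
      show x • A.presheaf.map (homOfLE hVi).op (α i) =
        (x₁ + x₂) • A.presheaf.map (homOfLE hVi).op (α i)
      rw [← hs, map_add, add_smul, hx₁', hx₂']
    rw [map_add, h i V hVW hVi x₁ hx₁'.symm, h' i V hVW hVi x₂ hx₂'.symm, hx, add_smul]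
  smul := by
    intro W a s w h i V hVW hVi x hs
    obtain ⟨x₁, hx₁⟩ := (hα i V hVi).2 (A.presheaf.map (homOfLE hVW).op s)
    have hx₁' : x₁ • A.presheaf.map (homOfLE hVi).op (α i) =
        A.presheaf.map (homOfLE hVW).op s := hx₁
    have hx : x = X.presheaf.map (homOfLE hVW).op a * x₁ := by
      apply (hα i V hVi).1
      show x • A.presheaf.map (homOfLE hVi).op (α i) =
        (X.presheaf.map (homOfLE hVW).op a * x₁) • A.presheaf.map (homOfLE hVi).op (α i)
      rw [← hs, res_smul, mul_smul, hx₁']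
    rw [res_smul, h i V hVW hVi x₁ hx₁'.symm, hx, mul_smul]

/-- A morphism out of a module with local generators `α i` is determined by coherent images
`γ i`. -/
theorem exists_hom_of_gens (hD : ∀ p : X, ∃ i, p ∈ D i) (hα : ∀ i, IsGen A (D i) (α i))
    (hcoh : Coh D α γ) : ∃ φ : A ⟶ C, ∀ i, φ.app (D i) (α i) = γ i := by
  refine ⟨(linRel hD hα hcoh).hom, fun i => ?_⟩
  rw [LinRel.hom_app]
  refine (linRel hD hα hcoh).map_eq ?_
  intro j V hVW hVj x hs
  have h := hcoh j i V hVj hVW x 1 (by rw [one_smul]; exact hs.symm)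
  rw [one_smul] at h
  exact h.symm

/-- Two morphisms out of a module with local generators `α i` which agree on the `α i` are
equal. -/
theorem hom_ext_of_gens (hD : ∀ p : X, ∃ i, p ∈ D i) (hα : ∀ i, IsGen A (D i) (α i))
    (φ φ' : A ⟶ C) (h : ∀ i, φ.app (D i) (α i) = φ'.app (D i) (α i)) : φ = φ' := by
  apply Scheme.Modules.hom_ext
  intro W
  ext s
  refine section_eq_of_cover C _ _ (fun p hp => ?_)
  obtain ⟨i, hpi⟩ := hD p
  obtain ⟨x, hx⟩ := (hα i (W ⊓ D i) inf_le_right).2
    (A.presheaf.map (homOfLE (inf_le_left : W ⊓ D i ≤ W)).op s)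
  have hx' : x • A.presheaf.map (homOfLE (inf_le_right : W ⊓ D i ≤ D i)).op (α i) =
      A.presheaf.map (homOfLE (inf_le_left : W ⊓ D i ≤ W)).op s := hx
  refine ⟨W ⊓ D i, inf_le_left, ⟨hp, hpi⟩, ?_⟩
  have n1 := app_res φ (inf_le_left : W ⊓ D i ≤ W) s
  have n2 := app_res φ' (inf_le_left : W ⊓ D i ≤ W) s
  have n3 := app_res φ (inf_le_right : W ⊓ D i ≤ D i) (α i)
  have n4 := app_res φ' (inf_le_right : W ⊓ D i ≤ D i) (α i)
  change C.presheaf.map (homOfLE (inf_le_left : W ⊓ D i ≤ W)).op (φ.app W s) =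
    C.presheaf.map (homOfLE (inf_le_left : W ⊓ D i ≤ W)).op (φ'.app W s)
  rw [← n1, ← n2, ← hx', Scheme.Modules.Hom.app_smul, Scheme.Modules.Hom.app_smul, n3, n4, h i]

end Gens

end Groth.Agent.H18.HomOfGens
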