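import Groth.Agent.H88.PullTwist

set_option autoImplicit false
universe u
open CategoryTheory CategoryTheory.Limits AlgebraicGeometry HomogeneousIdeal Opposite TopologicalSpace

namespace Groth.Agent.H18.Hyp7PB

variable {R A B : Type u} [CommRing R] [CommRing A] [Algebra R A] [CommRing B] [Algebra R B]
  (𝒜 : ℕ → Submodule R A) [GradedAlgebra 𝒜] (ℬ : ℕ → Submodule R B) [GradedAlgebra ℬ]

variable {𝒜 ℬ} in
theorem dom_eq_top (ψ : 𝒜 →+*ᵍ ℬ) (hψ : irrelevant ℬ ≤ (irrelevant 𝒜).map ψ) :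
    PCone.dom ψ = ⊤ := by
  refine top_le_iff.mp (fun x _ => ?_)
  by_contra hx
  apply (x : ProjectiveSpectrum ℬ).not_irrelevant_le
  refine hψ.trans ?_
  show ((irrelevant 𝒜).map ψ).toIdeal ≤ (x : ProjectiveSpectrum ℬ).asHomogeneousIdeal.toIdeal
  rw [HomogeneousIdeal.toIdeal_map, Ideal.map_le_iff_le_comap, HomogeneousIdeal.toIdeal_irrelevant_le]
  intro d hd f hf
  show ψ f ∈ (x : ProjectiveSpectrum ℬ).asHomogeneousIdeal
  by_contra hcon
  exact hx (Opens.mem_iSup.mpr ⟨⟨f, d, hd, hf⟩, hcon⟩)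

/-- pulling back along an isomorphism reflects isomorphism classes -/
theorem nonempty_iso_of_pullback_iso {X Y : Scheme.{u}} (ι : X ⟶ Y) [IsIso ι] {M N : Y.Modules}
    (e : (Scheme.Modules.pullback ι).obj M ≅ (Scheme.Modules.pullback ι).obj N) :
    Nonempty (M ≅ N) := by
  have key : ∀ K : Y.Modules,
      Nonempty ((Scheme.Modules.pullback (inv ι)).obj ((Scheme.Modules.pullback ι).obj K) ≅ K) := by
    intro K
    exact ⟨(Scheme.Modules.pullbackComp (inv ι) ι).app K ≪≫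
      (Scheme.Modules.pullbackCongr (IsIso.inv_hom_id ι)).app K ≪≫
      (Scheme.Modules.pullbackId Y).app K⟩
  obtain ⟨eM⟩ := key M
  obtain ⟨eN⟩ := key N
  exact ⟨eM.symm ≪≫ (Scheme.Modules.pullback (inv ι)).mapIso e ≪≫ eN⟩

/-- (PB) -/
theorem nonempty_pullback_twist_iso (ψ : 𝒜 →+*ᵍ ℬ) (hψ : irrelevant ℬ ≤ (irrelevant 𝒜).map ψ)
    (hgen : (irrelevant 𝒜).toIdeal = Ideal.span (𝒜 1 : Set A)) (n : ℤ) :
    Nonempty ((Scheme.Modules.pullback (Proj.map ψ hψ)).obj (Twist.twist 𝒜 n) ≅ Twist.twist ℬ n) := by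
  have hp : ∀ (d : ℕ) (f : A) (hd : 0 < d) (hf : f ∈ 𝒜 d),
        PCone.chart ψ hf hd ≫ ((PCone.dom ψ).ι ≫ Proj.map ψ hψ) =
          Spec.map (CommRingCat.ofHom (HomogeneousLocalization.Away.map ψ f)) ≫
            Proj.awayι 𝒜 f hf hd := by
    intro d f hd hf
    rw [← Category.assoc]
    have h1 : PCone.chart ψ hf hd ≫ (PCone.dom ψ).ι = Proj.awayι ℬ (ψ f) (ψ.2 hf) hd :=
      IsOpenImmersion.lift_fac _ _ _
    rw [h1]
    exact Proj.awayι_comp_map ψ hψ hd f hf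
  obtain ⟨e0⟩ := Groth.Agent.H88.PullTwist.main ψ ((PCone.dom ψ).ι ≫ Proj.map ψ hψ) hp n hgen
  have : IsIso (PCone.dom ψ).ι := by
    apply isIso_of_isOpenImmersion_of_opensRange_eq_top
    rw [Scheme.Opens.opensRange_ι]
    exact dom_eq_top ψ hψ
  refine nonempty_iso_of_pullback_iso (PCone.dom ψ).ι ?_
  exact (Scheme.Modules.pullbackComp (PCone.dom ψ).ι (Proj.map ψ hψ)).app _ ≪≫ e0 ≪≫
    (Scheme.Modules.restrictFunctorIsoPullback (PCone.dom ψ).ι).app _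

end Groth.Agent.H18.Hyp7PB
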