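import Groth.Agent.H18.TwistAmple
import Groth.Agent.H18.ProjClosedImm
import Groth.Agent.H8.TensorPow
import Groth.Agent.H95.ZeroSch
import Groth.Agent.H13.ProjNormal
import Groth.Agent.H44.Hyp7_LIN
import Groth.Agent.H96.Hyp7_KB
import Groth.Agent.H18.Hyp7PB
import Groth.Prelude.Def_PicF2

/-!
# A hyperplane in `P^{n+1}_k` is a `P^n_k` (S7676)

Squad pieces: (LIN) helper44, (KA) helper10/helper44, (KB) helper96, (PB) in H18/Hyp7PB;
(ZS), (GS), (KEQ) and the assembly are here.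
-/

set_option autoImplicit false
set_option linter.style.haveILetI false
universe u
open CategoryTheory CategoryTheory.Limits AlgebraicGeometry HomogeneousIdeal Opposite TopologicalSpace

namespace Groth.Agent.H18.Hyp7

open Groth.Agent.H18.TwistAmple
open Groth.Agent.H18.Serre (val frac val_frac mem_basicOpen_frac toO ofTw toTw)
open Groth.Agent.H18.TensorGen (IsGen)

section General
variable {R A B : Type u} [CommRing R] [CommRing A] [Algebra R A] [CommRing B] [Algebra R B]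
  (𝒜 : ℕ → Submodule R A) [GradedAlgebra 𝒜] (ℬ : ℕ → Submodule R B) [GradedAlgebra ℬ]

variable {𝒜 ℬ} in
/-- A surjective graded homomorphism maps the irrelevant ideal onto the irrelevant ideal. -/
theorem irrelevant_le_map_of_surjective (ψ : 𝒜 →+*ᵍ ℬ) (hsurj : Function.Surjective ψ) :
    irrelevant ℬ ≤ (irrelevant 𝒜).map ψ := by
  rw [HomogeneousIdeal.irrelevant_le]
  intro d hd b hb
  obtain ⟨a, ha, rfl⟩ := Groth.Agent.H18.exists_mem_map_eq ψ hsurj hb
  show ψ a ∈ ((irrelevant 𝒜).map ψ).toIdeal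
  rw [HomogeneousIdeal.toIdeal_map]
  exact Ideal.mem_map_of_mem _ (HomogeneousIdeal.mem_irrelevant_of_mem 𝒜 hd ha)

set_option backward.isDefEq.respectTransparency false in
/-- `secHom` of the zero element is zero. -/
theorem secHom_zero {N : ℕ} : secHom 𝒜 (0 : 𝒜 N) = 0 := by
  apply Scheme.Modules.hom_ext
  intro V
  ext r
  refine (FreeEpi.unitHomEquiv_symm_app_apply (Twist.twist 𝒜 (N : ℤ)) _ V r).trans ?_
  have h0 : RestrictUnit.sec (Twist.twist 𝒜 (N : ℤ))
      (RestrictUnit.globalSections (Twist.twist 𝒜 (N : ℤ))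
        (toTw (U := ⊤) (Twist.globalOf 𝒜 (0 : 𝒜 N)))) V = 0 := by
    refine wval_ext (fun y => ?_)
    show (Localization.mk (0 : A) 1 : Twist.Loc 𝒜 y.1) = 0
    exact Localization.mk_zero _
  rw [h0, smul_zero]
  rfl


set_option backward.isDefEq.respectTransparency false in
/-- (ZS) the zero scheme of a linear form on the chart `D₊(g)`. -/
theorem ideal_zeroScheme_secHom
    (hcov1 : ∀ y : ProjectiveSpectrum 𝒜, ∃ g ∈ 𝒜 1, g ∉ y.asHomogeneousIdeal)
    (ℓ : 𝒜 1) {g : A} (hg : g ∈ 𝒜 1) :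
    (PicF2.zeroScheme (Twist.twist 𝒜 ((1 : ℕ) : ℤ)) (secHom 𝒜 ℓ)).ideal
        ⟨Proj.basicOpen 𝒜 g, Proj.isAffineOpen_basicOpen 𝒜 g hg one_pos⟩ =
      Ideal.span {frac 𝒜 (Proj.basicOpen 𝒜 g) ℓ.2 hg (fun x => x.2)} := by
  have hL : PicF.IsInvertible (Twist.twist 𝒜 ((1 : ℕ) : ℤ)) :=
    (Groth.Agent.H18.TwistTensor.twist_package 𝒜 hcov1).1 _
  obtain ⟨W, hW⟩ : ∃ W : (Proj 𝒜).Opens, W = Proj.basicOpen 𝒜 g := ⟨_, rfl⟩
  have h1 : (1 : A) ∈ 𝒜 0 := SetLike.GradedOne.one_mem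
  have huW : ∀ y : W, g ∉ y.1.asHomogeneousIdeal := fun y => hW.le y.2
  have hvW : ∀ y : W, (1 : A) ∉ y.1.asHomogeneousIdeal :=
    fun y h => y.1.isPrime.ne_top ((Ideal.eq_top_iff_one _).mpr h)
  have hpq : ((1 : ℕ) : ℤ) = ((0 : ℕ) : ℤ) + ((1 : ℕ) : ℤ) := by simp
  have hbv : ℓ.1 * 1 ∈ 𝒜 1 := by rw [mul_one]; exact ℓ.2
  have hσ : ∀ (V : (Proj 𝒜).Opens) (hV : V ≤ W), Function.Bijective
      (fun r : Γ(Proj 𝒜, V) => r • (Twist.twist 𝒜 ((1 : ℕ) : ℤ)).presheaf.map (homOfLE hV).op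
        (toTw (TwistRestrict.fracSection 𝒜 hg h1 hpq hvW))) := by
    intro V hV
    exact TwistRestrict.bijective_smul_of_fraction 𝒜 hg h1 hpq (fun y => huW ⟨y.1, hV y.2⟩)
      (fun y => hvW ⟨y.1, hV y.2⟩)
      ((Twist.twist 𝒜 ((1 : ℕ) : ℤ)).presheaf.map (homOfLE hV).op
        (toTw (TwistRestrict.fracSection 𝒜 hg h1 hpq hvW)))
      (fun y => rfl)
  have ha : (secHom 𝒜 ℓ).app W
      (show Γ(Coh.structureModule (Proj 𝒜), W) from (1 : Γ(Proj 𝒜, W))) =
      frac 𝒜 W hbv hg huW • (Twist.twist 𝒜 ((1 : ℕ) : ℤ)).presheaf.map (homOfLE (le_refl W)).op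
        (toTw (TwistRestrict.fracSection 𝒜 hg h1 hpq hvW)) := by
    refine (FreeEpi.unitHomEquiv_symm_app_apply (Twist.twist 𝒜 ((1 : ℕ) : ℤ)) _ W 1).trans ?_
    rw [one_smul]
    refine wval_ext (fun y => ?_)
    rw [wval_smul]
    show (Localization.mk ℓ.1 1 : Twist.Loc 𝒜 y.1) =
      Localization.mk (ℓ.1 * 1) ⟨g, huW y⟩ * Localization.mk g ⟨1, hvW y⟩
    rw [Localization.mk_mul, Localization.mk_eq_mk_iff, Localization.r_iff_exists]
    refine ⟨1, ?_⟩
    simp only [OneMemClass.coe_one, one_mul, Submonoid.coe_mul]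
    ring
  subst hW
  have hτ : IsGen (Twist.twist 𝒜 ((1 : ℕ) : ℤ)) (Proj.basicOpen 𝒜 g)
      (toTw (TwistRestrict.fracSection 𝒜 hg h1 hpq hvW)) := fun V hV => hσ V hV
  have hfrac : frac 𝒜 (Proj.basicOpen 𝒜 g) hbv hg huW =
      frac 𝒜 (Proj.basicOpen 𝒜 g) ℓ.2 hg (fun x => x.2) :=
    Groth.Agent.H18.Serre.frac_eq_of 𝒜 hbv hg huW ℓ.2 hg (fun x => x.2) (by ring)
  rw [← hfrac]
  refine Groth.Agent.H95.ZeroSch.ideal_zeroScheme_eq_span hL
    ⟨Proj.basicOpen 𝒜 g, Proj.isAffineOpen_basicOpen 𝒜 g hg one_pos⟩ hτ ?_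
  refine Eq.trans ?_ (ha.trans ?_)
  · rfl
  · congr 1


/-- (KEQ) the ideal sheaf of the closed immersion `Proj.map ψ` is the zero scheme of `ℓ`. -/
theorem ker_projMap_eq_zeroScheme
    (hcov1 : ∀ y : ProjectiveSpectrum 𝒜, ∃ g ∈ 𝒜 1, g ∉ y.asHomogeneousIdeal)
    (ψ : 𝒜 →+*ᵍ ℬ) (hψ : irrelevant ℬ ≤ (irrelevant 𝒜).map ψ)
    (hsurj : Function.Surjective ψ) (ℓ : 𝒜 1)
    (hker : RingHom.ker ψ.toRingHom = Ideal.span {ℓ.1}) :
    (Proj.map ψ hψ).ker = PicF2.zeroScheme (Twist.twist 𝒜 ((1 : ℕ) : ℤ)) (secHom 𝒜 ℓ) := by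
  haveI : IsClosedImmersion (Proj.map ψ hψ) :=
    Groth.Agent.H18.proj_map_isClosedImmersion ψ hsurj hψ
  let U : {g : A // g ∈ 𝒜 1} → (Proj 𝒜).affineOpens := fun g =>
    ⟨Proj.basicOpen 𝒜 g.1, Proj.isAffineOpen_basicOpen 𝒜 g.1 g.2 one_pos⟩
  refine Scheme.IdealSheafData.ext_of_iSup_eq_top U ?_ (fun g => ?_)
  · refine top_le_iff.mp (fun x _ => ?_)
    obtain ⟨g, hg, hgx⟩ := hcov1 x
    exact TopologicalSpace.Opens.mem_iSup.mpr ⟨⟨g, hg⟩, hgx⟩
  · rw [Scheme.Hom.ker_apply]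
    exact (Groth.Agent.H96.Hyp7_KB.ker_app_basicOpen 𝒜 ℬ ψ hψ hsurj ℓ.2 hker g.2).trans
      (ideal_zeroScheme_secHom 𝒜 hcov1 ℓ g.2).symm

end General

/-- the polynomial grading is generated in degree one -/
theorem polyGrading_mul (m : ℕ) (k : Type u) [CommRing k] (i : ℕ) :
    CohB1.polyGrading m k 1 * CohB1.polyGrading m k i = CohB1.polyGrading m k (i + 1) := by
  apply le_antisymm
  · have h := MvPolynomial.homogeneousSubmodule_mul (σ := Fin (m + 1)) (R := k) 1 i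
    have e : 1 + i = i + 1 := by omega
    rw [e] at h
    exact h
  · intro p hp
    have hp' : p.IsHomogeneous (i + 1) := hp
    rw [← MvPolynomial.support_sum_monomial_coeff p]
    refine Submodule.sum_mem _ (fun d hd => ?_)
    have hdeg : d.degree = i + 1 := by
      by_contra hne
      exact (MvPolynomial.mem_support_iff.mp hd) (hp'.coeff_eq_zero hne)
    have hex : ∃ j, d j ≠ 0 := by
      by_contra hcon
      push Not at hcon
      have h0 : d = 0 := by ext j; simpa using hcon j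
      rw [h0, map_zero] at hdeg
      omega
    obtain ⟨j, hj⟩ := hex
    have hd' : d = Finsupp.single j 1 + (d - Finsupp.single j 1) := by
      refine Finsupp.ext (fun t => ?_)
      by_cases ht : t = j
      · subst ht
        simp only [Finsupp.coe_add, Finsupp.coe_tsub, Pi.add_apply, Pi.sub_apply,
          Finsupp.single_eq_same]
        omega
      · simp [Finsupp.single_apply, Ne.symm ht]
    have hsplit : MvPolynomial.monomial d (p.coeff d) =
        MvPolynomial.X j * MvPolynomial.monomial (d - Finsupp.single j 1) (p.coeff d) := by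
      rw [MvPolynomial.X, MvPolynomial.monomial_mul, one_mul, ← hd']
    rw [hsplit]
    refine Submodule.mul_mem_mul (MvPolynomial.isHomogeneous_X k j) ?_
    show (MvPolynomial.monomial (d - Finsupp.single j 1) (p.coeff d)).IsHomogeneous i
    apply MvPolynomial.isHomogeneous_monomial
    have h1 : (Finsupp.single j 1).degree + (d - Finsupp.single j 1).degree = d.degree := by
      conv_rhs => rw [hd']
      rw [map_add]
    rw [Finsupp.degree_single] at h1
    omega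

theorem isIntegrallyClosed_mvPolynomial (m : ℕ) (k : Type u) [Field k] :
    IsIntegrallyClosed (MvPolynomial (Fin (m + 1)) k) := by
  haveI : UniqueFactorizationMonoid (MvPolynomial (Fin (m + 1)) k) := inferInstance
  exact UniqueFactorizationMonoid.instIsIntegrallyClosed

theorem bijective_globalOf_one (m : ℕ) (k : Type u) [Field k] :
    Function.Bijective (fun a : ↥(CohB1.polyGrading m k 1) =>
      Twist.globalOf (CohB1.polyGrading m k) a) := by
  have h1 : CohB1.polyGrading m k 1 ≠ ⊥ := by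
    intro h
    have hX : (MvPolynomial.X 0 : MvPolynomial (Fin (m + 1)) k) ∈ CohB1.polyGrading m k 1 :=
      MvPolynomial.isHomogeneous_X k 0
    rw [h, Submodule.mem_bot] at hX
    exact MvPolynomial.X_ne_zero 0 hX
  exact Groth.Agent.H13.ProjNormal.bijective (CohB1.polyGrading m k)
    (polyGrading_mul m k) h1 (isIntegrallyClosed_mvPolynomial m k) 1

set_option backward.isDefEq.respectTransparency false in
/-- (GS) every section of `O(1)` on `P^m_k` is a linear form. -/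
theorem exists_secHom_eq (k : Type u) [Field k] (m : ℕ)
    (s : Coh.structureModule (CohB1.ProjSpace m k) ⟶ Twist.twistProjSpace m k 1) :
    ∃ ℓ : ↥(CohB1.polyGrading m k 1),
      s = Groth.Agent.H18.TwistAmple.secHom (CohB1.polyGrading m k) ℓ := by
  have hbij := bijective_globalOf_one m k
  -- the family of sections attached to `s`
  let σ := SheafOfModules.unitHomEquiv (R := (CohB1.ProjSpace m k).ringCatSheaf)
    (Twist.twist (CohB1.polyGrading m k) ((1 : ℕ) : ℤ)) s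
  obtain ⟨ℓ, hℓ⟩ := hbij.2 (ofTw (RestrictUnit.sec _ σ ⊤))
  refine ⟨ℓ, ?_⟩
  apply (SheafOfModules.unitHomEquiv (R := (CohB1.ProjSpace m k).ringCatSheaf)
    (Twist.twist (CohB1.polyGrading m k) ((1 : ℕ) : ℤ))).injective
  have hsec : (SheafOfModules.unitHomEquiv (R := (CohB1.ProjSpace m k).ringCatSheaf)
      (Twist.twist (CohB1.polyGrading m k) ((1 : ℕ) : ℤ)))
      (Groth.Agent.H18.TwistAmple.secHom (CohB1.polyGrading m k) ℓ) =
      RestrictUnit.globalSections (Twist.twist (CohB1.polyGrading m k) ((1 : ℕ) : ℤ))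
        (toTw (U := ⊤) (Twist.globalOf (CohB1.polyGrading m k) ℓ)) :=
    Equiv.apply_symm_apply _ _
  refine Eq.trans ?_ hsec.symm
  show σ = _
  have hℓ' : toTw (U := ⊤) (Twist.globalOf (CohB1.polyGrading m k) ℓ) = RestrictUnit.sec _ σ ⊤ :=
    hℓ
  rw [hℓ']
  apply Subtype.ext
  funext V
  have hc := σ.property (homOfLE (le_top : V.unop ≤ ⊤)).op
  exact hc.symm


theorem hgen_polyGrading (m : ℕ) (k : Type u) [CommRing k] :
    (irrelevant (CohB1.polyGrading m k)).toIdeal =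
      Ideal.span (CohB1.polyGrading m k 1 : Set (MvPolynomial (Fin (m + 1)) k)) := by
  apply le_antisymm
  · refine (Groth.Agent.H18.ProjSpaceGlobal.irrelevant_le_span (n := m) (R := k)).trans ?_
    apply Ideal.span_mono
    rintro _ ⟨i, rfl⟩
    exact Groth.Agent.H18.ProjSpaceGlobal.Xmem m k i
  · rw [Ideal.span_le]
    intro a ha
    exact HomogeneousIdeal.mem_irrelevant_of_mem _ one_pos ha

set_option backward.isDefEq.respectTransparency false in
/-- S7676 -/
theorem main (k : Type u) [Field k] (n : ℕ)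
    (s : Coh.structureModule (CohB1.ProjSpace (n + 1) k) ⟶ Twist.twistProjSpace (n + 1) k 1)
    (hs : s ≠ 0) :
    ∃ φ : CohB1.ProjSpace n k ≅ (PicF2.zeroScheme _ s).subscheme,
      Nonempty ((Scheme.Modules.pullback (φ.hom ≫ (PicF2.zeroScheme _ s).subschemeι)).obj
          (Twist.twistProjSpace (n + 1) k 1) ≅ Twist.twistProjSpace n k 1) := by
  obtain ⟨ℓ, rfl⟩ := exists_secHom_eq k (n + 1) s
  have hℓ0 : ℓ.1 ≠ 0 := by
    intro h
    apply hs
    have : ℓ = 0 := Subtype.ext h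
    rw [this]
    exact secHom_zero (CohB1.polyGrading (n + 1) k)
  obtain ⟨ψ, hsurj, hker⟩ := Groth.Agent.H44.Hyp7LIN.exists_gradedHom_ker_span k n ℓ.1 ℓ.2 hℓ0
  have hψ := irrelevant_le_map_of_surjective ψ hsurj
  haveI hci : IsClosedImmersion (Proj.map ψ hψ) :=
    Groth.Agent.H18.proj_map_isClosedImmersion ψ hsurj hψ
  have hK := ker_projMap_eq_zeroScheme (CohB1.polyGrading (n + 1) k) (CohB1.polyGrading n k)
    (Groth.Agent.H8.TensorPow.hcov1_polyGrading (n + 1) k) ψ hψ hsurj ℓ hker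
  have key : ∀ I : (CohB1.ProjSpace (n + 1) k).IdealSheafData, (Proj.map ψ hψ).ker = I →
      ∃ φ : CohB1.ProjSpace n k ≅ I.subscheme, φ.hom ≫ I.subschemeι = Proj.map ψ hψ := by
    rintro _ rfl
    exact ⟨asIso (Proj.map ψ hψ).toImage, (Proj.map ψ hψ).toImage_imageι⟩
  obtain ⟨φ, hφ⟩ := key _ hK
  refine ⟨φ, ?_⟩
  obtain ⟨e⟩ := Groth.Agent.H18.Hyp7PB.nonempty_pullback_twist_iso (CohB1.polyGrading (n + 1) k)
    (CohB1.polyGrading n k) ψ hψ (hgen_polyGrading (n + 1) k) 1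
  exact ⟨(Scheme.Modules.pullbackCongr hφ).app _ ≪≫ e⟩

end Groth.Agent.H18.Hyp7
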