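import Groth.Agent.H8.AssPoints2
import Groth.Agent.H18.TensorSec
import Groth.Agent.H18.GenLocusGen

/-!
# Piece (K) of helper21's squad for S5638 / S5639

If `τ ⊗ s = 0` for a nonzero global section `τ` of a quasi-coherent module `G` on a locally
Noetherian scheme, then some associated point of `G` lies outside the generating locus of `s`.
-/

set_option autoImplicit false
set_option linter.style.haveILetI false
universe u

namespace Groth.Agent.H18.HypK

open CategoryTheory AlgebraicGeometry Opposite TopologicalSpace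
open Groth.Agent.H8 (res_res res_smul ringRes_res section_eq_of_cover)
open Groth.Agent.H18.SecTw Groth.Agent.H18.TensorGen Groth.Agent.H18.TensorSec

theorem tm_zero_left {X : Scheme.{u}} (G L : X.Modules) {V : X.Opens} (μ : Γ(L, V)) :
    tm G L (0 : Γ(G, V)) μ = 0 := by
  have h := tm_smul_left G L (0 : Γ(X, V)) (0 : Γ(G, V)) μ
  rw [zero_smul, zero_smul] at h
  exact h

/-- (K) -/
theorem exists_assPoint_of_tm_eq_zero {X : Scheme.{u}} [IsLocallyNoetherian X] (G L : X.Modules)
    [G.IsQuasicoherent] (s : Coh.structureModule X ⟶ L) (τ : Γ(G, ⊤)) (hτ : τ ≠ 0)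
    (h : tm G L τ (sv s ⊤) = 0) :
    ∃ y : X, Curv2.IsAssPoint G y ∧ y ∉ CohB1.genLocus L s := by
  -- an affine open on which `τ` is nonzero
  obtain ⟨U, hU, hτU⟩ : ∃ U : X.Opens, IsAffineOpen U ∧
      G.presheaf.map (homOfLE (le_top : U ≤ ⊤)).op τ ≠ 0 := by
    by_contra hcon
    push Not at hcon
    apply hτ
    refine section_eq_of_cover G _ _ (fun x _ => ?_)
    obtain ⟨_, ⟨U, hU, rfl⟩, hxU, -⟩ := X.isBasis_affineOpens.exists_subset_of_mem_open
      (Set.mem_univ x) isOpen_univ
    refine ⟨U, le_top, hxU, ?_⟩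
    rw [hcon U hU, map_zero]
  haveI : IsNoetherianRing Γ(X, U) := IsLocallyNoetherian.component_noetherian ⟨U, hU⟩
  obtain ⟨y, hyU, hass, hgerm⟩ := Groth.Agent.H8.exists_isAssPoint_germ_ne_zero hU G _ hτU
  refine ⟨y, hass, fun hyD => hgerm ?_⟩
  -- on the generating locus `τ` vanishes
  have hD : G.presheaf.map (homOfLE (le_top : CohB1.genLocus L s ≤ ⊤)).op τ = 0 := by
    apply injective_tm (F := G) (Groth.Agent.H18.GenLocusGen.isGen_sv_genLocus s)
    show tm G L _ _ = tm G L 0 _
    rw [tm_zero_left, ← sv_res s (le_top : CohB1.genLocus L s ≤ ⊤), ← tm_res, h, map_zero]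
  have h1 := TopCat.Presheaf.germ_res_apply G.presheaf (homOfLE (le_top : U ≤ ⊤)) y hyU τ
  have h2 := TopCat.Presheaf.germ_res_apply G.presheaf
    (homOfLE (le_top : CohB1.genLocus L s ≤ ⊤)) y hyD τ
  rw [h1, ← h2, hD, map_zero]

end Groth.Agent.H18.HypK
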