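import Groth.Agent.H41.BilinGlue
import Groth.Agent.H18.TensorGen
import Groth.Agent.H18.TensorAssoc
import Groth.Agent.H18.TwistAmple
import Groth.Agent.H8.TensorPow
import Groth.Agent.H21.Hyp.Defs

/-!
# Pieces (U), (J0), (J), (G) of helper21's squad for S5638 / S5639

* `nonempty_tensorMod_unit`: `F ⊗ O ≅ F` for an arbitrary module `F`.
* `nonempty_twist_zero`: `F ⊗ O(-0) ≅ F` on `P^N_k`.
* `nonempty_twist_succ`: `(F ⊗ O(-j)) ⊗ O(-1) ≅ F ⊗ O(-(j+1))` on `P^N_k`.
* `genLocus_secHom_one`: outside the generating locus of a linear form `ℓ`, `ℓ` vanishes.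
-/

set_option autoImplicit false
universe u

noncomputable section

namespace Groth.Agent.H18.HypUJG

open CategoryTheory AlgebraicGeometry Opposite TopologicalSpace
open Groth.Agent.H8 (res_res res_smul ringRes_res section_eq_of_cover)
open Groth.Agent.H41.BilinGlue

variable {X : Scheme.{u}}

/-- view a section of the structure module as a section of the structure sheaf -/
def toFn {W : X.Opens} (t : Γ(Coh.structureModule X, W)) : Γ(X, W) := t

theorem toFn_res {W V : X.Opens} (h : V ≤ W) (t : Γ(Coh.structureModule X, W)) :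
    toFn ((Coh.structureModule X).presheaf.map (homOfLE h).op t) =
      X.presheaf.map (homOfLE h).op (toFn t) := rfl

theorem toFn_add {W : X.Opens} (t t' : Γ(Coh.structureModule X, W)) :
    toFn (t + t') = toFn t + toFn t' := rfl

theorem toFn_smul {W : X.Opens} (a : Γ(X, W)) (t : Γ(Coh.structureModule X, W)) :
    toFn (a • t) = a * toFn t := rfl

/-- The relation `w = t • s`. -/
def RelU (F : X.Modules) (W : X.Opens) (s : Γ(F, W)) (t : Γ(Coh.structureModule X, W))
    (w : Γ(F, W)) : Prop := w = toFn t • s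

theorem glueRelU (F : X.Modules) : GlueRel F (Coh.structureModule X) F (RelU F) where
  unique := by
    intro W s t w w' h h'
    rw [h, h']
  res := by
    intro W V h s t w hw
    show _ = _
    rw [hw, res_smul, toFn_res]
  of_local := by
    intro W s t w h
    show w = _
    refine section_eq_of_cover _ _ _ (fun x hx => ?_)
    obtain ⟨V, hV, hxV, hR⟩ := h x hx
    refine ⟨V, hV, hxV, ?_⟩
    rw [res_smul, ← toFn_res]
    exact hR
  exists_local := by
    intro W s t x hx
    exact ⟨W, le_refl W, hx, _, rfl⟩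
  add_left := by
    intro W s s' t w w' h h'
    show _ = _
    rw [h, h', smul_add]
  add_right := by
    intro W s t t' w w' h h'
    show _ = _
    rw [h, h', toFn_add, add_smul]
  smul_left := by
    intro W a s t w h
    show _ = _
    rw [h, smul_comm]
  smul_right := by
    intro W a s t w h
    show _ = _
    rw [h, toFn_smul, mul_smul]

/-- (U) `F ⊗ O ≅ F`. -/
theorem nonempty_tensorMod_unit (F : X.Modules) :
    Nonempty (CohB1.tensorMod F (Coh.structureModule X) ≅ F) := by
  refine (glueRelU F).nonempty_iso (fun U x hx => ?_)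
  refine ⟨U, le_refl U, hx, (show Γ(Coh.structureModule X, U) from (1 : Γ(X, U))), ?_, ?_⟩
  · intro t
    exact ⟨toFn t, mul_one (toFn t)⟩
  · have : (fun s : Γ(F, U) => (glueRelU F).mul U s
        (show Γ(Coh.structureModule X, U) from (1 : Γ(X, U)))) = id := by
      funext s
      refine (glueRelU F).mul_eq ?_
      show _ = _
      exact (one_smul _ _).symm
    rw [this]
    exact Function.bijective_id

/-- (J0) -/
theorem nonempty_twist_zero (k : Type u) [Field k] (N : ℕ) (F : (CohB1.ProjSpace N k).Modules) :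
    Nonempty (CohB1.tensorMod F (Twist.twistProjSpace N k (-((0 : ℕ) : ℤ))) ≅ F) := by
  have h0 : (-((0 : ℕ) : ℤ)) = 0 := by simp
  rw [h0]
  obtain ⟨e0⟩ := Groth.Agent.H18.TwistTensor.nonempty_twist_zero_iso (CohB1.polyGrading N k)
  obtain ⟨e1⟩ := Groth.Agent.H18.TensorModIso.nonempty_tensorMod_congr (Iso.refl F) e0
  obtain ⟨e2⟩ := nonempty_tensorMod_unit F
  exact ⟨e1 ≪≫ e2⟩

/-- (J) -/
theorem nonempty_twist_succ (k : Type u) [Field k] (N : ℕ) (F : (CohB1.ProjSpace N k).Modules) (j : ℕ) :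
    Nonempty (CohB1.tensorMod (CohB1.tensorMod F (Twist.twistProjSpace N k (-(j : ℤ))))
        (Twist.twistProjSpace N k (-1)) ≅
      CohB1.tensorMod F (Twist.twistProjSpace N k (-((j + 1 : ℕ) : ℤ)))) := by
  have hpk := Groth.Agent.H18.TwistTensor.twist_package (CohB1.polyGrading N k)
    (Groth.Agent.H8.TensorPow.hcov1_polyGrading N k)
  obtain ⟨e1⟩ := Groth.Agent.H18.TensorAssoc.nonempty_tensorMod_assoc F
    (Twist.twistProjSpace N k (-(j : ℤ))) (Twist.twistProjSpace N k (-1))
    (hpk.1 _) (hpk.1 _)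
  obtain ⟨e2⟩ := Groth.Agent.H8.TensorPow.nonempty_twistProjSpace_tensor N k (-(j : ℤ)) (-1)
  have hj : (-(j : ℤ)) + (-1) = -((j + 1 : ℕ) : ℤ) := by push_cast; ring
  rw [hj] at e2
  obtain ⟨e3⟩ := Groth.Agent.H18.TensorModIso.nonempty_tensorMod_congr (Iso.refl F) e2
  exact ⟨e1 ≪≫ e3⟩

/-- (G) -/
theorem genLocus_secHom_one (k : Type u) [Field k] (N : ℕ) (ℓ : ↥(CohB1.polyGrading N k 1))
    (y : ProjectiveSpectrum (CohB1.polyGrading N k))
    (hy : (y : ↥(CohB1.ProjSpace N k)) ∉ CohB1.genLocus (Twist.twist (CohB1.polyGrading N k) ((1 : ℕ) : ℤ))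
      (Groth.Agent.H18.TwistAmple.secHom (CohB1.polyGrading N k) ℓ)) : ℓ.1 ∈ y.asHomogeneousIdeal := by
  have hUF : Groth.Agent.H18.TwistTensor.HasUnitFrac (CohB1.polyGrading N k) ((1 : ℕ) : ℤ) := by
    have h := Groth.Agent.H18.TwistTensor.hasUnitFrac_of_cover (CohB1.polyGrading N k) 1 1
      (Groth.Agent.H8.TensorPow.hcov1_polyGrading N k)
    rwa [one_mul] at h
  rw [Groth.Agent.H18.TwistAmple.genLocus_secHom (CohB1.polyGrading N k) ℓ hUF] at hy
  by_contra hcon
  exact hy ((Proj.mem_basicOpen _ _ _).mpr hcon)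

end Groth.Agent.H18.HypUJG
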