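import Groth.Agent.H18.HomOfGens

/-!
# A morphism out of an invertible module hitting local generators is an isomorphism

* `isIso_of_locally_bijective`: a morphism of `O_X`-modules which is bijective on sections over all
  small enough opens is an isomorphism.
* `isIso_of_isGen_image`: `M` invertible, `τ : M ⟶ L`, and locally some section of `M` is mapped
  to a free generator of `L`; then `τ` is an isomorphism.
-/

set_option autoImplicit false
universe u

open CategoryTheory AlgebraicGeometry TopologicalSpace Opposite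
open Groth.Agent.H8 (res_res res_smul ringRes_res section_eq_of_cover app_res)
open Groth.Agent.H18.SecTw Groth.Agent.H18.TensorGen

namespace Groth.Agent.H18.IsoOfGen

variable {X : Scheme.{u}}

/-- If `c • l` is a free generator then so is `l`. -/
theorem isGen_of_isGen_smul {L : X.Modules} {W : X.Opens} (c : Γ(X, W)) (l : Γ(L, W))
    (h : IsGen L W (c • l)) : IsGen L W l := by
  intro W' hW'
  have hb := h W' hW'
  obtain ⟨r₀, hr₀⟩ := h.self.2 l
  have hr₀' : r₀ • (c • l) = l := hr₀
  have hrc : r₀ * c = 1 := by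
    apply h.self.1
    show (r₀ * c) • (c • l) = (1 : Γ(X, W)) • (c • l)
    rw [one_smul, mul_comm, mul_smul, hr₀']
  obtain ⟨c', hc'⟩ : ∃ c' : Γ(X, W'), c' = X.presheaf.map (homOfLE hW').op c := ⟨_, rfl⟩
  obtain ⟨r', hr'⟩ : ∃ r' : Γ(X, W'), r' = X.presheaf.map (homOfLE hW').op r₀ := ⟨_, rfl⟩
  have hrc' : r' * c' = 1 := by rw [hr', hc', ← map_mul, hrc, map_one]
  have hfun : (fun r : Γ(X, W') => r • L.presheaf.map (homOfLE hW').op l) =
      (fun r : Γ(X, W') => r • L.presheaf.map (homOfLE hW').op (c • l)) ∘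
        (fun r : Γ(X, W') => r * r') := by
    funext r
    show _ = (r * r') • L.presheaf.map (homOfLE hW').op (c • l)
    rw [res_smul, ← hc', ← mul_smul, mul_assoc, hrc', mul_one]
  rw [hfun]
  exact hb.comp (Units.mulRight ⟨r', c', hrc', by rw [mul_comm]; exact hrc'⟩).bijective

/-- A morphism mapping a free generator to a free generator is bijective on sections. -/
theorem bijective_app_of_isGen {M L : X.Modules} (τ : M ⟶ L) {W : X.Opens} (μ : Γ(M, W))
    (hμ : IsGen M W μ) (hl : IsGen L W (τ.app W μ)) (W' : X.Opens) (hW' : W' ≤ W) :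
    Function.Bijective (τ.app W') := by
  have hEM := hμ W' hW'
  have hEL := hl W' hW'
  have hcomp : (τ.app W') ∘ (fun r : Γ(X, W') => r • M.presheaf.map (homOfLE hW').op μ) =
      fun r : Γ(X, W') => r • L.presheaf.map (homOfLE hW').op (τ.app W μ) := by
    funext r
    show τ.app W' (r • M.presheaf.map (homOfLE hW').op μ) = _
    rw [Scheme.Modules.Hom.app_smul, app_res]
  exact (Function.Bijective.of_comp_iff (τ.app W') hEM).mp (by rw [hcomp]; exact hEL)

/-- A morphism of modules which is bijective on sections over all small opens is an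
isomorphism. -/
theorem isIso_of_locally_bijective {M L : X.Modules} (τ : M ⟶ L)
    (h : ∀ x : X, ∃ W : X.Opens, x ∈ W ∧
      ∀ W' : X.Opens, W' ≤ W → Function.Bijective (τ.app W')) : IsIso τ := by
  have hB : Opens.IsBasis (Set.range
      (fun p : {W : X.Opens // ∀ W' : X.Opens, W' ≤ W → Function.Bijective (τ.app W')} =>
        p.1)) := by
    rw [Opens.isBasis_iff_nbhd]
    intro U x hxU
    obtain ⟨W, hxW, hW⟩ := h x
    exact ⟨W ⊓ U, ⟨⟨W ⊓ U, fun W' hW' => hW W' (hW'.trans inf_le_left)⟩, rfl⟩, ⟨hxW, hxU⟩,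
      inf_le_right⟩
  have : IsIso ((SheafOfModules.toSheaf.{u} X.ringCatSheaf).map τ) := by
    refine TopCat.Sheaf.isIso_iff_isIso_basis (X := X.toTopCat)
      (B := fun p : {W : X.Opens // ∀ W' : X.Opens, W' ≤ W → Function.Bijective (τ.app W')} =>
        p.1) hB (fun p => ?_)
    have hb : Function.Bijective (τ.app p.1) := p.2 p.1 le_rfl
    exact (ConcreteCategory.isIso_iff_bijective _).mpr hb
  have key : ∀ {A' B' : SheafOfModules.{u} X.ringCatSheaf} (ψ : A' ⟶ B'),
      IsIso ((SheafOfModules.toSheaf.{u} X.ringCatSheaf).map ψ) → IsIso ψ :=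
    fun ψ _ => isIso_of_reflects_iso ψ (SheafOfModules.toSheaf.{u} X.ringCatSheaf)
  exact key τ this

/-- A morphism out of an invertible module which locally maps some section to a free generator
is an isomorphism. -/
theorem isIso_of_isGen_image {M L : X.Modules} (hM : PicF.IsInvertible M) (τ : M ⟶ L)
    (h : ∀ x : X, ∃ (V : X.Opens) (m : Γ(M, V)), x ∈ V ∧ IsGen L V (τ.app V m)) : IsIso τ := by
  refine isIso_of_locally_bijective τ fun x => ?_
  obtain ⟨V, m, hxV, hgen⟩ := h x
  obtain ⟨V₂, μ, hxV₂, hμ⟩ := exists_isGen hM x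
  refine ⟨V ⊓ V₂, ⟨hxV, hxV₂⟩, ?_⟩
  have hμ' := hμ.res (inf_le_right : V ⊓ V₂ ≤ V₂)
  have hgen' := hgen.res (inf_le_left : V ⊓ V₂ ≤ V)
  rw [← app_res] at hgen'
  obtain ⟨c, hc⟩ := hμ'.self.2 (M.presheaf.map (homOfLE (inf_le_left : V ⊓ V₂ ≤ V)).op m)
  have hc' : c • M.presheaf.map (homOfLE (inf_le_right : V ⊓ V₂ ≤ V₂)).op μ =
      M.presheaf.map (homOfLE (inf_le_left : V ⊓ V₂ ≤ V)).op m := hc
  rw [← hc', Scheme.Modules.Hom.app_smul] at hgen'
  exact bijective_app_of_isGen τ _ hμ' (isGen_of_isGen_smul c _ hgen')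

end Groth.Agent.H18.IsoOfGen
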