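import Groth.Prelude.Def_CohB1
import Groth.Agent.H18.ProjClosedImm
import Groth.Agent.H18.ProjSpaceGlobal
import Groth.Agent.H18.CoprodCI

set_option autoImplicit false
universe u
open CategoryTheory CategoryTheory.Limits AlgebraicGeometry HomogeneousLocalization
open scoped HomogeneousIdeal

namespace Groth.Agent.H18.LinEmb

section general
variable {A B σ τ : Type u} [CommRing A] [SetLike σ A] [AddSubgroupClass σ A]
  [CommRing B] [SetLike τ B] [AddSubgroupClass τ B]
  {𝒜 : ℕ → σ} {ℬ : ℕ → τ} [GradedRing 𝒜] [GradedRing ℬ]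

/-- The degree-zero part of a graded ring homomorphism. -/
def zeroHom (f : 𝒜 →+*ᵍ ℬ) : 𝒜 0 →+* ℬ 0 where
  toFun x := ⟨f (x : A), f.2 x.2⟩
  map_one' := Subtype.ext (map_one f)
  map_mul' x y := Subtype.ext (map_mul f (x : A) (y : A))
  map_zero' := Subtype.ext (map_zero f)
  map_add' x y := Subtype.ext (map_add f (x : A) (y : A))

@[simp] theorem zeroHom_coe (f : 𝒜 →+*ᵍ ℬ) (x : 𝒜 0) : ((zeroHom f x : ℬ 0) : B) = f (x : A) := rfl

theorem away_map_fromZero (f : 𝒜 →+*ᵍ ℬ) (s : A) (x : 𝒜 0) :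
    Away.map f s (fromZeroRingHom 𝒜 _ x) = fromZeroRingHom ℬ _ (zeroHom f x) := by
  apply HomogeneousLocalization.val_injective
  show (HomogeneousLocalization.mk (𝒜 := ℬ) (x := Submonoid.powers (f s))
      ⟨0, ⟨f (x : A), f.2 x.2⟩, ⟨f ((1 : 𝒜 0) : A), f.2 (1 : 𝒜 0).2⟩, _⟩).val =
    (HomogeneousLocalization.mk (𝒜 := ℬ) (x := Submonoid.powers (f s))
      ⟨0, zeroHom f x, 1, _⟩).val
  rw [HomogeneousLocalization.val_mk, HomogeneousLocalization.val_mk]
  congr 1
  exact Subtype.ext (map_one f)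

set_option backward.isDefEq.respectTransparency false in
/-- `Proj.map` is compatible with the structure morphisms to `Spec` of the degree-zero parts. -/
@[reassoc]
theorem map_toSpecZero (f : 𝒜 →+*ᵍ ℬ) (hf : ℬ₊ ≤ 𝒜₊.map f) :
    Proj.map f hf ≫ Proj.toSpecZero 𝒜 =
      Proj.toSpecZero ℬ ≫ Spec.map (CommRingCat.ofHom (zeroHom f)) := by
  refine (Proj.mapAffineOpenCover f hf).openCover.hom_ext _ _ fun s => ?_
  simp only [Scheme.AffineOpenCover.openCover_f, Proj.mapAffineOpenCover_f]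
  rw [Proj.awayι_comp_map_assoc f hf s.1.2 _ s.2.2, Proj.awayι_toSpecZero,
    Proj.awayι_toSpecZero_assoc, ← Spec.map_comp, ← Spec.map_comp]
  congr 1
  ext x
  exact congrArg HomogeneousLocalization.val (away_map_fromZero f _ x)

end general

section surj
variable {R A : Type u} [CommRing R] [CommRing A] [Algebra R A] (𝒜 : ℕ → Submodule R A)
  [GradedAlgebra 𝒜]
variable {B : Type u} [CommRing B] [Algebra R B] (ℬ : ℕ → Submodule R B) [GradedAlgebra ℬ]

theorem irrelevant_le_map_of_surjective (φ : 𝒜 →+*ᵍ ℬ) (hsurj : Function.Surjective φ) :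
    HomogeneousIdeal.irrelevant ℬ ≤ (HomogeneousIdeal.irrelevant 𝒜).map φ := by
  intro b hb
  obtain ⟨a, rfl⟩ := hsurj b
  have hb0 : (DirectSum.decompose ℬ (φ a) 0 : B) = 0 := hb
  have h1 : φ a = φ (a - (DirectSum.decompose 𝒜 a 0 : A)) := by
    rw [map_sub, GradedRingHom.map_directSumDecompose, hb0, sub_zero]
  rw [h1]
  show φ _ ∈ Ideal.map φ (HomogeneousIdeal.irrelevant 𝒜).toIdeal
  refine Ideal.mem_map_of_mem _ ?_
  show (DirectSum.decompose 𝒜 (a - (DirectSum.decompose 𝒜 a 0 : A)) 0 : A) = 0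
  rw [DirectSum.decompose_sub, DFinsupp.sub_apply, AddSubgroupClass.coe_sub,
    DirectSum.decompose_coe, DirectSum.of_eq_same, sub_self]

end surj

section lin
open MvPolynomial
variable (k : Type u) [CommRing k] {N n : ℕ}

/-- The graded homomorphism `k[x_0..x_N] → k[x_0..x_n]` given by a family of linear forms. -/
noncomputable def lin (g : Fin (N + 1) → MvPolynomial (Fin (n + 1)) k)
    (hg : ∀ i, (g i).IsHomogeneous 1) :
    CohB1.polyGrading N k →+*ᵍ CohB1.polyGrading n k where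
  toRingHom := (aeval g : MvPolynomial (Fin (N + 1)) k →ₐ[k] MvPolynomial (Fin (n + 1)) k).toRingHom
  map_mem {i x} hx := by
    have hx' : x.IsHomogeneous i := hx
    have := hx'.aeval g hg
    rw [one_mul] at this
    exact this

@[simp] theorem lin_apply (g : Fin (N + 1) → MvPolynomial (Fin (n + 1)) k)
    (hg : ∀ i, (g i).IsHomogeneous 1) (p : MvPolynomial (Fin (N + 1)) k) :
    lin k g hg p = aeval g p := rfl

theorem lin_surjective (g : Fin (N + 1) → MvPolynomial (Fin (n + 1)) k)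
    (hg : ∀ i, (g i).IsHomogeneous 1) (e : Fin (n + 1) → Fin (N + 1))
    (he : ∀ j, g (e j) = X j) : Function.Surjective (lin k g hg) := by
  intro p
  refine ⟨rename e p, ?_⟩
  rw [lin_apply, aeval_rename]
  have : g ∘ e = X := funext he
  rw [this, aeval_X_left, AlgHom.id_apply]

theorem lin_irr (g : Fin (N + 1) → MvPolynomial (Fin (n + 1)) k)
    (hg : ∀ i, (g i).IsHomogeneous 1) (e : Fin (n + 1) → Fin (N + 1))
    (he : ∀ j, g (e j) = X j) :
    HomogeneousIdeal.irrelevant (CohB1.polyGrading n k) ≤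
      (HomogeneousIdeal.irrelevant (CohB1.polyGrading N k)).map (lin k g hg) :=
  irrelevant_le_map_of_surjective _ _ _ (lin_surjective k g hg e he)

/-- The linear embedding `P^n_k → P^N_k`. -/
noncomputable def emb (g : Fin (N + 1) → MvPolynomial (Fin (n + 1)) k)
    (hg : ∀ i, (g i).IsHomogeneous 1) (e : Fin (n + 1) → Fin (N + 1))
    (he : ∀ j, g (e j) = X j) : Proj (CohB1.polyGrading n k) ⟶ Proj (CohB1.polyGrading N k) :=
  Proj.map (lin k g hg) (lin_irr k g hg e he)

instance (g : Fin (N + 1) → MvPolynomial (Fin (n + 1)) k)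
    (hg : ∀ i, (g i).IsHomogeneous 1) (e : Fin (n + 1) → Fin (N + 1))
    (he : ∀ j, g (e j) = X j) : IsClosedImmersion (emb k g hg e he) :=
  Groth.Agent.H18.proj_map_isClosedImmersion _ (lin_surjective k g hg e he) _

theorem emb_toSpec (g : Fin (N + 1) → MvPolynomial (Fin (n + 1)) k)
    (hg : ∀ i, (g i).IsHomogeneous 1) (e : Fin (n + 1) → Fin (N + 1))
    (he : ∀ j, g (e j) = X j) :
    emb k g hg e he ≫ (Proj.toSpecZero (CohB1.polyGrading N k) ≫
      Spec.map (CommRingCat.ofHom (algebraMap k (CohB1.polyGrading N k 0)))) =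
    (Proj.toSpecZero (CohB1.polyGrading n k) ≫
      Spec.map (CommRingCat.ofHom (algebraMap k (CohB1.polyGrading n k 0)))) := by
  unfold emb
  rw [map_toSpecZero_assoc, ← Spec.map_comp, ← CommRingCat.ofHom_comp]
  congr 3
  refine RingHom.ext fun r => Subtype.ext ?_
  show (aeval g (C r) : MvPolynomial (Fin (n + 1)) k) = C r
  exact aeval_C g r

theorem emb_preimage_basicOpen (g : Fin (N + 1) → MvPolynomial (Fin (n + 1)) k)
    (hg : ∀ i, (g i).IsHomogeneous 1) (e : Fin (n + 1) → Fin (N + 1))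
    (he : ∀ j, g (e j) = X j) (i : Fin (N + 1)) :
    emb k g hg e he ⁻¹ᵁ Proj.basicOpen (CohB1.polyGrading N k) (X i) =
      Proj.basicOpen (CohB1.polyGrading n k) (g i) := by
  unfold emb
  rw [Proj.map_preimage_basicOpen, lin_apply, aeval_X]

/-- Two linear embeddings with "complementary" coordinates have disjoint ranges. -/
theorem emb_ne {n m : ℕ} (g : Fin (N + 1) → MvPolynomial (Fin (n + 1)) k)
    (hg : ∀ i, (g i).IsHomogeneous 1) (e : Fin (n + 1) → Fin (N + 1))
    (he : ∀ j, g (e j) = X j)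
    (g' : Fin (N + 1) → MvPolynomial (Fin (m + 1)) k)
    (hg' : ∀ i, (g' i).IsHomogeneous 1) (e' : Fin (m + 1) → Fin (N + 1))
    (he' : ∀ j, g' (e' j) = X j) (hdis : ∀ j, g' (e j) = 0)
    (x : Proj (CohB1.polyGrading n k)) (y : Proj (CohB1.polyGrading m k)) :
    (emb k g hg e he) x ≠ (emb k g' hg' e' he') y := by
  intro hxy
  have hx : x ∈ (⨆ j, Proj.basicOpen (CohB1.polyGrading n k) (X j) : (Proj (CohB1.polyGrading n k)).Opens) := by
    have := Proj.iSup_basicOpen_eq_top (CohB1.polyGrading n k)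
      (X : Fin (n + 1) → MvPolynomial (Fin (n + 1)) k)
      (Groth.Agent.H18.ProjSpaceGlobal.irrelevant_le_span n k)
    rw [this]; trivial
  obtain ⟨j, hj⟩ := TopologicalSpace.Opens.mem_iSup.1 hx
  rw [← he j, ← emb_preimage_basicOpen k g hg e he (e j)] at hj
  have hj' : (emb k g hg e he) x ∈ Proj.basicOpen (CohB1.polyGrading N k) (X (e j)) := hj
  rw [hxy] at hj'
  have hy : y ∈ emb k g' hg' e' he' ⁻¹ᵁ Proj.basicOpen (CohB1.polyGrading N k) (X (e j)) := hj'
  rw [emb_preimage_basicOpen, hdis, Proj.basicOpen_zero] at hy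
  exact hy

end lin

end Groth.Agent.H18.LinEmb
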