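import Groth.Agent.H18.MonoGen

/-!
# A degree-`n` monomial factor after inverting some generators (combinatorics for `O(n)` generated
by global sections when `n ≥ (s-1)(l-1)`)
-/

set_option autoImplicit false
universe u

namespace Groth.Agent.H18.MonoBeta

open Groth.Agent.H18.MonoGen

variable {s : ℕ}

/-- Splitting off the `j₀`-th term of a weight. -/
theorem wt_eq_add_erase (deg : Fin s → ℕ) (m : Fin s → ℕ) (j₀ : Fin s) :
    wt deg m = m j₀ * deg j₀ + ∑ i ∈ Finset.univ.erase j₀, m i * deg i := by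
  unfold wt
  exact (Finset.add_sum_erase _ (fun i => m i * deg i) (Finset.mem_univ j₀)).symm

/-- The key combinatorial statement. -/
theorem exists_beta (deg : Fin s → ℕ) (hdeg : ∀ i, 0 < deg i) (n : ℕ)
    (hn : (s - 1) * (Finset.univ.lcm deg - 1) ≤ n) (u e : Fin s → ℕ)
    (he : wt deg e = wt deg u + n) :
    ∃ β : Fin s → ℕ, wt deg β = n ∧ (∀ i, u i = 0 → β i ≤ e i) ∧
      ∀ i, β i ≤ n + Finset.univ.lcm deg := by
  obtain ⟨l, hl⟩ : ∃ l, l = Finset.univ.lcm deg := ⟨_, rfl⟩
  rw [← hl] at hn ⊢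
  have hlpos : 0 < l := hl ▸ lcm_pos deg hdeg
  have hdvd : ∀ i, deg i ∣ l := fun i => hl ▸ Finset.dvd_lcm (Finset.mem_univ i)
  by_cases hu : ∀ i, u i = 0
  · -- trivial case
    have hu0 : wt deg u = 0 := by
      unfold wt
      exact Finset.sum_eq_zero fun i _ => by rw [hu i, zero_mul]
    rw [hu0, zero_add] at he
    refine ⟨e, he, fun i _ => le_rfl, fun i => ?_⟩
    have h1 : e i * deg i ≤ wt deg e :=
      Finset.single_le_sum (f := fun i => e i * deg i) (fun _ _ => Nat.zero_le _)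
        (Finset.mem_univ i)
    have h2 : e i ≤ e i * deg i := Nat.le_mul_of_pos_right _ (hdeg i)
    omega
  push Not at hu
  obtain ⟨j₀, hj₀⟩ := hu
  -- the multiplicities `m i = l / deg i`
  obtain ⟨m, hm⟩ : ∃ m : Fin s → ℕ, ∀ i, l = deg i * m i := ⟨fun i => l / deg i, fun i =>
    (Nat.mul_div_cancel' (hdvd i)).symm⟩
  have hmpos : ∀ i, 0 < m i := fun i => by
    rcases Nat.eq_zero_or_pos (m i) with h | h
    · have := hm i
      rw [h, mul_zero] at this
      omega
    · exact h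
  have hmle : ∀ i, m i ≤ l := fun i => by
    rw [hm i]
    exact Nat.le_mul_of_pos_left _ (hdeg i)
  -- the reduced exponents
  obtain ⟨b, hb⟩ : ∃ b : Fin s → ℕ, ∀ i, b i = (e i + m i * u i - u i) % m i := ⟨_, fun _ => rfl⟩
  have hblt : ∀ i, b i < m i := fun i => by rw [hb i]; exact Nat.mod_lt _ (hmpos i)
  -- integrality: `b i * deg i = e i * deg i - u i * deg i + q i * l` in `ℤ`
  have hq : ∀ i, ∃ q : ℤ, (b i : ℤ) * deg i = (e i : ℤ) * deg i - (u i : ℤ) * deg i + q * l := by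
    intro i
    have h1 : u i ≤ m i * u i := Nat.le_mul_of_pos_left _ (hmpos i)
    have h2 := Nat.div_add_mod (e i + m i * u i - u i) (m i)
    rw [← hb i] at h2
    obtain ⟨Q, hQ⟩ : ∃ Q : ℕ, Q = (e i + m i * u i - u i) / m i := ⟨_, rfl⟩
    rw [← hQ] at h2
    refine ⟨(u i : ℤ) - (Q : ℤ), ?_⟩
    have h3 : ((e i + m i * u i - u i : ℕ) : ℤ) = (e i : ℤ) + (m i : ℤ) * u i - u i := by
      rw [Nat.cast_sub (by omega)]
      push_cast
      ring
    have h4 : ((m i * Q + b i : ℕ) : ℤ) = (e i : ℤ) + (m i : ℤ) * u i - u i := by rw [h2, h3]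
    push_cast at h4
    have h5 : (l : ℤ) = (deg i : ℤ) * m i := by exact_mod_cast hm i
    rw [h5]
    linear_combination (deg i : ℤ) * h4
  choose q hq using hq
  -- the partial sum
  obtain ⟨S, hS⟩ : ∃ S : ℕ, S = ∑ i ∈ Finset.univ.erase j₀, b i * deg i := ⟨_, rfl⟩
  have hSn : S ≤ n := by
    have h1 : ∀ i ∈ Finset.univ.erase j₀, b i * deg i ≤ l - 1 := by
      intro i _
      have h2 : b i + 1 ≤ m i := hblt i
      have h3 : (b i + 1) * deg i ≤ m i * deg i := Nat.mul_le_mul_right _ h2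
      have h4 : m i * deg i = l := by rw [hm i, mul_comm]
      have h5 := hdeg i
      rw [add_mul, one_mul] at h3
      omega
    have h2 := Finset.sum_le_card_nsmul _ _ _ h1
    rw [← hS, Finset.card_erase_of_mem (Finset.mem_univ j₀), Finset.card_univ, Fintype.card_fin,
      smul_eq_mul] at h2
    exact h2.trans hn
  have hSdvd : (deg j₀ : ℤ) ∣ (n : ℤ) - S := by
    have h1 : (S : ℤ) = ∑ i ∈ Finset.univ.erase j₀,
        ((e i : ℤ) * deg i - (u i : ℤ) * deg i + q i * l) := by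
      rw [hS]
      push_cast
      exact Finset.sum_congr rfl fun i _ => hq i
    rw [Finset.sum_add_distrib, Finset.sum_sub_distrib, ← Finset.sum_mul] at h1
    have h2 := wt_eq_add_erase deg e j₀
    have h3 := wt_eq_add_erase deg u j₀
    have h2' : (wt deg e : ℤ) = (e j₀ : ℤ) * deg j₀ +
        ∑ i ∈ Finset.univ.erase j₀, (e i : ℤ) * deg i := by
      rw [h2]; push_cast; rfl
    have h3' : (wt deg u : ℤ) = (u j₀ : ℤ) * deg j₀ +
        ∑ i ∈ Finset.univ.erase j₀, (u i : ℤ) * deg i := by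
      rw [h3]; push_cast; rfl
    have he' : (wt deg e : ℤ) = wt deg u + n := by exact_mod_cast he
    obtain ⟨c, hc⟩ := hdvd j₀
    have hc' : (l : ℤ) = (deg j₀ : ℤ) * c := by exact_mod_cast hc
    refine ⟨(e j₀ : ℤ) - u j₀ - (∑ i ∈ Finset.univ.erase j₀, q i) * c, ?_⟩
    rw [hc'] at h1
    linear_combination h1 * (-1) + h2' - h3' - he'
  obtain ⟨t, ht⟩ : ∃ t : ℕ, n - S = deg j₀ * t := by
    have h1 : ((n - S : ℕ) : ℤ) = (n : ℤ) - S := Nat.cast_sub hSn
    rw [← h1] at hSdvd
    exact Int.natCast_dvd_natCast.mp hSdvd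
  refine ⟨fun i => if i = j₀ then t else b i, ?_, ?_, ?_⟩
  · rw [wt_eq_add_erase deg _ j₀, if_pos rfl]
    have h1 : ∑ i ∈ Finset.univ.erase j₀, (if i = j₀ then t else b i) * deg i = S := by
      rw [hS]
      refine Finset.sum_congr rfl fun i hi => ?_
      rw [if_neg (Finset.ne_of_mem_erase hi)]
    rw [h1, mul_comm, ← ht]
    omega
  · intro i hi
    have hij : i ≠ j₀ := fun h => hj₀ (h ▸ hi)
    simp only [if_neg hij]
    rw [hb i, hi, mul_zero, add_zero, Nat.sub_zero]
    exact Nat.mod_le _ _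
  · intro i
    by_cases hij : i = j₀
    · simp only [if_pos hij]
      have h1 : t ≤ deg j₀ * t := Nat.le_mul_of_pos_left _ (hdeg j₀)
      omega
    · simp only [if_neg hij]
      have := hblt i
      have := hmle i
      omega

end Groth.Agent.H18.MonoBeta
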