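import Groth.Agent.H18.AwayGenN

/-!
# Monomials in homogeneous generators of a graded algebra

`mon f m = ∏ f i ^ m i`, `wt deg m = ∑ m i * deg i`.  Every homogeneous element is a linear
combination of monomials of the same degree; a monomial of degree `q * (a * l)` (`l` the lcm of
the degrees, `a ≥ s - 1`, `q ≥ 2`) has a monomial factor of degree `a * l`.
-/

set_option autoImplicit false
universe u

open HomogeneousLocalization
open Groth.Agent.H18.ProjUPUniq (constMapG)
open Groth.Agent.H18.TwistSecN (uFracG)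

namespace Groth.Agent.H18.MonoGen

noncomputable section

section comb

variable {s : ℕ}

/-- The weight of an exponent vector. -/
def wt (deg : Fin s → ℕ) (m : Fin s → ℕ) : ℕ := ∑ i, m i * deg i

theorem wt_add (deg : Fin s → ℕ) (m m' : Fin s → ℕ) : wt deg (m + m') = wt deg m + wt deg m' := by
  unfold wt
  rw [← Finset.sum_add_distrib]
  refine Finset.sum_congr rfl fun i _ => ?_
  rw [Pi.add_apply, add_mul]

theorem exists_le_sum_eq (u : Fin s → ℕ) (a : ℕ) (h : a ≤ ∑ i, u i) :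
    ∃ u' : Fin s → ℕ, (∀ i, u' i ≤ u i) ∧ ∑ i, u' i = a := by
  induction a generalizing u with
  | zero => exact ⟨fun _ => 0, fun _ => Nat.zero_le _, by simp⟩
  | succ a ih =>
    have hpos : 0 < ∑ i, u i := lt_of_lt_of_le (Nat.succ_pos a) h
    obtain ⟨j, -, hj⟩ := Finset.exists_ne_zero_of_sum_ne_zero hpos.ne'
    have hj' : 1 ≤ u j := Nat.one_le_iff_ne_zero.mpr hj
    obtain ⟨e, he⟩ : ∃ e : Fin s → ℕ, e = Pi.single j 1 := ⟨_, rfl⟩
    have hesum : ∑ i, e i = 1 := by
      rw [he, Finset.sum_pi_single']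
      simp
    have hej : e j = 1 := by rw [he, Pi.single_eq_same]
    have hei : ∀ i, i ≠ j → e i = 0 := fun i hij => by rw [he, Pi.single_eq_of_ne hij]
    have h1 : ∀ i, (u - e) i + e i = u i := by
      intro i
      by_cases hij : i = j
      · subst hij
        simp only [Pi.sub_apply, hej]
        omega
      · simp only [Pi.sub_apply, hei i hij]
        omega
    have hsum : ∑ i, (u - e) i + 1 = ∑ i, u i := by
      have h2 : ∑ i, ((u - e) i + e i) = ∑ i, u i := Finset.sum_congr rfl fun i _ => h1 i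
      rw [Finset.sum_add_distrib, hesum] at h2
      exact h2
    obtain ⟨u'', h3, h4⟩ := ih (u - e) (by omega)
    refine ⟨u'' + e, fun i => ?_, ?_⟩
    · have h5 := h3 i
      have h6 := h1 i
      simp only [Pi.add_apply]
      omega
    · rw [show ∑ i, (u'' + e) i = ∑ i, (u'' i + e i) from rfl,
        Finset.sum_add_distrib, h4, hesum]

theorem lcm_pos (deg : Fin s → ℕ) (hdeg : ∀ i, 0 < deg i) : 0 < Finset.univ.lcm deg :=
  Nat.pos_of_ne_zero (Finset.lcm_ne_zero_iff.mpr fun i _ => (hdeg i).ne')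

theorem exists_split (deg : Fin s → ℕ) (hdeg : ∀ i, 0 < deg i) (a : ℕ) (ha : 0 < a)
    (has : s - 1 ≤ a) (q : ℕ) (hq : 2 ≤ q) (m : Fin s → ℕ)
    (hm : wt deg m = q * (a * Finset.univ.lcm deg)) :
    ∃ m₁ m' : Fin s → ℕ, m = m₁ + m' ∧ wt deg m₁ = a * Finset.univ.lcm deg := by
  obtain ⟨l, hl⟩ : ∃ l, l = Finset.univ.lcm deg := ⟨_, rfl⟩
  rw [← hl] at hm ⊢
  have hlpos : 0 < l := hl ▸ lcm_pos deg hdeg
  have hdvd : ∀ i, deg i ∣ l := fun i => hl ▸ Finset.dvd_lcm (Finset.mem_univ i)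
  obtain ⟨L, hL⟩ : ∃ L : Fin s → ℕ, ∀ i, L i * deg i = l :=
    ⟨fun i => l / deg i, fun i => Nat.div_mul_cancel (hdvd i)⟩
  have hLpos : ∀ i, 0 < L i := fun i => by
    rcases Nat.eq_zero_or_pos (L i) with h | h
    · have := hL i
      rw [h, zero_mul] at this
      omega
    · exact h
  obtain ⟨u, hu⟩ : ∃ u : Fin s → ℕ, u = fun i => m i / L i := ⟨_, rfl⟩
  obtain ⟨r, hr⟩ : ∃ r : Fin s → ℕ, r = fun i => m i % L i := ⟨_, rfl⟩
  have hmur : ∀ i, m i = L i * u i + r i := fun i => by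
    rw [hu, hr]
    exact (Nat.div_add_mod (m i) (L i)).symm
  have hrlt : ∀ i, r i < L i := fun i => by
    rw [hr]
    exact Nat.mod_lt _ (hLpos i)
  have hterm : ∀ i, m i * deg i = l * u i + r i * deg i := fun i => by
    rw [hmur i, add_mul, mul_right_comm, hL i]
  have hsum : wt deg m = l * ∑ i, u i + ∑ i, r i * deg i := by
    unfold wt
    rw [Finset.mul_sum, ← Finset.sum_add_distrib]
    exact Finset.sum_congr rfl fun i _ => hterm i
  have hrd : ∀ i, r i * deg i + 1 ≤ l := fun i => by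
    have h1 : (r i + 1) * deg i ≤ L i * deg i := Nat.mul_le_mul_right _ (hrlt i)
    rw [hL i, add_mul, one_mul] at h1
    have := hdeg i
    omega
  have hRs : ∑ i, r i * deg i + s ≤ s * l := by
    have h1 : ∑ i : Fin s, (r i * deg i + 1) ≤ ∑ _i : Fin s, l :=
      Finset.sum_le_sum fun i _ => hrd i
    rw [Finset.sum_add_distrib, Finset.sum_const, Finset.sum_const, Finset.card_univ,
      Fintype.card_fin, smul_eq_mul, smul_eq_mul, mul_one] at h1
    exact h1
  by_cases hU : a ≤ ∑ i, u i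
  · obtain ⟨u', hu'1, hu'2⟩ := exists_le_sum_eq u a hU
    have hle : ∀ i, L i * u' i ≤ m i := fun i => by
      have h1 : L i * u' i ≤ L i * u i := Nat.mul_le_mul_left _ (hu'1 i)
      have := hmur i
      omega
    refine ⟨fun i => L i * u' i, fun i => m i - L i * u' i, ?_, ?_⟩
    · funext i
      have := hle i
      simp only [Pi.add_apply]
      omega
    · unfold wt
      have h1 : ∀ i, L i * u' i * deg i = l * u' i := fun i => by
        rw [mul_right_comm, hL i]
      rw [Finset.sum_congr rfl fun i _ => h1 i, ← Finset.mul_sum, hu'2, mul_comm]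
  · exfalso
    push Not at hU
    obtain ⟨U, hUdef⟩ : ∃ U, U = ∑ i, u i := ⟨_, rfl⟩
    obtain ⟨Rs, hRsdef⟩ : ∃ Rs, Rs = ∑ i, r i * deg i := ⟨_, rfl⟩
    rw [← hUdef] at hU hsum
    rw [← hRsdef] at hsum hRs
    have h1 : l * (U + 1) ≤ l * a := Nat.mul_le_mul_left _ hU
    have h2 : s * l ≤ (a + 1) * l := Nat.mul_le_mul_right _ (by omega)
    have h3 : 2 * (a * l) ≤ q * (a * l) := Nat.mul_le_mul_right _ hq
    have h4 : l * a = a * l := mul_comm _ _
    rw [hm] at hsum
    have h5 : l * (U + 1) = l * U + l := by ring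
    have h6 : (a + 1) * l = a * l + l := by ring
    have hs0 : s = 0 := by omega
    subst hs0
    have hR0 : Rs = 0 := by rw [hRsdef]; simp
    have hU0 : U = 0 := by rw [hUdef]; simp
    rw [hR0, hU0] at hsum
    have h7 : 0 < a * l := Nat.mul_pos ha hlpos
    omega

end comb

section alg

variable {R A : Type u} [CommRing R] [CommRing A] [Algebra R A] (𝒜 : ℕ → Submodule R A)
  [GradedAlgebra 𝒜] {s : ℕ} (f : Fin s → A) (deg : Fin s → ℕ)

/-- The monomial `∏ f i ^ m i`. -/
def mon (m : Fin s → ℕ) : A := ∏ i, f i ^ m i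

theorem mon_add (m m' : Fin s → ℕ) : mon f (m + m') = mon f m * mon f m' := by
  unfold mon
  rw [← Finset.prod_mul_distrib]
  exact Finset.prod_congr rfl fun i _ => pow_add _ _ _

variable {f deg}

theorem mon_mem (hf : ∀ i, f i ∈ 𝒜 (deg i)) (m : Fin s → ℕ) : mon f m ∈ 𝒜 (wt deg m) := by
  unfold mon wt
  refine SetLike.prod_mem_graded 𝒜 (fun i => m i * deg i) (fun i => f i ^ m i) (fun i _ => ?_)
  have := SetLike.pow_mem_graded (m i) (hf i)
  rwa [smul_eq_mul] at this

/-- A homogeneous element is a linear combination of monomials of the same degree. -/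
theorem mem_span_mon (hf : ∀ i, f i ∈ 𝒜 (deg i)) (hgen : Algebra.adjoin R (Set.range f) = ⊤)
    {D : ℕ} {a : A} (ha : a ∈ 𝒜 D) :
    a ∈ Submodule.span R {y | ∃ m : Fin s → ℕ, wt deg m = D ∧ y = mon f m} := by
  classical
  have h1 : a ∈ Submodule.span R (Submonoid.closure (Set.range f) : Set A) := by
    rw [← Algebra.adjoin_eq_span, hgen]
    trivial
  have key : ∀ y ∈ Submodule.span R (Submonoid.closure (Set.range f) : Set A),
      GradedAlgebra.proj 𝒜 D y ∈
        Submodule.span R {y | ∃ m : Fin s → ℕ, wt deg m = D ∧ y = mon f m} := by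
    intro y hy
    induction hy using Submodule.span_induction with
    | mem y hy =>
      obtain ⟨m, rfl⟩ := Submonoid.exists_of_mem_closure_range f y hy
      have hm : mon f m ∈ 𝒜 (wt deg m) := mon_mem 𝒜 hf m
      rw [GradedAlgebra.proj_apply]
      by_cases hD : wt deg m = D
      · have h2 : (∏ i, f i ^ m i) ∈ 𝒜 D := hD ▸ hm
        rw [DirectSum.decompose_of_mem_same 𝒜 h2]
        exact Submodule.subset_span ⟨m, hD, rfl⟩
      · have h2 : (∏ i, f i ^ m i) ∈ 𝒜 (wt deg m) := hm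
        rw [DirectSum.decompose_of_mem_ne 𝒜 h2 hD]
        exact Submodule.zero_mem _
    | zero => rw [map_zero]; exact Submodule.zero_mem _
    | add y z _ _ hy hz => rw [map_add]; exact Submodule.add_mem _ hy hz
    | smul r y _ hy => rw [map_smul]; exact Submodule.smul_mem _ r hy
  have h2 := key a h1
  rwa [GradedAlgebra.proj_apply, DirectSum.decompose_of_mem_same 𝒜 ha] at h2

end alg

section away

variable {R A : Type u} [CommRing R] [CommRing A] [Algebra R A] (𝒜 : ℕ → Submodule R A)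
  [GradedAlgebra 𝒜] {n : ℕ} {x : A} (hx : x ∈ 𝒜 n)

theorem mk_add (q : ℕ) {a a' : A} (ha : a ∈ 𝒜 (q • n)) (ha' : a' ∈ 𝒜 (q • n)) :
    Away.mk 𝒜 hx q (a + a') (Submodule.add_mem _ ha ha') =
      Away.mk 𝒜 hx q a ha + Away.mk 𝒜 hx q a' ha' := by
  apply HomogeneousLocalization.val_injective
  rw [HomogeneousLocalization.val_add, Away.val_mk, Away.val_mk, Away.val_mk,
    Localization.add_mk_self]

theorem mk_smul (q : ℕ) (r : R) {a : A} (ha : a ∈ 𝒜 (q • n)) :
    Away.mk 𝒜 hx q (r • a) (Submodule.smul_mem _ r ha) =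
      constMapG 𝒜 x r * Away.mk 𝒜 hx q a ha := by
  apply HomogeneousLocalization.val_injective
  rw [HomogeneousLocalization.val_mul, Away.val_mk, Away.val_mk]
  show _ = Localization.mk (algebraMap R A r) 1 * _
  rw [Localization.mk_mul, one_mul, Algebra.smul_def]

theorem mk_mul {q q₁ q₂ : ℕ} (hq : q = q₁ + q₂) {a a' : A} (ha : a ∈ 𝒜 (q₁ • n))
    (ha' : a' ∈ 𝒜 (q₂ • n)) (h : a * a' ∈ 𝒜 (q • n)) :
    Away.mk 𝒜 hx q (a * a') h = Away.mk 𝒜 hx q₁ a ha * Away.mk 𝒜 hx q₂ a' ha' := by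
  subst hq
  apply HomogeneousLocalization.val_injective
  rw [HomogeneousLocalization.val_mul, Away.val_mk, Away.val_mk, Away.val_mk, Localization.mk_mul]
  congr 1
  exact Subtype.ext (pow_add _ _ _)

theorem mk_bump (q : ℕ) {a : A} (ha : a ∈ 𝒜 (q • n)) (h : a * x ∈ 𝒜 ((q + 1) • n)) :
    Away.mk 𝒜 hx q a ha = Away.mk 𝒜 hx (q + 1) (a * x) h := by
  apply HomogeneousLocalization.val_injective
  rw [Away.val_mk, Away.val_mk]
  refine Localization.mk_eq_mk_iff.mpr ?_
  rw [Localization.r_iff_exists]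
  refine ⟨1, ?_⟩
  simp only [OneMemClass.coe_one, one_mul]
  rw [pow_succ]
  ring

variable {s : ℕ} {f : Fin s → A} {deg : Fin s → ℕ}

theorem subring_eq_top (hf : ∀ i, f i ∈ 𝒜 (deg i)) (hgen : Algebra.adjoin R (Set.range f) = ⊤)
    (hdeg : ∀ i, 0 < deg i) (a : ℕ) (ha : 0 < a) (has : s - 1 ≤ a)
    (hn : n = a * Finset.univ.lcm deg) (T : Subring (Away 𝒜 x))
    (hc : ∀ c : R, constMapG 𝒜 x c ∈ T)
    (hT : ∀ (m : Fin s → ℕ) (hm : mon f m ∈ 𝒜 n), wt deg m = n → uFracG 𝒜 hx hm ∈ T) :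
    T = ⊤ := by
  have core : ∀ (q : ℕ) (m : Fin s → ℕ), wt deg m = (q + 1) * n →
      ∀ h : mon f m ∈ 𝒜 ((q + 1) • n), Away.mk 𝒜 hx (q + 1) (mon f m) h ∈ T := by
    intro q
    induction q with
    | zero =>
      intro m hwt h
      have hwt' : wt deg m = n := by simpa using hwt
      have hm' : mon f m ∈ 𝒜 n := hwt' ▸ mon_mem 𝒜 hf m
      exact hT m hm' hwt'
    | succ q ih =>
      intro m hwt h
      have hwt2 : wt deg m = (q + 2) * (a * Finset.univ.lcm deg) := by rw [hwt, hn]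
      obtain ⟨m₁, m', rfl, hm₁⟩ := exists_split deg hdeg a ha has (q + 2) (by omega) m hwt2
      rw [← hn] at hm₁
      have hm' : wt deg m' = (q + 1) * n := by
        rw [wt_add, hm₁] at hwt
        have : (q + 1 + 1) * n = n + (q + 1) * n := by ring
        omega
      have h1 : mon f m₁ ∈ 𝒜 (1 • n) := by
        rw [one_smul, ← hm₁]
        exact mon_mem 𝒜 hf m₁
      have h2 : mon f m' ∈ 𝒜 ((q + 1) • n) := by
        rw [smul_eq_mul, ← hm']
        exact mon_mem 𝒜 hf m'
      have h3 : mon f (m₁ + m') = mon f m₁ * mon f m' := mon_add f m₁ m'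
      have h4 : mon f m₁ * mon f m' ∈ 𝒜 ((q + 1 + 1) • n) := h3 ▸ h
      have h5 : Away.mk 𝒜 hx (q + 1 + 1) (mon f (m₁ + m')) h =
          Away.mk 𝒜 hx (q + 1 + 1) (mon f m₁ * mon f m') h4 := by
        congr 1
      rw [h5, mk_mul 𝒜 hx (show q + 1 + 1 = 1 + (q + 1) by omega) h1 h2 h4]
      refine T.mul_mem ?_ (ih m' hm' h2)
      have hm₁' : mon f m₁ ∈ 𝒜 n := hm₁ ▸ mon_mem 𝒜 hf m₁
      exact hT m₁ hm₁' hm₁
  have key : ∀ (q : ℕ) (y : A),
      y ∈ Submodule.span R {y | ∃ m : Fin s → ℕ, wt deg m = (q + 1) * n ∧ y = mon f m} →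
      ∃ h : y ∈ 𝒜 ((q + 1) • n), Away.mk 𝒜 hx (q + 1) y h ∈ T := by
    intro q y hy
    induction hy using Submodule.span_induction with
    | mem y hy =>
      obtain ⟨m, hm, rfl⟩ := hy
      have h : mon f m ∈ 𝒜 ((q + 1) • n) := by
        rw [smul_eq_mul, ← hm]
        exact mon_mem 𝒜 hf m
      exact ⟨h, core q m hm h⟩
    | zero =>
      refine ⟨Submodule.zero_mem _, ?_⟩
      have : Away.mk 𝒜 hx (q + 1) 0 (Submodule.zero_mem _) = 0 := by
        apply HomogeneousLocalization.val_injective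
        rw [Away.val_mk, HomogeneousLocalization.val_zero]
        exact Localization.mk_zero _
      rw [this]
      exact T.zero_mem
    | add y z _ _ hy hz =>
      obtain ⟨h1, h2⟩ := hy
      obtain ⟨h3, h4⟩ := hz
      refine ⟨Submodule.add_mem _ h1 h3, ?_⟩
      rw [mk_add 𝒜 hx (q + 1) h1 h3]
      exact T.add_mem h2 h4
    | smul r y _ hy =>
      obtain ⟨h1, h2⟩ := hy
      refine ⟨Submodule.smul_mem _ r h1, ?_⟩
      rw [mk_smul 𝒜 hx (q + 1) r h1]
      exact T.mul_mem (hc r) h2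
  rw [eq_top_iff]
  intro z _
  obtain ⟨q, y, hy, rfl⟩ := Away.mk_surjective 𝒜 hx z
  have hyx : y * x ∈ 𝒜 ((q + 1) • n) := by
    have := SetLike.mul_mem_graded hy hx
    rwa [show q • n + n = (q + 1) • n by rw [add_smul, one_smul]] at this
  rw [mk_bump 𝒜 hx q hy hyx]
  have hyx' : y * x ∈ 𝒜 ((q + 1) * n) := by rwa [smul_eq_mul] at hyx
  obtain ⟨h, hT'⟩ := key q (y * x) (mem_span_mon 𝒜 hf hgen hyx')
  exact hT'

theorem uFracG_congr {g h h' : A} (hg : g ∈ 𝒜 n) (e : h = h') (hh : h ∈ 𝒜 n) (hh' : h' ∈ 𝒜 n) :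
    uFracG 𝒜 hg hh = uFracG 𝒜 hg hh' := by
  subst e
  rfl

theorem wt_single (i : Fin s) (c : ℕ) : wt deg (Pi.single i c) = c * deg i := by
  unfold wt
  rw [Finset.sum_eq_single i]
  · rw [Pi.single_eq_same]
  · intro k _ hk
    rw [Pi.single_eq_of_ne hk, zero_mul]
  · intro h
    exact (h (Finset.mem_univ i)).elim

theorem mon_single (i : Fin s) (c : ℕ) : mon f (Pi.single i c) = f i ^ c := by
  unfold mon
  rw [Finset.prod_eq_single i]
  · rw [Pi.single_eq_same]
  · intro k _ hk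
    rw [Pi.single_eq_of_ne hk, pow_zero]
  · intro h
    exact (h (Finset.mem_univ i)).elim

theorem finite_wt_eq (hdeg : ∀ i, 0 < deg i) (D : ℕ) :
    {m : Fin s → ℕ | wt deg m = D}.Finite := by
  refine Set.Finite.subset (Set.Finite.pi' (fun _ : Fin s => Set.finite_Iic D)) ?_
  intro m hm i
  have hm' : wt deg m = D := hm
  have h1 : m i * deg i ≤ wt deg m :=
    Finset.single_le_sum (f := fun i => m i * deg i) (fun _ _ => Nat.zero_le _) (Finset.mem_univ i)
  have h2 : m i ≤ m i * deg i := Nat.le_mul_of_pos_right _ (hdeg i)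
  show m i ≤ D
  omega

theorem adjoin_zero_eq_top (hgen : Algebra.adjoin R (Set.range f) = ⊤) :
    Algebra.adjoin (𝒜 0) (Set.range f) = ⊤ := by
  rw [eq_top_iff]
  intro y _
  have hy : y ∈ Algebra.adjoin R (Set.range f) := by rw [hgen]; trivial
  induction hy using Algebra.adjoin_induction with
  | mem y hy => exact Algebra.subset_adjoin hy
  | algebraMap r =>
    exact Subalgebra.algebraMap_mem _ (algebraMap R (𝒜 0) r)
  | add y z _ _ hy hz => exact add_mem (hy trivial) (hz trivial)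
  | mul y z _ _ hy hz => exact mul_mem (hy trivial) (hz trivial)

end away

end

end Groth.Agent.H18.MonoGen
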