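import Mathlib.RingTheory.UniqueFactorizationDomain.Kaplansky
import Mathlib.GroupTheory.MonoidLocalization.UniqueFactorization
import Mathlib.RingTheory.Polynomial.UniqueFactorization
import Mathlib.RingTheory.Noetherian.UniqueFactorizationDomain
import Mathlib.RingTheory.Localization.Ideal
import Mathlib.RingTheory.Localization.Away.Basic
import Mathlib.Algebra.Polynomial.Laurent
import Groth.Agent.H18.AwayLaurent

set_option autoImplicit false
universe u

namespace Groth.Agent.H18

/-- Nagata's criterion: if `s` is a prime element of a domain `R` in which divisibility is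
well-founded and `R[1/s]` has unique factorization, then so does `R`. -/
theorem ufm_of_ufm_away {R : Type*} [CommRing R] [IsDomain R] [WfDvdMonoid R] (s : R)
    (hp : Prime s) (S : Type*) [CommRing S] [Algebra R S] [IsLocalization.Away s S]
    [UniqueFactorizationMonoid S] : UniqueFactorizationMonoid R := by
  rw [UniqueFactorizationMonoid.iff_exists_prime_mem_of_isPrime]
  intro P hP0 hPprime
  by_cases hsP : s ∈ P
  · exact ⟨s, hsP, hp⟩
  have hM : Submonoid.powers s ≤ nonZeroDivisors R :=
    powers_le_nonZeroDivisors_of_noZeroDivisors hp.ne_zero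
  have hinj : Function.Injective (algebraMap R S) := IsLocalization.injective S hM
  have hdisj : Disjoint (Submonoid.powers s : Set R) (P : Set R) := by
    rw [Set.disjoint_left]
    rintro x ⟨n, rfl⟩ hx
    exact hsP (hPprime.mem_of_pow_mem n hx)
  have hQprime : (P.map (algebraMap R S)).IsPrime :=
    IsLocalization.isPrime_of_isPrime_disjoint (Submonoid.powers s) S P hPprime hdisj
  have hQ0 : P.map (algebraMap R S) ≠ ⊥ := by
    intro h
    apply hP0
    rw [eq_bot_iff]
    intro x hx
    have h1 : algebraMap R S x ∈ P.map (algebraMap R S) := Ideal.mem_map_of_mem _ hx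
    rw [h, Ideal.mem_bot] at h1
    rw [Ideal.mem_bot]
    exact hinj (by rw [h1, map_zero])
  obtain ⟨π, hπQ, hπ⟩ := hQprime.exists_mem_prime_of_ne_bot hQ0
  obtain ⟨⟨a₀, t⟩, hat⟩ := IsLocalization.surj (Submonoid.powers s) π
  have hat' : π * algebraMap R S (t : R) = algebraMap R S a₀ := hat
  have ht_unit : IsUnit (algebraMap R S (t : R)) := IsLocalization.map_units S t
  have ha₀_assoc : Associated π (algebraMap R S a₀) := by
    rw [← hat']
    exact associated_mul_unit_right _ _ ht_unit
  have ha₀_prime : Prime (algebraMap R S a₀) := ha₀_assoc.prime hπ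
  have ha₀_mem_Q : algebraMap R S a₀ ∈ P.map (algebraMap R S) := by
    rw [← hat']
    exact Ideal.mul_mem_right _ _ hπQ
  have ha₀_mem : a₀ ∈ P := by
    have h1 := IsLocalization.under_map_of_isPrime_disjoint (Submonoid.powers s) S hPprime hdisj
    have h2 : a₀ ∈ (Ideal.map (algebraMap R S) P).under R := Ideal.mem_comap.mpr ha₀_mem_Q
    rwa [h1] at h2
  have ha₀_ne : a₀ ≠ 0 := by
    rintro rfl
    exact ha₀_prime.ne_zero (map_zero _)
  obtain ⟨j, a, hsa, rfl⟩ := WfDvdMonoid.max_power_factor ha₀_ne hp.irreducible
  have ha_mem : a ∈ P :=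
    (hPprime.mem_or_mem ha₀_mem).resolve_left (fun h => hsP (hPprime.mem_of_pow_mem j h))
  have hs_unit : IsUnit (algebraMap R S s) := IsLocalization.Away.algebraMap_isUnit s
  have ha_prime_S : Prime (algebraMap R S a) := by
    have h1 : Associated (algebraMap R S (s ^ j * a)) (algebraMap R S a) := by
      rw [map_mul, map_pow]
      exact associated_unit_mul_left _ _ (hs_unit.pow j)
    exact h1.prime ha₀_prime
  refine ⟨a, ha_mem, ?_⟩
  have key : ∀ (m : ℕ) (x c : R), x * s ^ m = a * c → a ∣ x := by
    intro m
    induction m with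
    | zero =>
      intro x c h
      exact ⟨c, by simpa using h⟩
    | succ m ih =>
      intro x c h
      have hsdvd : s ∣ a * c := ⟨x * s ^ m, by rw [← h, pow_succ]; ring⟩
      obtain ⟨c', rfl⟩ := (hp.dvd_or_dvd hsdvd).resolve_left hsa
      apply ih x c'
      apply mul_right_cancel₀ hp.ne_zero
      rw [mul_assoc, ← pow_succ, h]
      ring
  have lift_dvd : ∀ x : R, algebraMap R S a ∣ algebraMap R S x → a ∣ x := by
    intro x h
    obtain ⟨z, hz⟩ := h
    obtain ⟨⟨c, t'⟩, hct⟩ := IsLocalization.surj (Submonoid.powers s) z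
    have hct' : z * algebraMap R S (t' : R) = algebraMap R S c := hct
    obtain ⟨m, hm⟩ := (Submonoid.mem_powers_iff _ _).mp t'.2
    apply key m x c
    apply hinj
    rw [map_mul, map_mul, ← hct', hz, hm]
    ring
  refine ⟨?_, ?_, ?_⟩
  · rintro rfl
    exact ha_prime_S.ne_zero (map_zero _)
  · intro hu
    exact ha_prime_S.not_isUnit (hu.map (algebraMap R S))
  · intro x y hxy
    have hxyS : algebraMap R S a ∣ algebraMap R S x * algebraMap R S y := by
      rw [← map_mul]
      exact map_dvd (algebraMap R S) hxy
    rcases ha_prime_S.dvd_or_dvd hxyS with h | h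
    · exact Or.inl (lift_dvd x h)
    · exact Or.inr (lift_dvd y h)

open HomogeneousLocalization LaurentPolynomial in
/-- Unique factorization lifts from the degree zero part `A_(s)` of `A[1/s]` to `A`, for `s` a prime
element of degree one of a graded domain with well-founded divisibility. -/
theorem ufm_of_ufm_homogeneousAway {A σ : Type u} [CommRing A] [IsDomain A] [WfDvdMonoid A]
    [SetLike σ A] [AddSubgroupClass σ A] (𝒜 : ℕ → σ) [GradedRing 𝒜] {s : A} (hs : s ∈ 𝒜 1)
    (hp : Prime s) (h : UniqueFactorizationMonoid (Away 𝒜 s)) : UniqueFactorizationMonoid A := by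
  have := h
  have h1 : UniqueFactorizationMonoid (Polynomial (Away 𝒜 s)) := inferInstance
  have h2 : UniqueFactorizationMonoid ((Away 𝒜 s)[T;T⁻¹]) :=
    UniqueFactorizationMonoid.of_isLocalization
      (Submonoid.powers (Polynomial.X : Polynomial (Away 𝒜 s))) ((Away 𝒜 s)[T;T⁻¹])
  have h3 : UniqueFactorizationMonoid (Localization.Away s) :=
    (awayLaurentEquiv 𝒜 hs).symm.toRingEquiv.toMulEquiv.uniqueFactorizationMonoid h2
  exact ufm_of_ufm_away s hp (Localization.Away s)

end Groth.Agent.H18
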