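import Groth.Prelude.Def_ProjUP
import Groth.Agent.H18.TwistRestrict

/-!
# `O(n)` is generated by the global sections `b/1`, `b ∈ 𝒜 n`, when these have no common zero
-/

set_option autoImplicit false
universe u

namespace Groth.Agent.H18.TwistGenerated

open CategoryTheory AlgebraicGeometry Opposite TopologicalSpace

/-- Compatibility of germs with scalar multiplication, for `O_X`-modules on a scheme. -/
lemma germ_smul' {X : Scheme.{u}} (M : X.Modules) {U : X.Opens} (x : X) (hx : x ∈ U)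
    (r : Γ(X, U)) (m : Γ(M, U)) :
    M.presheaf.germ U x hx (r • m) = X.presheaf.germ U x hx r • M.presheaf.germ U x hx m :=
  PresheafOfModules.germ_smul (R := X.presheaf)
    (show PresheafOfModules (X.presheaf ⋙ forget₂ CommRingCat RingCat) from M.val) x U hx r m

section
variable {R A : Type u} [CommRing R] [CommRing A] [Algebra R A] (𝒜 : ℕ → Submodule R A)
  [GradedAlgebra 𝒜]

set_option backward.isDefEq.respectTransparency false in
/-- If the elements of `𝒜 n` have no common zero on `Proj`, then `O(n)` is generated by the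
global sections `b/1`, `b ∈ 𝒜 n`. -/
theorem generatedBy_globalOf (n : ℕ)
    (hcov : ∀ x : ProjectiveSpectrum 𝒜, ∃ b ∈ 𝒜 n, b ∉ x.asHomogeneousIdeal) :
    ProjUP.GeneratedBy (Twist.twist 𝒜 (n : ℤ))
      (fun b : 𝒜 n => (Twist.globalOf 𝒜 b : ProjUP.Γm (Twist.twist 𝒜 (n : ℤ)))) := by
  intro x
  obtain ⟨b, hb, hbx⟩ := hcov x
  rw [eq_top_iff]
  intro t _
  obtain ⟨V, hxV, s, rfl⟩ := TopCat.Presheaf.exists_germ_eq (Twist.twist 𝒜 (n : ℤ)).presheaf t
  let W : (Proj 𝒜).Opens := V ⊓ Proj.basicOpen 𝒜 b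
  have hxW : x ∈ W := Opens.mem_inf.mpr ⟨hxV, hbx⟩
  have hWV : W ≤ V := inf_le_left
  let G : Γ(Twist.twist 𝒜 (n : ℤ), ⊤) := Twist.globalOf 𝒜 ⟨b, hb⟩
  have hbij := TwistRestrict.bijective_smul_of_fraction 𝒜
    (W := TwistRestrict.ofProjOpens 𝒜 W) (k := (n : ℤ)) (p := n) (q := 0) (u := b) (v := 1) hb
    SetLike.GradedOne.one_mem (by simp) (fun y => (Opens.mem_inf.mp y.2).2)
    (fun y h => y.1.isPrime.ne_top ((Ideal.eq_top_iff_one _).mpr h))
    ((Twist.twist 𝒜 (n : ℤ)).presheaf.map (homOfLE (le_top : W ≤ ⊤)).op G)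
    (fun y => rfl)
  obtain ⟨r, hr'⟩ : ∃ r : Γ(Proj 𝒜, W), r •
      ((Twist.twist 𝒜 (n : ℤ)).presheaf.map (homOfLE (le_top : W ≤ ⊤)).op G) =
      (Twist.twist 𝒜 (n : ℤ)).presheaf.map (homOfLE hWV).op s :=
    hbij.2 ((Twist.twist 𝒜 (n : ℤ)).presheaf.map (homOfLE hWV).op s)
  have h1 : (Twist.twist 𝒜 (n : ℤ)).presheaf.germ V x hxV s =
      (Twist.twist 𝒜 (n : ℤ)).presheaf.germ W x hxW
        ((Twist.twist 𝒜 (n : ℤ)).presheaf.map (homOfLE hWV).op s) :=
    (TopCat.Presheaf.germ_res_apply _ (homOfLE hWV) x hxW s).symm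
  rw [h1, ← hr', germ_smul', TopCat.Presheaf.germ_res_apply]
  exact Submodule.smul_mem _ _ (Submodule.subset_span ⟨⟨b, hb⟩, rfl⟩)

end
end Groth.Agent.H18.TwistGenerated
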