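import Groth.Agent.H18.ToProjSpace
import Groth.Agent.H18.IsoOfGen
import Groth.Agent.H18.GenLocusGen
import Groth.Agent.H18.TensorPowIso
import Groth.Agent.H18.TwistGenerated
import Groth.Agent.H18.TwistRestrict

/-!
# Data for the universal property of projective space

* For an invertible module `L` with global sections `s i` generating it: the opens `Us i = X_{s i}`,
  the transition functions `as i k` (`s k = as i k • s i` on `Us i`), their cocycle identities and
  the fact that the `Us i` cover.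
* For `O(1)` on `P^n_R`: the coordinate `T_i` generates over `D₊(T_i)` and
  `T_j = (T_j / T_i) • T_i` there.
-/

set_option autoImplicit false
universe u

open CategoryTheory AlgebraicGeometry TopologicalSpace Opposite
open Groth.Agent.H8 (res_res res_smul ringRes_res section_eq_of_cover app_res)
open Groth.Agent.H18.SecTw Groth.Agent.H18.TensorGen

namespace Groth.Agent.H18.ProjUPData

noncomputable section

section LSide

variable {X : Scheme.{u}} (L : X.Modules) {n : ℕ} (s : Fin (n + 1) → Γ(L, ⊤))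

/-- The section `s i` as a morphism `O_X ⟶ L`. -/
def σ (i : Fin (n + 1)) : Coh.structureModule X ⟶ L := TensorPowIso.secHom L (s i)

/-- The open `X_{s i}`. -/
def Us (i : Fin (n + 1)) : X.Opens := CohB1.genLocus L (σ L s i)

theorem sv_σ (k : Fin (n + 1)) (V : X.Opens) :
    sv (σ L s k) V = L.presheaf.map (homOfLE (le_top : V ≤ ⊤)).op (s k) :=
  TensorPowIso.sv_secHom L (s k) V

theorem isGen_sv (i : Fin (n + 1)) : IsGen L (Us L s i) (sv (σ L s i) (Us L s i)) :=
  GenLocusGen.isGen_sv_genLocus _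

theorem exists_coeff (i k : Fin (n + 1)) :
    ∃ a : Γ(X, Us L s i), a • sv (σ L s i) (Us L s i) = sv (σ L s k) (Us L s i) :=
  (isGen_sv L s i).self.2 _

/-- The transition function `s k / s i` on `X_{s i}`. -/
def as (i k : Fin (n + 1)) : Γ(X, Us L s i) := (exists_coeff L s i k).choose

theorem as_spec (i k : Fin (n + 1)) :
    as L s i k • sv (σ L s i) (Us L s i) = sv (σ L s k) (Us L s i) :=
  (exists_coeff L s i k).choose_spec

theorem as_self (i : Fin (n + 1)) : as L s i i = 1 := by
  apply (isGen_sv L s i).self.1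
  show as L s i i • sv (σ L s i) (Us L s i) = (1 : Γ(X, Us L s i)) • sv (σ L s i) (Us L s i)
  rw [as_spec, one_smul]

theorem as_cocycle (i j k : Fin (n + 1)) :
    X.presheaf.map (homOfLE (inf_le_right : Us L s i ⊓ Us L s j ≤ Us L s j)).op (as L s j k) =
      X.presheaf.map (homOfLE (inf_le_right : Us L s i ⊓ Us L s j ≤ Us L s j)).op (as L s j i) *
        X.presheaf.map (homOfLE (inf_le_left : Us L s i ⊓ Us L s j ≤ Us L s i)).op
          (as L s i k) := by
  apply ((isGen_sv L s j) (Us L s i ⊓ Us L s j) inf_le_right).1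
  show X.presheaf.map (homOfLE (inf_le_right : Us L s i ⊓ Us L s j ≤ Us L s j)).op (as L s j k) •
      L.presheaf.map (homOfLE (inf_le_right : Us L s i ⊓ Us L s j ≤ Us L s j)).op
        (sv (σ L s j) (Us L s j)) =
    (X.presheaf.map (homOfLE (inf_le_right : Us L s i ⊓ Us L s j ≤ Us L s j)).op (as L s j i) *
      X.presheaf.map (homOfLE (inf_le_left : Us L s i ⊓ Us L s j ≤ Us L s i)).op (as L s i k)) •
      L.presheaf.map (homOfLE (inf_le_right : Us L s i ⊓ Us L s j ≤ Us L s j)).op
        (sv (σ L s j) (Us L s j))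
  rw [← res_smul, as_spec, sv_res, mul_comm, mul_smul, ← res_smul, as_spec, sv_res]
  have h : sv (σ L s i) (Us L s i ⊓ Us L s j) =
      L.presheaf.map (homOfLE (inf_le_left : Us L s i ⊓ Us L s j ≤ Us L s i)).op
        (sv (σ L s i) (Us L s i)) := (sv_res _ _).symm
  rw [h, ← res_smul, as_spec, sv_res]

theorem as_basicOpen (k i : Fin (n + 1)) : X.basicOpen (as L s k i) = Us L s i ⊓ Us L s k :=
  (genLocus_inf_of_isGen (σ L s i) (isGen_sv L s k) (as L s k i) (as_spec L s k i).symm).symm

/-- A scalar of the stalk killing the germ of a free generator is zero. -/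
theorem stalk_smul_eq_zero {V : X.Opens} (l : Γ(L, V)) (hl : IsGen L V l) (x : X) (hxV : x ∈ V)
    (w : X.presheaf.stalk x) (hw : w • L.presheaf.germ V x hxV l = 0) : w = 0 := by
  obtain ⟨V₁, hxV₁, w', rfl⟩ := TopCat.Presheaf.exists_germ_eq X.presheaf w
  have hxW : x ∈ V₁ ⊓ V := ⟨hxV₁, hxV⟩
  have e1 : X.presheaf.germ V₁ x hxV₁ w' = X.presheaf.germ (V₁ ⊓ V) x hxW
      (X.presheaf.map (homOfLE (inf_le_left : V₁ ⊓ V ≤ V₁)).op w') :=
    (TopCat.Presheaf.germ_res_apply X.presheaf (homOfLE inf_le_left) x hxW w').symm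
  have e2 : L.presheaf.germ V x hxV l = L.presheaf.germ (V₁ ⊓ V) x hxW
      (L.presheaf.map (homOfLE (inf_le_right : V₁ ⊓ V ≤ V)).op l) :=
    (TopCat.Presheaf.germ_res_apply L.presheaf (homOfLE inf_le_right) x hxW l).symm
  rw [e1, e2, ← TwistGenerated.germ_smul'] at hw
  have hw0 : L.presheaf.germ (V₁ ⊓ V) x hxW
      (X.presheaf.map (homOfLE (inf_le_left : V₁ ⊓ V ≤ V₁)).op w' •
        L.presheaf.map (homOfLE (inf_le_right : V₁ ⊓ V ≤ V)).op l) =
      L.presheaf.germ (V₁ ⊓ V) x hxW 0 := by
    rw [hw, map_zero]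
  obtain ⟨W', hxW', iU, iV, hzero⟩ := TopCat.Presheaf.germ_eq L.presheaf x hxW hxW _ _ hw0
  have hiU : iU = homOfLE (leOfHom iU) := Subsingleton.elim _ _
  rw [hiU, map_zero, res_smul, res_res] at hzero
  have h0 : X.presheaf.map (homOfLE (leOfHom iU)).op
      (X.presheaf.map (homOfLE (inf_le_left : V₁ ⊓ V ≤ V₁)).op w') = 0 := by
    apply (hl W' ((leOfHom iU).trans inf_le_right)).1
    show _ • L.presheaf.map (homOfLE ((leOfHom iU).trans inf_le_right)).op l =
      (0 : Γ(X, W')) • L.presheaf.map (homOfLE ((leOfHom iU).trans inf_le_right)).op l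
    rw [zero_smul]
    exact hzero
  rw [e1, ← TopCat.Presheaf.germ_res_apply X.presheaf (homOfLE (leOfHom iU)) x hxW', h0, map_zero]

/-- If the germs of the `s i` span the stalks of the invertible module `L`, the opens `X_{s i}`
cover `X`. -/
theorem cover_of_generatedBy (hL : PicF.IsInvertible L) (hs : ProjUP.GeneratedBy L s) (x : X) :
    ∃ i, x ∈ Us L s i := by
  obtain ⟨V, l, hxV, hl⟩ := exists_isGen hL x
  have hc : ∀ i, ∃ c : Γ(X, V), c • l = sv (σ L s i) V := fun i => hl.self.2 _
  choose c hc using hc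
  have hgerm : ∀ i, (L.presheaf.germ ⊤ x trivial).hom (s i) =
      X.presheaf.germ V x hxV (c i) • L.presheaf.germ V x hxV l := by
    intro i
    rw [← TwistGenerated.germ_smul', hc i, sv_σ]
    exact (TopCat.Presheaf.germ_res_apply L.presheaf (homOfLE le_top) x hxV (s i)).symm
  have hmem : L.presheaf.germ V x hxV l ∈ Submodule.span (X.presheaf.stalk x)
      (Set.range fun i => (L.presheaf.germ ⊤ x trivial).hom (s i)) := by
    rw [hs x]
    trivial
  obtain ⟨t, ht⟩ := (Submodule.mem_span_range_iff_exists_fun _).mp hmem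
  have h1 : (1 - ∑ i, t i * X.presheaf.germ V x hxV (c i)) • L.presheaf.germ V x hxV l = 0 := by
    rw [sub_smul, one_smul, Finset.sum_smul, sub_eq_zero]
    conv_lhs => rw [← ht]
    refine Finset.sum_congr rfl fun i _ => ?_
    rw [hgerm i, mul_smul]
  have h2 := stalk_smul_eq_zero L l hl x hxV _ h1
  rw [sub_eq_zero] at h2
  have h3 : ∃ i, IsUnit (X.presheaf.germ V x hxV (c i)) := by
    by_contra hcon
    push Not at hcon
    have hmem : ∑ i, t i * X.presheaf.germ V x hxV (c i) ∈
        IsLocalRing.maximalIdeal (X.presheaf.stalk x) := by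
      refine Ideal.sum_mem _ fun i _ => ?_
      exact Ideal.mul_mem_left _ _ ((IsLocalRing.mem_maximalIdeal _).mpr (hcon i))
    rw [← h2] at hmem
    exact (IsLocalRing.maximalIdeal.isMaximal _).ne_top ((Ideal.eq_top_iff_one _).mpr hmem)
  obtain ⟨i, hi⟩ := h3
  refine ⟨i, ?_⟩
  have hb : x ∈ X.basicOpen (c i) := (Scheme.mem_basicOpen X (c i) x hxV).mpr hi
  exact (mem_genLocus_iff_of_isGen (σ L s i) hl (c i) (hc i).symm x hxV).mpr hb

end LSide

section NSide

variable (n : ℕ) (R : Type u) [CommRing R]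

open Groth.Agent.H18.ProjSpaceGlobal Groth.Agent.H18.ToProjSpace

/-- `O(1)` on `P^n_R`. -/
abbrev N1 : (Proj (CohB1.polyGrading n R)).Modules := Twist.twist (CohB1.polyGrading n R) 1

/-- The chart `D₊(T_i)`. -/
abbrev Dp (i : Fin (n + 1)) : (Proj (CohB1.polyGrading n R)).Opens :=
  Proj.basicOpen (CohB1.polyGrading n R) (MvPolynomial.X i : MvPolynomial (Fin (n + 1)) R)

/-- The coordinate `T_i` as a global section of `O(1)`. -/
def tN (i : Fin (n + 1)) : Γ(N1 n R, ⊤) := ProjUP.coord n R i

/-- The coordinate `T_i` restricted to `D₊(T_i)`. -/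
def αN (i : Fin (n + 1)) : Γ(N1 n R, Dp n R i) :=
  (N1 n R).presheaf.map (homOfLE (le_top : Dp n R i ≤ ⊤)).op (tN n R i)

theorem Dp_cover (p : Proj (CohB1.polyGrading n R)) : ∃ i, p ∈ Dp n R i := by
  have h := Proj.iSup_basicOpen_eq_top (CohB1.polyGrading n R)
    (MvPolynomial.X : Fin (n + 1) → MvPolynomial (Fin (n + 1)) R) (irrelevant_le_span n R)
  have hp : p ∈ ⨆ i, Dp n R i := by rw [h]; trivial
  exact Opens.mem_iSup.mp hp

set_option backward.isDefEq.respectTransparency false in
theorem isGen_αN (i : Fin (n + 1)) : IsGen (N1 n R) (Dp n R i) (αN n R i) := by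
  intro V' h
  exact TwistRestrict.bijective_smul_of_fraction (CohB1.polyGrading n R)
    (W := TwistRestrict.ofProjOpens (CohB1.polyGrading n R) V') (k := 1) (p := 1) (q := 0)
    (u := MvPolynomial.X i) (v := 1) (Xmem n R i) SetLike.GradedOne.one_mem (by norm_num)
    (fun y => (ProjectiveSpectrum.mem_basicOpen (CohB1.polyGrading n R) _ _).mp (h y.2))
    (fun y hy => y.1.isPrime.ne_top ((Ideal.eq_top_iff_one _).mpr hy))
    ((N1 n R).presheaf.map (homOfLE h).op (αN n R i)) (fun y => rfl)

set_option backward.isDefEq.respectTransparency false in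
theorem isInvertible_N1 : PicF.IsInvertible (N1 n R) := by
  have h := TwistRestrict.isInvertible_twist_of_cover (CohB1.polyGrading n R) 1 1 (fun y => by
    obtain ⟨i, hi⟩ := Dp_cover n R y
    exact ⟨MvPolynomial.X i, Xmem n R i,
      (ProjectiveSpectrum.mem_basicOpen (CohB1.polyGrading n R) _ _).mp hi⟩)
  simpa using h

end NSide

end

end Groth.Agent.H18.ProjUPData
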