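import Groth.Agent.H18.ProjUPData
import Groth.Agent.H22.PullGen
import Groth.Agent.H8.QCohPush

/-!
# Existence part of the universal property of projective space (EGA II 4.2.3, free case)

`exists_to_projSpace`: for a scheme `X` over `R`, an invertible module `L` and global sections
`s 0, …, s n` generating `L`, there is an `R`-morphism `r : X ⟶ P^n_R` and an isomorphism
`r^* O(1) ≅ L` mapping `r^* T_i` to `s i`.
-/

set_option autoImplicit false
universe u

open CategoryTheory AlgebraicGeometry TopologicalSpace Opposite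
open Groth.Agent.H8 (res_res res_smul ringRes_res section_eq_of_cover app_res)
open Groth.Agent.H18.SecTw Groth.Agent.H18.TensorGen
open Groth.Agent.H18.ProjSpaceGlobal Groth.Agent.H18.ToProjSpace Groth.Agent.H18.ProjUPData

namespace Groth.Agent.H18.ProjUPExist

variable (n : ℕ) (R : Type u) [CommRing R]

set_option backward.isDefEq.respectTransparency false in
theorem uSec_val (i j : Fin (n + 1)) (y : Dp n R i) :
    (((uSec n R i j).1 y : Twist.A0 (CohB1.polyGrading n R) y.1)).val =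
      Localization.mk (MvPolynomial.X j)
        ⟨MvPolynomial.X i, (ProjectiveSpectrum.mem_basicOpen (CohB1.polyGrading n R) _ _).mp y.2⟩ := by
  have h := ProjectiveSpectrum.Proj.awayToSection_apply (CohB1.polyGrading n R)
    (MvPolynomial.X i) (uFrac n R i j) y
  refine h.trans ?_
  unfold uFrac
  rw [HomogeneousLocalization.Away.val_mk, Localization.mk_eq_mk', IsLocalization.map_mk',
    ← Localization.mk_eq_mk']
  refine Localization.mk_eq_mk_iff.mpr ?_
  rw [Localization.r_iff_exists]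
  exact ⟨1, by simp⟩

set_option backward.isDefEq.respectTransparency false in
theorem coord_res (i j : Fin (n + 1)) :
    (N1 n R).presheaf.map (homOfLE (le_top : Dp n R i ≤ ⊤)).op (tN n R j) =
      uSec n R i j • αN n R i := by
  apply Subtype.ext
  funext y
  apply Subtype.ext
  have h1 := Twist.coe_smul_val (𝒜 := CohB1.polyGrading n R) 1 y.1 ((uSec n R i j).1 y)
    ((αN n R i).1 y)
  refine Eq.trans ?_ h1.symm
  rw [uSec_val]
  show Localization.mk (MvPolynomial.X j) ⟨1, _⟩ = _ * Localization.mk (MvPolynomial.X i) ⟨1, _⟩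
  rw [Localization.mk_mul]
  refine Localization.mk_eq_mk_iff.mpr ?_
  rw [Localization.r_iff_exists]
  exact ⟨1, by simp; ring⟩


open Groth.Agent.H18.HomOfGens Groth.Agent.H18.IsoOfGen

section Main

variable {n R}
variable {X : Scheme.{u}} (L : X.Modules) (s : Fin (n + 1) → Γ(L, ⊤))
  (r : X ⟶ Proj (CohB1.polyGrading n R))
  (hpre : ∀ i, r ⁻¹ᵁ Dp n R i = Us L s i)
  (hP4 : ∀ i j, (r.appLE (Dp n R i) (Us L s i) (hpre i).ge).hom (uSec n R i j) = as L s i j)

include hP4 in
/-- The key relation: `s j = r^♯(T_j / T_i) • s i` over `r⁻¹ V`, `V ⊆ D₊(T_i)`. -/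
theorem key_rel (i j : Fin (n + 1)) (V : (Proj (CohB1.polyGrading n R)).Opens)
    (hV : V ≤ Dp n R i) :
    L.presheaf.map (homOfLE (le_top : r ⁻¹ᵁ V ≤ ⊤)).op (s j) =
      (r.app V).hom ((Proj (CohB1.polyGrading n R)).presheaf.map (homOfLE hV).op (uSec n R i j)) •
        L.presheaf.map (homOfLE (le_top : r ⁻¹ᵁ V ≤ ⊤)).op (s i) := by
  have hle : r ⁻¹ᵁ V ≤ Us L s i := by
    rw [← hpre i]
    exact (Opens.map r.base).monotone hV
  have e1 := Scheme.Hom.appLE_map r (hpre i).ge (homOfLE hle).op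
  have e2 := Scheme.Hom.map_appLE r (le_refl (r ⁻¹ᵁ V)) (homOfLE hV).op
  have e3 : r.appLE V (r ⁻¹ᵁ V) le_rfl = r.app V := Scheme.Hom.appLE_eq_app r
  have e4 : r.appLE (Dp n R i) (Us L s i) (hpre i).ge ≫ X.presheaf.map (homOfLE hle).op =
      (Proj (CohB1.polyGrading n R)).presheaf.map (homOfLE hV).op ≫ r.app V := by
    rw [e1, ← e3, e2]
  have e5 : X.presheaf.map (homOfLE hle).op (as L s i j) =
      (r.app V).hom ((Proj (CohB1.polyGrading n R)).presheaf.map (homOfLE hV).op
        (uSec n R i j)) := by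
    rw [← hP4 i j]
    exact congrArg (fun f => f.hom (uSec n R i j)) e4
  rw [← e5, ← sv_σ L s j, ← sv_σ L s i, ← sv_res (σ L s j) hle, ← sv_res (σ L s i) hle,
    ← as_spec L s i j, res_smul]


include hpre hP4 in
theorem exists_psi :
    ∃ ψ : N1 n R ⟶ (Scheme.Modules.pushforward r).obj L,
      ∀ i, ψ.app (Dp n R i) (αN n R i) =
        (show Γ((Scheme.Modules.pushforward r).obj L, Dp n R i) from
          L.presheaf.map (homOfLE (le_top : r ⁻¹ᵁ Dp n R i ≤ ⊤)).op (s i)) := by
  refine exists_hom_of_gens (X := Proj (CohB1.polyGrading n R)) (A := N1 n R)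
    (C := (Scheme.Modules.pushforward r).obj L) (D := Dp n R) (α := αN n R)
    (γ := fun i => (show Γ((Scheme.Modules.pushforward r).obj L, Dp n R i) from
      L.presheaf.map (homOfLE (le_top : r ⁻¹ᵁ Dp n R i ≤ ⊤)).op (s i)))
    (Dp_cover n R) (isGen_αN n R) ?_
  refine coh_of_transition (isGen_αN n R)
    (fun i j => (Proj (CohB1.polyGrading n R)).presheaf.map
      (homOfLE (inf_le_left : Dp n R i ⊓ Dp n R j ≤ Dp n R i)).op (uSec n R i j)) ?_ ?_
  · intro i j
    have h1 : (N1 n R).presheaf.map (homOfLE (inf_le_right : Dp n R i ⊓ Dp n R j ≤ Dp n R j)).op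
        (αN n R j) = (N1 n R).presheaf.map
          (homOfLE (inf_le_left : Dp n R i ⊓ Dp n R j ≤ Dp n R i)).op
          ((N1 n R).presheaf.map (homOfLE (le_top : Dp n R i ≤ ⊤)).op (tN n R j)) := by
      unfold αN
      rw [res_res, res_res]
    rw [h1, coord_res, res_smul]
  · intro i j
    show L.presheaf.map (homOfLE ((Opens.map r.base).monotone
        (inf_le_right : Dp n R i ⊓ Dp n R j ≤ Dp n R j))).op
        (L.presheaf.map (homOfLE (le_top : r ⁻¹ᵁ Dp n R j ≤ ⊤)).op (s j)) =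
      (r.app (Dp n R i ⊓ Dp n R j)).hom ((Proj (CohB1.polyGrading n R)).presheaf.map
        (homOfLE (inf_le_left : Dp n R i ⊓ Dp n R j ≤ Dp n R i)).op (uSec n R i j)) •
      L.presheaf.map (homOfLE ((Opens.map r.base).monotone
        (inf_le_left : Dp n R i ⊓ Dp n R j ≤ Dp n R i))).op
        (L.presheaf.map (homOfLE (le_top : r ⁻¹ᵁ Dp n R i ≤ ⊤)).op (s i))
    rw [res_res, res_res]
    exact key_rel L s r hpre hP4 i j _ inf_le_left

include hpre hP4 in
theorem exists_tau :
    ∃ τ₀ : (Scheme.Modules.pullback r).obj (N1 n R) ⟶ L,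
      ∀ i, τ₀.app ⊤ (ProjUP.pullSec r (N1 n R) (tN n R i)) = s i := by
  obtain ⟨ψ, hψ⟩ := exists_psi L s r hpre hP4
  refine ⟨((Scheme.Modules.pullbackPushforwardAdjunction r).homEquiv (N1 n R) L).symm ψ,
    fun i => ?_⟩
  have e1 : ψ = (Scheme.Modules.pullbackPushforwardAdjunction r).unit.app (N1 n R) ≫
      (Scheme.Modules.pushforward r).map
        (((Scheme.Modules.pullbackPushforwardAdjunction r).homEquiv (N1 n R) L).symm ψ) := by
    have h := Adjunction.homEquiv_apply (Scheme.Modules.pullbackPushforwardAdjunction r) (N1 n R) L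
      (((Scheme.Modules.pullbackPushforwardAdjunction r).homEquiv (N1 n R) L).symm ψ)
    rw [Equiv.apply_symm_apply] at h
    exact h
  have e2 : (((Scheme.Modules.pullbackPushforwardAdjunction r).homEquiv (N1 n R) L).symm ψ).app ⊤
      (ProjUP.pullSec r (N1 n R) (tN n R i)) = ψ.app ⊤ (tN n R i) := by
    conv_rhs => rw [e1]
    rfl
  rw [e2]
  refine section_eq_of_cover L _ _ (fun x _ => ?_)
  obtain ⟨j, hj⟩ := Dp_cover n R (r x)
  refine ⟨r ⁻¹ᵁ Dp n R j, le_top, hj, ?_⟩
  have h1 := app_res ψ (le_top : Dp n R j ≤ ⊤) (tN n R i)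
  rw [coord_res, Scheme.Modules.Hom.app_smul, hψ j] at h1
  have h2 := key_rel L s r hpre hP4 j i (Dp n R j) le_rfl
  have h3 : (Proj (CohB1.polyGrading n R)).presheaf.map (homOfLE (le_refl (Dp n R j))).op
      (uSec n R j i) = uSec n R j i := by
    have h : (homOfLE (le_refl (Dp n R j))).op = 𝟙 (op (Dp n R j)) := rfl
    rw [h, CategoryTheory.Functor.map_id]
    rfl
  rw [h3] at h2
  exact h1.symm.trans h2.symm

end Main

theorem exists_to_projSpace {R : Type u} [CommRing R] (n : ℕ) {X : Scheme.{u}}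
    (q : X ⟶ Spec (CommRingCat.of R)) (L : X.Modules) (hL : PicF.IsInvertible L)
    (s : Fin (n + 1) → Γ(L, ⊤)) (hs : ProjUP.GeneratedBy L s) :
    ∃ (r : X ⟶ Proj (CohB1.polyGrading n R))
      (_ : r ≫ (Proj.toSpecZero (CohB1.polyGrading n R) ≫
        Spec.map (CommRingCat.ofHom (algebraMap R (CohB1.polyGrading n R 0)))) = q)
      (τ : (Scheme.Modules.pullback r).obj (N1 n R) ≅ L),
      ∀ i, τ.hom.app ⊤ (ProjUP.pullSec r (N1 n R) (tN n R i)) = s i := by
  have hcov := cover_of_generatedBy L s hL hs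
  obtain ⟨r, hr⟩ := exists_glue n R (ProjUP.toGlobal q) (Us L s) (as L s) hcov (as_self L s)
    (as_cocycle L s)
  have hq := glue_toSpec n R (ProjUP.toGlobal q) (Us L s) (as L s) (as_self L s) r hr q rfl hcov
  have hpre := glue_preimage_basicOpen n R (ProjUP.toGlobal q) (Us L s) (as L s) (as_self L s) r hr
    hcov (as_basicOpen L s)
  have hP4 : ∀ i j, (r.appLE (Dp n R i) (Us L s i) (hpre i).ge).hom (uSec n R i j) =
      as L s i j := fun i j =>
    glue_appLE_apply n R (ProjUP.toGlobal q) (Us L s) (as L s) (as_self L s) r hr i j (hpre i).ge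
  obtain ⟨τ₀, hτ⟩ := exists_tau L s r hpre hP4
  have hiso : IsIso τ₀ := by
    refine isIso_of_isGen_image
      (Groth.Agent.H22.PullGen.isInvertible_pullback r (isInvertible_N1 n R)) τ₀ (fun x => ?_)
    obtain ⟨i, hi⟩ := hcov x
    refine ⟨Us L s i, ((Scheme.Modules.pullback r).obj (N1 n R)).presheaf.map
      (homOfLE (le_top : Us L s i ≤ ⊤)).op (ProjUP.pullSec r (N1 n R) (tN n R i)), hi, ?_⟩
    rw [app_res, hτ i, ← sv_σ]
    exact isGen_sv L s i
  exact ⟨r, hq, @asIso _ _ _ _ τ₀ hiso, hτ⟩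

end Groth.Agent.H18.ProjUPExist
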