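import Mathlib
import Groth.Agent.H22.ResPropFamily
import Groth.Prelude.Def_KSix

/-!
# Quotients of finite sums of negative powers of members of an ample family
(variant of helper22's `ResPropFamily` keeping track of the exponents)
-/

set_option autoImplicit false
set_option linter.style.haveILetI false
universe u
open CategoryTheory CategoryTheory.Limits AlgebraicGeometry TopologicalSpace Opposite

namespace Groth.Agent.H18.NegPowerResolution

open Groth.Agent.H8 (res_res res_smul ringRes_res section_eq_of_cover app_res)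
open Groth.Agent.H18.SecTw Groth.Agent.H18.TensorGen Groth.Agent.H18.TensorSec
open Groth.Agent.H18.SecTwGe Groth.Agent.H18.AmpleBasis Groth.Agent.H18.GenLocusGen
open Groth.Agent.H22.ResProp Groth.Agent.H22.VeryAmpleIso
open Groth.Agent.H18.TensorPowIso

variable {X : Scheme.{u}}

/-- Local form: around each point of an affine `X_s` (`s` a section of `Λ₀^{⊗(n+1)}`) there are
finitely many morphisms from negative powers of `Λ₀` to `M` whose images generate `M` near the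
point. -/
theorem exists_local_resolution [CompactSpace X] [QuasiSeparatedSpace X] {Λ₀ : X.Modules}
    (hΛ₀ : PicF.IsInvertible Λ₀) (n : ℕ) (s : Coh.structureModule X ⟶ CohB1.tensorPow Λ₀ (n + 1))
    (haff : IsAffineOpen (CohB1.genLocus _ s)) (M : X.Modules)
    [M.IsQuasicoherent] [SheafOfModules.IsFiniteType (R := X.ringCatSheaf) M] :
    ∃ (r : ℕ) (A : Fin r → X.Modules) (φ : ∀ k, A k ⟶ M),
      (∀ k, ∃ c : ℕ, 0 < c ∧
        Nonempty (CohB1.tensorMod (A k) (CohB1.tensorPow Λ₀ c) ≅ Coh.structureModule X)) ∧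
      ∀ (W : X.Opens) (t : Γ(M, W)) (y : X), y ∈ W → y ∈ CohB1.genLocus _ s →
        ∃ (W' : X.Opens) (hW' : W' ≤ W), y ∈ W' ∧ ∃ (s : ∀ k, Γ(A k, W')),
          M.presheaf.map (homOfLE hW').op t = ∑ k, (φ k).app W' (s k) := by
  classical
  obtain ⟨r, m, hm⟩ := exists_local_generators M haff
  have hΛ := isInvertible_tensorPow hΛ₀ (n + 1)
  have hk : ∀ k : Fin r, ∃ (A : X.Modules) (φ : A ⟶ M), (∃ c : ℕ, 0 < c ∧
        Nonempty (CohB1.tensorMod A (CohB1.tensorPow Λ₀ c) ≅ Coh.structureModule X)) ∧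
      ∀ y ∈ CohB1.genLocus _ s, ∃ (V : X.Opens) (hV : V ≤ CohB1.genLocus _ s) (α : Γ(A, V)),
        y ∈ V ∧ φ.app V α = M.presheaf.map (homOfLE hV).op (m k) := by
    intro k
    obtain ⟨N, hN⟩ := exists_twist_extends_ge hΛ s M (m k)
    obtain ⟨t', ht'⟩ := hN (N + 1) (Nat.le_succ N)
    have hB := isInvertible_tensorPow hΛ (N + 1)
    obtain ⟨e⟩ := Groth.Agent.H95.DualInv.nonempty_dual_tensor_iso hB
    have hA := Groth.Agent.H95.DualInv.isInvertible_dual hB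
    obtain ⟨φ, hφ⟩ := exists_hom_of_section hA hB e t'
    refine ⟨_, φ, ⟨(n + 1) * (N + 1), Nat.mul_pos (Nat.succ_pos _) (Nat.succ_pos _), ?_⟩,
      fun y hy => ?_⟩
    · obtain ⟨e1⟩ := nonempty_tensorPow_tensorPow hΛ₀ (n + 1) (N + 1)
      obtain ⟨e2⟩ := TensorModIso.nonempty_tensorMod_congr
        (Iso.refl (RefHull.dual (CohB1.tensorPow (CohB1.tensorPow Λ₀ (n + 1)) (N + 1)))) e1.symm
      exact ⟨e2 ≪≫ e⟩
    have hβ : IsGen _ (CohB1.genLocus _ s) (lp (sv s (CohB1.genLocus _ s)) (N + 1)) :=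
      isGen_lp (isGen_sv_genLocus s) (N + 1)
    obtain ⟨V, hV, α, hyV, hα, hn⟩ := exists_normalized_gen hA e hβ y hy
    refine ⟨V, hV, α, hyV, ?_⟩
    have h1 := hφ V α _ hα (hβ.res hV) hn
    have h2 : (CohB1.tensorMod M (CohB1.tensorPow (CohB1.tensorPow Λ₀ (n + 1)) (N + 1))).presheaf.map
        (homOfLE (le_top : V ≤ ⊤)).op t' =
        tm M _ (M.presheaf.map (homOfLE hV).op (m k))
          ((CohB1.tensorPow (CohB1.tensorPow Λ₀ (n + 1)) (N + 1)).presheaf.map (homOfLE hV).op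
            (lp (sv s (CohB1.genLocus _ s)) (N + 1))) := by
      rw [← tm_res, ← ht', res_res]
    exact injective_tm (hβ.res hV) (h1.trans h2)
  choose A φ hA hφ using hk
  refine ⟨r, A, φ, hA, fun W t y hyW hyU => ?_⟩
  choose V hV α hyV hα using fun k => hφ k y hyU
  obtain ⟨W₀, hW₀⟩ : ∃ W₀ : X.Opens, W₀ = W ⊓ Finset.univ.inf V := ⟨_, rfl⟩
  have hW₀W : W₀ ≤ W := hW₀ ▸ inf_le_left
  have hW₀V : ∀ k, W₀ ≤ V k := fun k => hW₀ ▸ inf_le_right.trans (Finset.inf_le (Finset.mem_univ k))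
  have hyW₀ : y ∈ W₀ := by
    rw [hW₀]
    have : ∀ S : Finset (Fin r), y ∈ S.inf V := by
      intro S
      induction S using Finset.induction_on with
      | empty => rw [Finset.inf_empty]; trivial
      | insert a S ha ih => rw [Finset.inf_insert]; exact ⟨hyV a, ih⟩
    exact ⟨hyW, this _⟩
  obtain ⟨a, haW₀, hya⟩ := haff.exists_basicOpen_le ⟨y, hyW₀⟩ hyU
  obtain ⟨c, hc⟩ := hm a (M.presheaf.map (homOfLE (haW₀.trans hW₀W)).op t)
  refine ⟨X.basicOpen a, haW₀.trans hW₀W, hya,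
    fun k => c k • (A k).presheaf.map (homOfLE (haW₀.trans (hW₀V k))).op (α k), ?_⟩
  rw [hc]
  refine Finset.sum_congr rfl (fun k _ => ?_)
  rw [Scheme.Modules.Hom.app_smul, app_res, hα k, res_res]

/-- Global form for an ample family. -/
theorem exists_epi_biproduct {ι : Type u} (L : ι → X.Modules) (hL : KSix.IsAmpleFamily L)
    (M : X.Modules) (hMq : Coh.IsQCoh M) (hMft : CohB1.IsFT M) :
    ∃ (R : ℕ) (N : Fin R → X.Modules) (π : (⨁ N) ⟶ M), (∀ j, KSix.IsNegPower L (N j)) ∧ Epi π := by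
  classical
  obtain ⟨hc, hqs, hinv, hpts⟩ := hL
  haveI := hc
  haveI := hqs
  haveI : M.IsQuasicoherent := hMq
  haveI : SheafOfModules.IsFiniteType (R := X.ringCatSheaf) M := hMft
  choose i n s hxs haff using hpts
  choose r A φ hA hloc using fun x =>
    exists_local_resolution (hinv (i x)) (n x) (s x) (haff x) M
  obtain ⟨F, hF⟩ := CompactSpace.elim_nhds_subcover (fun x => (CohB1.genLocus _ (s x) : Set X))
    (fun x => (CohB1.genLocus _ (s x)).isOpen.mem_nhds (hxs x))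
  obtain ⟨R, ⟨ε⟩⟩ : ∃ R : ℕ, Nonempty (Fin R ≃ (Σ i : ↥F, Fin (r i.1))) :=
    ⟨_, ⟨(Fintype.equivFin _).symm⟩⟩
  obtain ⟨f', hf'⟩ : ∃ f' : Fin R → X.Modules, f' = fun j => A (ε j).1.1 (ε j).2 := ⟨_, rfl⟩
  obtain ⟨ψ, hψ⟩ : ∃ ψ : ∀ j : Fin R, f' j ⟶ M,
      ∀ (p : (Σ i : ↥F, Fin (r i.1))) (j : Fin R), ε j = p → ∀ (W' : X.Opens)
        (σ : Γ(A p.1.1 p.2, W')), ∃ σ' : Γ(f' j, W'),
          (ψ j).app W' σ' = (φ p.1.1 p.2).app W' σ := by
    subst hf'
    refine ⟨fun j => φ (ε j).1.1 (ε j).2, ?_⟩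
    intro p j h W' σ
    subst h
    exact ⟨σ, rfl⟩
  have hepi : Epi (biproduct.desc ψ) := by
    apply Groth.Agent.S4407.epi_of_locally
    intro W t y hyW
    obtain ⟨x₀, hi, hyi⟩ : ∃ x₀ ∈ F, y ∈ CohB1.genLocus _ (s x₀) := by
      have : y ∈ ⋃ x ∈ F, (CohB1.genLocus _ (s x) : Set X) := by rw [hF]; trivial
      obtain ⟨x, hx, hy⟩ := Set.mem_iUnion₂.mp this
      exact ⟨x, hx, hy⟩
    obtain ⟨W', hW', hyW', s', hs⟩ := hloc x₀ W t y hyW hyi
    choose σ' hσ' using fun k : Fin (r x₀) =>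
      hψ ⟨⟨x₀, hi⟩, k⟩ (ε.symm ⟨⟨x₀, hi⟩, k⟩) (ε.apply_symm_apply _) W' (s' k)
    refine ⟨W', hW', hyW', ∑ k : Fin (r x₀),
      (biproduct.ι f' (ε.symm ⟨⟨x₀, hi⟩, k⟩)).app W' (σ' k), ?_⟩
    rw [hs, map_sum]
    refine Finset.sum_congr rfl (fun k _ => ?_)
    have h1 : biproduct.ι f' (ε.symm ⟨⟨x₀, hi⟩, k⟩) ≫ biproduct.desc ψ =
        ψ (ε.symm ⟨⟨x₀, hi⟩, k⟩) := biproduct.ι_desc _ _
    rw [← hσ' k, ← h1]
    rfl
  refine ⟨R, f', biproduct.desc ψ, fun j => ?_, hepi⟩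
  subst hf'
  obtain ⟨c, hc0, hc⟩ := hA (ε j).1.1 (ε j).2
  exact ⟨i (ε j).1.1, c, hc0, hc⟩

end Groth.Agent.H18.NegPowerResolution
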