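import Groth.Prelude.Def_PCone
import Groth.Agent.H18.ProjBasic
import Mathlib.AlgebraicGeometry.Morphisms.Affine

set_option autoImplicit false
universe u

namespace Groth.Agent.H18

open AlgebraicGeometry CategoryTheory HomogeneousLocalization TopologicalSpace

section
variable {R A B : Type u} [CommRing R] [CommRing A] [Algebra R A] {𝒜 : ℕ → Submodule R A} [GradedAlgebra 𝒜]
  [CommRing B] [Algebra R B] {ℬ : ℕ → Submodule R B} [GradedAlgebra ℬ] (φ : 𝒜 →+*ᵍ ℬ)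

theorem chart_ι {d : ℕ} {f : A} (hf : f ∈ 𝒜 d) (hd : 0 < d) :
    PCone.chart φ hf hd ≫ (PCone.dom φ).ι = Proj.awayι ℬ (φ f) (φ.2 hf) hd :=
  IsOpenImmersion.lift_fac _ _ _

instance chart_isOpenImmersion {d : ℕ} {f : A} (hf : f ∈ 𝒜 d) (hd : 0 < d) :
    IsOpenImmersion (PCone.chart φ hf hd) := by
  have : IsOpenImmersion (PCone.chart φ hf hd ≫ (PCone.dom φ).ι) := by
    rw [chart_ι]; infer_instance
  exact IsOpenImmersion.of_comp _ (PCone.dom φ).ι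

theorem opensRange_chart {d : ℕ} {f : A} (hf : f ∈ 𝒜 d) (hd : 0 < d) :
    (PCone.chart φ hf hd).opensRange = (PCone.dom φ).ι ⁻¹ᵁ Proj.basicOpen ℬ (φ f) := by
  ext y
  have h1 : (PCone.dom φ).ι.base y ∈ Proj.basicOpen ℬ (φ f) ↔
      (PCone.dom φ).ι.base y ∈ (Proj.awayι ℬ (φ f) (φ.2 hf) hd).opensRange := by
    rw [Proj.opensRange_awayι]
  show y ∈ Set.range (PCone.chart φ hf hd).base ↔ (PCone.dom φ).ι.base y ∈ Proj.basicOpen ℬ (φ f)
  rw [h1]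
  constructor
  · rintro ⟨y', rfl⟩
    refine ⟨y', ?_⟩
    rw [← chart_ι φ hf hd]
    rfl
  · rintro ⟨y', hy'⟩
    refine ⟨y', ?_⟩
    apply (PCone.dom φ).ι.isOpenEmbedding.injective
    rw [← hy', ← chart_ι φ hf hd]
    rfl

/-- Every point of `G(φ)` lies in some chart. -/
theorem exists_chart_eq (y : (PCone.dom φ : Scheme.{u})) :
    ∃ (d : ℕ) (g : A) (hg : g ∈ 𝒜 d) (hd : 0 < d) (y' : _), (PCone.chart φ hg hd).base y' = y := by
  have hy : (PCone.dom φ).ι.base y ∈ PCone.dom φ := y.2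
  obtain ⟨⟨g, d, hd, hg⟩, hyg⟩ := Opens.mem_iSup.mp hy
  have : y ∈ (PCone.chart φ hg hd).opensRange := by
    rw [opensRange_chart]
    exact hyg
  obtain ⟨y', hy'⟩ := this
  exact ⟨d, g, hg, hd, y', hy'⟩

theorem away_map_isLocalizationElem {d e : ℕ} {f g : A} (hf : f ∈ 𝒜 d) (hg : g ∈ 𝒜 e) :
    Away.map φ g (Away.isLocalizationElem hg hf) = Away.isLocalizationElem (φ.2 hg) (φ.2 hf) := by
  unfold Away.isLocalizationElem
  rw [Away.map_mk]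
  apply HomogeneousLocalization.val_injective
  simp [Away.val_mk]

/-- The key preimage computation for a morphism `p` compatible with the charts. -/
theorem preimage_basicOpen_of_chart_compat (p : (PCone.dom φ : Scheme.{u}) ⟶ Proj 𝒜)
    (hp : ∀ (d : ℕ) (f : A) (hd : 0 < d) (hf : f ∈ 𝒜 d),
        PCone.chart φ hf hd ≫ p =
          Spec.map (CommRingCat.ofHom (Away.map φ f)) ≫ Proj.awayι 𝒜 f hf hd)
    {d : ℕ} {f : A} (hd : 0 < d) (hf : f ∈ 𝒜 d) :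
    p ⁻¹ᵁ Proj.basicOpen 𝒜 f = (PCone.dom φ).ι ⁻¹ᵁ Proj.basicOpen ℬ (φ f) := by
  ext y
  obtain ⟨e, g, hg, he, y', rfl⟩ := exists_chart_eq φ y
  have h1 : (PCone.chart φ hg he).base y' ∈ p ⁻¹ᵁ Proj.basicOpen 𝒜 f ↔
      y' ∈ (PCone.chart φ hg he ≫ p) ⁻¹ᵁ Proj.basicOpen 𝒜 f := Iff.rfl
  have h2 : (PCone.chart φ hg he).base y' ∈ (PCone.dom φ).ι ⁻¹ᵁ Proj.basicOpen ℬ (φ f) ↔
      y' ∈ (PCone.chart φ hg he ≫ (PCone.dom φ).ι) ⁻¹ᵁ Proj.basicOpen ℬ (φ f) := Iff.rfl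
  have h3 := Proj.awayι_preimage_basicOpen ℬ (f := φ g) (g := φ f) (φ.2 hg) he (φ.2 hf) hd
  have h4 := Proj.awayι_preimage_basicOpen 𝒜 hg he hf hd
  rw [SetLike.mem_coe, SetLike.mem_coe, h1, h2, hp e g he hg, chart_ι, Scheme.Hom.comp_preimage,
    h4, h3]
  have h5 := away_map_isLocalizationElem φ hf hg
  show (Away.map φ g (Away.isLocalizationElem hg hf)) ∉ y'.asIdeal ↔
    Away.isLocalizationElem (φ.2 hg) (φ.2 hf) ∉ y'.asIdeal
  rw [h5]

end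
end Groth.Agent.H18
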