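import Groth.Agent.H18.PConeBasic
import Groth.Agent.H18.AwayPoly
import Groth.Agent.H18.ConeFibre

set_option autoImplicit false
universe u

namespace Groth.Agent.H18

open AlgebraicGeometry CategoryTheory CategoryTheory.Limits HomogeneousLocalization TopologicalSpace
open scoped TensorProduct Polynomial

section Algebra
variable {B : Type u} [CommRing B] (κ : Type u) [CommRing κ] [Algebra B κ]
  {S : Type u} [CommRing S] [Algebra B S]

/-- Base change of a polynomial algebra. -/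
noncomputable def fibreRingEquivPoly (e₁ : S ≃ₐ[B] B[X]) : S ⊗[B] κ ≃+* κ[X] :=
  (((Algebra.TensorProduct.congr e₁ (AlgEquiv.refl : κ ≃ₐ[B] κ)).trans
    (Algebra.TensorProduct.comm B (B[X]) κ)).toRingEquiv).trans
      (polyEquivTensor B κ).symm.toRingEquiv

theorem fibreRingEquivPoly_one_tmul (e₁ : S ≃ₐ[B] B[X]) (c : κ) :
    fibreRingEquivPoly κ e₁ (1 ⊗ₜ c) = algebraMap κ κ[X] c := by
  simp only [fibreRingEquivPoly, RingEquiv.trans_apply, AlgEquiv.toRingEquiv_eq_coe,
    AlgEquiv.coe_ringEquiv, AlgEquiv.trans_apply, Algebra.TensorProduct.congr_apply,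
    Algebra.TensorProduct.map_tmul, AlgEquiv.coe_algHom, map_one, AlgEquiv.coe_refl, id_eq,
    Algebra.TensorProduct.comm_tmul, polyEquivTensor_symm_apply_tmul_eq_smul, Polynomial.map_one]
  rw [Algebra.algebraMap_eq_smul_one]

end Algebra

section
variable {R A : Type u} [CommRing R] [CommRing A] [Algebra R A] (𝒜 : ℕ → Submodule R A)
    [GradedAlgebra 𝒜]
    {B : Type u} [CommRing B] [Algebra R B] (ℬ : ℕ → Submodule R B) [GradedAlgebra ℬ]
    [Algebra A B] (φ : 𝒜 →+*ᵍ ℬ) (hφ : ∀ a : A, φ a = algebraMap A B a)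
    (z : B) (hz : z ∈ ℬ 1) (hhat : Function.Bijective (Polynomial.aeval (R := A) z))
    (p : (PCone.dom φ : Scheme.{u}) ⟶ Proj 𝒜)
    (hp : ∀ (d : ℕ) (f : A) (hd : 0 < d) (hf : f ∈ 𝒜 d),
        PCone.chart φ hf hd ≫ p =
          Spec.map (CommRingCat.ofHom (Away.map φ f)) ≫ Proj.awayι 𝒜 f hf hd)

include hp in
theorem pcone_isPullback_chart {d : ℕ} {f : A} (hd : 0 < d) (hf : f ∈ 𝒜 d) :
    IsPullback (PCone.chart φ hf hd) (Spec.map (CommRingCat.ofHom (Away.map φ f))) p
      (Proj.awayι 𝒜 f hf hd) := by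
  refine (IsOpenImmersion.isPullback _ _ _ _ (hp d f hd hf) ?_).flip
  rw [Proj.opensRange_awayι, preimage_basicOpen_of_chart_compat φ p hp hd hf, opensRange_chart]

/-- `A_(f)[X] ≅ B_(f)` for `B = A[z]` and `f` of degree one. -/
noncomputable def polyAwayRingEquiv {f : A} (hf : f ∈ 𝒜 1) : (Away 𝒜 f)[X] ≃+* Away ℬ (φ f) :=
  RingEquiv.ofBijective (polyToAway 𝒜 ℬ φ z hz hf)
    ⟨polyToAway_injective 𝒜 ℬ φ hφ z hz hhat hf, polyToAway_surjective 𝒜 ℬ φ hφ z hz hhat hf⟩

theorem polyAwayRingEquiv_C {f : A} (hf : f ∈ 𝒜 1) (c : Away 𝒜 f) :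
    polyAwayRingEquiv 𝒜 ℬ φ hφ z hz hhat hf (Polynomial.C c) = Away.map φ f c := by
  show polyToAway 𝒜 ℬ φ z hz hf (Polynomial.C c) = _
  simp only [polyToAway, Polynomial.coe_eval₂RingHom, Polynomial.eval₂_C]

include hφ hz hhat in
theorem finiteType_awayMap {f : A} (hf : f ∈ 𝒜 1) : (Away.map φ f).FiniteType := by
  have h1 : (Away.map φ f) = (polyToAway 𝒜 ℬ φ z hz hf).comp Polynomial.C := by
    ext c
    simp only [RingHom.comp_apply, polyToAway, Polynomial.coe_eval₂RingHom, Polynomial.eval₂_C]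
  rw [h1]
  refine RingHom.FiniteType.comp
    (RingHom.FiniteType.of_surjective _ (polyToAway_surjective 𝒜 ℬ φ hφ z hz hhat hf)) ?_
  have : (Polynomial.C : Away 𝒜 f →+* (Away 𝒜 f)[X]) = algebraMap _ _ := rfl
  rw [this, RingHom.finiteType_algebraMap]
  infer_instance

set_option backward.isDefEq.respectTransparency false in
include hφ hz hhat hp in
theorem pcone_retraction_locallyOfFiniteType
    (hgen : (HomogeneousIdeal.irrelevant 𝒜).toIdeal = Ideal.span (𝒜 1 : Set A)) :
    LocallyOfFiniteType p := by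
  have hle : (HomogeneousIdeal.irrelevant 𝒜).toIdeal ≤
      Ideal.span (Set.range (fun f : 𝒜 1 => (f : A))) := by
    rw [hgen]
    apply Ideal.span_mono
    intro a ha
    exact ⟨⟨a, ha⟩, rfl⟩
  apply IsZariskiLocalAtTarget.of_openCover (P := @LocallyOfFiniteType)
    (Proj.affineOpenCoverOfIrrelevantLESpan 𝒜 (fun f : 𝒜 1 => (f : A)) (fun f => f.2)
      (fun _ => one_pos) hle).openCover
  intro (s : 𝒜 1)
  have hpb := pcone_isPullback_chart 𝒜 ℬ φ p hp one_pos s.2
  have heq : hpb.isoPullback.hom ≫ pullback.snd _ _ =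
      Spec.map (CommRingCat.ofHom (Away.map φ (s : A))) :=
    hpb.isoPullback_hom_snd
  have hft : LocallyOfFiniteType (Spec.map (CommRingCat.ofHom (Away.map φ (s : A)))) := by
    rw [HasRingHomProperty.Spec_iff (P := @LocallyOfFiniteType)]
    exact finiteType_awayMap 𝒜 ℬ φ hφ z hz hhat s.2
  have key : LocallyOfFiniteType (pullback.snd p (Proj.awayι 𝒜 (s : A) s.2 one_pos)) := by
    rw [← MorphismProperty.cancel_left_of_respectsIso @LocallyOfFiniteType hpb.isoPullback.hom,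
      heq]
    exact hft
  exact key

include hφ hz hhat hp in
theorem pcone_fibre
    (hgen : (HomogeneousIdeal.irrelevant 𝒜).toIdeal = Ideal.span (𝒜 1 : Set A)) (x : Proj 𝒜) :
    ∃ e : pullback p ((Proj 𝒜).fromSpecResidueField x) ≅
        Spec (CommRingCat.of (Polynomial ((Proj 𝒜).residueField x))),
      e.hom ≫ Spec.map (CommRingCat.ofHom (algebraMap ((Proj 𝒜).residueField x)
        (Polynomial ((Proj 𝒜).residueField x)))) =
        pullback.snd p ((Proj 𝒜).fromSpecResidueField x) := by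
  obtain ⟨f, hf, hfx⟩ := exists_degree_one_not_mem hgen x
  have hrange : Set.range ((Proj 𝒜).fromSpecResidueField x).base ⊆
      Set.range (Proj.awayι 𝒜 f hf one_pos).base := by
    rw [Scheme.range_fromSpecResidueField]
    intro y hy
    rw [Set.mem_singleton_iff] at hy
    rw [hy]
    have : x ∈ (Proj.awayι 𝒜 f hf one_pos).opensRange := by
      rw [Proj.opensRange_awayι]; exact hfx
    exact this
  obtain ⟨ρ, hρ⟩ : ∃ ρ : Away 𝒜 f →+* (Proj 𝒜).residueField x,
      Spec.map (CommRingCat.ofHom ρ) ≫ Proj.awayι 𝒜 f hf one_pos =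
        (Proj 𝒜).fromSpecResidueField x := by
    refine ⟨(Spec.preimage (IsOpenImmersion.lift (Proj.awayι 𝒜 f hf one_pos) _ hrange)).hom, ?_⟩
    rw [CommRingCat.ofHom_hom, Spec.map_preimage, IsOpenImmersion.lift_fac]
  let _ : Algebra (Away 𝒜 f) ((Proj 𝒜).residueField x) := ρ.toAlgebra
  let _ : Algebra (Away 𝒜 f) (Away ℬ (φ f)) := (Away.map φ f).toAlgebra
  have hsq1 := IsPullback.of_hasPullback
    (Spec.map (CommRingCat.ofHom (Away.map φ f)))
    (Spec.map (CommRingCat.ofHom ρ))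
  have hsq2 := pcone_isPullback_chart 𝒜 ℬ φ p hp one_pos hf
  have hbig := hsq1.paste_horiz hsq2
  rw [hρ] at hbig
  let iso2 := pullbackSpecIso (Away 𝒜 f) (Away ℬ (φ f)) ((Proj 𝒜).residueField x)
  let e₁ : Away ℬ (φ f) ≃ₐ[Away 𝒜 f] (Away 𝒜 f)[X] :=
    AlgEquiv.ofRingEquiv (f := (polyAwayRingEquiv 𝒜 ℬ φ hφ z hz hhat hf).symm) (by
      intro c
      rw [RingEquiv.symm_apply_eq]
      exact (polyAwayRingEquiv_C 𝒜 ℬ φ hφ z hz hhat hf c).symm)
  let ε := fibreRingEquivPoly ((Proj 𝒜).residueField x) e₁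
  have hε : ε.symm.toRingHom.comp (algebraMap ((Proj 𝒜).residueField x)
        (Polynomial ((Proj 𝒜).residueField x))) =
      RingHomClass.toRingHom (Algebra.TensorProduct.includeRight (R := Away 𝒜 f)
        (A := Away ℬ (φ f)) (B := (Proj 𝒜).residueField x)) := by
    ext c
    apply ε.injective
    simp only [RingHom.comp_apply, RingEquiv.toRingHom_eq_coe, RingHom.coe_coe,
      RingEquiv.apply_symm_apply]
    exact (fibreRingEquivPoly_one_tmul _ _ c).symm
  let iso3 : Spec (CommRingCat.of (Away ℬ (φ f) ⊗[Away 𝒜 f] (Proj 𝒜).residueField x)) ≅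
      Spec (CommRingCat.of (Polynomial ((Proj 𝒜).residueField x))) :=
    { hom := Spec.map (CommRingCat.ofHom ε.symm.toRingHom)
      inv := Spec.map (CommRingCat.ofHom ε.toRingHom)
      hom_inv_id := by
        rw [← Spec.map_comp, ← CommRingCat.ofHom_comp]
        rw [RingEquiv.symm_toRingHom_comp_toRingHom]; exact Spec.map_id _
      inv_hom_id := by
        rw [← Spec.map_comp, ← CommRingCat.ofHom_comp]
        rw [RingEquiv.toRingHom_comp_symm_toRingHom]; exact Spec.map_id _ }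
  refine ⟨hbig.isoPullback.symm ≪≫ iso2 ≪≫ iso3, ?_⟩
  simp only [Iso.trans_hom, Iso.symm_hom, Category.assoc]
  show hbig.isoPullback.inv ≫ iso2.hom ≫ Spec.map (CommRingCat.ofHom ε.symm.toRingHom) ≫
    Spec.map (CommRingCat.ofHom (algebraMap ((Proj 𝒜).residueField x)
        (Polynomial ((Proj 𝒜).residueField x)))) = _
  rw [← Spec.map_comp, ← CommRingCat.ofHom_comp, hε, pullbackSpecIso_hom_snd]
  exact hbig.isoPullback_inv_snd

end
end Groth.Agent.H18
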