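import Groth.Agent.H18.PConeBasic
import Mathlib.AlgebraicGeometry.Gluing

set_option autoImplicit false
universe u

namespace Groth.Agent.H18

open AlgebraicGeometry CategoryTheory CategoryTheory.Limits HomogeneousLocalization TopologicalSpace

theorem awayι_congr {A σ : Type u} [CommRing A] [SetLike σ A] [AddSubgroupClass σ A]
    (𝒜 : ℕ → σ) [GradedRing 𝒜] (f : A) {m m' : ℕ} (h : m = m') (hf : f ∈ 𝒜 m) (hf' : f ∈ 𝒜 m')
    (hm : 0 < m) (hm' : 0 < m') :
    Proj.awayι 𝒜 f hf hm = Proj.awayι 𝒜 f hf' hm' := by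
  subst h; rfl

section
variable {R A B : Type u} [CommRing R] [CommRing A] [Algebra R A] {𝒜 : ℕ → Submodule R A} [GradedAlgebra 𝒜]
  [CommRing B] [Algebra R B] {ℬ : ℕ → Submodule R B} [GradedAlgebra ℬ] (φ : 𝒜 →+*ᵍ ℬ)

/-- Naturality of `awayMap` with respect to a graded ring homomorphism. -/
theorem awayMap_comp_map {m m' : ℕ} {f g x : A} (hf : f ∈ 𝒜 m) (hg : g ∈ 𝒜 m') (hx : x = f * g)
    (hx' : φ x = φ f * φ g) :
    (awayMap ℬ (φ.2 hg) hx').comp (Away.map φ f) = (Away.map φ x).comp (awayMap 𝒜 hg hx) := by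
  ext a
  obtain ⟨n, a, ha, rfl⟩ := Away.mk_surjective 𝒜 hf a
  simp only [RingHom.comp_apply]
  rw [Away.map_mk, awayMap_mk, awayMap_mk, Away.map_mk]
  simp only [Away.val_mk, map_mul, map_pow]
  rfl

/-- The charts of `G(φ)` form an open cover. -/
noncomputable def chartCover : Scheme.OpenCover.{u} (PCone.dom φ : Scheme.{u}) :=
  Scheme.Cover.mkOfCovers (Σ i : PNat, 𝒜 i) (fun s => Spec (CommRingCat.of (Away ℬ (φ s.2.1))))
    (fun s => PCone.chart φ s.2.2 s.1.2)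
    (fun y => by
      obtain ⟨d, g, hg, hd, y', hy'⟩ := exists_chart_eq φ y
      exact ⟨⟨⟨d, hd⟩, ⟨g, hg⟩⟩, y', hy'⟩)
    (fun s => chart_isOpenImmersion φ s.2.2 s.1.2)

/-- The local pieces of the canonical morphism `G(φ) ⟶ Proj 𝒜` agree on overlaps. -/
theorem chart_compat {m m' : ℕ} {s t : A} (hs : s ∈ 𝒜 m) (hm : 0 < m) (ht : t ∈ 𝒜 m') (hm' : 0 < m') :
    pullback.fst (PCone.chart φ hs hm) (PCone.chart φ ht hm') ≫
      Spec.map (CommRingCat.ofHom (Away.map φ s)) ≫ Proj.awayι 𝒜 s hs hm =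
    pullback.snd (PCone.chart φ hs hm) (PCone.chart φ ht hm') ≫
      Spec.map (CommRingCat.ofHom (Away.map φ t)) ≫ Proj.awayι 𝒜 t ht hm' := by
  obtain ⟨θ, hθ1, hθ2⟩ : ∃ θ : pullback (PCone.chart φ hs hm) (PCone.chart φ ht hm') ⟶
      pullback (Proj.awayι ℬ (φ s) (φ.2 hs) hm) (Proj.awayι ℬ (φ t) (φ.2 ht) hm'),
      θ ≫ pullback.fst _ _ = pullback.fst _ _ ∧ θ ≫ pullback.snd _ _ = pullback.snd _ _ :=
    ⟨pullback.lift (pullback.fst _ _) (pullback.snd _ _) (by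
      rw [← chart_ι φ hs hm, ← chart_ι φ ht hm', pullback.condition_assoc]),
      pullback.lift_fst _ _ _, pullback.lift_snd _ _ _⟩
  have hfst : pullback.fst (PCone.chart φ hs hm) (PCone.chart φ ht hm') =
      θ ≫ (Proj.pullbackAwayιIso ℬ (φ.2 hs) hm (φ.2 ht) hm' (map_mul φ s t)).hom ≫
        Spec.map (CommRingCat.ofHom (awayMap ℬ (φ.2 ht) (map_mul φ s t))) := by
    rw [Proj.pullbackAwayιIso_hom_SpecMap_awayMap_left]; exact hθ1.symm
  have hsnd : pullback.snd (PCone.chart φ hs hm) (PCone.chart φ ht hm') =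
      θ ≫ (Proj.pullbackAwayιIso ℬ (φ.2 hs) hm (φ.2 ht) hm' (map_mul φ s t)).hom ≫
        Spec.map (CommRingCat.ofHom
          (awayMap ℬ (φ.2 hs) ((map_mul φ s t).trans (mul_comm _ _)))) := by
    rw [Proj.pullbackAwayιIso_hom_SpecMap_awayMap_right]; exact hθ2.symm
  have e1 : Spec.map (CommRingCat.ofHom (awayMap ℬ (φ.2 ht) (map_mul φ s t))) ≫
      Spec.map (CommRingCat.ofHom (Away.map φ s)) =
      Spec.map (CommRingCat.ofHom (Away.map φ (s * t))) ≫
        Spec.map (CommRingCat.ofHom (awayMap 𝒜 ht rfl)) := by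
    rw [← Spec.map_comp, ← Spec.map_comp, ← CommRingCat.ofHom_comp, ← CommRingCat.ofHom_comp,
      awayMap_comp_map φ hs ht rfl (map_mul φ s t)]
  have e2 : Spec.map (CommRingCat.ofHom
        (awayMap ℬ (φ.2 hs) ((map_mul φ s t).trans (mul_comm _ _)))) ≫
      Spec.map (CommRingCat.ofHom (Away.map φ t)) =
      Spec.map (CommRingCat.ofHom (Away.map φ (s * t))) ≫
        Spec.map (CommRingCat.ofHom (awayMap 𝒜 hs (mul_comm s t))) := by
    rw [← Spec.map_comp, ← Spec.map_comp, ← CommRingCat.ofHom_comp, ← CommRingCat.ofHom_comp,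
      awayMap_comp_map φ ht hs (mul_comm s t) ((map_mul φ s t).trans (mul_comm _ _))]
  have key : Spec.map (CommRingCat.ofHom (awayMap ℬ (φ.2 ht) (map_mul φ s t))) ≫
      Spec.map (CommRingCat.ofHom (Away.map φ s)) ≫ Proj.awayι 𝒜 s hs hm =
      Spec.map (CommRingCat.ofHom
        (awayMap ℬ (φ.2 hs) ((map_mul φ s t).trans (mul_comm _ _)))) ≫
      Spec.map (CommRingCat.ofHom (Away.map φ t)) ≫ Proj.awayι 𝒜 t ht hm' := by
    rw [← Category.assoc, e1, ← Category.assoc _ _ (Proj.awayι 𝒜 t ht hm'), e2, Category.assoc,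
      Category.assoc, Proj.SpecMap_awayMap_awayι, Proj.SpecMap_awayMap_awayι]
    congr 1
  rw [hfst, hsnd, Category.assoc, Category.assoc, Category.assoc, Category.assoc, key]

/-- The canonical morphism `G(φ) ⟶ Proj 𝒜`. -/
noncomputable def retraction : (PCone.dom φ : Scheme.{u}) ⟶ Proj 𝒜 :=
  (chartCover φ).glueMorphisms
    (fun s => Spec.map (CommRingCat.ofHom (Away.map φ s.2.1)) ≫ Proj.awayι 𝒜 s.2.1 s.2.2 s.1.2)
    (fun s t => chart_compat φ s.2.2 s.1.2 t.2.2 t.1.2)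

theorem chart_retraction {d : ℕ} {f : A} (hd : 0 < d) (hf : f ∈ 𝒜 d) :
    PCone.chart φ hf hd ≫ retraction φ =
      Spec.map (CommRingCat.ofHom (Away.map φ f)) ≫ Proj.awayι 𝒜 f hf hd :=
  (chartCover φ).ι_glueMorphisms _ _ ⟨⟨d, hd⟩, ⟨f, hf⟩⟩

theorem retraction_unique (q : (PCone.dom φ : Scheme.{u}) ⟶ Proj 𝒜)
    (hq : ∀ (d : ℕ) (f : A) (hd : 0 < d) (hf : f ∈ 𝒜 d),
        PCone.chart φ hf hd ≫ q =
          Spec.map (CommRingCat.ofHom (Away.map φ f)) ≫ Proj.awayι 𝒜 f hf hd) :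
    q = retraction φ := by
  refine (chartCover φ).hom_ext _ _ fun s => ?_
  exact (hq s.1.1 s.2.1 s.1.2 s.2.2).trans (chart_retraction φ s.1.2 s.2.2).symm

end
end Groth.Agent.H18
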