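import Groth.Agent.H18.AwayBaseChange
import Groth.Agent.H18.ProjClosedImm
import Mathlib.AlgebraicGeometry.Pullbacks

set_option autoImplicit false
universe u

namespace Groth.Agent.H18

open AlgebraicGeometry CategoryTheory CategoryTheory.Limits HomogeneousLocalization

set_option backward.isDefEq.respectTransparency false in
/-- Base change for `Proj`. -/
theorem proj_baseChange_isPullback {R R' A B : Type u} [CommRing R'] [CommRing R] [Algebra R' R]
    [CommRing B] [Algebra R' B] (ℬ : ℕ → Submodule R' B) [GradedAlgebra ℬ]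
    [CommRing A] [Algebra R A] [Algebra R' A] [IsScalarTower R' R A] (𝒜 : ℕ → Submodule R A)
    [GradedAlgebra 𝒜]
    [Algebra B A] [IsScalarTower R' B A] [Algebra.IsPushout R' R B A]
    (φ : ℬ →+*ᵍ 𝒜) (hφA : ∀ b : B, φ b = algebraMap B A b)
    (hφ : HomogeneousIdeal.irrelevant 𝒜 ≤ (HomogeneousIdeal.irrelevant ℬ).map φ) :
    IsPullback (Proj.map φ hφ)
      (Proj.toSpecZero 𝒜 ≫ Spec.map (CommRingCat.ofHom (algebraMap R (𝒜 0))))
      (Proj.toSpecZero ℬ ≫ Spec.map (CommRingCat.ofHom (algebraMap R' (ℬ 0))))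
      (Spec.map (CommRingCat.ofHom (algebraMap R' R))) := by
  apply Scheme.isPullback_of_openCover _ _ _ _ (Proj.affineOpenCover ℬ).openCover
  intro (s : Σ i : PNat, ℬ i)
  have hpb := (isPullback_awayι_map φ hφ s.1.2 s.2.1 s.2.2).flip
  have hring := AwayBC.isPushout_away φ hφA s.2.2
  have hspec := (isPullback_SpecMap_of_isPushout _ _ _ _ hring).flip
  refine IsPullback.of_iso hspec hpb.isoPullback (Iso.refl _) (Iso.refl _) (Iso.refl _) ?_ ?_ ?_ ?_
  · rw [Iso.refl_hom, Category.comp_id]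
    exact hpb.isoPullback_hom_snd.symm
  · rw [Iso.refl_hom, Category.comp_id]
    show _ = hpb.isoPullback.hom ≫ pullback.fst _ _ ≫ _
    rw [hpb.isoPullback_hom_fst_assoc, Proj.awayι_toSpecZero_assoc, ← Spec.map_comp,
      ← CommRingCat.ofHom_comp]
    rfl
  · simp only [Iso.refl_hom, Category.comp_id, Category.id_comp]
    show _ = Proj.awayι ℬ _ _ _ ≫ _
    rw [Proj.awayι_toSpecZero_assoc, ← Spec.map_comp, ← CommRingCat.ofHom_comp]
    rfl
  · simp

end Groth.Agent.H18
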