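import Groth.Agent.H18.ProjBasic
import Mathlib.RingTheory.Noetherian.Nilpotent
import Mathlib.RingTheory.Finiteness.Defs

set_option autoImplicit false
universe u

namespace Groth.Agent.H18

open AlgebraicGeometry HomogeneousIdeal

section
variable {A σ : Type*} [CommRing A] [SetLike σ A] [AddSubgroupClass σ A]
  (𝒜 : ℕ → σ) [GradedRing 𝒜]

/-- If the irrelevant ideal is spanned by finitely many homogeneous elements of degrees in
`[1, D]`, then the pieces of degree at least `m * D + 1` lie in its `(m+1)`-st power. -/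
theorem mem_irrelevant_pow_of_mem (T : Finset A) (D : ℕ)
    (hT : ∀ t ∈ T, ∃ d, 0 < d ∧ d ≤ D ∧ t ∈ 𝒜 d)
    (hspan : (HomogeneousIdeal.irrelevant 𝒜).toIdeal = Ideal.span (T : Set A)) :
    ∀ (m k : ℕ), m * D + 1 ≤ k → ∀ x ∈ 𝒜 k, x ∈ (HomogeneousIdeal.irrelevant 𝒜).toIdeal ^ (m + 1) := by
  classical
  intro m
  induction m with
  | zero =>
    intro k hk x hx
    rw [zero_add, pow_one]
    exact HomogeneousIdeal.mem_irrelevant_of_mem 𝒜 (by omega) hx
  | succ m ih =>
    intro k hk x hx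
    have hxI : x ∈ Ideal.span (T : Set A) := by
      rw [← hspan]
      exact HomogeneousIdeal.mem_irrelevant_of_mem 𝒜 (by omega) hx
    obtain ⟨f, -, hf⟩ := Submodule.mem_span_finset.mp hxI
    have hx' : x = ∑ t ∈ T, ((DirectSum.decompose 𝒜 (f t * t) k : 𝒜 k) : A) := by
      conv_lhs => rw [← DirectSum.decompose_of_mem_same 𝒜 hx, ← hf]
      rw [DirectSum.decompose_sum, DFinsupp.finset_sum_apply, AddSubmonoidClass.coe_finset_sum]
      rfl
    rw [hx']
    refine Ideal.sum_mem _ fun t ht => ?_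
    obtain ⟨d, hd0, hdD, htd⟩ := hT t ht
    rw [DirectSum.coe_decompose_mul_of_right_mem 𝒜 k htd]
    split_ifs with hle
    · rw [pow_succ]
      refine Ideal.mul_mem_mul (ih (k - d) ?_ _ (SetLike.coe_mem _)) ?_
      · have : (m + 1) * D = m * D + D := by ring
        omega
      · exact HomogeneousIdeal.mem_irrelevant_of_mem 𝒜 hd0 htd
    · exact Ideal.zero_mem _

/-- If the irrelevant ideal is finitely generated and consists of nilpotents, the graded pieces
eventually vanish. -/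
theorem exists_forall_eq_bot_of_fg_of_nil
    (hfg : (HomogeneousIdeal.irrelevant 𝒜).toIdeal.FG)
    (hnil : ∀ f ∈ (HomogeneousIdeal.irrelevant 𝒜).toIdeal, IsNilpotent f) :
    ∃ n : ℕ, ∀ k : ℕ, n ≤ k → ∀ x ∈ 𝒜 k, x = 0 := by
  classical
  have hfg' := hfg
  rw [HomogeneousIdeal.irrelevant_eq_span] at hfg'
  obtain ⟨T, hTsub, hTspan⟩ := (Submodule.fg_span_iff_fg_span_finset_subset _).mp hfg'
  have hTdeg : ∀ t ∈ T, ∃ d, 0 < d ∧ t ∈ 𝒜 d := by
    intro t ht
    have := hTsub ht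
    simp only [Set.mem_iUnion, SetLike.mem_coe] at this
    obtain ⟨i, hi, hti⟩ := this
    exact ⟨i, hi, hti⟩
  let degf : A → ℕ := fun t => if h : ∃ d, 0 < d ∧ t ∈ 𝒜 d then Classical.choose h else 1
  have hdegf : ∀ t ∈ T, 0 < degf t ∧ t ∈ 𝒜 (degf t) := by
    intro t ht
    have h := hTdeg t ht
    simp only [degf, dif_pos h]
    exact Classical.choose_spec h
  have hT : ∀ t ∈ T, ∃ d, 0 < d ∧ d ≤ T.sup degf ∧ t ∈ 𝒜 d := fun t ht =>
    ⟨degf t, (hdegf t ht).1, Finset.le_sup ht, (hdegf t ht).2⟩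
  have hspan : (HomogeneousIdeal.irrelevant 𝒜).toIdeal = Ideal.span (T : Set A) := by
    rw [HomogeneousIdeal.irrelevant_eq_span]
    exact hTspan
  obtain ⟨N, hN⟩ := (hfg.isNilpotent_iff_le_nilradical).mpr
    (fun f hf => hnil f hf)
  refine ⟨N * T.sup degf + 1, fun k hk x hx => ?_⟩
  have h1 := mem_irrelevant_pow_of_mem 𝒜 T (T.sup degf) hT hspan N k hk x hx
  have h2 : (HomogeneousIdeal.irrelevant 𝒜).toIdeal ^ (N + 1) ≤
      (HomogeneousIdeal.irrelevant 𝒜).toIdeal ^ N := Ideal.pow_le_pow_right (Nat.le_succ N)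
  have h3 := h2 h1
  rw [hN] at h3
  exact h3

end
end Groth.Agent.H18
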