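import Groth.Agent.H18.TensorSec
import Groth.Agent.H8.QCohPushLocal
import Groth.Agent.H8.FinType
import Groth.Agent.H8.Coh

/-!
# `F ⊗ M` is quasi-coherent / of finite type when `F` is and `M` is invertible
-/

set_option autoImplicit false
universe u

noncomputable section

namespace Groth.Agent.H18.TensorCoh

open CategoryTheory AlgebraicGeometry Opposite TopologicalSpace
open Groth.Agent.H8 (res_res res_smul ringRes_res section_eq_of_cover)
open Groth.Agent.H18.SecTw Groth.Agent.H18.TensorGen Groth.Agent.H18.TensorSec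

variable {X : Scheme.{u}}

theorem exists_affine_gen {M : X.Modules} (hM : PicF.IsInvertible M) (x : X) :
    ∃ (W : X.Opens) (μ : Γ(M, W)), IsAffineOpen W ∧ x ∈ W ∧ IsGen M W μ := by
  obtain ⟨V, τ, hxV, hτ⟩ := exists_isGen hM x
  obtain ⟨_, ⟨W, hW, rfl⟩, hxW, hWV⟩ :=
    X.isBasis_affineOpens.exists_subset_of_mem_open hxV V.2
  exact ⟨W, _, hW, hxW, hτ.res hWV⟩

theorem isQuasicoherent_tensorMod (F M : X.Modules) [F.IsQuasicoherent]
    (hM : PicF.IsInvertible M) : (CohB1.tensorMod F M).IsQuasicoherent := by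
  choose W μ hW hxW hμ using fun x : X => exists_affine_gen hM x
  have hcov : IsOpenCover W := by
    refine IsOpenCover.mk ?_
    rw [eq_top_iff]
    intro x _
    exact Opens.mem_iSup.mpr ⟨x, hxW x⟩
  refine Groth.Agent.H8.isQuasicoherent_of_sections_cover _ W hcov hW ?_ ?_
  · intro i a y
    obtain ⟨f, hf⟩ := surjective_tm (F := F) ((hμ i).res (X.basicOpen_le a)) y
    have hf' : tm F M f _ = y := hf
    obtain ⟨n, f', hf''⟩ := Groth.Agent.H8.exists_smul_eq_res (hW i) F a f
    refine ⟨n, tm F M f' (μ i), ?_⟩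
    rw [tm_res, ← hf'', tm_smul_left, hf']
  · intro i a x' hx'
    obtain ⟨f', hf'⟩ := surjective_tm (F := F) (hμ i) x'
    have hf'' : tm F M f' (μ i) = x' := hf'
    rw [← hf'', tm_res] at hx'
    have h0 : F.presheaf.map (homOfLE (X.basicOpen_le a)).op f' = 0 := by
      apply injective_tm ((hμ i).res (X.basicOpen_le a))
      show tm F M _ _ = tm F M 0 _
      rw [hx', tm_zero_left]
    obtain ⟨n, hn⟩ := Groth.Agent.H8.exists_smul_eq_zero (hW i) F a f' h0
    refine ⟨n, ?_⟩
    rw [← hf'', ← tm_smul_left, hn, tm_zero_left]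

/-- `f ↦ f ⊗ μ` as a linear map. -/
def tmLin (F M : X.Modules) {W : X.Opens} (μ : Γ(M, W)) :
    Γ(F, W) →ₗ[Γ(X, W)] Γ(CohB1.tensorMod F M, W) where
  toFun f := tm F M f μ
  map_add' f f' := tm_add_left F M f f' μ
  map_smul' r f := tm_smul_left F M r f μ

theorem isCoh_tensorMod {F M : X.Modules} (hF : Coh.IsCoh F) (hM : PicF.IsInvertible M) :
    Coh.IsCoh (CohB1.tensorMod F M) := by
  haveI : F.IsQuasicoherent := hF.1
  haveI : (CohB1.tensorMod F M).IsQuasicoherent := isQuasicoherent_tensorMod F M hM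
  refine ⟨inferInstance, ?_⟩
  choose W μ hW hxW hμ using fun x : X => exists_affine_gen hM x
  have hcov : IsOpenCover W := by
    refine IsOpenCover.mk ?_
    rw [eq_top_iff]
    intro x _
    exact Opens.mem_iSup.mpr ⟨x, hxW x⟩
  refine Groth.Agent.H8.isFiniteType_of_finite_sections _ W hcov hW (fun i => ?_)
  haveI := Groth.Agent.H8.finite_sections_of_isCoh F hF (hW i)
  exact Module.Finite.of_surjective (tmLin F M (μ i)) (surjective_tm (hμ i))

end Groth.Agent.H18.TensorCoh
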