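import Groth.Agent.H82.ProjClosed
import Groth.Agent.H82.ProjSerre
import Groth.Agent.H18.Hyp7PB
import Groth.Agent.H18.Hyp7
import Groth.Agent.H18.ProjClosedImm
import Groth.Agent.H18.TensorModIso
import Groth.Agent.H8.CohKerCoker
import Groth.Agent.H8.UnitIso
import Groth.Agent.H38.PGE_PSI
import Groth.Prelude.Def_DDual2
import Groth.Prelude.Def_ega3

set_option autoImplicit false
set_option linter.style.haveILetI false
universe u
open CategoryTheory CategoryTheory.Limits AlgebraicGeometry Opposite HomogeneousIdeal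


namespace Groth.Agent.H18.ProjGammaExact

/-- Serre vanishing of `H¹` on `Proj 𝒜` -/
theorem serre_vanishing_proj {A S : Type u} [CommRing A] [IsNoetherianRing A] [CommRing S]
    [Algebra A S] (𝒜 : ℕ → Submodule A S) [GradedAlgebra 𝒜] (r : ℕ) (g : Fin (r + 1) → S)
    (hg1 : ∀ i, g i ∈ 𝒜 1) (hgen : Algebra.adjoin A (Set.range g) = ⊤) :
    IsLocallyNoetherian (Proj 𝒜) ∧ (∀ n : ℤ, PicF.IsInvertible (Twist.twist 𝒜 n)) ∧
    ∀ (K : (Proj 𝒜).Modules), Coh.IsCoh K →
      ∃ N : ℤ, ∀ n : ℤ, N ≤ n →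
        Subsingleton (Coh.HH (Proj 𝒜) (CohB1.tensorMod K (Twist.twist 𝒜 n)) 1) := by
  obtain ⟨ψ, hψs⟩ := Groth.Agent.H38.PGE_PSI.exists_gradedHom_of_gens 𝒜 r g hg1 hgen
  have hψ := Groth.Agent.H18.Hyp7.irrelevant_le_map_of_surjective ψ hψs
  haveI : IsClosedImmersion (Proj.map ψ hψ) :=
    Groth.Agent.H18.proj_map_isClosedImmersion ψ hψs hψ
  let i : Proj 𝒜 ⟶ CohB1.ProjSpace r A := Proj.map ψ hψ
  haveI : IsClosedImmersion i := ‹IsClosedImmersion (Proj.map ψ hψ)›
  haveI := Groth.Agent.H82.ProjFinite.isLocallyNoetherian r A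
  have hLN : IsLocallyNoetherian (Proj 𝒜) := LocallyOfFiniteType.isLocallyNoetherian i
  have hiso : ∀ n : ℤ, Nonempty ((Scheme.Modules.pullback i).obj (Twist.twistProjSpace r A n) ≅
      Twist.twist 𝒜 n) := fun n =>
    Groth.Agent.H18.Hyp7PB.nonempty_pullback_twist_iso _ _ ψ hψ
      (Groth.Agent.H18.Hyp7.hgen_polyGrading r A) n
  refine ⟨hLN, fun n => ?_, fun K hK => ?_⟩
  · obtain ⟨e⟩ := hiso n
    have h1 : PicF.IsInvertible ((Scheme.Modules.pullback i).obj (Twist.twistProjSpace r A n)) :=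
      Groth.Agent.H22.PullGen.isInvertible_pullback i
        (Groth.Agent.H82.ProjSerre.isInvertible_Fd r A n)
    exact Groth.Agent.H8.isInvertible_of_iso e h1
  · obtain ⟨N, hN⟩ := Groth.Agent.H82.ProjClosed.serre_vanishing_closed A r i K hK
    refine ⟨N, fun n hn => ?_⟩
    obtain ⟨e⟩ := hiso n
    obtain ⟨e'⟩ := Groth.Agent.H18.TensorModIso.nonempty_tensorMod_congr (Iso.refl K) e
    exact Groth.Agent.H82.ProjCoh.subsingleton_HH_of_iso e' 1 (hN n hn 1 le_rfl)

end Groth.Agent.H18.ProjGammaExact
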