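import Groth.Agent.H18.ProjBasic
import Mathlib.Topology.Irreducible

set_option autoImplicit false
universe u

namespace Groth.Agent.H18

open AlgebraicGeometry HomogeneousIdeal

section
variable {A σ : Type*} [CommRing A] [SetLike σ A] [AddSubgroupClass σ A]
  (𝒜 : ℕ → σ) [GradedRing 𝒜]

/-- Irreducibility of a subset of the projective spectrum in terms of its vanishing ideal. -/
theorem isIrreducible_iff_vanishingIdeal (Z : Set (ProjectiveSpectrum 𝒜)) :
    IsIrreducible Z ↔
      (¬ (HomogeneousIdeal.irrelevant 𝒜).toIdeal ≤ (ProjectiveSpectrum.vanishingIdeal Z).toIdeal ∧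
        ∀ f ∈ (HomogeneousIdeal.irrelevant 𝒜).toIdeal, ∀ g ∈ (HomogeneousIdeal.irrelevant 𝒜).toIdeal,
          f * g ∈ (ProjectiveSpectrum.vanishingIdeal Z).toIdeal →
            f ∈ (ProjectiveSpectrum.vanishingIdeal Z).toIdeal ∨
              g ∈ (ProjectiveSpectrum.vanishingIdeal Z).toIdeal) := by
  have hmem : ∀ f : A, f ∈ (ProjectiveSpectrum.vanishingIdeal Z).toIdeal ↔
      ∀ x ∈ Z, f ∈ x.asHomogeneousIdeal := fun f => ProjectiveSpectrum.mem_vanishingIdeal Z f
  constructor
  · rintro ⟨⟨x, hxZ⟩, hpre⟩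
    refine ⟨fun hle => x.not_irrelevant_le fun a ha => (hmem a).mp (hle ha) x hxZ, ?_⟩
    intro f _ g _ hfg
    rw [isPreirreducible_iff_isClosed_union_isClosed] at hpre
    have hcover : Z ⊆ ProjectiveSpectrum.zeroLocus 𝒜 {f} ∪ ProjectiveSpectrum.zeroLocus 𝒜 {g} := by
      intro z hz
      have hz' : f * g ∈ z.asHomogeneousIdeal.toIdeal := (hmem _).mp hfg z hz
      rcases z.isPrime.mem_or_mem hz' with h | h
      · exact Or.inl (by simpa [ProjectiveSpectrum.mem_zeroLocus] using h)
      · exact Or.inr (by simpa [ProjectiveSpectrum.mem_zeroLocus] using h)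
    rcases hpre _ _ (ProjectiveSpectrum.isClosed_zeroLocus 𝒜 _)
      (ProjectiveSpectrum.isClosed_zeroLocus 𝒜 _) hcover with h | h
    · left
      rw [hmem]
      intro z hz
      simpa [ProjectiveSpectrum.mem_zeroLocus] using h hz
    · right
      rw [hmem]
      intro z hz
      simpa [ProjectiveSpectrum.mem_zeroLocus] using h hz
  · rintro ⟨hne, hprod⟩
    constructor
    · by_contra hempty
      rw [Set.not_nonempty_iff_eq_empty] at hempty
      apply hne
      intro a _
      rw [hmem]
      intro x hx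
      rw [hempty] at hx
      exact absurd hx (Set.notMem_empty x)
    · rw [isPreirreducible_iff_isClosed_union_isClosed]
      intro C₁ C₂ hC₁ hC₂ hcover
      obtain ⟨s₁, rfl⟩ := (ProjectiveSpectrum.isClosed_iff_zeroLocus 𝒜 _).mp hC₁
      obtain ⟨s₂, rfl⟩ := (ProjectiveSpectrum.isClosed_iff_zeroLocus 𝒜 _).mp hC₂
      by_contra hcon
      push Not at hcon
      obtain ⟨h1, h2⟩ := hcon
      obtain ⟨x₁, hx₁Z, hx₁⟩ := Set.not_subset.mp h1
      obtain ⟨x₂, hx₂Z, hx₂⟩ := Set.not_subset.mp h2
      rw [ProjectiveSpectrum.mem_zeroLocus, Set.not_subset] at hx₁ hx₂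
      obtain ⟨a, has, hax⟩ := hx₁
      obtain ⟨b, hbs, hbx⟩ := hx₂
      obtain ⟨i, hi, s, hs, hsx⟩ := exists_homogeneous_pos_not_mem 𝒜 x₁
      obtain ⟨j, hj, t, ht, htx⟩ := exists_homogeneous_pos_not_mem 𝒜 x₂
      have hsirr : s ∈ (HomogeneousIdeal.irrelevant 𝒜).toIdeal :=
        HomogeneousIdeal.mem_irrelevant_of_mem 𝒜 hi hs
      have htirr : t ∈ (HomogeneousIdeal.irrelevant 𝒜).toIdeal :=
        HomogeneousIdeal.mem_irrelevant_of_mem 𝒜 hj ht
      have hab : ∀ z ∈ Z, a * b ∈ z.asHomogeneousIdeal.toIdeal := by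
        intro z hz
        rcases hcover hz with h | h
        · exact Ideal.mul_mem_right _ _ (h has)
        · exact Ideal.mul_mem_left _ _ (h hbs)
      have hprod' : (a * s) * (b * t) ∈ (ProjectiveSpectrum.vanishingIdeal Z).toIdeal := by
        rw [hmem]
        intro z hz
        have : (a * s) * (b * t) = (a * b) * (s * t) := by ring
        rw [this]
        exact Ideal.mul_mem_right _ _ (hab z hz)
      rcases hprod (a * s) (Ideal.mul_mem_left _ _ hsirr) (b * t) (Ideal.mul_mem_left _ _ htirr)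
        hprod' with h | h
      · have := (hmem _).mp h x₁ hx₁Z
        rcases x₁.isPrime.mem_or_mem this with h' | h'
        · exact hax h'
        · exact hsx h'
      · have := (hmem _).mp h x₂ hx₂Z
        rcases x₂.isPrime.mem_or_mem this with h' | h'
        · exact hbx h'
        · exact htx h'

/-- An element of the irrelevant ideal lying in all points of the projective spectrum is
nilpotent. -/
theorem isNilpotent_of_mem_vanishingIdeal_univ {f : A}
    (hf : f ∈ (HomogeneousIdeal.irrelevant 𝒜).toIdeal)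
    (h : f ∈ (ProjectiveSpectrum.vanishingIdeal (Set.univ : Set (ProjectiveSpectrum 𝒜))).toIdeal) :
    IsNilpotent f := by
  rw [nilpotent_iff_mem_prime]
  intro P hP
  by_contra hfP
  have hcore : (P.homogeneousCore 𝒜).toIdeal.IsPrime := hP.homogeneousCore
  have hle : (P.homogeneousCore 𝒜).toIdeal ≤ P := Ideal.toIdeal_homogeneousCore_le 𝒜 P
  let x : ProjectiveSpectrum 𝒜 :=
    ⟨P.homogeneousCore 𝒜, hcore, fun hirr => hfP (hle (hirr hf))⟩
  exact hfP (hle ((ProjectiveSpectrum.mem_vanishingIdeal _ f).mp h x (Set.mem_univ x)))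

end
end Groth.Agent.H18
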