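import Groth.Agent.H18.TwistAmpleLocal
import Groth.Agent.H18.ProjBasic
import Groth.Agent.H18.RestrictTensor
import Groth.Agent.H18.AmpleTwistGG

/-!
# A quasi-compact open subscheme of `Proj` carries an ample `O(d)`
-/

set_option autoImplicit false
universe u

noncomputable section

namespace Groth.Agent.H18.ProjOpenAmple

open CategoryTheory AlgebraicGeometry Opposite TopologicalSpace
open Groth.Agent.H18.TwistAmple Groth.Agent.H18.TensorGen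

variable {R A : Type u} [CommRing R] [CommRing A] [Algebra R A] (𝒜 : ℕ → Submodule R A)
  [GradedAlgebra 𝒜]

theorem exists_pos_homogeneous_basicOpen_le (U : (Proj 𝒜).Opens) (y : Proj 𝒜) (hy : y ∈ U) :
    ∃ (m : ℕ) (f : A), 0 < m ∧ f ∈ 𝒜 m ∧ y ∈ Proj.basicOpen 𝒜 f ∧ Proj.basicOpen 𝒜 f ≤ U := by
  obtain ⟨_, ⟨a, rfl⟩, hya, haU⟩ :=
    Opens.isBasis_iff_nbhd.mp (Proj.isBasis_basicOpen 𝒜) hy
  rw [Proj.basicOpen_eq_iSup_proj] at hya
  obtain ⟨i, hi⟩ := Opens.mem_iSup.mp hya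
  obtain ⟨m', hm', t, ht, hty⟩ := Groth.Agent.H18.exists_homogeneous_pos_not_mem 𝒜 y
  refine ⟨i + m', GradedRing.proj 𝒜 i a * t, by omega, ?_, ?_, ?_⟩
  · exact SetLike.mul_mem_graded (SetLike.coe_mem _) ht
  · rw [Proj.basicOpen_mul]
    exact ⟨hi, hty⟩
  · rw [Proj.basicOpen_mul]
    refine inf_le_left.trans (le_trans ?_ haU)
    rw [Proj.basicOpen_eq_iSup_proj 𝒜 a]
    exact le_iSup (fun i => Proj.basicOpen 𝒜 (GradedRing.proj 𝒜 i a)) i

theorem genLocus_tmulHom_id {X : Scheme.{u}} {N : X.Modules} (hN : PicF.IsInvertible N)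
    (σ : Coh.structureModule X ⟶ N) :
    CohB1.genLocus (CohB1.tensorMod (Coh.structureModule X) N)
      (SecTwist.tmulHom (𝟙 (Coh.structureModule X)) σ) = CohB1.genLocus N σ := by
  rw [genLocus_tmulHom (Groth.Agent.H8.isInvertible_structureModule X) hN
    (𝟙 (Coh.structureModule X)) σ, TensorPowIso.genLocus_id, top_inf_eq]

theorem exists_isAmple_restrict (X : Scheme.{u}) [CompactSpace X] (j : X ⟶ Proj 𝒜)
    [IsOpenImmersion j] :
    ∃ d : ℕ, 0 < d ∧ CohB1.IsAmple ((Twist.twist 𝒜 (d : ℤ)).restrict j) := by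
  have h1 : ∀ x : X, ∃ (m : ℕ) (f : A), 0 < m ∧ f ∈ 𝒜 m ∧ j x ∈ Proj.basicOpen 𝒜 f ∧
      Proj.basicOpen 𝒜 f ≤ j.opensRange :=
    fun x => exists_pos_homogeneous_basicOpen_le 𝒜 j.opensRange (j x) ⟨x, rfl⟩
  choose m f hm hf hxf hfR using h1
  obtain ⟨ι, hι⟩ := CompactSpace.elim_nhds_subcover
    (fun x => ((j ⁻¹ᵁ Proj.basicOpen 𝒜 (f x) : X.Opens) : Set X))
    (fun x => (j ⁻¹ᵁ Proj.basicOpen 𝒜 (f x)).2.mem_nhds (hxf x))
  obtain ⟨d, hddef⟩ : ∃ d : ℕ, d = ∏ i ∈ ι, m i := ⟨_, rfl⟩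
  have hd : 0 < d := by
    rw [hddef]
    exact Finset.prod_pos (fun i _ => hm i)
  have hg' : ∀ i : X, ∃ g : A, i ∈ ι →
      g ∈ 𝒜 d ∧ Proj.basicOpen 𝒜 g = Proj.basicOpen 𝒜 (f i) := by
    intro i
    by_cases hi : i ∈ ι
    · obtain ⟨c, hc⟩ := Finset.dvd_prod_of_mem m hi
      rw [← hddef] at hc
      have hc0 : 0 < c := by
        rcases Nat.eq_zero_or_pos c with h0 | h0
        · rw [h0, Nat.mul_zero] at hc
          omega
        · exact h0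
      refine ⟨f i ^ c, fun _ => ⟨?_, Proj.basicOpen_pow 𝒜 _ c hc0⟩⟩
      have h2 := SetLike.pow_mem_graded c (hf i)
      rwa [smul_eq_mul, mul_comm, ← hc] at h2
    · exact ⟨0, fun h => absurd h hi⟩
  choose g hg using hg'
  have hcov : ∀ x : X, ∃ i ∈ ι, g i ∉ (j x).asHomogeneousIdeal := by
    intro x
    have hxu : x ∈ ⋃ i ∈ ι, ((j ⁻¹ᵁ Proj.basicOpen 𝒜 (f i) : X.Opens) : Set X) := by
      rw [hι]
      trivial
    obtain ⟨i, hi, hxi⟩ := Set.mem_iUnion₂.mp hxu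
    refine ⟨i, hi, ?_⟩
    have h2 : j x ∈ Proj.basicOpen 𝒜 (g i) := by
      rw [(hg i hi).2]
      exact hxi
    exact h2
  have h1mem : (1 : A) ∈ 𝒜 0 := SetLike.GradedOne.one_mem
  have hone : ∀ y : Proj 𝒜, (1 : A) ∉ y.asHomogeneousIdeal :=
    fun y h => y.isPrime.ne_top ((Ideal.eq_top_iff_one _).mpr h)
  have hpq : ((d : ℕ) : ℤ) = ((0 : ℕ) : ℤ) + (d : ℤ) := by simp
  -- invertibility
  have hinv : PicF.IsInvertible ((Twist.twist 𝒜 (d : ℤ)).restrict j) := by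
    refine isInvertible_of_isGen _ (fun x => ?_)
    obtain ⟨i, hi, hix⟩ := hcov x
    obtain ⟨τ, hτ⟩ := TwistAmpleLocal.exists_isGen_twist 𝒜 (hg i hi).1 h1mem hpq
    have hle : j ''ᵁ (j ⁻¹ᵁ (Proj.basicOpen 𝒜 (g i) ⊓ Proj.basicOpen 𝒜 1)) ≤
        Proj.basicOpen 𝒜 (g i) ⊓ Proj.basicOpen 𝒜 1 := by
      rw [j.image_preimage_eq_opensRange_inf]
      exact inf_le_right
    refine ⟨j ⁻¹ᵁ (Proj.basicOpen 𝒜 (g i) ⊓ Proj.basicOpen 𝒜 1), _, ⟨hix, hone _⟩,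
      RestrictTensor.isGen_restrict j _ (hτ.res hle)⟩
  -- the sections
  have hgen : ∀ (i : X) (hi : i ∈ ι), CohB1.genLocus ((Twist.twist 𝒜 (d : ℤ)).restrict j)
      (RestrictTensor.resHom j (secHom 𝒜 ⟨g i, (hg i hi).1⟩)) =
      j ⁻¹ᵁ Proj.basicOpen 𝒜 (g i) := by
    intro i hi
    rw [RestrictTensor.genLocus_resHom]
    ext x
    show j x ∈ CohB1.genLocus _ (secHom 𝒜 ⟨g i, (hg i hi).1⟩) ↔ j x ∈ Proj.basicOpen 𝒜 (g i)
    obtain ⟨i', hi', hi'x⟩ := hcov x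
    exact TwistAmpleLocal.mem_genLocus_secHom_iff 𝒜 ⟨g i, (hg i hi).1⟩ (j x) (hg i' hi').1 h1mem
      hpq hi'x (hone _)
  refine ⟨d, hd, hinv, inferInstance, fun x => ?_⟩
  obtain ⟨i, hi, hix⟩ := hcov x
  refine ⟨0, SecTwist.tmulHom (𝟙 (Coh.structureModule X))
    (RestrictTensor.resHom j (secHom 𝒜 ⟨g i, (hg i hi).1⟩)), ?_, ?_⟩
  · have h2 : x ∈ CohB1.genLocus (CohB1.tensorMod (Coh.structureModule X)
        ((Twist.twist 𝒜 (d : ℤ)).restrict j))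
        (SecTwist.tmulHom (𝟙 (Coh.structureModule X))
          (RestrictTensor.resHom j (secHom 𝒜 ⟨g i, (hg i hi).1⟩))) := by
      rw [genLocus_tmulHom_id hinv, hgen i hi]
      exact hix
    exact h2
  · have h2 : IsAffineOpen (CohB1.genLocus (CohB1.tensorMod (Coh.structureModule X)
        ((Twist.twist 𝒜 (d : ℤ)).restrict j))
        (SecTwist.tmulHom (𝟙 (Coh.structureModule X))
          (RestrictTensor.resHom j (secHom 𝒜 ⟨g i, (hg i hi).1⟩)))) := by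
      rw [genLocus_tmulHom_id hinv, hgen i hi]
      refine (Proj.isAffineOpen_basicOpen 𝒜 (g i) (hg i hi).1 hd).preimage_of_isOpenImmersion j ?_
      rw [(hg i hi).2]
      exact hfR i
    exact h2

end Groth.Agent.H18.ProjOpenAmple
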