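import Mathlib
set_option autoImplicit false
universe u
open HomogeneousIdeal DirectSum

namespace Groth.Agent.H18.ProjQH
variable {R A B : Type u} [CommRing R] [CommRing A] [Algebra R A] [CommRing B] [Algebra R B]
  {𝒜 : ℕ → Submodule R A} [GradedAlgebra 𝒜] {ℬ : ℕ → Submodule R B} [GradedAlgebra ℬ]

/-- (H2) homogeneous ideals with the same homogeneous elements are equal -/
theorem ideal_eq_of_homogeneous {I J : Ideal A} (hI : I.IsHomogeneous 𝒜) (hJ : J.IsHomogeneous 𝒜)
    (h : ∀ (d : ℕ) (a : A), a ∈ 𝒜 d → (a ∈ I ↔ a ∈ J)) : I = J := by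
  classical
  have key : ∀ {I J : Ideal A}, I.IsHomogeneous 𝒜 → J.IsHomogeneous 𝒜 →
      (∀ (d : ℕ) (a : A), a ∈ 𝒜 d → (a ∈ I → a ∈ J)) → I ≤ J := by
    intro I J hI hJ h a ha
    rw [← DirectSum.sum_support_decompose 𝒜 a]
    refine Ideal.sum_mem _ (fun d _ => ?_)
    exact h d _ (SetLike.coe_mem _) (hI d ha)
  exact le_antisymm (key hI hJ fun d a ha => (h d a ha).1) (key hJ hI fun d a ha => (h d a ha).2)

/-- (H1) the kernel of a graded ring hom is a homogeneous ideal -/
theorem isHomogeneous_ker (φ : 𝒜 →+*ᵍ ℬ) : (RingHom.ker φ.toRingHom).IsHomogeneous 𝒜 := by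
  classical
  intro d a ha
  rw [RingHom.mem_ker] at ha ⊢
  have h1 : φ.toRingHom a = ∑ k ∈ (DirectSum.decompose 𝒜 a).support,
      φ.toRingHom (DirectSum.decompose 𝒜 a k : A) := by
    conv_lhs => rw [← DirectSum.sum_support_decompose 𝒜 a]
    rw [map_sum]
  -- apply the projection to degree d
  have h2 : (DirectSum.decompose ℬ (φ.toRingHom a) d : B) =
      φ.toRingHom (DirectSum.decompose 𝒜 a d : A) := by
    rw [h1, DirectSum.decompose_sum, DFinsupp.finsetSum_apply, AddSubmonoidClass.coe_finsetSum]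
    rw [Finset.sum_eq_single d]
    · exact DirectSum.decompose_of_mem_same ℬ (φ.map_mem (SetLike.coe_mem _))
    · intro k _ hkd
      exact DirectSum.decompose_of_mem_ne ℬ (φ.map_mem (SetLike.coe_mem _)) hkd
    · intro hd
      rw [DFinsupp.notMem_support_iff] at hd
      rw [hd]
      simp [DirectSum.decompose_zero]
  rw [← h2, ha, DirectSum.decompose_zero]
  rfl
end Groth.Agent.H18.ProjQH
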