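import Groth.Agent.H18.MonoBeta
import Groth.Agent.H18.TwistGenerated
import Groth.Agent.H18.TwistAmple

/-!
# `O(n)` is generated by the global sections `b/1`, `b ∈ 𝒜 n`, for `n ≥ (s-1)(l-1)`
-/

set_option autoImplicit false
universe u

namespace Groth.Agent.H18.TwistGenBound

open CategoryTheory AlgebraicGeometry Opposite TopologicalSpace
open Groth.Agent.H18.MonoGen Groth.Agent.H18.MonoBeta
open Groth.Agent.H18.Serre (val frac val_frac toO ofTw toTw)
open Groth.Agent.H18.TwistAmple (wval wval_ext wval_smul)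

section alg

variable {R A : Type u} [CommRing R] [CommRing A] [Algebra R A] (𝒜 : ℕ → Submodule R A)
  [GradedAlgebra 𝒜]
variable {s : ℕ} {f : Fin s → A} {deg : Fin s → ℕ}

/-- After multiplying by a monomial `mon f ν` outside the prime `P`, every monomial of degree
`wt u + n` acquires a monomial factor of degree `n`. -/
theorem exists_factor (hdeg : ∀ i, 0 < deg i) (n : ℕ)
    (hn : (s - 1) * (Finset.univ.lcm deg - 1) ≤ n) (P : Ideal A) [P.IsPrime] (u : Fin s → ℕ)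
    (hu : mon f u ∉ P) :
    ∃ ν : Fin s → ℕ, mon f ν ∉ P ∧ ∀ e : Fin s → ℕ, wt deg e = wt deg u + n →
      ∃ β γ : Fin s → ℕ, wt deg β = n ∧ e + ν = γ + β := by
  classical
  obtain ⟨l, hl⟩ : ∃ l, l = Finset.univ.lcm deg := ⟨_, rfl⟩
  refine ⟨fun i => if u i = 0 then 0 else n + l, ?_, fun e he => ?_⟩
  · intro hmem
    unfold mon at hmem
    obtain ⟨i, -, hi⟩ := (Ideal.IsPrime.prod_mem_iff).mp hmem
    by_cases hui : u i = 0
    · simp only [if_pos hui, pow_zero] at hi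
      exact (Ideal.IsPrime.ne_top inferInstance) ((Ideal.eq_top_iff_one _).mpr hi)
    · have hfi : f i ∈ P := Ideal.IsPrime.mem_of_pow_mem inferInstance _ hi
      apply hu
      unfold mon
      refine (Ideal.IsPrime.prod_mem_iff).mpr ⟨i, Finset.mem_univ i, ?_⟩
      obtain ⟨k, hk⟩ : ∃ k, u i = k + 1 := ⟨u i - 1, by omega⟩
      rw [hk, pow_succ]
      exact Ideal.mul_mem_left _ _ hfi
  · obtain ⟨β, hβ, hβe, hβb⟩ := exists_beta deg hdeg n hn u e he
    rw [← hl] at hβb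
    refine ⟨β, fun i => e i + (if u i = 0 then 0 else n + l) - β i, hβ, ?_⟩
    funext i
    simp only [Pi.add_apply]
    by_cases hui : u i = 0
    · have := hβe i hui
      simp only [if_pos hui]
      omega
    · have := hβb i
      simp only [if_neg hui]
      omega

end alg

section sheaf

variable {R A : Type u} [CommRing R] [CommRing A] [Algebra R A] (𝒜 : ℕ → Submodule R A)
  [GradedAlgebra 𝒜]

set_option backward.isDefEq.respectTransparency false in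
theorem wval_add {k : ℤ} {U : (Proj 𝒜).Opens} (a a' : Γ(Twist.twist 𝒜 k, U)) (x : U) :
    wval (a + a') x = wval a x + wval a' x := rfl

set_option backward.isDefEq.respectTransparency false in
theorem wval_zero {k : ℤ} {U : (Proj 𝒜).Opens} (x : U) :
    wval (0 : Γ(Twist.twist 𝒜 k, U)) x = 0 := rfl

set_option backward.isDefEq.respectTransparency false in
theorem wval_fracSection {W : (Proj 𝒜).Opens} {k : ℤ} {p q : ℕ} {u v : A}
    (hu : u ∈ 𝒜 p) (hv : v ∈ 𝒜 q) (hpq : (p : ℤ) = q + k)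
    (hvx : ∀ x : TwistRestrict.ofProjOpens 𝒜 W, v ∉ x.1.asHomogeneousIdeal) (x : W) :
    wval (toTw (TwistRestrict.fracSection 𝒜 hu hv hpq hvx)) x =
      Localization.mk u ⟨v, hvx x⟩ := rfl

set_option backward.isDefEq.respectTransparency false in
theorem wval_res {k : ℤ} {U V : (Proj 𝒜).Opens} (h : V ≤ U) (a : Γ(Twist.twist 𝒜 k, U)) (x : V) :
    wval ((Twist.twist 𝒜 k).presheaf.map (homOfLE h).op a) x = wval a ⟨x.1, h x.2⟩ := rfl

set_option backward.isDefEq.respectTransparency false in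
theorem wval_globalOf {i : ℕ} (b : 𝒜 i) (x : (⊤ : (Proj 𝒜).Opens)) :
    (wval (toTw (Twist.globalOf 𝒜 b)) x : Twist.Loc 𝒜 x.1) = Localization.mk b.1 1 := rfl

set_option backward.isDefEq.respectTransparency false in
/-- `y₀/τ = (c/(τσ)) • (b/1)` when `y₀ σ = c b`. -/
theorem fracSection_eq_smul {W : (Proj 𝒜).Opens} {n : ℕ} {i j q : ℕ} {y₀ τ σ c b : A}
    (hy₀ : y₀ ∈ 𝒜 i) (hτ : τ ∈ 𝒜 j) (hσ : σ ∈ 𝒜 q) (hc : c ∈ 𝒜 (j + q)) (hb : b ∈ 𝒜 n)
    (hpq : (i : ℤ) = j + (n : ℤ))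
    (hτW : ∀ x : TwistRestrict.ofProjOpens 𝒜 W, τ ∉ x.1.asHomogeneousIdeal)
    (hτσW : ∀ x : W, τ * σ ∉ x.1.asHomogeneousIdeal) (h : y₀ * σ = c * b) :
    toTw (TwistRestrict.fracSection 𝒜 hy₀ hτ hpq hτW) =
      frac 𝒜 W hc (SetLike.mul_mem_graded hτ hσ) hτσW •
        (Twist.twist 𝒜 (n : ℤ)).presheaf.map (homOfLE (le_top : W ≤ ⊤)).op
          (toTw (Twist.globalOf 𝒜 ⟨b, hb⟩)) := by
  apply wval_ext
  intro x
  rw [wval_smul, val_frac, wval_res, wval_globalOf, wval_fracSection, Localization.mk_mul,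
    Localization.mk_eq_mk_iff, Localization.r_iff_exists]
  refine ⟨1, ?_⟩
  simp only [Submonoid.coe_mul, Submonoid.coe_one, one_mul, mul_one]
  linear_combination τ * h

set_option backward.isDefEq.respectTransparency false in
theorem fracSection_add {W : (Proj 𝒜).Opens} {k : ℤ} {p q : ℕ} {y z τ : A}
    (hy : y ∈ 𝒜 p) (hz : z ∈ 𝒜 p) (hτ : τ ∈ 𝒜 q) (hpq : (p : ℤ) = q + k)
    (hτW : ∀ x : TwistRestrict.ofProjOpens 𝒜 W, τ ∉ x.1.asHomogeneousIdeal) :
    toTw (TwistRestrict.fracSection 𝒜 (add_mem hy hz) hτ hpq hτW) =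
      toTw (TwistRestrict.fracSection 𝒜 hy hτ hpq hτW) +
        toTw (TwistRestrict.fracSection 𝒜 hz hτ hpq hτW) := by
  apply wval_ext
  intro x
  rw [wval_add, wval_fracSection, wval_fracSection, wval_fracSection, Localization.add_mk_self]

set_option backward.isDefEq.respectTransparency false in
theorem fracSection_zero {W : (Proj 𝒜).Opens} {k : ℤ} {p q : ℕ} {τ : A}
    (h0 : (0 : A) ∈ 𝒜 p) (hτ : τ ∈ 𝒜 q) (hpq : (p : ℤ) = q + k)
    (hτW : ∀ x : TwistRestrict.ofProjOpens 𝒜 W, τ ∉ x.1.asHomogeneousIdeal) :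
    toTw (TwistRestrict.fracSection 𝒜 h0 hτ hpq hτW) = 0 := by
  apply wval_ext
  intro x
  rw [wval_fracSection, wval_zero, Localization.mk_zero]

set_option backward.isDefEq.respectTransparency false in
theorem fracSection_smul {W : (Proj 𝒜).Opens} {k : ℤ} {p q : ℕ} {y τ : A} (r : R)
    (hy : y ∈ 𝒜 p) (hτ : τ ∈ 𝒜 q) (hpq : (p : ℤ) = q + k)
    (hτW : ∀ x : TwistRestrict.ofProjOpens 𝒜 W, τ ∉ x.1.asHomogeneousIdeal) :
    toTw (TwistRestrict.fracSection 𝒜 (Submodule.smul_mem _ r hy) hτ hpq hτW) =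
      frac 𝒜 W (n := 0) (a := algebraMap R A r) (b := 1)
        (SetLike.algebraMap_mem_graded 𝒜 r) SetLike.GradedOne.one_mem
        (fun x h => x.1.isPrime.ne_top ((Ideal.eq_top_iff_one _).mpr h)) •
        toTw (TwistRestrict.fracSection 𝒜 hy hτ hpq hτW) := by
  apply wval_ext
  intro x
  rw [wval_smul, val_frac, wval_fracSection, wval_fracSection, Localization.mk_mul,
    Localization.mk_eq_mk_iff, Localization.r_iff_exists]
  refine ⟨1, ?_⟩
  simp only [Submonoid.coe_mul, Submonoid.coe_one, one_mul, mul_one]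
  rw [Algebra.smul_def]

set_option backward.isDefEq.respectTransparency false in
/-- For `n ≥ (s-1)(l-1)`, `O(n)` is generated by the global sections `b/1`, `b ∈ 𝒜 n`. -/
theorem generatedBy_of_ge {s : ℕ} (f : Fin s → A) (deg : Fin s → ℕ) (hdeg : ∀ i, 0 < deg i)
    (hf : ∀ i, f i ∈ 𝒜 (deg i)) (hgen : Algebra.adjoin R (Set.range f) = ⊤) (n : ℕ)
    (hn : (s - 1) * (Finset.univ.lcm deg - 1) ≤ n) :
    ProjUP.GeneratedBy (Twist.twist 𝒜 (n : ℤ))
      (fun b : 𝒜 n => (Twist.globalOf 𝒜 b : ProjUP.Γm (Twist.twist 𝒜 (n : ℤ)))) := by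
  classical
  intro x
  rw [eq_top_iff]
  intro t _
  obtain ⟨V, hxV, sec, rfl⟩ := TopCat.Presheaf.exists_germ_eq (Twist.twist 𝒜 (n : ℤ)).presheaf t
  obtain ⟨V', hxV', iV, i, j, ⟨a, ha⟩, ⟨τ, hτ⟩, hnin, hcase, hw⟩ := (ofTw sec).2 ⟨x, hxV⟩
  have hV'V : V' ≤ V := leOfHom iV
  have hτx : τ ∉ (x : ProjectiveSpectrum 𝒜).asHomogeneousIdeal := hnin ⟨x, hxV'⟩
  -- the span
  obtain ⟨Sp, hSp⟩ : ∃ Sp : Submodule ((Proj 𝒜).presheaf.stalk x)
      ((Twist.twist 𝒜 (n : ℤ)).presheaf.stalk x), Sp = Submodule.span ((Proj 𝒜).presheaf.stalk x)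
      (Set.range fun b : 𝒜 n => ((Twist.twist 𝒜 (n : ℤ)).presheaf.germ ⊤ x trivial).hom
        (Twist.globalOf 𝒜 b)) := ⟨_, rfl⟩
  rw [← hSp]
  have hglob : ∀ (W : (Proj 𝒜).Opens) (hxW : x ∈ W) (b : A) (hb : b ∈ 𝒜 n)
      (ρ : Γ(Proj 𝒜, W)),
      (Twist.twist 𝒜 (n : ℤ)).presheaf.germ W x hxW
        (ρ • (Twist.twist 𝒜 (n : ℤ)).presheaf.map (homOfLE (le_top : W ≤ ⊤)).op
          (toTw (Twist.globalOf 𝒜 ⟨b, hb⟩))) ∈ Sp := by
    intro W hxW b hb ρ
    rw [TwistGenerated.germ_smul', TopCat.Presheaf.germ_res_apply, hSp]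
    exact Submodule.smul_mem _ _ (Submodule.subset_span ⟨⟨b, hb⟩, rfl⟩)
  -- a monomial of `τ` outside `x`
  have hτspan := mem_span_mon 𝒜 hf hgen hτ
  obtain ⟨u, hu, hux⟩ : ∃ u : Fin s → ℕ, wt deg u = j ∧
      mon f u ∉ (x : ProjectiveSpectrum 𝒜).asHomogeneousIdeal.toIdeal := by
    by_contra hcon
    push Not at hcon
    apply hτx
    have hle : Submodule.span R {y | ∃ m : Fin s → ℕ, wt deg m = j ∧ y = mon f m} ≤
        ((x : ProjectiveSpectrum 𝒜).asHomogeneousIdeal.toIdeal.restrictScalars R) := by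
      rw [Submodule.span_le]
      rintro _ ⟨m, hm, rfl⟩
      exact hcon m hm
    exact hle hτspan
  have : (x : ProjectiveSpectrum 𝒜).asHomogeneousIdeal.toIdeal.IsPrime :=
    (x : ProjectiveSpectrum 𝒜).isPrime
  obtain ⟨ν, hνx, hfac⟩ := exists_factor (f := f) hdeg n hn
    (x : ProjectiveSpectrum 𝒜).asHomogeneousIdeal.toIdeal u hux
  obtain ⟨σ, hσdef⟩ : ∃ σ : A, σ = mon f ν := ⟨_, rfl⟩
  obtain ⟨q, hqdef⟩ : ∃ q : ℕ, q = wt deg ν := ⟨_, rfl⟩
  have hσ : σ ∈ 𝒜 q := by rw [hσdef, hqdef]; exact mon_mem 𝒜 hf ν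
  have hσx : σ ∉ (x : ProjectiveSpectrum 𝒜).asHomogeneousIdeal := hσdef ▸ hνx
  -- the neighbourhood
  obtain ⟨W, hWdef⟩ : ∃ W : (Proj 𝒜).Opens, W = V' ⊓ Proj.basicOpen 𝒜 σ := ⟨_, rfl⟩
  have hxW : x ∈ W := hWdef ▸ Opens.mem_inf.mpr ⟨hxV', hσx⟩
  have hWV' : W ≤ V' := hWdef ▸ inf_le_left
  have hWV : W ≤ V := hWV'.trans hV'V
  have hτW : ∀ y : TwistRestrict.ofProjOpens 𝒜 W, τ ∉ y.1.asHomogeneousIdeal :=
    fun y => hnin ⟨y.1, hWV' y.2⟩
  have hσW : ∀ y : W, σ ∉ y.1.asHomogeneousIdeal := by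
    rintro ⟨y1, hy1⟩
    rw [hWdef] at hy1
    exact (Opens.mem_inf.mp hy1).2
  have hτσW : ∀ y : W, τ * σ ∉ y.1.asHomogeneousIdeal := fun y h =>
    (y.1.isPrime.mem_or_mem h).elim (hτW y) (hσW y)
  have h1 : (Twist.twist 𝒜 (n : ℤ)).presheaf.germ V x hxV sec =
      (Twist.twist 𝒜 (n : ℤ)).presheaf.germ W x hxW
        ((Twist.twist 𝒜 (n : ℤ)).presheaf.map (homOfLE hWV).op sec) :=
    (TopCat.Presheaf.germ_res_apply _ (homOfLE hWV) x hxW sec).symm
  show (Twist.twist 𝒜 (n : ℤ)).presheaf.germ V x hxV sec ∈ Sp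
  rw [h1]
  rcases hcase with hpq | ha0
  swap
  · -- zero section
    have hz : (Twist.twist 𝒜 (n : ℤ)).presheaf.map (homOfLE hWV).op sec = 0 := by
      apply wval_ext
      intro y
      rw [wval_res, wval_zero]
      have := hw ⟨y.1, hWV' y.2⟩
      have ha0' : a = 0 := ha0
      simp only [ha0', Localization.mk_zero] at this
      exact this
    rw [hz, map_zero]
    exact Submodule.zero_mem _
  replace hpq : (i : ℤ) = j + (n : ℤ) := hpq
  have hij : i = wt deg u + n := by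
    rw [hu]
    exact_mod_cast hpq
  have hsec : (Twist.twist 𝒜 (n : ℤ)).presheaf.map (homOfLE hWV).op sec =
      toTw (TwistRestrict.fracSection 𝒜 ha hτ hpq hτW) := by
    apply wval_ext
    intro y
    rw [wval_res, wval_fracSection]
    exact hw ⟨y.1, hWV' y.2⟩
  rw [hsec]
  -- induction over the monomial decomposition of `a`
  have key : ∀ y ∈ Submodule.span R {y | ∃ m : Fin s → ℕ, wt deg m = i ∧ y = mon f m},
      ∃ hy : y ∈ 𝒜 i, (Twist.twist 𝒜 (n : ℤ)).presheaf.germ W x hxW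
        (toTw (TwistRestrict.fracSection 𝒜 hy hτ hpq hτW)) ∈ Sp := by
    intro y hy
    induction hy using Submodule.span_induction with
    | mem y hy =>
      obtain ⟨e, he, rfl⟩ := hy
      obtain ⟨β, γ, hβ, hsum⟩ := hfac e (he.trans hij)
      have hmem : mon f e ∈ 𝒜 i := he ▸ mon_mem 𝒜 hf e
      have hb : mon f β ∈ 𝒜 n := hβ ▸ mon_mem 𝒜 hf β
      have hγwt : wt deg γ = j + q := by
        have h2 := congrArg (wt deg) hsum
        rw [wt_add, wt_add, he, hβ, ← hqdef, hij, hu] at h2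
        omega
      have hc : mon f γ ∈ 𝒜 (j + q) := hγwt ▸ mon_mem 𝒜 hf γ
      have hprod : mon f e * σ = mon f γ * mon f β := by
        rw [hσdef, ← mon_add, ← mon_add, hsum]
      refine ⟨hmem, ?_⟩
      rw [fracSection_eq_smul 𝒜 hmem hτ hσ hc hb hpq hτW hτσW hprod]
      exact hglob W hxW _ hb _
    | zero =>
      refine ⟨Submodule.zero_mem _, ?_⟩
      rw [fracSection_zero, map_zero]
      exact Submodule.zero_mem _
    | add y z _ _ hy hz =>
      obtain ⟨hy1, hy2⟩ := hy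
      obtain ⟨hz1, hz2⟩ := hz
      refine ⟨add_mem hy1 hz1, ?_⟩
      rw [fracSection_add 𝒜 hy1 hz1 hτ hpq hτW, map_add]
      exact Submodule.add_mem _ hy2 hz2
    | smul r y _ hy =>
      obtain ⟨hy1, hy2⟩ := hy
      refine ⟨Submodule.smul_mem _ r hy1, ?_⟩
      rw [fracSection_smul 𝒜 r hy1 hτ hpq hτW, TwistGenerated.germ_smul']
      exact Submodule.smul_mem _ _ hy2
  obtain ⟨_, hfin⟩ := key a (mem_span_mon 𝒜 hf hgen ha)
  exact hfin

end sheaf

end Groth.Agent.H18.TwistGenBound
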