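import Groth.Agent.H18.ProjSubDefs
import Groth.Agent.H18.TwistGenBound
import Groth.Agent.H18.ProjUPUniq
import Groth.Agent.H18.GenLocusGen
import Groth.Agent.H22.PullGen

set_option autoImplicit false
set_option linter.style.haveILetI false
universe u
open CategoryTheory CategoryTheory.Limits AlgebraicGeometry HomogeneousIdeal TopologicalSpace Opposite
open Groth.Agent.H8 (res_res res_smul ringRes_res section_eq_of_cover app_res)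
open Groth.Agent.H18.SecTw Groth.Agent.H18.TensorGen
open Groth.Agent.H18.ProjUPSym Groth.Agent.H18.ProjUPUniq Groth.Agent.H22.PullGen

namespace Groth.Agent.H18.ProjQK
open Groth.Agent.H18 Groth.Agent.H18.ProjSub Groth.Agent.H18.Serre
open Groth.Agent.H18.TwistAmple (wval wval_ext wval_smul)
open Groth.Agent.H18.TwistGenBound

variable {R A : Type u} [CommRing R] [CommRing A] [Algebra R A]
  (𝒜 : ℕ → Submodule R A) [GradedAlgebra 𝒜]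

set_option backward.isDefEq.respectTransparency false in
/-- (K1) `a/1 = (a/g^d) • (g^d/1)` on `D₊(g)`. -/
theorem globalOf_res {g : A} (hg : g ∈ 𝒜 1) {d : ℕ} {a : A} (ha : a ∈ 𝒜 d) :
    (Twist.twist 𝒜 (d : ℤ)).presheaf.map (homOfLE (le_top : Proj.basicOpen 𝒜 g ≤ ⊤)).op
        (toTw (Twist.globalOf 𝒜 ⟨a, ha⟩)) =
      fr 𝒜 hg d a ha •
        (Twist.twist 𝒜 (d : ℤ)).presheaf.map (homOfLE (le_top : Proj.basicOpen 𝒜 g ≤ ⊤)).op
          (toTw (Twist.globalOf 𝒜 ⟨g ^ d, pow_mem_one 𝒜 hg d⟩)) := by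
  apply wval_ext
  intro x
  rw [wval_smul, wval_res, wval_res, wval_globalOf, wval_globalOf]
  unfold fr
  rw [val_frac, Localization.mk_mul, Localization.mk_eq_mk_iff, Localization.r_iff_exists]
  refine ⟨1, ?_⟩
  simp only [OneMemClass.coe_one, one_mul, mul_one]
  ring

variable {Z : Scheme.{u}} (r : Z ⟶ Proj 𝒜)

/-- (K2) -/
theorem pullSec_res_d {g : A} (hg : g ∈ 𝒜 1) {d : ℕ} {a : A} (ha : a ∈ 𝒜 d) :
    ((Scheme.Modules.pullback r).obj (Twist.twist 𝒜 (d : ℤ))).presheaf.map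
        (homOfLE (le_top : r ⁻¹ᵁ Proj.basicOpen 𝒜 g ≤ ⊤)).op
        (ProjUP.pullSec r (Twist.twist 𝒜 (d : ℤ)) (toTw (Twist.globalOf 𝒜 ⟨a, ha⟩))) =
      (r.app (Proj.basicOpen 𝒜 g)).hom (fr 𝒜 hg d a ha) •
        ((Scheme.Modules.pullback r).obj (Twist.twist 𝒜 (d : ℤ))).presheaf.map
          (homOfLE (le_top : r ⁻¹ᵁ Proj.basicOpen 𝒜 g ≤ ⊤)).op
          (ProjUP.pullSec r (Twist.twist 𝒜 (d : ℤ))
            (toTw (Twist.globalOf 𝒜 ⟨g ^ d, pow_mem_one 𝒜 hg d⟩))) := by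
  obtain ⟨η, hη⟩ : ∃ η : Twist.twist 𝒜 (d : ℤ) ⟶ (Scheme.Modules.pushforward r).obj
      ((Scheme.Modules.pullback r).obj (Twist.twist 𝒜 (d : ℤ))),
      η = (Scheme.Modules.pullbackPushforwardAdjunction r).unit.app (Twist.twist 𝒜 (d : ℤ)) :=
    ⟨_, rfl⟩
  have hp : ∀ t : Γ(Twist.twist 𝒜 (d : ℤ), ⊤),
      ProjUP.pullSec r (Twist.twist 𝒜 (d : ℤ)) t = η.app ⊤ t := by
    intro t
    rw [hη]
    rfl
  have h1 := app_res η (le_top : Proj.basicOpen 𝒜 g ≤ ⊤) (toTw (Twist.globalOf 𝒜 ⟨a, ha⟩))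
  rw [globalOf_res 𝒜 hg ha, Scheme.Modules.Hom.app_smul] at h1
  have h2 := app_res η (le_top : Proj.basicOpen 𝒜 g ≤ ⊤)
    (toTw (Twist.globalOf 𝒜 ⟨g ^ d, pow_mem_one 𝒜 hg d⟩))
  rw [hp, hp]
  refine h1.symm.trans ?_
  exact congrArg (fun z => (r.app (Proj.basicOpen 𝒜 g)).hom (fr 𝒜 hg d a ha) •
    (show Γ((Scheme.Modules.pullback r).obj (Twist.twist 𝒜 (d : ℤ)),
      r ⁻¹ᵁ Proj.basicOpen 𝒜 g) from z)) h2

/-- (K3) the pulled back `g^d` is a free generator over `r⁻¹ D₊(g)`. -/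
theorem smul_pullSec_injective
    (hcov1 : ∀ y : ProjectiveSpectrum 𝒜, ∃ g ∈ 𝒜 1, g ∉ y.asHomogeneousIdeal)
    {g : A} (hg : g ∈ 𝒜 1) (d : ℕ) (c : Γ(Z, r ⁻¹ᵁ Proj.basicOpen 𝒜 g))
    (h : c • ((Scheme.Modules.pullback r).obj (Twist.twist 𝒜 (d : ℤ))).presheaf.map
          (homOfLE (le_top : r ⁻¹ᵁ Proj.basicOpen 𝒜 g ≤ ⊤)).op
          (ProjUP.pullSec r (Twist.twist 𝒜 (d : ℤ))
            (toTw (Twist.globalOf 𝒜 ⟨g ^ d, pow_mem_one 𝒜 hg d⟩))) = 0) : c = 0 := by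
  have hM : PicF.IsInvertible (Twist.twist 𝒜 (d : ℤ)) :=
    (Groth.Agent.H18.TwistTensor.twist_package 𝒜 hcov1).1 _
  have hUF : TwistTensor.HasUnitFrac 𝒜 (d : ℤ) := by
    have h := TwistTensor.hasUnitFrac_of_cover 𝒜 1 (d : ℤ) hcov1
    rwa [Nat.cast_one, mul_one] at h
  set s := TwistAmple.secHom 𝒜 (⟨g ^ d, pow_mem_one 𝒜 hg d⟩ : 𝒜 d) with hs
  have hgl : CohB1.genLocus _ (pbSec r s) = r ⁻¹ᵁ CohB1.genLocus _ s := genLocus_pbSec r hM s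
  have hgl2 : CohB1.genLocus _ s = Proj.basicOpen 𝒜 (g ^ d) := TwistAmple.genLocus_secHom 𝒜 _ hUF
  have hle : r ⁻¹ᵁ Proj.basicOpen 𝒜 g ≤ CohB1.genLocus _ (pbSec r s) := by
    rw [hgl, hgl2]
    intro z hz
    show g ^ d ∉ _
    intro hmem
    exact hz ((r z).isPrime.mem_of_pow_mem d hmem)
  have hinj := Groth.Agent.H18.GenLocusGen.injective_smul_sv (pbSec r s) _ hle
  have hsv : sv (pbSec r s) (r ⁻¹ᵁ Proj.basicOpen 𝒜 g) =
      ((Scheme.Modules.pullback r).obj (Twist.twist 𝒜 (d : ℤ))).presheaf.map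
          (homOfLE (le_top : r ⁻¹ᵁ Proj.basicOpen 𝒜 g ≤ ⊤)).op
          (ProjUP.pullSec r (Twist.twist 𝒜 (d : ℤ))
            (toTw (Twist.globalOf 𝒜 ⟨g ^ d, pow_mem_one 𝒜 hg d⟩))) := by
    rw [← sv_res (pbSec r s) (le_top : r ⁻¹ᵁ Proj.basicOpen 𝒜 g ≤ ⊤), sv_pbSec_top]
    congr 2
    exact sv_secHom_top _ _
  apply hinj
  show c • sv (pbSec r s) _ = (0 : Γ(Z, r ⁻¹ᵁ Proj.basicOpen 𝒜 g)) • sv (pbSec r s) _
  rw [zero_smul, hsv]
  exact h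

end Groth.Agent.H18.ProjQK
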