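import Groth.Agent.H86.P1Conn
import Groth.Prelude.Def_CohB1

set_option autoImplicit false
set_option linter.style.haveILetI false
universe u
open CategoryTheory CategoryTheory.Limits AlgebraicGeometry HomogeneousIdeal

namespace Groth.Agent.H18.ProjSubD

/-- (D) `P^n_ℤ × Spec A₀ ≅ P^n_{A₀}` over `Spec A₀`. -/
theorem nonempty_projSpaceOver_iso (n : ℕ) (A₀ : Type u) [CommRing A₀] :
    ∃ θ : CohB1.ProjSpaceOver n (Spec (CommRingCat.of A₀)) ≅ CohB1.ProjSpace n A₀,
      θ.hom ≫ CohB1.ProjSpace.toSpec n A₀ =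
        pullback.snd (CohB1.ProjSpace.toSpec n (ULift.{u} ℤ))
          (specULiftZIsTerminal.from (Spec (CommRingCat.of A₀))) := by
  letI : Algebra (ULift.{u} ℤ) A₀ := ((Int.castRingHom A₀).comp (ULift.ringEquiv : ULift.{u} ℤ ≃+* ℤ).toRingHom).toAlgebra
  have hpb := Groth.Agent.H86.P1Conn.isPullback_projSpace n (ULift.{u} ℤ) A₀
  have hterm : Spec.map (CommRingCat.ofHom (algebraMap (ULift.{u} ℤ) A₀)) =
      specULiftZIsTerminal.from (Spec (CommRingCat.of A₀)) := specULiftZIsTerminal.hom_ext _ _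
  rw [hterm] at hpb
  refine ⟨hpb.isoPullback.symm, ?_⟩
  have h := hpb.isoPullback_hom_snd
  show hpb.isoPullback.inv ≫ _ = _
  exact (Iso.inv_comp_eq _).mpr h.symm

end Groth.Agent.H18.ProjSubD
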