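import Groth.Agent.H18.ProjSubDefs

set_option autoImplicit false
set_option linter.style.haveILetI false
universe u
open CategoryTheory CategoryTheory.Limits AlgebraicGeometry HomogeneousIdeal

namespace Groth.Agent.H18.ProjSubE2
open Groth.Agent.H18 Groth.Agent.H18.ProjSub Groth.Agent.H18.Serre

variable {R A : Type u} [CommRing R] [CommRing A] [Algebra R A]
  {𝒜 : ℕ → Submodule R A} [GradedAlgebra 𝒜]

/-- `fr` only depends on the fraction. -/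
theorem fr_pow_mul' {g g' : A} (hg : g ∈ 𝒜 1) (hg' : g' ∈ 𝒜 1) {d : ℕ} {a : A} (ha : a ∈ 𝒜 d)
    (N : ℕ) (h : g ^ N * a ∈ 𝒜 (N + d)) :
    fr 𝒜 hg' (N + d) (g ^ N * a) h = fr 𝒜 hg' 1 g hg ^ N * fr 𝒜 hg' d a ha := by
  unfold fr
  rw [frac_pow, frac_mul]
  refine frac_eq_of 𝒜 _ _ _ _ _ _ ?_
  rw [pow_add]
  ring

/-- one chart: if `a / g^d ∈ ℐ(D₊(g))` then `g^M a / g'^(M+d) ∈ ℐ(D₊(g'))` for `M ≫ 0`. -/
theorem exists_pow_fr_mem (ℐ : (Proj 𝒜).IdealSheafData) {g g' : A} (hg : g ∈ 𝒜 1)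
    (hg' : g' ∈ 𝒜 1) {d : ℕ} {a : A} (ha : a ∈ 𝒜 d)
    (h : fr 𝒜 hg d a ha ∈ ℐ.ideal (chartOpen 𝒜 hg)) :
    ∃ N : ℕ, ∀ M, N ≤ M → ∀ hM : g ^ M * a ∈ 𝒜 (M + d),
      fr 𝒜 hg' (M + d) (g ^ M * a) hM ∈ ℐ.ideal (chartOpen 𝒜 hg') := by
  classical
  -- the intersection chart
  let W : (Proj 𝒜).affineOpens := ⟨Proj.basicOpen 𝒜 (g * g'),
    Proj.isAffineOpen_basicOpen 𝒜 (g * g') (SetLike.mul_mem_graded hg hg') two_pos⟩
  have hWg : W ≤ chartOpen 𝒜 hg := ProjectiveSpectrum.basicOpen_mul_le_left 𝒜 g g'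
  have hWg' : W ≤ chartOpen 𝒜 hg' := ProjectiveSpectrum.basicOpen_mul_le_right 𝒜 g g'
  -- the function `g / g'` on `D₊(g')`
  set f : Γ(Proj 𝒜, Proj.basicOpen 𝒜 g') := fr 𝒜 hg' 1 g hg with hf
  have hWf : W.1 = (Proj 𝒜).basicOpen f := by
    ext y
    rw [hf]
    unfold fr
    erw [mem_basicOpen_frac]
    change y ∈ Proj.basicOpen 𝒜 (g * g') ↔ _
    rw [Proj.basicOpen_mul]
    exact ⟨fun h => ⟨h.2, h.1⟩, fun h => ⟨h.2, h.1⟩⟩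
  have hloc := (chartOpen 𝒜 hg').2.isLocalization_of_eq_basicOpen f (homOfLE hWg') hWf
  -- restriction of `a/g^d` lies in `ℐ(W)`
  have h1 : ((Proj 𝒜).presheaf.map (homOfLE hWg).op).hom (fr 𝒜 hg d a ha) ∈ ℐ.ideal W := by
    rw [← ℐ.map_ideal hWg]
    exact Ideal.mem_map_of_mem _ h
  have h2 : ((Proj 𝒜).presheaf.map (homOfLE hWg').op).hom (fr 𝒜 hg' d a ha) =
      ((Proj 𝒜).presheaf.map (homOfLE hWg).op).hom (fr 𝒜 hg d a ha) *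
        ((Proj 𝒜).presheaf.map (homOfLE hWg').op).hom
          (fr 𝒜 hg' d (g ^ d) (pow_mem_one 𝒜 hg d)) := by
    unfold fr
    erw [frac_res, frac_res, frac_res, frac_mul]
    refine frac_eq_of 𝒜 _ _ _ _ _ _ ?_
    ring
  have h3 : ((Proj 𝒜).presheaf.map (homOfLE hWg').op).hom (fr 𝒜 hg' d a ha) ∈ ℐ.ideal W := by
    rw [h2]
    exact Ideal.mul_mem_right _ _ h1
  rw [← ℐ.map_ideal hWg'] at h3
  letI := ((Proj 𝒜).presheaf.map (homOfLE hWg').op).hom.toAlgebra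
  haveI : IsLocalization (Submonoid.powers f) Γ(Proj 𝒜, W.1) := hloc
  have h4 := (IsLocalization.algebraMap_mem_map_algebraMap_iff (Submonoid.powers f)
    Γ(Proj 𝒜, W.1) (ℐ.ideal (chartOpen 𝒜 hg')) (fr 𝒜 hg' d a ha)).mp h3
  obtain ⟨_, ⟨N, rfl⟩, hN⟩ := h4
  refine ⟨N, fun M hNM hM => ?_⟩
  rw [fr_pow_mul' hg hg' ha M hM]
  obtain ⟨k, rfl⟩ := Nat.exists_eq_add_of_le hNM
  rw [pow_add, mul_comm (f ^ N), mul_assoc]
  exact Ideal.mul_mem_left _ _ hN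

section E
open Groth.Agent.H18.ProjSub
variable {ι : Type*} (ℐ : (Proj 𝒜).IdealSheafData) (x : ι → A) (hx : ∀ i, x i ∈ 𝒜 1)

/-- (E2) -/
theorem exists_pow_mul_mem_hIdeal [Finite ι] {d : ℕ} {a : A} (ha : a ∈ 𝒜 d) (i : ι)
    (h : fr 𝒜 (hx i) d a ha ∈ ℐ.ideal (chartOpen 𝒜 (hx i))) :
    ∃ N : ℕ, x i ^ N * a ∈ hIdeal ℐ x hx := by
  classical
  haveI := Fintype.ofFinite ι
  choose N hN using fun j => exists_pow_fr_mem ℐ (hx i) (hx j) ha h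
  refine ⟨Finset.univ.sup N, Ideal.subset_span ?_⟩
  have hmem : x i ^ (Finset.univ.sup N) * a ∈ 𝒜 (Finset.univ.sup N + d) :=
    SetLike.mul_mem_graded (pow_mem_one 𝒜 (hx i) _) ha
  exact ⟨_, hmem, fun j => hN j _ (Finset.le_sup (Finset.mem_univ j)) hmem⟩

end E

end Groth.Agent.H18.ProjSubE2
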