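import Groth.Agent.H18.ProjClosedImm

set_option autoImplicit false
set_option linter.style.haveILetI false
universe u
open CategoryTheory CategoryTheory.Limits AlgebraicGeometry HomogeneousIdeal HomogeneousLocalization

namespace Groth.Agent.H18.ProjSubTZ

variable {R A B : Type u} [CommRing R] [CommRing A] [Algebra R A] [CommRing B] [Algebra R B]
  {𝒜 : ℕ → Submodule R A} [GradedAlgebra 𝒜] {ℬ : ℕ → Submodule R B} [GradedAlgebra ℬ]

set_option backward.isDefEq.respectTransparency false in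
/-- (TZ) -/
theorem map_toSpecZero (ψ : 𝒜 →+*ᵍ ℬ) (hψ : irrelevant ℬ ≤ (irrelevant 𝒜).map ψ)
    (hψR : ∀ r : R, ψ (algebraMap R A r) = algebraMap R B r) :
    Proj.map ψ hψ ≫ Proj.toSpecZero 𝒜 ≫ Spec.map (CommRingCat.ofHom (algebraMap R (𝒜 0))) =
      Proj.toSpecZero ℬ ≫ Spec.map (CommRingCat.ofHom (algebraMap R (ℬ 0))) := by
  refine (Proj.mapAffineOpenCover ψ hψ).openCover.hom_ext _ _ (fun s => ?_)
  show Proj.awayι ℬ (ψ s.2) (ψ.2 s.2.2) s.1.2 ≫ Proj.map ψ hψ ≫ _ =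
    Proj.awayι ℬ (ψ s.2) (ψ.2 s.2.2) s.1.2 ≫ _
  rw [Proj.awayι_comp_map_assoc ψ hψ s.1.2 s.2 s.2.2, Proj.awayι_toSpecZero_assoc,
    Proj.awayι_toSpecZero_assoc, ← Spec.map_comp, ← Spec.map_comp, ← Spec.map_comp]
  congr 1
  ext r
  show (Localization.mk (ψ (algebraMap R A r)) ⟨ψ 1, _⟩ : Localization (Submonoid.powers (ψ s.2))) =
    Localization.mk (algebraMap R B r) ⟨1, _⟩
  rw [Localization.mk_eq_mk_iff, Localization.r_iff_exists]
  refine ⟨1, ?_⟩
  simp only [OneMemClass.coe_one, one_mul, hψR, map_one, mul_one]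

end Groth.Agent.H18.ProjSubTZ
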