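import Groth.Agent.H18.VACore
import Groth.Agent.H18.TwistSecN

/-!
# Very ampleness of `O(n)` on `Proj 𝒜` from sections of degree `n`
-/

set_option autoImplicit false
universe u

open CategoryTheory CategoryTheory.Limits AlgebraicGeometry TopologicalSpace Opposite
open HomogeneousLocalization
open Groth.Agent.H8 (res_res res_smul ringRes_res app_res)
open Groth.Agent.H18.SecTw Groth.Agent.H18.TensorGen
open Groth.Agent.H18.ProjUPUniq (toSpecΓ_map_injective constMapG)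
open Groth.Agent.H18.TwistSecN

namespace Groth.Agent.H18.ProjVA

noncomputable section

variable {R A : Type u} [CommRing R] [CommRing A] [Algebra R A] (𝒜 : ℕ → Submodule R A)
  [GradedAlgebra 𝒜]

/-- The structure morphism `Proj 𝒜 ⟶ Spec R`. -/
abbrev strf : Proj 𝒜 ⟶ Spec (CommRingCat.of R) :=
  Proj.toSpecZero 𝒜 ≫ Spec.map (CommRingCat.ofHom (algebraMap R (𝒜 0)))

/-- Constants on `D₊(g)`. -/
theorem const_res {m : ℕ} {g : A} (hg : g ∈ 𝒜 m) (hm : 0 < m) (c : R) :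
    (Proj.awayToSection 𝒜 g).hom (constMapG 𝒜 g c) =
      (Proj 𝒜).presheaf.map (homOfLE (le_top : Proj.basicOpen 𝒜 g ≤ ⊤)).op
        (ProjUP.toGlobal (strf 𝒜) c) := by
  have hk : (Proj.basicOpen 𝒜 g).toSpecΓ ≫ Spec.map (CommRingCat.ofHom (algebraMap R (𝒜 0)) ≫
        CommRingCat.ofHom (fromZeroRingHom 𝒜 (Submonoid.powers g)) ≫
        Proj.awayToSection 𝒜 g) =
      (Proj.basicOpen 𝒜 g).ι ≫ strf 𝒜 := by
    have h0 : (Proj.basicOpen 𝒜 g).toSpecΓ ≫ Spec.map (Proj.awayToSection 𝒜 g) ≫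
        Proj.awayι 𝒜 g hg hm = (Proj.basicOpen 𝒜 g).ι := by
      rw [← Category.assoc]
      have : (Proj.basicOpen 𝒜 g).toSpecΓ ≫ Spec.map (Proj.awayToSection 𝒜 g) =
          (Proj.basicOpenIsoSpec 𝒜 g hg hm).hom := (Proj.basicOpenIsoSpec_hom 𝒜 g hg hm).symm
      rw [this, ← Proj.basicOpenIsoSpec_inv_ι 𝒜 g hg hm, Iso.hom_inv_id_assoc]
    rw [Spec.map_comp, Spec.map_comp, ← Proj.awayι_toSpecZero 𝒜 g hg hm]
    simp only [Category.assoc]
    rw [← h0]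
    simp only [Category.assoc]
  have hk2 : (Proj.basicOpen 𝒜 g).ι ≫ strf 𝒜 =
      (Proj.basicOpen 𝒜 g).toSpecΓ ≫ Spec.map (CommRingCat.ofHom (ProjUP.toGlobal (strf 𝒜)) ≫
        (Proj 𝒜).presheaf.map (homOfLE (le_top : Proj.basicOpen 𝒜 g ≤ ⊤)).op) := by
    conv_lhs => rw [ToProjGen.toGlobal_spec (strf 𝒜), ← Category.assoc,
      ← Scheme.Opens.toSpecΓ_SpecMap_presheaf_map_top, Category.assoc, ← Spec.map_comp]
  have h1 := toSpecΓ_map_injective (Proj.basicOpen 𝒜 g) _ _ (hk.trans hk2)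
  exact congrArg (fun κ => κ.hom c) h1

lemma surj_res_of_eq {X : Scheme.{u}} {U V : X.Opens} (h : U = V) :
    Function.Surjective (X.presheaf.map (homOfLE h.le).op).hom := by
  subst h
  intro y
  refine ⟨y, ?_⟩
  have : (homOfLE (le_refl U)).op = 𝟙 (op U) := rfl
  rw [this, X.presheaf.map_id]
  rfl

variable {n : ℕ} {N : ℕ} (b : Fin (N + 1) → A) (hb : ∀ k, b k ∈ 𝒜 n)

/-- The sections `b k / 1` of `O(n)`. -/
def sec (k : Fin (N + 1)) : Γ(Nn 𝒜 n, ⊤) := tG 𝒜 (hb k)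

set_option backward.isDefEq.respectTransparency false in
theorem Us_sec (hUF : TwistTensor.HasUnitFrac 𝒜 (n : ℤ)) (k : Fin (N + 1)) :
    ProjUPData.Us (Nn 𝒜 n) (sec 𝒜 b hb) k = Proj.basicOpen 𝒜 (b k) :=
  TwistAmple.genLocus_secHom 𝒜 ⟨b k, hb k⟩ hUF

theorem as_sec (hUF : TwistTensor.HasUnitFrac 𝒜 (n : ℤ)) (j k : Fin (N + 1)) :
    ProjUPData.as (Nn 𝒜 n) (sec 𝒜 b hb) j k =
      (Proj 𝒜).presheaf.map (homOfLE (Us_sec 𝒜 b hb hUF j).le).op (uSecG 𝒜 (hb j) (hb k)) := by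
  apply (ProjUPData.isGen_sv (Nn 𝒜 n) (sec 𝒜 b hb) j).self.1
  show ProjUPData.as (Nn 𝒜 n) (sec 𝒜 b hb) j k • sv (ProjUPData.σ (Nn 𝒜 n) (sec 𝒜 b hb) j) _ =
    (Proj 𝒜).presheaf.map (homOfLE (Us_sec 𝒜 b hb hUF j).le).op (uSecG 𝒜 (hb j) (hb k)) •
      sv (ProjUPData.σ (Nn 𝒜 n) (sec 𝒜 b hb) j) _
  rw [ProjUPData.as_spec, ProjUPData.sv_σ, ProjUPData.sv_σ]
  have h1 := tG_res 𝒜 (hb j) (hb k)
  have h2 := congrArg ((Nn 𝒜 n).presheaf.map (homOfLE (Us_sec 𝒜 b hb hUF j).le).op) h1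
  rw [res_res, res_smul] at h2
  unfold αG at h2
  rw [res_res] at h2
  exact h2

theorem isRelVeryAmplePn_twist (hn : 0 < n) (hUF : TwistTensor.HasUnitFrac 𝒜 (n : ℤ))
    (J : Set (Fin (N + 1)))
    (hcov : ∀ x : Proj 𝒜, ∃ j ∈ J, x ∈ Proj.basicOpen 𝒜 (b j))
    (hgen : ∀ j ∈ J, ∀ T : Subring (Away 𝒜 (b j)), (∀ c : R, constMapG 𝒜 (b j) c ∈ T) →
      (∀ k, uFracG 𝒜 (hb j) (hb k) ∈ T) → T = ⊤) :
    RelAmple.IsRelVeryAmplePn (strf 𝒜) (Nn 𝒜 n) := by
  refine VACore.isRelVeryAmplePn_of_sections (strf 𝒜) (Nn 𝒜 n) N (sec 𝒜 b hb) J (fun _ => ⊤)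
    ?_ ?_ ?_ ?_ ?_
  · intro x
    obtain ⟨j, hj, hx⟩ := hcov x
    refine ⟨j, hj, ?_⟩
    rw [Us_sec 𝒜 b hb hUF j]
    exact hx
  · intro j _
    rw [Us_sec 𝒜 b hb hUF j]
    exact Proj.isAffineOpen_basicOpen 𝒜 (b j) (hb j) hn
  · intro j _
    exact isAffineOpen_top _
  · intro j _ x _
    trivial
  · intro j hj T h1 h2
    obtain ⟨ρ, hρ⟩ : ∃ ρ : Γ(Proj 𝒜, Proj.basicOpen 𝒜 (b j)) →+*
        Γ(Proj 𝒜, ProjUPData.Us (Nn 𝒜 n) (sec 𝒜 b hb) j),
        ρ = ((Proj 𝒜).presheaf.map (homOfLE (Us_sec 𝒜 b hb hUF j).le).op).hom := ⟨_, rfl⟩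
    have hρs : Function.Surjective ρ := by
      rw [hρ]
      exact surj_res_of_eq (Us_sec 𝒜 b hb hUF j)
    have hφs : Function.Surjective (Proj.awayToSection 𝒜 (b j)).hom := by
      have : IsIso (Proj.awayToSection 𝒜 (b j)) :=
        (Proj.basicOpenIsoAway 𝒜 (b j) (hb j) hn).isIso_hom
      exact ((ConcreteCategory.isIso_iff_bijective (Proj.awayToSection 𝒜 (b j))).mp this).2
    have hT' := hgen j hj (T.comap (ρ.comp (Proj.awayToSection 𝒜 (b j)).hom)) ?_ ?_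
    · rw [eq_top_iff]
      intro y _
      obtain ⟨y', rfl⟩ := hρs y
      obtain ⟨z, rfl⟩ := hφs y'
      have hz : z ∈ T.comap (ρ.comp (Proj.awayToSection 𝒜 (b j)).hom) := by
        rw [hT']; trivial
      exact hz
    · intro c
      show ρ ((Proj.awayToSection 𝒜 (b j)).hom (constMapG 𝒜 (b j) c)) ∈ T
      rw [const_res 𝒜 (hb j) hn c, hρ]
      have h3 := h1 ((Scheme.ΓSpecIso (CommRingCat.of R)).inv.hom c)
      have h4 : ((Proj 𝒜).presheaf.map (homOfLE (Us_sec 𝒜 b hb hUF j).le).op).hom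
          ((Proj 𝒜).presheaf.map (homOfLE (le_top : Proj.basicOpen 𝒜 (b j) ≤ ⊤)).op
            (ProjUP.toGlobal (strf 𝒜) c)) =
          (Proj 𝒜).presheaf.map (homOfLE (le_top : ProjUPData.Us (Nn 𝒜 n) (sec 𝒜 b hb) j ≤ ⊤)).op
            (ProjUP.toGlobal (strf 𝒜) c) := ringRes_res _ _ _
      rw [h4]
      exact h3
    · intro k
      show ρ ((Proj.awayToSection 𝒜 (b j)).hom (uFracG 𝒜 (hb j) (hb k))) ∈ T
      have h3 := h2 k
      rw [as_sec 𝒜 b hb hUF j k] at h3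
      rw [hρ]
      exact h3

theorem isSeparated_toSpec (N : ℕ) (R₀ : Type u) [CommRing R₀] :
    IsSeparated (CohB1.ProjSpace.toSpec N R₀) := by
  unfold CohB1.ProjSpace.toSpec
  have h1 : IsSeparated (Proj.toSpecZero (CohB1.polyGrading N R₀)) := inferInstance
  have h2 : IsSeparated (Spec.map (CommRingCat.ofHom (algebraMap R₀
      ↥(CohB1.polyGrading N R₀ 0)))) := inferInstance
  exact MorphismProperty.comp_mem _ _ _ h1 h2

theorem isSeparated_snd_toSpec (N : ℕ) (S : Scheme.{u}) :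
    IsSeparated (pullback.snd (CohB1.ProjSpace.toSpec N (ULift.{u} ℤ))
      (specULiftZIsTerminal.from S)) :=
  MorphismProperty.of_isPullback (P := @IsSeparated) (IsPullback.of_hasPullback _ _)
    (isSeparated_toSpec N (ULift.{u} ℤ))

/-- An immersion into `P^N_S` over `S` from a scheme universally closed over `S` is a closed
immersion. -/
theorem isClosedImmersion_of_universallyClosed {X S : Scheme.{u}} (N : ℕ)
    (i : X ⟶ CohB1.ProjSpaceOver N S) (q : X ⟶ S) [IsImmersion i] [UniversallyClosed q]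
    (hiq : i ≫ pullback.snd (CohB1.ProjSpace.toSpec N (ULift.{u} ℤ))
      (specULiftZIsTerminal.from S) = q) : IsClosedImmersion i := by
  have h1 := isSeparated_snd_toSpec N S
  have h2 : UniversallyClosed (i ≫ pullback.snd (CohB1.ProjSpace.toSpec N (ULift.{u} ℤ))
      (specULiftZIsTerminal.from S)) := by
    rw [hiq]; infer_instance
  exact @VACore.isClosedImmersion_of_isImmersion_of_proper X (CohB1.ProjSpaceOver N S) S i
    (pullback.snd (CohB1.ProjSpace.toSpec N (ULift.{u} ℤ)) (specULiftZIsTerminal.from S))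
    inferInstance h1 h2

end

end Groth.Agent.H18.ProjVA
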