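import Groth.Agent.H18.ProjSubDefs
import Groth.Agent.H18.ProjSubD
import Groth.Agent.H18.ProjSubTZ
import Groth.Agent.H18.ProjSubE2
import Groth.Agent.H18.ProjSubE3
import Groth.Agent.H98.PSub_E1
import Groth.Agent.H18.Hyp7
import Groth.Agent.H18.ProjClosedImm
import Groth.Agent.H18.ProjVA
import Groth.Agent.H18.RestrictTensor
import Groth.Agent.H18.ProjSpaceGlobal
import Groth.Agent.H22.VeryAmpleIso
import Groth.Prelude.Def_CohB1

/-!
# A proper scheme over an affine base with a relatively ample invertible sheaf is `Proj` of a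
graded algebra generated in degree one (S3585)

A closed subscheme of `Proj 𝒜` (with `𝒜` generated in degree one by finitely many elements) is
`Proj (𝒜 / I)` for the homogeneous ideal `I = hIdeal ℐ`.
-/

set_option autoImplicit false
set_option linter.style.haveILetI false
universe u
open CategoryTheory CategoryTheory.Limits AlgebraicGeometry HomogeneousIdeal

namespace Groth.Agent.H18.ProjSubMain
open Groth.Agent.H18 Groth.Agent.H18.ProjSub Groth.Agent.H18.Serre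

section Core
variable {R A B : Type u} [CommRing R] [CommRing A] [Algebra R A] [CommRing B] [Algebra R B]
  {𝒜 : ℕ → Submodule R A} [GradedAlgebra 𝒜] {ℬ : ℕ → Submodule R B} [GradedAlgebra ℬ]

/-- `fr` only depends on the fraction. -/
theorem fr_pow_mul {g : A} (hg : g ∈ 𝒜 1) {d : ℕ} {a : A} (ha : a ∈ 𝒜 d) (N : ℕ)
    (h : g ^ N * a ∈ 𝒜 (N + d)) :
    fr 𝒜 hg (N + d) (g ^ N * a) h = fr 𝒜 hg d a ha := by
  refine frac_eq_of 𝒜 _ _ _ _ _ _ ?_
  rw [pow_add]
  ring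

/-- The ideal sheaf of `Proj (𝒜/I) ⟶ Proj 𝒜` for `I = hIdeal ℐ` is `ℐ`. -/
theorem ker_projMap_eq {ι : Type*} [Finite ι] (ℐ : (Proj 𝒜).IdealSheafData) (x : ι → A)
    (hx : ∀ i, x i ∈ 𝒜 1)
    (hcov : ∀ y : ProjectiveSpectrum 𝒜, ∃ i, x i ∉ y.asHomogeneousIdeal)
    (ψ : 𝒜 →+*ᵍ ℬ) (hψ : irrelevant ℬ ≤ (irrelevant 𝒜).map ψ) (hsurj : Function.Surjective ψ)
    (hker : RingHom.ker ψ.toRingHom = hIdeal ℐ x hx) :
    (Proj.map ψ hψ).ker = ℐ := by
  haveI : IsClosedImmersion (Proj.map ψ hψ) :=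
    Groth.Agent.H18.proj_map_isClosedImmersion ψ hsurj hψ
  refine Scheme.IdealSheafData.ext_of_iSup_eq_top (fun i => chartOpen 𝒜 (hx i)) ?_ (fun i => ?_)
  · refine top_le_iff.mp (fun y _ => ?_)
    obtain ⟨i, hi⟩ := hcov y
    exact TopologicalSpace.Opens.mem_iSup.mpr ⟨i, hi⟩
  · rw [Scheme.Hom.ker_apply]
    refine Ideal.ext (fun r => ?_)
    obtain ⟨d, a, ha, rfl⟩ := Groth.Agent.H18.ProjSubE3.exists_fr_eq (hx i) r
    have h1 := Groth.Agent.H18.ProjSubE3.fr_mem_ker_app_iff ψ hψ (hx i) ha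
    rw [hker] at h1
    refine Iff.trans h1 ⟨?_, ?_⟩
    · rintro ⟨N, hN⟩
      have hmem : x i ^ N * a ∈ 𝒜 (N + d) :=
        SetLike.mul_mem_graded (pow_mem_one 𝒜 (hx i) N) ha
      have h2 := Groth.Agent.H98.PSub_E1.fr_mem_of_mem_hIdeal ℐ x hx hmem hN i
      rwa [fr_pow_mul (hx i) ha N hmem] at h2
    · intro h
      exact Groth.Agent.H18.ProjSubE2.exists_pow_mul_mem_hIdeal ℐ x hx ha i h

end Core

section Quot
variable {R A : Type u} [CommRing R] [CommRing A] [Algebra R A]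
  (𝒜 : ℕ → Submodule R A) [GradedAlgebra 𝒜]

/-- the quotient map as a graded ring hom -/
def quotHom (I : Ideal A) (hI : I.IsHomogeneous 𝒜) :
    letI := quotGradedAlgebra 𝒜 I hI; 𝒜 →+*ᵍ quotGrading 𝒜 I :=
  letI := quotGradedAlgebra 𝒜 I hI
  { toRingHom := Ideal.Quotient.mk I
    map_mem := fun {_ x} hx => ⟨x, hx, rfl⟩ }

theorem quotHom_apply (I : Ideal A) (hI : I.IsHomogeneous 𝒜) (a : A) :
    letI := quotGradedAlgebra 𝒜 I hI
    quotHom 𝒜 I hI a = Ideal.Quotient.mk I a := rfl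

theorem quotHom_surjective (I : Ideal A) (hI : I.IsHomogeneous 𝒜) :
    letI := quotGradedAlgebra 𝒜 I hI
    Function.Surjective (quotHom 𝒜 I hI) := Ideal.Quotient.mk_surjective

theorem ker_quotHom (I : Ideal A) (hI : I.IsHomogeneous 𝒜) :
    letI := quotGradedAlgebra 𝒜 I hI
    RingHom.ker (quotHom 𝒜 I hI).toRingHom = I := Ideal.mk_ker

end Quot

/-- General form: a closed subscheme of `Proj 𝒜` (generated in degree one by finitely many elements)
is `Proj` of a quotient. -/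
theorem exists_iso_proj_quot {R A : Type u} [CommRing R] [CommRing A] [Algebra R A]
    (𝒜 : ℕ → Submodule R A) [GradedAlgebra 𝒜] {ι : Type*} [Finite ι] (x : ι → A)
    (hx : ∀ i, x i ∈ 𝒜 1)
    (hcov : ∀ y : ProjectiveSpectrum 𝒜, ∃ i, x i ∉ y.asHomogeneousIdeal)
    {X : Scheme.{u}} (j : X ⟶ Proj 𝒜) [IsClosedImmersion j] :
    ∃ (I : Ideal A) (hI : I.IsHomogeneous 𝒜),
      letI := quotGradedAlgebra 𝒜 I hI
      ∃ (hψ : irrelevant (quotGrading 𝒜 I) ≤ (irrelevant 𝒜).map (quotHom 𝒜 I hI))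
        (e : X ≅ Proj (quotGrading 𝒜 I)), e.hom ≫ Proj.map (quotHom 𝒜 I hI) hψ = j := by
  refine ⟨hIdeal j.ker x hx, Groth.Agent.H98.PSub_E1.isHomogeneous_hIdeal j.ker x hx, ?_⟩
  letI := quotGradedAlgebra 𝒜 (hIdeal j.ker x hx) (Groth.Agent.H98.PSub_E1.isHomogeneous_hIdeal j.ker x hx)
  set ψ := quotHom 𝒜 (hIdeal j.ker x hx) (Groth.Agent.H98.PSub_E1.isHomogeneous_hIdeal j.ker x hx) with hψdef
  have hsurj : Function.Surjective ψ := quotHom_surjective 𝒜 _ _
  have hψ := Groth.Agent.H18.Hyp7.irrelevant_le_map_of_surjective ψ hsurj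
  refine ⟨hψ, ?_⟩
  have hK : (Proj.map ψ hψ).ker = j.ker :=
    ker_projMap_eq j.ker x hx hcov ψ hψ hsurj (ker_quotHom 𝒜 _ _)
  haveI : IsClosedImmersion (Proj.map ψ hψ) :=
    Groth.Agent.H18.proj_map_isClosedImmersion ψ hsurj hψ
  -- both are isomorphic to the closed subscheme cut out by the common kernel
  have key : ∀ (Y : Scheme.{u}) (q : Y ⟶ Proj 𝒜) [IsClosedImmersion q], q.ker = j.ker →
      ∃ e : X ≅ Y, e.hom ≫ q = j := by
    intro Y q _ hq
    have key2 : ∀ I : (Proj 𝒜).IdealSheafData, q.ker = I → j.ker = I →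
        ∃ e : X ≅ Y, e.hom ≫ q = j := by
      intro I hq hj
      have k1 : ∀ (Z : Scheme.{u}) (g : Z ⟶ Proj 𝒜) [IsClosedImmersion g], g.ker = I →
          ∃ e : Z ≅ I.subscheme, e.hom ≫ I.subschemeι = g := by
        intro Z g _ hg
        subst hg
        exact ⟨asIso g.toImage, g.toImage_imageι⟩
      obtain ⟨e1, he1⟩ := k1 X j hj
      obtain ⟨e2, he2⟩ := k1 Y q hq
      refine ⟨e1 ≪≫ e2.symm, ?_⟩
      rw [Iso.trans_hom, Iso.symm_hom, Category.assoc, ← he2, Iso.inv_hom_id_assoc, he1]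
    exact key2 j.ker hq rfl
  exact key _ (Proj.map ψ hψ) hK

/-- the coordinate hyperplanes cover projective space -/
theorem hcov_X (n : ℕ) (A₀ : Type u) [CommRing A₀] (y : ProjectiveSpectrum (CohB1.polyGrading n A₀)) :
    ∃ i : Fin (n + 1), (MvPolynomial.X i : MvPolynomial (Fin (n + 1)) A₀) ∉ y.asHomogeneousIdeal := by
  by_contra hcon
  push Not at hcon
  apply y.not_irrelevant_le
  intro a ha
  have h1 := Groth.Agent.H18.ProjSpaceGlobal.irrelevant_le_span (n := n) (R := A₀) ha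
  have h2 : Ideal.span (Set.range (MvPolynomial.X : Fin (n + 1) → MvPolynomial (Fin (n + 1)) A₀)) ≤
      y.asHomogeneousIdeal.toIdeal := by
    rw [Ideal.span_le]
    rintro _ ⟨i, rfl⟩
    exact hcon i
  exact h2 h1

set_option backward.isDefEq.respectTransparency false in
/-- S3585 -/
theorem main {A₀ : Type u} [CommRing A₀] {X : Scheme.{u}}
    (f : X ⟶ Spec (CommRingCat.of A₀)) [IsProper f]
    (L : X.Modules) (hL : PicF.IsInvertible L) (hamp : RelAmple.IsRelAmple f L) :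
    ∃ (S : Type u) (_ : CommRing S) (_ : Algebra A₀ S) (𝒮 : ℕ → Submodule A₀ S)
      (_ : GradedAlgebra 𝒮) (s : Finset S),
      Function.Surjective (algebraMap A₀ (𝒮 0)) ∧ (∀ g ∈ s, g ∈ 𝒮 1) ∧
      (HomogeneousIdeal.irrelevant 𝒮).toIdeal = Ideal.span (s : Set S) ∧
      ∃ e : X ≅ Proj 𝒮, e.hom ≫ Proj.toSpecZero 𝒮 ≫
        Spec.map (CommRingCat.ofHom (algebraMap A₀ (𝒮 0))) = f := by
  -- `L` is ample
  have hAmp : CohB1.IsAmple L := by
    have h0 := hamp.2 ⟨⊤, isAffineOpen_top _⟩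
    haveI : IsIso (f ⁻¹ᵁ (⊤ : (Spec (CommRingCat.of A₀)).Opens)).ι := by
      apply isIso_of_isOpenImmersion_of_opensRange_eq_top
      rw [Scheme.Opens.opensRange_ι]
      rfl
    exact Groth.Agent.H18.RestrictTensor.isAmple_of_restrict_isIso _ h0
  obtain ⟨d₀, -, hva⟩ := Groth.Agent.H22.VeryAmpleIso.eventually_isRelVeryAmplePn_tensorPow f hAmp
  obtain ⟨n, i, hi, hif, -⟩ := hva d₀ le_rfl
  haveI : IsImmersion i := hi
  haveI : IsClosedImmersion i :=
    Groth.Agent.H18.ProjVA.isClosedImmersion_of_universallyClosed n i f hif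
  obtain ⟨θ, hθ⟩ := Groth.Agent.H18.ProjSubD.nonempty_projSpaceOver_iso n A₀
  have hj : (i ≫ θ.hom) ≫ CohB1.ProjSpace.toSpec n A₀ = f := by
    rw [Category.assoc, hθ, hif]
  haveI : IsClosedImmersion (i ≫ θ.hom) := inferInstance
  obtain ⟨I, hI, hrest⟩ := exists_iso_proj_quot (CohB1.polyGrading n A₀)
    (fun k : Fin (n + 1) => (MvPolynomial.X k : MvPolynomial (Fin (n + 1)) A₀))
    (fun k => Groth.Agent.H18.ProjSpaceGlobal.Xmem n A₀ k) (hcov_X n A₀)
    (show X ⟶ Proj (CohB1.polyGrading n A₀) from i ≫ θ.hom)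
  letI := quotGradedAlgebra (CohB1.polyGrading n A₀) I hI
  obtain ⟨hψ, e, he⟩ := hrest
  classical
  refine ⟨MvPolynomial (Fin (n + 1)) A₀ ⧸ I, inferInstance, inferInstance,
    quotGrading (CohB1.polyGrading n A₀) I, quotGradedAlgebra (CohB1.polyGrading n A₀) I hI,
    Finset.univ.image (fun k : Fin (n + 1) => Ideal.Quotient.mk I (MvPolynomial.X k)),
    ?_, ?_, ?_, e, ?_⟩
  · rintro ⟨q, a, ha, rfl⟩
    have ha' : a ∈ MvPolynomial.homogeneousSubmodule (Fin (n + 1)) A₀ 0 := ha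
    rw [MvPolynomial.homogeneousSubmodule_zero, Submodule.mem_one] at ha'
    obtain ⟨r, rfl⟩ := ha'
    exact ⟨r, Subtype.ext rfl⟩
  · intro g hg
    obtain ⟨k, -, rfl⟩ := Finset.mem_image.mp hg
    exact ⟨_, Groth.Agent.H18.ProjSpaceGlobal.Xmem n A₀ k, rfl⟩
  · apply le_antisymm
    · rw [HomogeneousIdeal.toIdeal_irrelevant_le]
      rintro d hd _ ⟨a, ha, rfl⟩
      have h1 : a ∈ (irrelevant (CohB1.polyGrading n A₀)).toIdeal :=
        HomogeneousIdeal.mem_irrelevant_of_mem _ hd ha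
      have h2 := Groth.Agent.H18.ProjSpaceGlobal.irrelevant_le_span (n := n) (R := A₀) h1
      have h3 := Ideal.mem_map_of_mem (Ideal.Quotient.mk I) h2
      rw [Ideal.map_span] at h3
      refine Ideal.span_mono ?_ h3
      rintro _ ⟨_, ⟨k, rfl⟩, rfl⟩
      exact Finset.mem_coe.mpr (Finset.mem_image.mpr ⟨k, Finset.mem_univ _, rfl⟩)
    · rw [Ideal.span_le]
      intro g hg
      obtain ⟨k, -, rfl⟩ := Finset.mem_image.mp (Finset.mem_coe.mp hg)
      exact HomogeneousIdeal.mem_irrelevant_of_mem _ one_pos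
        ⟨_, Groth.Agent.H18.ProjSpaceGlobal.Xmem n A₀ k, rfl⟩
  · rw [← Groth.Agent.H18.ProjSubTZ.map_toSpecZero (quotHom (CohB1.polyGrading n A₀) I hI) hψ (fun r => rfl),
      ← Category.assoc, he]
    exact hj

end Groth.Agent.H18.ProjSubMain
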