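import Groth.Agent.H18.ProjQK
import Groth.Agent.H18.ProjSubMain
import Groth.Agent.H18.ProjQH
import Groth.Prelude.Def_ProjUP

set_option autoImplicit false
set_option linter.style.haveILetI false
universe u
open CategoryTheory CategoryTheory.Limits AlgebraicGeometry HomogeneousIdeal TopologicalSpace Opposite


namespace Groth.Agent.H18.ProjQMain
open Groth.Agent.H18 Groth.Agent.H18.ProjSub Groth.Agent.H18.Serre Groth.Agent.H18.ProjQK
open Groth.Agent.H8 (section_eq_of_cover)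

variable {R A : Type u} [CommRing R] [CommRing A] [Algebra R A]
  (𝒜 : ℕ → Submodule R A) [GradedAlgebra 𝒜]

/-- (K) -/
theorem pullSec_eq_zero_iff {ι : Type*} (x : ι → A) (hx : ∀ i, x i ∈ 𝒜 1)
    (hcov : ∀ y : ProjectiveSpectrum 𝒜, ∃ i, x i ∉ y.asHomogeneousIdeal)
    {Z : Scheme.{u}} (r : Z ⟶ Proj 𝒜) {d : ℕ} {a : A} (ha : a ∈ 𝒜 d) :
    ProjUP.pullSec r (Twist.twist 𝒜 (d : ℤ)) (toTw (Twist.globalOf 𝒜 ⟨a, ha⟩)) = 0 ↔
      ∀ i, (r.app (Proj.basicOpen 𝒜 (x i))).hom (fr 𝒜 (hx i) d a ha) = 0 := by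
  have hcov1 : ∀ y : ProjectiveSpectrum 𝒜, ∃ g ∈ 𝒜 1, g ∉ y.asHomogeneousIdeal := fun y => by
    obtain ⟨i, hi⟩ := hcov y
    exact ⟨x i, hx i, hi⟩
  constructor
  · intro h i
    have h1 := pullSec_res_d 𝒜 r (hx i) ha
    rw [h, map_zero] at h1
    exact smul_pullSec_injective 𝒜 r hcov1 (hx i) d _ h1.symm
  · intro h
    refine section_eq_of_cover _ _ _ (fun z _ => ?_)
    obtain ⟨i, hi⟩ := hcov (r z)
    refine ⟨r ⁻¹ᵁ Proj.basicOpen 𝒜 (x i), le_top, hi, ?_⟩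
    rw [pullSec_res_d 𝒜 r (hx i) ha, h i, zero_smul, map_zero]

/-- closed immersions with the same kernel are isomorphic over the target -/
theorem exists_iso_of_ker_eq {X Y W : Scheme.{u}} (j : X ⟶ W) (q : Y ⟶ W) [IsClosedImmersion j]
    [IsClosedImmersion q] (hq : q.ker = j.ker) : ∃ e : X ≅ Y, e.hom ≫ q = j := by
  have key2 : ∀ I : W.IdealSheafData, q.ker = I → j.ker = I →
      ∃ e : X ≅ Y, e.hom ≫ q = j := by
    intro I hq hj
    have k1 : ∀ (Z : Scheme.{u}) (g : Z ⟶ W) [IsClosedImmersion g], g.ker = I →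
        ∃ e : Z ≅ I.subscheme, e.hom ≫ I.subschemeι = g := by
      intro Z g _ hg
      subst hg
      exact ⟨asIso g.toImage, g.toImage_imageι⟩
    obtain ⟨e1, he1⟩ := k1 X j hj
    obtain ⟨e2, he2⟩ := k1 Y q hq
    refine ⟨e1 ≪≫ e2.symm, ?_⟩
    rw [Iso.trans_hom, Iso.symm_hom, Category.assoc, ← he2, Iso.inv_hom_id_assoc, he1]
  exact key2 j.ker hq rfl

/-- S9570 -/
theorem main {R : Type u} [CommRing R] (n : ℕ)
    {Z : Scheme.{u}} (i : Z ⟶ CohB1.ProjSpace n R) [IsClosedImmersion i]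
    {B : Type u} [CommRing B] [Algebra R B] (ℬ : ℕ → Submodule R B) [GradedAlgebra ℬ]
    (φ : CohB1.polyGrading n R →+*ᵍ ℬ) (hφs : Function.Surjective φ)
    (hker : ∀ (d : ℕ) (F : MvPolynomial (Fin (n + 1)) R) (hF : F ∈ CohB1.polyGrading n R d),
      φ F = 0 ↔ ProjUP.pullSec i (Twist.twistProjSpace n R d) (Twist.globalOf (CohB1.polyGrading n R) ⟨F, hF⟩) = 0)
    (hφ : HomogeneousIdeal.irrelevant ℬ ≤ (HomogeneousIdeal.irrelevant (CohB1.polyGrading n R)).map φ) :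
    ∃ e : Z ≅ Proj ℬ, e.hom ≫ Proj.map φ hφ = i := by
  set x : Fin (n + 1) → MvPolynomial (Fin (n + 1)) R := fun k => MvPolynomial.X k with hxdef
  have hx : ∀ k, x k ∈ CohB1.polyGrading n R 1 := fun k =>
    Groth.Agent.H18.ProjSpaceGlobal.Xmem n R k
  have hcov := Groth.Agent.H18.ProjSubMain.hcov_X n R
  let i' : Z ⟶ Proj (CohB1.polyGrading n R) := i
  haveI : IsClosedImmersion i' := ‹IsClosedImmersion i›
  have hkerφ : RingHom.ker φ.toRingHom = hIdeal i'.ker x hx := by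
    refine Groth.Agent.H18.ProjQH.ideal_eq_of_homogeneous (𝒜 := CohB1.polyGrading n R)
      (Groth.Agent.H18.ProjQH.isHomogeneous_ker φ) (Groth.Agent.H98.PSub_E1.isHomogeneous_hIdeal i'.ker x hx)
      (fun d F hF => ?_)
    rw [RingHom.mem_ker]
    have h1 : φ.toRingHom F = 0 ↔ ProjUP.pullSec i' (Twist.twist (CohB1.polyGrading n R) (d : ℤ))
        (toTw (Twist.globalOf (CohB1.polyGrading n R) ⟨F, hF⟩)) = 0 := hker d F hF
    rw [h1, pullSec_eq_zero_iff (CohB1.polyGrading n R) x hx hcov i' hF]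
    constructor
    · intro h
      refine Ideal.subset_span ⟨d, hF, fun k => ?_⟩
      rw [Scheme.Hom.ker_apply]
      exact h k
    · intro h k
      have := Groth.Agent.H98.PSub_E1.fr_mem_of_mem_hIdeal i'.ker x hx hF h k
      rwa [Scheme.Hom.ker_apply] at this
  haveI : IsClosedImmersion (Proj.map φ hφ) :=
    Groth.Agent.H18.proj_map_isClosedImmersion φ hφs hφ
  have hK : (Proj.map φ hφ).ker = i'.ker :=
    Groth.Agent.H18.ProjSubMain.ker_projMap_eq i'.ker x hx hcov φ hφ hφs hkerφ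
  exact exists_iso_of_ker_eq i' (Proj.map φ hφ) hK

end Groth.Agent.H18.ProjQMain
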