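import Groth.Agent.H18.ProjBasic
import Mathlib.AlgebraicGeometry.Properties

set_option autoImplicit false
universe u

namespace Groth.Agent.H18

open AlgebraicGeometry HomogeneousIdeal HomogeneousLocalization

section
variable {A σ : Type*} [CommRing A] [SetLike σ A] [AddSubgroupClass σ A]
  (𝒜 : ℕ → σ) [GradedRing 𝒜]

/-- If the irrelevant ideal has no nonzero nilpotent, the degree-zero localization away from a
homogeneous element of positive degree is reduced. -/
theorem isReduced_away {f : A} {d : ℕ} (hd : 0 < d) (hf : f ∈ 𝒜 d)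
    (hred : ∀ g ∈ (HomogeneousIdeal.irrelevant 𝒜).toIdeal, IsNilpotent g → g = 0) :
    IsReduced (HomogeneousLocalization.Away 𝒜 f) := by
  refine ⟨fun x hx => ?_⟩
  obtain ⟨n, a, ha, rfl⟩ := Away.mk_surjective 𝒜 hf x
  obtain ⟨k, hk⟩ := hx
  have hk' := congrArg HomogeneousLocalization.val hk
  rw [val_pow, Away.val_mk, val_zero, Localization.mk_pow, Localization.mk_eq_mk',
    IsLocalization.mk'_eq_zero_iff] at hk'
  obtain ⟨⟨_, m, rfl⟩, hm⟩ := hk'
  have hfa : f * a = 0 := by
    apply hred
    · exact Ideal.mul_mem_right _ _ (HomogeneousIdeal.mem_irrelevant_of_mem 𝒜 hd hf)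
    · refine ⟨m + k, ?_⟩
      calc (f * a) ^ (m + k) = f ^ k * a ^ m * (f ^ m * a ^ k) := by ring
        _ = 0 := by rw [hm, mul_zero]
  apply HomogeneousLocalization.val_injective
  rw [Away.val_mk, val_zero, Localization.mk_eq_mk', IsLocalization.mk'_eq_zero_iff]
  exact ⟨⟨f, 1, pow_one f⟩, hfa⟩

end

section
variable {A σ : Type u} [CommRing A] [SetLike σ A] [AddSubgroupClass σ A]
  (𝒜 : ℕ → σ) [GradedRing 𝒜]

/-- `Proj` of an essentially reduced graded ring is reduced. -/
theorem proj_isReduced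
    (hred : ∀ g ∈ (HomogeneousIdeal.irrelevant 𝒜).toIdeal, IsNilpotent g → g = 0) :
    AlgebraicGeometry.IsReduced (Proj 𝒜) := by
  have : ∀ i, AlgebraicGeometry.IsReduced ((Proj.affineOpenCover 𝒜).openCover.X i) := by
    intro i
    have : _root_.IsReduced (HomogeneousLocalization.Away 𝒜 (i.2 : A)) :=
      isReduced_away 𝒜 i.1.2 i.2.2 hred
    show AlgebraicGeometry.IsReduced (Spec (.of (HomogeneousLocalization.Away 𝒜 (i.2 : A))))
    infer_instance
  exact AlgebraicGeometry.IsReduced.of_openCover (X := Proj 𝒜) (Proj.affineOpenCover 𝒜).openCover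

end
end Groth.Agent.H18
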