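import Groth.Prelude.Def_CohB1
import Mathlib.AlgebraicGeometry.Morphisms.UnderlyingMap
import Mathlib.AlgebraicGeometry.PullbackCarrier

set_option autoImplicit false
universe u

namespace Groth.Agent.H18

open AlgebraicGeometry CategoryTheory HomogeneousLocalization

section
variable (n : ℕ) (R : Type u) [CommRing R]

/-- Evaluation of polynomials at the point `(1 : 0 : ⋯ : 0)`. -/
noncomputable def evalPt : MvPolynomial (Fin (n + 1)) R →+* R :=
  MvPolynomial.eval (fun i => if i = 0 then 1 else 0)

theorem evalPt_X0 : evalPt n R (MvPolynomial.X 0) = 1 := by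
  simp [evalPt]

theorem evalPt_C (r : R) : evalPt n R (MvPolynomial.C r) = r := by
  simp [evalPt]

/-- The ring map from the degree-zero localization away from `X 0` to `R`. -/
noncomputable def awayEval :
    Away (CohB1.polyGrading n R) (MvPolynomial.X 0 : MvPolynomial (Fin (n + 1)) R) →+* R :=
  (IsLocalization.Away.lift (MvPolynomial.X 0 : MvPolynomial (Fin (n + 1)) R)
    (g := evalPt n R) (by rw [evalPt_X0]; exact isUnit_one)).comp
    (algebraMap (Away (CohB1.polyGrading n R) (MvPolynomial.X 0 : MvPolynomial (Fin (n + 1)) R))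
      (Localization.Away (MvPolynomial.X 0 : MvPolynomial (Fin (n + 1)) R)))

theorem X0_mem : (MvPolynomial.X 0 : MvPolynomial (Fin (n + 1)) R) ∈ CohB1.polyGrading n R 1 :=
  MvPolynomial.isHomogeneous_X R 0

theorem awayEval_comp :
    (awayEval n R).comp ((fromZeroRingHom (CohB1.polyGrading n R) _).comp
      (algebraMap R (CohB1.polyGrading n R 0))) = RingHom.id R := by
  ext r
  simp only [awayEval, RingHom.comp_apply, RingHom.id_apply]
  have h1 : (algebraMap (Away (CohB1.polyGrading n R) (MvPolynomial.X 0 : MvPolynomial (Fin (n + 1)) R))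
      (Localization.Away (MvPolynomial.X 0 : MvPolynomial (Fin (n + 1)) R)))
      (fromZeroRingHom (CohB1.polyGrading n R) _ (algebraMap R (CohB1.polyGrading n R 0) r)) =
      algebraMap (MvPolynomial (Fin (n + 1)) R) _ (MvPolynomial.C r) := by
    rw [HomogeneousLocalization.algebraMap_apply]
    rfl
  rw [h1, IsLocalization.Away.lift_eq, evalPt_C]

theorem exists_section_aux :
    ∃ s : Spec (CommRingCat.of R) ⟶ Proj (CohB1.polyGrading n R),
      s ≫ (Proj.toSpecZero (CohB1.polyGrading n R) ≫
        Spec.map (CommRingCat.ofHom (algebraMap R (CohB1.polyGrading n R 0)))) = 𝟙 _ := by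
  refine ⟨Spec.map (CommRingCat.ofHom (awayEval n R)) ≫
    Proj.awayι (CohB1.polyGrading n R) _ (X0_mem n R) Nat.one_pos, ?_⟩
  rw [Category.assoc, Proj.awayι_toSpecZero_assoc, ← Spec.map_comp,
    ← Spec.map_comp, ← CommRingCat.ofHom_comp, ← CommRingCat.ofHom_comp]
  rw [show (awayEval n R).comp ((fromZeroRingHom (CohB1.polyGrading n R) _).comp
      (algebraMap R (CohB1.polyGrading n R 0))) = RingHom.id R from awayEval_comp n R]
  exact Spec.map_id _

/-- The structure morphism of projective space has a section. -/
theorem exists_section_projSpace_toSpec :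
    ∃ s : Spec (CommRingCat.of R) ⟶ CohB1.ProjSpace n R, s ≫ CohB1.ProjSpace.toSpec n R = 𝟙 _ :=
  exists_section_aux n R

instance projSpace_toSpec_surjective : Surjective (CohB1.ProjSpace.toSpec n R) := by
  obtain ⟨s, hs⟩ := exists_section_projSpace_toSpec n R
  refine ⟨fun x => ⟨s.base x, ?_⟩⟩
  have := congrArg (fun f => f.base x) hs
  simpa using this

end
end Groth.Agent.H18
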