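import Mathlib.RingTheory.GradedAlgebra.Homogeneous.Ideal
import Mathlib.RingTheory.GradedAlgebra.RingHom
import Mathlib.RingTheory.Ideal.Quotient.Operations

set_option autoImplicit false
universe u

namespace Groth.Agent.H18

section
variable {R A : Type u} [CommRing R] [CommRing A] [Algebra R A] (𝒜 : ℕ → Submodule R A)
  [GradedAlgebra 𝒜] (I : Ideal A)

/-- The image grading on a quotient ring. -/
def quotGrading (n : ℕ) : Submodule R (A ⧸ I) :=
  (𝒜 n).map (Ideal.Quotient.mkₐ R I).toLinearMap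

theorem mem_quotGrading {n : ℕ} {q : A ⧸ I} :
    q ∈ quotGrading 𝒜 I n ↔ ∃ a ∈ 𝒜 n, Ideal.Quotient.mk I a = q := Iff.rfl

/-- The quotient of a graded algebra by a homogeneous ideal is graded. -/
noncomputable def quotGradedAlgebra (hI : I.IsHomogeneous 𝒜) : GradedAlgebra (quotGrading 𝒜 I) := by
  classical
  have hmem : ∀ (i : ℕ) (x : 𝒜 i), (Ideal.Quotient.mk I : A →+ A ⧸ I) x ∈ quotGrading 𝒜 I i :=
    fun i x => ⟨x, x.2, rfl⟩
  let c : ∀ i, 𝒜 i →+ quotGrading 𝒜 I i := fun i =>
    (((Ideal.Quotient.mk I : A →+ A ⧸ I)).comp (𝒜 i).subtype.toAddMonoidHom).codRestrict _ (hmem i)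
  let g : A →+ DirectSum ℕ (fun i => quotGrading 𝒜 I i) :=
    (DirectSum.map c).comp (DirectSum.decomposeAddEquiv 𝒜).toAddMonoidHom
  have hg : (Ideal.Quotient.mk I : A →+ A ⧸ I).ker ≤ g.ker := by
    intro a ha
    rw [AddMonoidHom.mem_ker] at ha ⊢
    have haI : a ∈ I := Ideal.Quotient.eq_zero_iff_mem.mp ha
    refine DFinsupp.ext fun i => Subtype.ext ?_
    show (Ideal.Quotient.mk I) ((DirectSum.decompose 𝒜 a i : A)) = 0
    exact Ideal.Quotient.eq_zero_iff_mem.mpr (hI i haI)
  have hsurj : Function.Surjective (Ideal.Quotient.mk I : A →+ A ⧸ I) :=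
    Ideal.Quotient.mk_surjective
  let D : A ⧸ I →+ DirectSum ℕ (fun i => quotGrading 𝒜 I i) :=
    (Ideal.Quotient.mk I : A →+ A ⧸ I).liftOfSurjective hsurj ⟨g, hg⟩
  have hD : ∀ a : A, D ((Ideal.Quotient.mk I : A →+ A ⧸ I) a) = g a := fun a =>
    AddMonoidHom.liftOfRightInverse_comp_apply _ _ _ ⟨g, hg⟩ a
  have hghom : ∀ (i : ℕ) (a : A) (ha : a ∈ 𝒜 i), g a =
      DirectSum.of (fun i => quotGrading 𝒜 I i) i (c i ⟨a, ha⟩) := by
    intro i a ha
    show DirectSum.map c (DirectSum.decompose 𝒜 a) = _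
    rw [DirectSum.decompose_of_mem 𝒜 ha, DirectSum.map_of]
  exact
    { one_mem := ⟨1, SetLike.GradedOne.one_mem, map_one (Ideal.Quotient.mk I)⟩
      mul_mem := by
        rintro i j _ _ ⟨a, ha, rfl⟩ ⟨b, hb, rfl⟩
        exact ⟨a * b, SetLike.GradedMul.mul_mem ha hb, map_mul (Ideal.Quotient.mk I) a b⟩
      decompose' := D
      left_inv := by
        intro q
        obtain ⟨a, rfl⟩ := hsurj q
        rw [hD]
        induction a using DirectSum.Decomposition.inductionOn 𝒜 with
        | zero => simp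
        | homogeneous x =>
          rw [hghom _ x x.2, DirectSum.coeAddMonoidHom_of]
          rfl
        | add x y hx hy => rw [map_add, map_add, hx, hy, map_add]
      right_inv := by
        intro z
        induction z using DirectSum.induction_on with
        | zero => simp
        | of i b =>
          obtain ⟨b, a, ha, rfl⟩ := b
          rw [DirectSum.coeAddMonoidHom_of]
          show D ((Ideal.Quotient.mk I : A →+ A ⧸ I) a) = _
          rw [hD, hghom i a ha]
          rfl
        | add x y hx hy => rw [map_add, map_add, hx, hy] }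

end
end Groth.Agent.H18
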