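import Groth.Agent.H18.Serre.Frac
import Groth.Agent.H18.QuotGrading
import Mathlib.AlgebraicGeometry.IdealSheaf.Subscheme

/-!
# Closed subschemes of `Proj 𝒜` are `Proj (𝒜 / I)`: definitions (for S3585)

`𝒜` is generated in degree one by `x : ι → A`.  For an ideal sheaf `ℐ` on `Proj 𝒜` the homogeneous
ideal `hIdeal ℐ x hx` is generated by the homogeneous `a ∈ 𝒜 d` with `a / x_i^d ∈ ℐ(D₊(x_i))` for
all `i`.
-/

set_option autoImplicit false
universe u
open CategoryTheory AlgebraicGeometry HomogeneousIdeal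

namespace Groth.Agent.H18.ProjSub

open Groth.Agent.H18.Serre

variable {R A : Type u} [CommRing R] [CommRing A] [Algebra R A]
  (𝒜 : ℕ → Submodule R A) [GradedAlgebra 𝒜]

/-- the standard chart `D₊(g)`, `g` of degree one, as an affine open -/
def chartOpen {g : A} (hg : g ∈ 𝒜 1) : (Proj 𝒜).affineOpens :=
  ⟨Proj.basicOpen 𝒜 g, Proj.isAffineOpen_basicOpen 𝒜 g hg one_pos⟩

/-- the function `a / g^d` on `D₊(g)` -/
noncomputable def fr {g : A} (hg : g ∈ 𝒜 1) (d : ℕ) (a : A) (ha : a ∈ 𝒜 d) :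
    Γ(Proj 𝒜, Proj.basicOpen 𝒜 g) :=
  frac 𝒜 (Proj.basicOpen 𝒜 g) ha (pow_mem_one 𝒜 hg d) (nv_pow 𝒜 le_rfl d)

variable {𝒜} {ι : Type*} (ℐ : (Proj 𝒜).IdealSheafData) (x : ι → A) (hx : ∀ i, x i ∈ 𝒜 1)

/-- the homogeneous elements vanishing on the closed subscheme -/
def gens : Set A :=
  {a | ∃ (d : ℕ) (ha : a ∈ 𝒜 d), ∀ i, fr 𝒜 (hx i) d a ha ∈ ℐ.ideal (chartOpen 𝒜 (hx i))}

/-- the homogeneous ideal of the closed subscheme -/
def hIdeal : Ideal A := Ideal.span (gens ℐ x hx)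

end Groth.Agent.H18.ProjSub
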