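import Groth.Agent.H18.ProjUPUniqFinal
import Groth.Agent.H18.AffineRel

/-!
# Sections of projective space over an affine base are determined by their relations
-/

set_option autoImplicit false
universe u

open CategoryTheory AlgebraicGeometry TopologicalSpace Opposite
open Groth.Agent.H8 (res_res res_smul ringRes_res section_eq_of_cover app_res)
open Groth.Agent.H18.SecTw Groth.Agent.H18.TensorGen
open Groth.Agent.H18.ToProj Groth.Agent.H18.ToProjGen
open Groth.Agent.H18.ProjUPSym Groth.Agent.H18.ProjUPUniq Groth.Agent.H18.ProjUPUniqFinal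
open HomogeneousLocalization

namespace Groth.Agent.H18.ProjUPKernel

noncomputable section

section Core

variable {R A : Type u} [CommRing R] [CommRing A] [Algebra R A] (𝒜 : ℕ → Submodule R A)
  [GradedAlgebra 𝒜] {X : Scheme.{u}} {I : Type u} (g : I → A) (hg : ∀ i, g i ∈ 𝒜 1)

/-- Two morphisms to `Proj 𝒜` agreeing on the fractions `g j / g i` over a cover by opens mapped
into the `D₊(g i)` by both are equal. -/
theorem to_proj_ext_core
    (hext : ∀ (i : I) (B : Type u) [CommRing B] (φ φ' : Away 𝒜 (g i) →+* B),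
      (∀ c : R, φ (constMapG 𝒜 (g i) c) = φ' (constMapG 𝒜 (g i) c)) →
      (∀ j, φ (uFracG 𝒜 (hg i) (hg j)) = φ' (uFracG 𝒜 (hg i) (hg j))) → φ = φ')
    (r r' : X ⟶ Proj 𝒜)
    (hrr' : r ≫ Proj.toSpecZero 𝒜 ≫ Spec.map (CommRingCat.ofHom (algebraMap R (𝒜 0))) =
      r' ≫ Proj.toSpecZero 𝒜 ≫ Spec.map (CommRingCat.ofHom (algebraMap R (𝒜 0))))
    (U : I → X.Opens) (hcov : ∀ x : X, ∃ i, x ∈ U i)
    (e : ∀ i, U i ≤ r ⁻¹ᵁ Proj.basicOpen 𝒜 (g i))
    (e' : ∀ i, U i ≤ r' ⁻¹ᵁ Proj.basicOpen 𝒜 (g i))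
    (hfrac : ∀ i j, (r.appLE (Proj.basicOpen 𝒜 (g i)) (U i) (e i)).hom
        (uSecG 𝒜 (hg i) (hg j)) =
      (r'.appLE (Proj.basicOpen 𝒜 (g i)) (U i) (e' i)).hom (uSecG 𝒜 (hg i) (hg j))) :
    r = r' := by
  have hU : IsOpenCover U := isOpenCover_of_forall _ hcov
  refine (X.openCoverOfIsOpenCover _ hU).hom_ext _ _ fun i => ?_
  show (U i).ι ≫ r = (U i).ι ≫ r'
  have hk : ∀ (ρ : X ⟶ Proj 𝒜) (e : U i ≤ ρ ⁻¹ᵁ Proj.basicOpen 𝒜 (g i)),
      (U i).toSpecΓ ≫ Spec.map (CommRingCat.ofHom (algebraMap R (𝒜 0)) ≫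
        CommRingCat.ofHom (fromZeroRingHom 𝒜 (Submonoid.powers (g i))) ≫
        (Proj.awayToSection 𝒜 (g i) ≫ ρ.appLE (Proj.basicOpen 𝒜 (g i)) (U i) e)) =
      (U i).ι ≫ ρ ≫ Proj.toSpecZero 𝒜 ≫
        Spec.map (CommRingCat.ofHom (algebraMap R (𝒜 0))) := by
    intro ρ e
    rw [Spec.map_comp, Spec.map_comp, ← Proj.awayι_toSpecZero 𝒜 (g i) (hg i) Nat.one_pos,
      ← Category.assoc (U i).ι, restrict_eq_lift 𝒜 ρ (hg i) (U i) e]
    simp only [Category.assoc]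
  have hφ : Proj.awayToSection 𝒜 (g i) ≫
      r.appLE (Proj.basicOpen 𝒜 (g i)) (U i) (e i) =
      Proj.awayToSection 𝒜 (g i) ≫
      r'.appLE (Proj.basicOpen 𝒜 (g i)) (U i) (e' i) := by
    apply CommRingCat.hom_ext
    refine hext i _ _ _ (fun c => ?_) (fun j => ?_)
    · have h1 := toSpecΓ_map_injective (U i) _ _
        ((hk r (e i)).trans ((congrArg (fun f => (U i).ι ≫ f) hrr').trans
          (hk r' (e' i)).symm))
      exact congrArg (fun κ => κ.hom c) h1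
    · exact hfrac i j
  rw [restrict_eq_lift 𝒜 r (hg i) _ (e i), restrict_eq_lift 𝒜 r' (hg i) _ (e' i), hφ]

end Core

section Poly

variable {R : Type u} [CommRing R] (n : ℕ)

/-- Over an affine scheme, a morphism to projective space is determined by the two-term relations
among the pulled-back coordinates. -/
theorem projSpace_ext_of_relations {X : Scheme.{u}} [IsAffine X]
    (s₁ s₂ : X ⟶ Proj (CohB1.polyGrading n R))
    (hss : s₁ ≫ Proj.toSpecZero (CohB1.polyGrading n R) ≫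
        Spec.map (CommRingCat.ofHom (algebraMap R (CohB1.polyGrading n R 0))) =
      s₂ ≫ Proj.toSpecZero (CohB1.polyGrading n R) ≫
        Spec.map (CommRingCat.ofHom (algebraMap R (CohB1.polyGrading n R 0))))
    (h12 : ∀ (i j : Fin (n + 1)) (u v : Γ(X, ⊤)),
      u • ProjUP.pullSec s₁ (Twist.twist (CohB1.polyGrading n R) 1)
          (Twist.globalOf (CohB1.polyGrading n R)
            ⟨MvPolynomial.X j, MvPolynomial.isHomogeneous_X R j⟩) =
        v • ProjUP.pullSec s₁ (Twist.twist (CohB1.polyGrading n R) 1)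
          (Twist.globalOf (CohB1.polyGrading n R)
            ⟨MvPolynomial.X i, MvPolynomial.isHomogeneous_X R i⟩) →
      u • ProjUP.pullSec s₂ (Twist.twist (CohB1.polyGrading n R) 1)
          (Twist.globalOf (CohB1.polyGrading n R)
            ⟨MvPolynomial.X j, MvPolynomial.isHomogeneous_X R j⟩) =
        v • ProjUP.pullSec s₂ (Twist.twist (CohB1.polyGrading n R) 1)
          (Twist.globalOf (CohB1.polyGrading n R)
            ⟨MvPolynomial.X i, MvPolynomial.isHomogeneous_X R i⟩)) :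
    s₁ = s₂ := by
  have hg : ∀ i : ULift.{u} (Fin (n + 1)),
      (MvPolynomial.X i.down : MvPolynomial (Fin (n + 1)) R) ∈ CohB1.polyGrading n R 1 :=
    fun i => MvPolynomial.isHomogeneous_X R i.down
  obtain ⟨g, hgdef⟩ : ∃ g : ULift.{u} (Fin (n + 1)) → MvPolynomial (Fin (n + 1)) R,
      g = fun i => MvPolynomial.X i.down := ⟨_, rfl⟩
  have hg' : ∀ i, g i ∈ CohB1.polyGrading n R 1 := by
    rw [hgdef]
    exact hg
  have hDcov : ∀ p : Proj (CohB1.polyGrading n R), ∃ i, p ∈ Proj.basicOpen _ (g i) := by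
    intro p
    obtain ⟨i, hi⟩ := ProjUPData.Dp_cover n R p
    rw [hgdef]
    exact ⟨⟨i⟩, hi⟩
  have hext := hext_of_gen (CohB1.polyGrading n R) g hg' (fun _ _ ψ ψ' h1 h2 => by
    refine MvPolynomial.ringHom_ext (fun c => ?_) (fun i => ?_)
    · have := h1 c
      rwa [MvPolynomial.algebraMap_eq] at this
    · have := h2 ⟨i⟩
      rw [hgdef] at this
      exact this)
  have hN : PicF.IsInvertible (N1 (CohB1.polyGrading n R)) :=
    isInvertible_N1 _ (fun y => by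
      obtain ⟨i, hi⟩ := hDcov y
      exact ⟨g i, hg' i, (ProjectiveSpectrum.mem_basicOpen _ _ _).mp hi⟩)
  obtain ⟨m₁, hm₁⟩ : ∃ m₁ : ULift.{u} (Fin (n + 1)) →
      Γ((Scheme.Modules.pullback s₁).obj (N1 (CohB1.polyGrading n R)), ⊤),
      m₁ = fun i => ProjUP.pullSec s₁ (N1 (CohB1.polyGrading n R)) (tG _ (hg' i)) := ⟨_, rfl⟩
  obtain ⟨m₂, hm₂⟩ : ∃ m₂ : ULift.{u} (Fin (n + 1)) →
      Γ((Scheme.Modules.pullback s₂).obj (N1 (CohB1.polyGrading n R)), ⊤),
      m₂ = fun i => ProjUP.pullSec s₂ (N1 (CohB1.polyGrading n R)) (tG _ (hg' i)) := ⟨_, rfl⟩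
  have hτ₁ : ∀ i, (Iso.refl ((Scheme.Modules.pullback s₁).obj (N1 (CohB1.polyGrading n R)))).hom.app ⊤
      (ProjUP.pullSec s₁ (N1 (CohB1.polyGrading n R)) (tG _ (hg' i))) = m₁ i := fun i => by
    rw [hm₁]
    rfl
  have hτ₂ : ∀ i, (Iso.refl ((Scheme.Modules.pullback s₂).obj (N1 (CohB1.polyGrading n R)))).hom.app ⊤
      (ProjUP.pullSec s₂ (N1 (CohB1.polyGrading n R)) (tG _ (hg' i))) = m₂ i := fun i => by
    rw [hm₂]
    rfl
  have hpre₁ := hpre_of_iso _ s₁ g hg' hDcov _ m₁ (Iso.refl _) hτ₁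
  have hpre₂ := hpre_of_iso _ s₂ g hg' hDcov _ m₂ (Iso.refl _) hτ₂
  have hP4₁ := fun i j => hP4_of_iso _ s₁ g hg' _ m₁ (Iso.refl _) hτ₁ i j (hpre₁ i).ge
  have hP4₂ := fun i j => hP4_of_iso _ s₂ g hg' _ m₂ (Iso.refl _) hτ₂ i j (hpre₂ i).ge
  have hcov₁ : ∀ x : X, ∃ i, x ∈ Us _ m₁ i := fun x => by
    obtain ⟨i, hi⟩ := hDcov (s₁ x)
    refine ⟨i, ?_⟩
    rw [← hpre₁ i]
    exact hi
  have hcov₂ : ∀ x : X, ∃ i, x ∈ Us _ m₂ i := fun x => by
    obtain ⟨i, hi⟩ := hDcov (s₂ x)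
    refine ⟨i, ?_⟩
    rw [← hpre₂ i]
    exact hi
  have hL₁ := Groth.Agent.H22.PullGen.isInvertible_pullback s₁ hN
  have h12' : ∀ (i j : ULift.{u} (Fin (n + 1))) (u v : Γ(X, ⊤)),
      u • m₁ j = v • m₁ i → u • m₂ j = v • m₂ i := by
    intro i j u v h
    rw [hm₁] at h
    rw [hm₂]
    subst hgdef
    exact h12 i.down j.down u v h
  have hle := AffineRel.Us_le _ _ m₁ m₂ h12' hL₁ hcov₂
  refine to_proj_ext_core _ g hg' hext s₁ s₂ hss (Us _ m₁) hcov₁ (fun i => (hpre₁ i).ge)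
    (fun i => (hle i).trans (hpre₂ i).ge) (fun i j => ?_)
  rw [hP4₁ i j, AffineRel.as_eq _ _ m₁ m₂ h12' hL₁ i j (hle i), ← hP4₂ i j]
  exact congrArg (fun φ => φ.hom (uSecG _ (hg' i) (hg' j)))
    (Scheme.Hom.appLE_map s₂ (hpre₂ i).ge (homOfLE (hle i)).op)

end Poly

end

end Groth.Agent.H18.ProjUPKernel
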