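import Mathlib

/-!
# Ring maps out of a graded symmetric algebra

* `gradeTwist 𝒜 ψ v`: the ring map `f ↦ Σ_d v^d ψ(f_d)` attached to a ring map `ψ` out of a
  graded ring and an element `v` of the target.
* For `ι : M → S` exhibiting `S` as a symmetric algebra: `ringHom_ext_sym`, `symLift`, and the
  scaling lemma `scale_of_sym` (two ring maps which agree on constants and differ by the factor
  `v` on `ι M` differ by `v ^ d` on homogeneous elements of degree `d`), `adjoin_range_eq_top`.
-/

set_option autoImplicit false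

namespace Groth.Agent.H18.SymScale

section Twist

variable {R A : Type*} [CommRing R] [CommRing A] [Algebra R A] (𝒜 : ℕ → Submodule R A)
  [GradedAlgebra 𝒜]
variable {B : Type*} [CommRing B]

/-- The grading twist of a ring map by an element `v`: `f ↦ Σ_d v^d ψ(f_d)`. -/
noncomputable def gradeTwist (ψ : A →+* B) (v : B) : A →+* B :=
  (DirectSum.toSemiring
    (fun d => (AddMonoidHom.mulLeft (v ^ d)).comp
      (ψ.toAddMonoidHom.comp (𝒜 d).subtype.toAddMonoidHom))
    (by simp [SetLike.coe_gOne])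
    (by intro i j ai aj; simp [SetLike.coe_gMul, pow_add]; ring)).comp
    (DirectSum.decomposeRingEquiv 𝒜).toRingHom

theorem gradeTwist_of_mem (ψ : A →+* B) (v : B) {d : ℕ} {f : A} (hf : f ∈ 𝒜 d) :
    gradeTwist 𝒜 ψ v f = v ^ d * ψ f := by
  unfold gradeTwist
  rw [RingHom.comp_apply]
  show DirectSum.toSemiring _ _ _ (DirectSum.decompose 𝒜 f) = _
  rw [DirectSum.decompose_of_mem 𝒜 hf, DirectSum.toSemiring_of]
  rfl

end Twist

section Sym

variable {R S : Type*} [CommRing R] [CommRing S] [Algebra R S] {M : Type*} [AddCommGroup M]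
  [Module R M] {ι : M →ₗ[R] S} (hsym : IsSymmetricAlgebra ι)
variable {B : Type*} [CommRing B]

include hsym in
theorem ringHom_ext_sym (φ φ' : S →+* B)
    (hc : ∀ c : R, φ (algebraMap R S c) = φ' (algebraMap R S c))
    (hι : ∀ m, φ (ι m) = φ' (ι m)) : φ = φ' := by
  refine RingHom.ext fun a => ?_
  induction a using hsym.induction with
  | algebraMap r => exact hc r
  | ι x => exact hι x
  | mul a b ha hb => rw [map_mul, map_mul, ha, hb]
  | add a b ha hb => rw [map_add, map_add, ha, hb]

/-- The ring map out of a symmetric algebra determined by a ring map on constants and a compatible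
additive map on generators. -/
noncomputable def symLift (κ : R →+* B) (a : M →+ B)
    (ha : ∀ (c : R) (m : M), a (c • m) = κ c * a m) : S →+* B :=
  letI := κ.toAlgebra
  (hsym.lift ({ toFun := a, map_add' := a.map_add, map_smul' := fun c m => ha c m } :
    M →ₗ[R] B)).toRingHom

theorem symLift_ι (κ : R →+* B) (a : M →+ B)
    (ha : ∀ (c : R) (m : M), a (c • m) = κ c * a m) (m : M) :
    symLift hsym κ a ha (ι m) = a m := by
  letI := κ.toAlgebra
  exact hsym.lift_eq _ m

theorem symLift_algebraMap (κ : R →+* B) (a : M →+ B)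
    (ha : ∀ (c : R) (m : M), a (c • m) = κ c * a m) (c : R) :
    symLift hsym κ a ha (algebraMap R S c) = κ c := by
  letI := κ.toAlgebra
  exact (hsym.lift ({ toFun := a, map_add' := a.map_add, map_smul' := fun c m => ha c m } :
    M →ₗ[R] B)).commutes c

include hsym in
theorem scale_of_sym (𝒮 : ℕ → Submodule R S) [GradedAlgebra 𝒮] (hι1 : ∀ m, ι m ∈ 𝒮 1)
    (ψ ψ' : S →+* B) (v : B)
    (hc : ∀ c : R, ψ' (algebraMap R S c) = ψ (algebraMap R S c))
    (hm : ∀ m, ψ' (ι m) = v * ψ (ι m)) {d : ℕ} {f : S} (hf : f ∈ 𝒮 d) :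
    ψ' f = v ^ d * ψ f := by
  have h : ψ' = gradeTwist 𝒮 ψ v := by
    refine ringHom_ext_sym hsym _ _ (fun c => ?_) (fun m => ?_)
    · rw [gradeTwist_of_mem 𝒮 ψ v (SetLike.algebraMap_mem_graded 𝒮 c), pow_zero, one_mul, hc]
    · rw [gradeTwist_of_mem 𝒮 ψ v (hι1 m), pow_one, hm]
  rw [h, gradeTwist_of_mem 𝒮 ψ v hf]

include hsym in
theorem adjoin_range_eq_top (𝒮 : ℕ → Submodule R S) [GradedAlgebra 𝒮] :
    Algebra.adjoin (𝒮 0) (Set.range (fun m => ι m)) = ⊤ := by
  rw [eq_top_iff]
  intro a _
  refine hsym.induction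
    (motive := fun a => a ∈ Algebra.adjoin (𝒮 0) (Set.range fun m => ι m)) ?_ ?_ ?_ ?_ a
  · intro r
    have h : algebraMap R S r =
        algebraMap (𝒮 0) S ⟨algebraMap R S r, SetLike.algebraMap_mem_graded 𝒮 r⟩ := rfl
    rw [h]
    exact Subalgebra.algebraMap_mem _ _
  · intro x
    exact Algebra.subset_adjoin ⟨x, rfl⟩
  · intro a b ha hb
    exact Subalgebra.mul_mem _ ha hb
  · intro a b ha hb
    exact Subalgebra.add_mem _ ha hb

end Sym

end Groth.Agent.H18.SymScale
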