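import Groth.Agent.H18.ToProjGen
import Groth.Agent.H18.SymScale
import Groth.Agent.H18.IsoOfGen
import Groth.Agent.H18.GenLocusGen
import Groth.Agent.H18.TensorPowIso
import Groth.Agent.H18.TwistGenerated
import Groth.Agent.H18.TwistRestrict
import Groth.Agent.H22.PullGen
import Groth.Agent.H8.QCohPush

/-!
# Universal property of `Proj` of a graded ring generated in degree one: existence

General version of `H18/ProjUPExist`: a graded ring `𝒜`, a family `g i` of elements of degree one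
whose `D₊(g i)` cover `Proj 𝒜`, a scheme `X` with an invertible module `L` and generating global
sections `s i`, and ring maps `ψ i : A →+* Γ(X, X_{s i})` with `ψ i (g j) = s j / s i` compatible
on overlaps.  Then there is `r : X ⟶ Proj 𝒜` with `r^* O(1) ≅ L`, `r^*(g i) ↦ s i`.
Applied to symmetric algebras in `exists_to_proj_sym`.
-/

set_option autoImplicit false
universe u

open CategoryTheory AlgebraicGeometry TopologicalSpace Opposite
open Groth.Agent.H8 (res_res res_smul ringRes_res section_eq_of_cover app_res)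
open Groth.Agent.H18.SecTw Groth.Agent.H18.TensorGen
open Groth.Agent.H18.HomOfGens Groth.Agent.H18.IsoOfGen Groth.Agent.H18.ToProjGen

namespace Groth.Agent.H18.ProjUPSym

noncomputable section

section LSide

variable {X : Scheme.{u}} (L : X.Modules) {I : Type*} (s : I → Γ(L, ⊤))

/-- The section `s i` as a morphism `O_X ⟶ L`. -/
def σ (i : I) : Coh.structureModule X ⟶ L := TensorPowIso.secHom L (s i)

/-- The open `X_{s i}`. -/
def Us (i : I) : X.Opens := CohB1.genLocus L (σ L s i)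

theorem sv_σ (k : I) (V : X.Opens) :
    sv (σ L s k) V = L.presheaf.map (homOfLE (le_top : V ≤ ⊤)).op (s k) :=
  TensorPowIso.sv_secHom L (s k) V

theorem isGen_sv (i : I) : IsGen L (Us L s i) (sv (σ L s i) (Us L s i)) :=
  GenLocusGen.isGen_sv_genLocus _

theorem exists_coeff (i k : I) :
    ∃ a : Γ(X, Us L s i), a • sv (σ L s i) (Us L s i) = sv (σ L s k) (Us L s i) :=
  (isGen_sv L s i).self.2 _

/-- The transition function `s k / s i` on `X_{s i}`. -/
def as (i k : I) : Γ(X, Us L s i) := (exists_coeff L s i k).choose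

theorem as_spec (i k : I) :
    as L s i k • sv (σ L s i) (Us L s i) = sv (σ L s k) (Us L s i) :=
  (exists_coeff L s i k).choose_spec

theorem as_self (i : I) : as L s i i = 1 := by
  apply (isGen_sv L s i).self.1
  show as L s i i • sv (σ L s i) (Us L s i) = (1 : Γ(X, Us L s i)) • sv (σ L s i) (Us L s i)
  rw [as_spec, one_smul]

theorem as_cocycle (i j k : I) :
    X.presheaf.map (homOfLE (inf_le_right : Us L s i ⊓ Us L s j ≤ Us L s j)).op (as L s j k) =
      X.presheaf.map (homOfLE (inf_le_right : Us L s i ⊓ Us L s j ≤ Us L s j)).op (as L s j i) *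
        X.presheaf.map (homOfLE (inf_le_left : Us L s i ⊓ Us L s j ≤ Us L s i)).op
          (as L s i k) := by
  apply ((isGen_sv L s j) (Us L s i ⊓ Us L s j) inf_le_right).1
  show X.presheaf.map (homOfLE (inf_le_right : Us L s i ⊓ Us L s j ≤ Us L s j)).op (as L s j k) •
      L.presheaf.map (homOfLE (inf_le_right : Us L s i ⊓ Us L s j ≤ Us L s j)).op
        (sv (σ L s j) (Us L s j)) =
    (X.presheaf.map (homOfLE (inf_le_right : Us L s i ⊓ Us L s j ≤ Us L s j)).op (as L s j i) *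
      X.presheaf.map (homOfLE (inf_le_left : Us L s i ⊓ Us L s j ≤ Us L s i)).op (as L s i k)) •
      L.presheaf.map (homOfLE (inf_le_right : Us L s i ⊓ Us L s j ≤ Us L s j)).op
        (sv (σ L s j) (Us L s j))
  rw [← res_smul, as_spec, sv_res, mul_comm, mul_smul, ← res_smul, as_spec, sv_res]
  have h : sv (σ L s i) (Us L s i ⊓ Us L s j) =
      L.presheaf.map (homOfLE (inf_le_left : Us L s i ⊓ Us L s j ≤ Us L s i)).op
        (sv (σ L s i) (Us L s i)) := (sv_res _ _).symm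
  rw [h, ← res_smul, as_spec, sv_res]

theorem as_basicOpen (k i : I) : X.basicOpen (as L s k i) = Us L s i ⊓ Us L s k :=
  (genLocus_inf_of_isGen (σ L s i) (isGen_sv L s k) (as L s k i) (as_spec L s k i).symm).symm

/-- Transition functions are determined by the defining relation. -/
theorem as_eq_of (i k : I) (a : Γ(X, Us L s i))
    (h : a • sv (σ L s i) (Us L s i) = sv (σ L s k) (Us L s i)) : as L s i k = a := by
  apply (isGen_sv L s i).self.1
  show as L s i k • sv (σ L s i) (Us L s i) = a • sv (σ L s i) (Us L s i)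
  rw [as_spec, h]

/-- A scalar of the stalk killing the germ of a free generator is zero. -/
theorem stalk_smul_eq_zero {V : X.Opens} (l : Γ(L, V)) (hl : IsGen L V l) (x : X) (hxV : x ∈ V)
    (w : X.presheaf.stalk x) (hw : w • L.presheaf.germ V x hxV l = 0) : w = 0 := by
  obtain ⟨V₁, hxV₁, w', rfl⟩ := TopCat.Presheaf.exists_germ_eq X.presheaf w
  have hxW : x ∈ V₁ ⊓ V := ⟨hxV₁, hxV⟩
  have e1 : X.presheaf.germ V₁ x hxV₁ w' = X.presheaf.germ (V₁ ⊓ V) x hxW
      (X.presheaf.map (homOfLE (inf_le_left : V₁ ⊓ V ≤ V₁)).op w') :=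
    (TopCat.Presheaf.germ_res_apply X.presheaf (homOfLE inf_le_left) x hxW w').symm
  have e2 : L.presheaf.germ V x hxV l = L.presheaf.germ (V₁ ⊓ V) x hxW
      (L.presheaf.map (homOfLE (inf_le_right : V₁ ⊓ V ≤ V)).op l) :=
    (TopCat.Presheaf.germ_res_apply L.presheaf (homOfLE inf_le_right) x hxW l).symm
  rw [e1, e2, ← TwistGenerated.germ_smul'] at hw
  have hw0 : L.presheaf.germ (V₁ ⊓ V) x hxW
      (X.presheaf.map (homOfLE (inf_le_left : V₁ ⊓ V ≤ V₁)).op w' •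
        L.presheaf.map (homOfLE (inf_le_right : V₁ ⊓ V ≤ V)).op l) =
      L.presheaf.germ (V₁ ⊓ V) x hxW 0 := by
    rw [hw, map_zero]
  obtain ⟨W', hxW', iU, iV, hzero⟩ := TopCat.Presheaf.germ_eq L.presheaf x hxW hxW _ _ hw0
  have hiU : iU = homOfLE (leOfHom iU) := Subsingleton.elim _ _
  rw [hiU, map_zero, res_smul, res_res] at hzero
  have h0 : X.presheaf.map (homOfLE (leOfHom iU)).op
      (X.presheaf.map (homOfLE (inf_le_left : V₁ ⊓ V ≤ V₁)).op w') = 0 := by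
    apply (hl W' ((leOfHom iU).trans inf_le_right)).1
    show _ • L.presheaf.map (homOfLE ((leOfHom iU).trans inf_le_right)).op l =
      (0 : Γ(X, W')) • L.presheaf.map (homOfLE ((leOfHom iU).trans inf_le_right)).op l
    rw [zero_smul]
    exact hzero
  rw [e1, ← TopCat.Presheaf.germ_res_apply X.presheaf (homOfLE (leOfHom iU)) x hxW', h0, map_zero]

/-- If the germs of the `s i` span the stalks of the invertible module `L`, the opens `X_{s i}`
cover `X`. -/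
theorem cover_of_generatedBy (hL : PicF.IsInvertible L) (hs : ProjUP.GeneratedBy L s) (x : X) :
    ∃ i, x ∈ Us L s i := by
  classical
  obtain ⟨V, l, hxV, hl⟩ := exists_isGen hL x
  have hc : ∀ i, ∃ c : Γ(X, V), c • l = sv (σ L s i) V := fun i => hl.self.2 _
  choose c hc using hc
  have hgerm : ∀ i, (L.presheaf.germ ⊤ x trivial).hom (s i) =
      X.presheaf.germ V x hxV (c i) • L.presheaf.germ V x hxV l := by
    intro i
    rw [← TwistGenerated.germ_smul', hc i, sv_σ]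
    exact (TopCat.Presheaf.germ_res_apply L.presheaf (homOfLE le_top) x hxV (s i)).symm
  have hmem : L.presheaf.germ V x hxV l ∈ Submodule.span (X.presheaf.stalk x)
      (Set.range fun i => (L.presheaf.germ ⊤ x trivial).hom (s i)) := by
    rw [hs x]
    trivial
  obtain ⟨t, ht⟩ := Finsupp.mem_span_range_iff_exists_finsupp.mp hmem
  have h1 : (1 - ∑ i ∈ t.support, t i * X.presheaf.germ V x hxV (c i)) •
      L.presheaf.germ V x hxV l = 0 := by
    rw [sub_smul, one_smul, Finset.sum_smul, sub_eq_zero]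
    conv_lhs => rw [← ht]
    rw [Finsupp.sum]
    refine Finset.sum_congr rfl fun i _ => ?_
    rw [hgerm i, mul_smul]
  have h2 := stalk_smul_eq_zero L l hl x hxV _ h1
  rw [sub_eq_zero] at h2
  have h3 : ∃ i, IsUnit (X.presheaf.germ V x hxV (c i)) := by
    by_contra hcon
    push Not at hcon
    have hmem : ∑ i ∈ t.support, t i * X.presheaf.germ V x hxV (c i) ∈
        IsLocalRing.maximalIdeal (X.presheaf.stalk x) := by
      refine Ideal.sum_mem _ fun i _ => ?_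
      exact Ideal.mul_mem_left _ _ ((IsLocalRing.mem_maximalIdeal _).mpr (hcon i))
    rw [← h2] at hmem
    exact (IsLocalRing.maximalIdeal.isMaximal _).ne_top ((Ideal.eq_top_iff_one _).mpr hmem)
  obtain ⟨i, hi⟩ := h3
  refine ⟨i, ?_⟩
  have hb : x ∈ X.basicOpen (c i) := (Scheme.mem_basicOpen X (c i) x hxV).mpr hi
  exact (mem_genLocus_iff_of_isGen (σ L s i) hl (c i) (hc i).symm x hxV).mpr hb

end LSide

section NSide

variable {R A : Type u} [CommRing R] [CommRing A] [Algebra R A] (𝒜 : ℕ → Submodule R A)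
  [GradedAlgebra 𝒜]

/-- `O(1)` on `Proj 𝒜`. -/
abbrev N1 : (Proj 𝒜).Modules := Twist.twist 𝒜 1

/-- The global section `g / 1` of `O(1)` for `g` of degree one. -/
def tG {g : A} (hg : g ∈ 𝒜 1) : Γ(N1 𝒜, ⊤) := Twist.globalOf 𝒜 ⟨g, hg⟩

/-- The section `g / 1` restricted to `D₊(g)`. -/
def αG {g : A} (hg : g ∈ 𝒜 1) : Γ(N1 𝒜, Proj.basicOpen 𝒜 g) :=
  (N1 𝒜).presheaf.map (homOfLE (le_top : Proj.basicOpen 𝒜 g ≤ ⊤)).op (tG 𝒜 hg)

set_option backward.isDefEq.respectTransparency false in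
theorem isGen_αG {g : A} (hg : g ∈ 𝒜 1) : IsGen (N1 𝒜) (Proj.basicOpen 𝒜 g) (αG 𝒜 hg) := by
  intro V' h
  exact TwistRestrict.bijective_smul_of_fraction 𝒜
    (W := TwistRestrict.ofProjOpens 𝒜 V') (k := 1) (p := 1) (q := 0)
    (u := g) (v := 1) hg SetLike.GradedOne.one_mem (by norm_num)
    (fun y => (ProjectiveSpectrum.mem_basicOpen 𝒜 _ _).mp (h y.2))
    (fun y hy => y.1.isPrime.ne_top ((Ideal.eq_top_iff_one _).mpr hy))
    ((N1 𝒜).presheaf.map (homOfLE h).op (αG 𝒜 hg)) (fun y => rfl)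

set_option backward.isDefEq.respectTransparency false in
theorem isInvertible_N1 (hcov : ∀ y : ProjectiveSpectrum 𝒜, ∃ g ∈ 𝒜 1, g ∉ y.asHomogeneousIdeal) :
    PicF.IsInvertible (N1 𝒜) := by
  have h := TwistRestrict.isInvertible_twist_of_cover 𝒜 1 1 hcov
  simpa using h

theorem mem_one_smul {h : A} (hh : h ∈ 𝒜 1) : h ∈ 𝒜 (1 • 1) := hh

/-- The fraction `h / g`. -/
def uFracG {g h : A} (hg : g ∈ 𝒜 1) (hh : h ∈ 𝒜 1) : HomogeneousLocalization.Away 𝒜 g :=
  HomogeneousLocalization.Away.mk 𝒜 hg 1 h (mem_one_smul 𝒜 hh)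

/-- The function `h / g` on `D₊(g)`. -/
def uSecG {g h : A} (hg : g ∈ 𝒜 1) (hh : h ∈ 𝒜 1) : Γ(Proj 𝒜, Proj.basicOpen 𝒜 g) :=
  (Proj.awayToSection 𝒜 g).hom (uFracG 𝒜 hg hh)

set_option backward.isDefEq.respectTransparency false in
theorem uSecG_val {g h : A} (hg : g ∈ 𝒜 1) (hh : h ∈ 𝒜 1) (y : Proj.basicOpen 𝒜 g) :
    (((uSecG 𝒜 hg hh).1 y : Twist.A0 𝒜 y.1)).val =
      Localization.mk h ⟨g, (ProjectiveSpectrum.mem_basicOpen 𝒜 _ _).mp y.2⟩ := by
  have h1 := ProjectiveSpectrum.Proj.awayToSection_apply 𝒜 g (uFracG 𝒜 hg hh) y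
  refine h1.trans ?_
  unfold uFracG
  rw [HomogeneousLocalization.Away.val_mk, Localization.mk_eq_mk', IsLocalization.map_mk',
    ← Localization.mk_eq_mk']
  refine Localization.mk_eq_mk_iff.mpr ?_
  rw [Localization.r_iff_exists]
  exact ⟨1, by simp⟩

set_option backward.isDefEq.respectTransparency false in
theorem tG_res {g h : A} (hg : g ∈ 𝒜 1) (hh : h ∈ 𝒜 1) :
    (N1 𝒜).presheaf.map (homOfLE (le_top : Proj.basicOpen 𝒜 g ≤ ⊤)).op (tG 𝒜 hh) =
      uSecG 𝒜 hg hh • αG 𝒜 hg := by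
  apply Subtype.ext
  funext y
  apply Subtype.ext
  have h1 := Twist.coe_smul_val (𝒜 := 𝒜) 1 y.1 ((uSecG 𝒜 hg hh).1 y) ((αG 𝒜 hg).1 y)
  refine Eq.trans ?_ h1.symm
  rw [uSecG_val]
  show Localization.mk h ⟨1, _⟩ = _ * Localization.mk g ⟨1, _⟩
  rw [Localization.mk_mul]
  refine Localization.mk_eq_mk_iff.mpr ?_
  rw [Localization.r_iff_exists]
  exact ⟨1, by simp; ring⟩

end NSide

section Main

variable {R A : Type u} [CommRing R] [CommRing A] [Algebra R A] (𝒜 : ℕ → Submodule R A)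
  [GradedAlgebra 𝒜] {I : Type u} (g : I → A) (hg : ∀ i, g i ∈ 𝒜 1)
  (hDcov : ∀ p : Proj 𝒜, ∃ i, p ∈ Proj.basicOpen 𝒜 (g i))
variable {X : Scheme.{u}} (L : X.Modules) (s : I → Γ(L, ⊤))
  (r : X ⟶ Proj 𝒜)
  (hpre : ∀ i, r ⁻¹ᵁ Proj.basicOpen 𝒜 (g i) = Us L s i)
  (hP4 : ∀ i j, (r.appLE (Proj.basicOpen 𝒜 (g i)) (Us L s i) (hpre i).ge).hom
    (uSecG 𝒜 (hg i) (hg j)) = as L s i j)

include hP4 in
/-- The key relation: `s j = r^♯(g j / g i) • s i` over `r⁻¹ V`, `V ⊆ D₊(g i)`. -/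
theorem key_rel (i j : I) (V : (Proj 𝒜).Opens) (hV : V ≤ Proj.basicOpen 𝒜 (g i)) :
    L.presheaf.map (homOfLE (le_top : r ⁻¹ᵁ V ≤ ⊤)).op (s j) =
      (r.app V).hom ((Proj 𝒜).presheaf.map (homOfLE hV).op (uSecG 𝒜 (hg i) (hg j))) •
        L.presheaf.map (homOfLE (le_top : r ⁻¹ᵁ V ≤ ⊤)).op (s i) := by
  have hle : r ⁻¹ᵁ V ≤ Us L s i := by
    rw [← hpre i]
    exact (Opens.map r.base).monotone hV
  have e1 := Scheme.Hom.appLE_map r (hpre i).ge (homOfLE hle).op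
  have e2 := Scheme.Hom.map_appLE r (le_refl (r ⁻¹ᵁ V)) (homOfLE hV).op
  have e3 : r.appLE V (r ⁻¹ᵁ V) le_rfl = r.app V := Scheme.Hom.appLE_eq_app r
  have e4 : r.appLE (Proj.basicOpen 𝒜 (g i)) (Us L s i) (hpre i).ge ≫
      X.presheaf.map (homOfLE hle).op = (Proj 𝒜).presheaf.map (homOfLE hV).op ≫ r.app V := by
    rw [e1, ← e3, e2]
  have e5 : X.presheaf.map (homOfLE hle).op (as L s i j) =
      (r.app V).hom ((Proj 𝒜).presheaf.map (homOfLE hV).op (uSecG 𝒜 (hg i) (hg j))) := by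
    rw [← hP4 i j]
    exact congrArg (fun f => f.hom (uSecG 𝒜 (hg i) (hg j))) e4
  rw [← e5, ← sv_σ L s j, ← sv_σ L s i, ← sv_res (σ L s j) hle, ← sv_res (σ L s i) hle,
    ← as_spec L s i j, res_smul]

include hDcov hpre hP4 in
theorem exists_psi :
    ∃ ψ : N1 𝒜 ⟶ (Scheme.Modules.pushforward r).obj L,
      ∀ i, ψ.app (Proj.basicOpen 𝒜 (g i)) (αG 𝒜 (hg i)) =
        (show Γ((Scheme.Modules.pushforward r).obj L, Proj.basicOpen 𝒜 (g i)) from
          L.presheaf.map (homOfLE (le_top : r ⁻¹ᵁ Proj.basicOpen 𝒜 (g i) ≤ ⊤)).op (s i)) := by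
  refine exists_hom_of_gens (X := Proj 𝒜) (A := N1 𝒜)
    (C := (Scheme.Modules.pushforward r).obj L) (D := fun i => Proj.basicOpen 𝒜 (g i))
    (α := fun i => αG 𝒜 (hg i))
    (γ := fun i => (show Γ((Scheme.Modules.pushforward r).obj L, Proj.basicOpen 𝒜 (g i)) from
      L.presheaf.map (homOfLE (le_top : r ⁻¹ᵁ Proj.basicOpen 𝒜 (g i) ≤ ⊤)).op (s i)))
    hDcov (fun i => isGen_αG 𝒜 (hg i)) ?_
  refine coh_of_transition (fun i => isGen_αG 𝒜 (hg i))
    (fun i j => (Proj 𝒜).presheaf.map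
      (homOfLE (inf_le_left : Proj.basicOpen 𝒜 (g i) ⊓ Proj.basicOpen 𝒜 (g j) ≤
        Proj.basicOpen 𝒜 (g i))).op (uSecG 𝒜 (hg i) (hg j))) ?_ ?_
  · intro i j
    have h1 : (N1 𝒜).presheaf.map (homOfLE (inf_le_right : Proj.basicOpen 𝒜 (g i) ⊓
        Proj.basicOpen 𝒜 (g j) ≤ Proj.basicOpen 𝒜 (g j))).op (αG 𝒜 (hg j)) =
        (N1 𝒜).presheaf.map (homOfLE (inf_le_left : Proj.basicOpen 𝒜 (g i) ⊓
          Proj.basicOpen 𝒜 (g j) ≤ Proj.basicOpen 𝒜 (g i))).op
          ((N1 𝒜).presheaf.map (homOfLE (le_top : Proj.basicOpen 𝒜 (g i) ≤ ⊤)).op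
            (tG 𝒜 (hg j))) := by
      unfold αG
      rw [res_res, res_res]
    rw [h1, tG_res 𝒜 (hg i) (hg j), res_smul]
  · intro i j
    show L.presheaf.map (homOfLE ((Opens.map r.base).monotone
        (inf_le_right : Proj.basicOpen 𝒜 (g i) ⊓ Proj.basicOpen 𝒜 (g j) ≤
          Proj.basicOpen 𝒜 (g j)))).op
        (L.presheaf.map (homOfLE (le_top : r ⁻¹ᵁ Proj.basicOpen 𝒜 (g j) ≤ ⊤)).op (s j)) =
      (r.app (Proj.basicOpen 𝒜 (g i) ⊓ Proj.basicOpen 𝒜 (g j))).hom ((Proj 𝒜).presheaf.map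
        (homOfLE (inf_le_left : Proj.basicOpen 𝒜 (g i) ⊓ Proj.basicOpen 𝒜 (g j) ≤
          Proj.basicOpen 𝒜 (g i))).op (uSecG 𝒜 (hg i) (hg j))) •
      L.presheaf.map (homOfLE ((Opens.map r.base).monotone
        (inf_le_left : Proj.basicOpen 𝒜 (g i) ⊓ Proj.basicOpen 𝒜 (g j) ≤
          Proj.basicOpen 𝒜 (g i)))).op
        (L.presheaf.map (homOfLE (le_top : r ⁻¹ᵁ Proj.basicOpen 𝒜 (g i) ≤ ⊤)).op (s i))
    rw [res_res, res_res]
    exact key_rel 𝒜 g hg L s r hpre hP4 i j _ inf_le_left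

include hDcov hpre hP4 in
theorem exists_tau :
    ∃ τ₀ : (Scheme.Modules.pullback r).obj (N1 𝒜) ⟶ L,
      ∀ i, τ₀.app ⊤ (ProjUP.pullSec r (N1 𝒜) (tG 𝒜 (hg i))) = s i := by
  obtain ⟨ψ, hψ⟩ := exists_psi 𝒜 g hg hDcov L s r hpre hP4
  refine ⟨((Scheme.Modules.pullbackPushforwardAdjunction r).homEquiv (N1 𝒜) L).symm ψ,
    fun i => ?_⟩
  have e1 : ψ = (Scheme.Modules.pullbackPushforwardAdjunction r).unit.app (N1 𝒜) ≫
      (Scheme.Modules.pushforward r).map
        (((Scheme.Modules.pullbackPushforwardAdjunction r).homEquiv (N1 𝒜) L).symm ψ) := by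
    have h := Adjunction.homEquiv_apply (Scheme.Modules.pullbackPushforwardAdjunction r) (N1 𝒜) L
      (((Scheme.Modules.pullbackPushforwardAdjunction r).homEquiv (N1 𝒜) L).symm ψ)
    rw [Equiv.apply_symm_apply] at h
    exact h
  have e2 : (((Scheme.Modules.pullbackPushforwardAdjunction r).homEquiv (N1 𝒜) L).symm ψ).app ⊤
      (ProjUP.pullSec r (N1 𝒜) (tG 𝒜 (hg i))) = ψ.app ⊤ (tG 𝒜 (hg i)) := by
    conv_rhs => rw [e1]
    rfl
  rw [e2]
  refine section_eq_of_cover L _ _ (fun x _ => ?_)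
  obtain ⟨j, hj⟩ := hDcov (r x)
  refine ⟨r ⁻¹ᵁ Proj.basicOpen 𝒜 (g j), le_top, hj, ?_⟩
  have h1 := app_res ψ (le_top : Proj.basicOpen 𝒜 (g j) ≤ ⊤) (tG 𝒜 (hg i))
  rw [tG_res 𝒜 (hg j) (hg i), Scheme.Modules.Hom.app_smul, hψ j] at h1
  have h2 := key_rel 𝒜 g hg L s r hpre hP4 j i (Proj.basicOpen 𝒜 (g j)) le_rfl
  have h3 : (Proj 𝒜).presheaf.map (homOfLE (le_refl (Proj.basicOpen 𝒜 (g j)))).op
      (uSecG 𝒜 (hg j) (hg i)) = uSecG 𝒜 (hg j) (hg i) := by
    have h : (homOfLE (le_refl (Proj.basicOpen 𝒜 (g j)))).op =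
        𝟙 (op (Proj.basicOpen 𝒜 (g j))) := rfl
    rw [h, CategoryTheory.Functor.map_id]
    rfl
  rw [h3] at h2
  exact h1.symm.trans h2.symm

include hDcov hpre hP4 in
/-- The conclusion: an isomorphism `r^* O(1) ≅ L` matching `r^*(g i)` with `s i`. -/
theorem exists_iso (hcov : ∀ x : X, ∃ i, x ∈ Us L s i) :
    ∃ τ : (Scheme.Modules.pullback r).obj (N1 𝒜) ≅ L,
      ∀ i, τ.hom.app ⊤ (ProjUP.pullSec r (N1 𝒜) (tG 𝒜 (hg i))) = s i := by
  obtain ⟨τ₀, hτ⟩ := exists_tau 𝒜 g hg hDcov L s r hpre hP4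
  have hN : PicF.IsInvertible (N1 𝒜) := isInvertible_N1 𝒜 (fun y => by
    obtain ⟨i, hi⟩ := hDcov y
    exact ⟨g i, hg i, (ProjectiveSpectrum.mem_basicOpen 𝒜 _ _).mp hi⟩)
  have hiso : IsIso τ₀ := by
    refine isIso_of_isGen_image (Groth.Agent.H22.PullGen.isInvertible_pullback r hN) τ₀
      (fun x => ?_)
    obtain ⟨i, hi⟩ := hcov x
    refine ⟨Us L s i, ((Scheme.Modules.pullback r).obj (N1 𝒜)).presheaf.map
      (homOfLE (le_top : Us L s i ≤ ⊤)).op (ProjUP.pullSec r (N1 𝒜) (tG 𝒜 (hg i))), hi, ?_⟩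
    rw [app_res, hτ i, ← sv_σ]
    exact isGen_sv L s i
  exact ⟨@asIso _ _ _ _ τ₀ hiso, hτ⟩

end Main

end

end Groth.Agent.H18.ProjUPSym
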