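import Groth.Agent.H18.ProjUPSym

/-!
# Existence part of the universal property of `Proj (Sym M)` over an affine base
-/

set_option autoImplicit false
universe u

open CategoryTheory AlgebraicGeometry TopologicalSpace Opposite
open Groth.Agent.H8 (res_res res_smul ringRes_res section_eq_of_cover app_res)
open Groth.Agent.H18.SecTw Groth.Agent.H18.TensorGen
open Groth.Agent.H18.ToProjGen Groth.Agent.H18.SymScale Groth.Agent.H18.ProjUPSym

namespace Groth.Agent.H18.ProjUPSymFinal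

noncomputable section

variable {A : Type u} [CommRing A] {M : Type u} [AddCommGroup M] [Module A M]
  {X : Scheme.{u}} (q : X ⟶ Spec (CommRingCat.of A)) (L : X.Modules)
  (v : M →+ Γ(L, ⊤)) (hv : ∀ (a : A) (m : M), v (a • m) = ProjUP.toGlobal q a • v m)

theorem as_add (i k k' : M) :
    as L (fun m => v m) i (k + k') = as L (fun m => v m) i k + as L (fun m => v m) i k' := by
  refine as_eq_of L (fun m => v m) i (k + k') _ ?_
  rw [add_smul, as_spec, as_spec, sv_σ, sv_σ, sv_σ]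
  show L.presheaf.map _ (v k) + L.presheaf.map _ (v k') = L.presheaf.map _ (v (k + k'))
  rw [map_add, map_add]

include hv in
theorem as_smul (i k : M) (c : A) :
    as L (fun m => v m) i (c • k) =
      X.presheaf.map (homOfLE (le_top : Us L (fun m => v m) i ≤ ⊤)).op (ProjUP.toGlobal q c) *
        as L (fun m => v m) i k := by
  refine as_eq_of L (fun m => v m) i (c • k) _ ?_
  rw [mul_smul, as_spec, sv_σ, sv_σ]
  show _ • L.presheaf.map _ (v k) = L.presheaf.map _ (v (c • k))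
  rw [hv, res_smul]

/-- The transition functions as an additive map. -/
def aHom (i : M) : M →+ Γ(X, Us L (fun m => v m) i) :=
  AddMonoidHom.mk' (fun k => as L (fun m => v m) i k) (as_add L v i)

/-- The structure map to sections over `X_{v i}`. -/
def κU (i : M) : A →+* Γ(X, Us L (fun m => v m) i) :=
  (X.presheaf.map (homOfLE (le_top : Us L (fun m => v m) i ≤ ⊤)).op).hom.comp (ProjUP.toGlobal q)

variable {S : Type u} [CommRing S] [Algebra A S] (𝒮 : ℕ → Submodule A S) [GradedAlgebra 𝒮]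
  {ι : M →ₗ[A] S} (hι : ∀ m : M, ι m ∈ 𝒮 1) (hsym : IsSymmetricAlgebra ι)

/-- The ring map `S → Γ(X, X_{v i})`, `ι k ↦ v k / v i`. -/
def ψm (i : M) : S →+* Γ(X, Us L (fun m => v m) i) :=
  symLift hsym (κU q L v i) (aHom L v i) (fun c m => as_smul q L v hv i m c)

theorem ψm_ι (i k : M) : ψm q L v hv hsym i (ι k) = as L (fun m => v m) i k :=
  symLift_ι hsym _ _ _ k

theorem ψm_algebraMap (i : M) (c : A) :
    ψm q L v hv hsym i (algebraMap A S c) =
      X.presheaf.map (homOfLE (le_top : Us L (fun m => v m) i ≤ ⊤)).op (ProjUP.toGlobal q c) :=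
  symLift_algebraMap hsym _ _ _ c

include hι in
theorem compat_ψm : Compat 𝒮 (Us L (fun m => v m)) (ψm q L v hv hsym) := by
  intro i j
  have hc := as_cocycle L (fun m => v m) i j
  refine ⟨X.presheaf.map (homOfLE (inf_le_right : Us L (fun m => v m) i ⊓ Us L (fun m => v m) j ≤
    Us L (fun m => v m) j)).op (as L (fun m => v m) j i), ?_, fun d f hf => ?_⟩
  · refine IsUnit.of_mul_eq_one (X.presheaf.map (homOfLE (inf_le_left :
      Us L (fun m => v m) i ⊓ Us L (fun m => v m) j ≤ Us L (fun m => v m) i)).op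
      (as L (fun m => v m) i j)) ?_
    rw [← hc j, as_self, map_one]
  · refine scale_of_sym hsym 𝒮 hι
      ((X.presheaf.map (homOfLE (inf_le_left : Us L (fun m => v m) i ⊓ Us L (fun m => v m) j ≤
        Us L (fun m => v m) i)).op).hom.comp (ψm q L v hv hsym i))
      ((X.presheaf.map (homOfLE (inf_le_right : Us L (fun m => v m) i ⊓ Us L (fun m => v m) j ≤
        Us L (fun m => v m) j)).op).hom.comp (ψm q L v hv hsym j)) _ (fun c => ?_) (fun k => ?_) hf
    · rw [RingHom.comp_apply, RingHom.comp_apply, ψm_algebraMap, ψm_algebraMap]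
      exact (ringRes_res _ _ _).trans (ringRes_res _ _ _).symm
    · rw [RingHom.comp_apply, RingHom.comp_apply, ψm_ι, ψm_ι]
      exact hc k

include hι hsym in
theorem Dcov (p : Proj 𝒮) : ∃ m : M, p ∈ Proj.basicOpen 𝒮 (ι m) := by
  have h := Proj.iSup_basicOpen_eq_top' 𝒮 (fun m => ι m) (fun m => ⟨1, hι m⟩)
    (adjoin_range_eq_top hsym 𝒮)
  have hp : p ∈ ⨆ m : M, Proj.basicOpen 𝒮 (ι m) := by rw [h]; trivial
  exact Opens.mem_iSup.mp hp

include hv hι hsym in
theorem exists_to_proj_sym (hL : PicF.IsInvertible L)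
    (hgen : ProjUP.GeneratedBy L (fun m => v m)) :
    ∃ (r : X ⟶ Proj 𝒮)
      (_ : r ≫ Proj.toSpecZero 𝒮 ≫ Spec.map (CommRingCat.ofHom (algebraMap A (𝒮 0))) = q)
      (τ : (Scheme.Modules.pullback r).obj (Twist.twist 𝒮 1) ≅ L),
      ∀ m : M, τ.hom.app ⊤
        (ProjUP.pullSec r (Twist.twist 𝒮 1) (Twist.globalOf 𝒮 ⟨ι m, hι m⟩)) = v m := by
  have hcov := cover_of_generatedBy L (fun m => v m) hL hgen
  have hψ1 : ∀ i, ψm q L v hv hsym i (ι i) = 1 := fun i => by
    rw [ψm_ι]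
    exact as_self L _ i
  obtain ⟨r, hr⟩ := exists_glueG 𝒮 (Us L (fun m => v m)) (fun m => ι m) hι (ψm q L v hv hsym) hψ1
    hcov (compat_ψm q L v hv 𝒮 hι hsym)
  have hq := glue_toSpecG 𝒮 (Us L (fun m => v m)) (fun m => ι m) hι (ψm q L v hv hsym) hψ1 r hr q
    (fun i c => ψm_algebraMap q L v hv hsym i c) hcov
  have hpre : ∀ i, r ⁻¹ᵁ Proj.basicOpen 𝒮 (ι i) = Us L (fun m => v m) i := fun i =>
    glue_preimageG 𝒮 (Us L (fun m => v m)) (fun m => ι m) hι (ψm q L v hv hsym) hψ1 r hr hcov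
      (hι i) Nat.one_pos (Us L (fun m => v m) i) (fun k => by
        rw [ψm_ι]
        exact as_basicOpen L _ k i)
  have hP4 : ∀ i j, (r.appLE (Proj.basicOpen 𝒮 (ι i)) (Us L (fun m => v m) i) (hpre i).ge).hom
      (uSecG 𝒮 (hι i) (hι j)) = as L (fun m => v m) i j := fun i j =>
    (glue_appLE_applyG 𝒮 (Us L (fun m => v m)) (fun m => ι m) hι (ψm q L v hv hsym) hψ1 r hr i
      (hpre i).ge (mem_one_smul 𝒮 (hι j))).trans (ψm_ι q L v hv hsym i j)
  obtain ⟨τ, hτ⟩ := exists_iso 𝒮 (fun m => ι m) hι (Dcov 𝒮 hι hsym) L (fun m => v m) r hpre hP4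
    hcov
  exact ⟨r, hq, τ, hτ⟩

end

end Groth.Agent.H18.ProjUPSymFinal
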