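import Groth.Agent.H18.ProjUPUniq
import Groth.Agent.H18.Dehom
import Groth.Agent.H18.ProjUPExist

/-!
# Uniqueness part of the universal property of `Proj (Sym M)` and of projective space
-/

set_option autoImplicit false
universe u

open CategoryTheory AlgebraicGeometry TopologicalSpace Opposite
open Groth.Agent.H18.SymScale Groth.Agent.H18.ProjUPSym Groth.Agent.H18.ProjUPUniq
open Groth.Agent.H18.Dehom HomogeneousLocalization

namespace Groth.Agent.H18.ProjUPUniqFinal

noncomputable section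

section Gen

variable {R A : Type u} [CommRing R] [CommRing A] [Algebra R A] (𝒜 : ℕ → Submodule R A)
  [GradedAlgebra 𝒜] {I : Type u} (g : I → A) (hg : ∀ i, g i ∈ 𝒜 1)

/-- If ring maps out of `A` are determined by the constants and the `g j`, ring maps out of
`A_(g i)` are determined by the constants and the `g j / g i`. -/
theorem hext_of_gen
    (hG : ∀ (B : Type u) [CommRing B] (ψ ψ' : A →+* B),
      (∀ c : R, ψ (algebraMap R A c) = ψ' (algebraMap R A c)) →
      (∀ j, ψ (g j) = ψ' (g j)) → ψ = ψ')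
    (i : I) (B : Type u) [CommRing B] (φ φ' : Away 𝒜 (g i) →+* B)
    (hc : ∀ c : R, φ (constMapG 𝒜 (g i) c) = φ' (constMapG 𝒜 (g i) c))
    (hf : ∀ j, φ (uFracG 𝒜 (hg i) (hg j)) = φ' (uFracG 𝒜 (hg i) (hg j))) : φ = φ' := by
  have h1 : φ.comp (dehom 𝒜 (hg i)) = φ'.comp (dehom 𝒜 (hg i)) := by
    refine hG B _ _ (fun c => ?_) (fun j => ?_)
    · have h0 : algebraMap R A c ∈ 𝒜 0 := SetLike.algebraMap_mem_graded 𝒜 c
      have h2 : Away.mk 𝒜 (hg i) 0 (algebraMap R A c) (mem_smul_one 𝒜 h0) =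
          constMapG 𝒜 (g i) c := by
        apply HomogeneousLocalization.val_injective
        rw [Away.val_mk]
        show _ = Localization.mk (algebraMap R A c) 1
        congr 1
        exact Subtype.ext (pow_zero (g i))
      rw [RingHom.comp_apply, RingHom.comp_apply, dehom_of_mem 𝒜 (hg i) h0, h2]
      exact hc c
    · rw [RingHom.comp_apply, RingHom.comp_apply, dehom_of_mem 𝒜 (hg i) (hg j)]
      exact hf j
  refine RingHom.ext fun x => ?_
  obtain ⟨n, a, ha, rfl⟩ := Away.mk_surjective 𝒜 (hg i) x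
  have ha' : a ∈ 𝒜 n := by
    rw [smul_eq_mul, mul_one] at ha
    exact ha
  have h3 := congrArg (fun ψ : A →+* B => ψ a) h1
  simp only [RingHom.comp_apply] at h3
  rw [dehom_of_mem 𝒜 (hg i) ha'] at h3
  exact h3

end Gen

section Sym

variable {A : Type u} [CommRing A] {S : Type u} [CommRing S] [Algebra A S]
  (𝒮 : ℕ → Submodule A S) [GradedAlgebra 𝒮]
  {M : Type u} [AddCommGroup M] [Module A M] {ι : M →ₗ[A] S} (hι : ∀ m : M, ι m ∈ 𝒮 1)
  (hsym : IsSymmetricAlgebra ι)

include hsym in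
theorem to_proj_sym_ext {X : Scheme.{u}} (r r' : X ⟶ Proj 𝒮)
    (hrr' : r ≫ Proj.toSpecZero 𝒮 ≫ Spec.map (CommRingCat.ofHom (algebraMap A (𝒮 0))) =
      r' ≫ Proj.toSpecZero 𝒮 ≫ Spec.map (CommRingCat.ofHom (algebraMap A (𝒮 0))))
    (τ : (Scheme.Modules.pullback r).obj (Twist.twist 𝒮 1) ≅
      (Scheme.Modules.pullback r').obj (Twist.twist 𝒮 1))
    (hτ : ∀ m : M, τ.hom.app ⊤
        (ProjUP.pullSec r (Twist.twist 𝒮 1) (Twist.globalOf 𝒮 ⟨ι m, hι m⟩)) =
      ProjUP.pullSec r' (Twist.twist 𝒮 1) (Twist.globalOf 𝒮 ⟨ι m, hι m⟩)) :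
    r = r' :=
  to_proj_ext 𝒮 (fun m => ι m) hι (ProjUPSymFinal.Dcov 𝒮 hι hsym)
    (hext_of_gen 𝒮 (fun m => ι m) hι (fun _ _ ψ ψ' h1 h2 => ringHom_ext_sym hsym ψ ψ' h1 h2))
    r r' hrr' τ hτ

end Sym

section Poly

variable {R : Type u} [CommRing R] (n : ℕ)

theorem to_projSpace_ext {X : Scheme.{u}} (r r' : X ⟶ Proj (CohB1.polyGrading n R))
    (hrr' : r ≫ Proj.toSpecZero (CohB1.polyGrading n R) ≫
        Spec.map (CommRingCat.ofHom (algebraMap R (CohB1.polyGrading n R 0))) =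
      r' ≫ Proj.toSpecZero (CohB1.polyGrading n R) ≫
        Spec.map (CommRingCat.ofHom (algebraMap R (CohB1.polyGrading n R 0))))
    (τ : (Scheme.Modules.pullback r).obj (Twist.twist (CohB1.polyGrading n R) 1) ≅
      (Scheme.Modules.pullback r').obj (Twist.twist (CohB1.polyGrading n R) 1))
    (hτ : ∀ i : Fin (n + 1), τ.hom.app ⊤
        (ProjUP.pullSec r (Twist.twist (CohB1.polyGrading n R) 1)
          (Twist.globalOf (CohB1.polyGrading n R)
            ⟨MvPolynomial.X i, MvPolynomial.isHomogeneous_X R i⟩)) =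
      ProjUP.pullSec r' (Twist.twist (CohB1.polyGrading n R) 1)
        (Twist.globalOf (CohB1.polyGrading n R)
          ⟨MvPolynomial.X i, MvPolynomial.isHomogeneous_X R i⟩)) :
    r = r' := by
  have hg : ∀ i : ULift.{u} (Fin (n + 1)),
      (MvPolynomial.X i.down : MvPolynomial (Fin (n + 1)) R) ∈ CohB1.polyGrading n R 1 :=
    fun i => MvPolynomial.isHomogeneous_X R i.down
  refine to_proj_ext (CohB1.polyGrading n R)
    (fun i : ULift.{u} (Fin (n + 1)) => (MvPolynomial.X i.down : MvPolynomial (Fin (n + 1)) R))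
    hg ?_ ?_ r r' hrr' τ (fun i => hτ i.down)
  · intro p
    obtain ⟨i, hi⟩ := ProjUPData.Dp_cover n R p
    exact ⟨⟨i⟩, hi⟩
  · refine hext_of_gen (CohB1.polyGrading n R) _ hg (fun _ _ ψ ψ' h1 h2 => ?_)
    refine MvPolynomial.ringHom_ext (fun c => ?_) (fun i => h2 ⟨i⟩)
    have := h1 c
    rwa [MvPolynomial.algebraMap_eq] at this

end Poly

end

end Groth.Agent.H18.ProjUPUniqFinal
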