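import Groth.Agent.H18.ProjUPKernel

/-!
# Generation of rings of sections (used for the Segre embedding)

* `subring_eq_top_of_isPushout`: a pushout of commutative rings is generated by the two images.
* `subring_eq_top_pullback`: sections of a fibre product over `pr₁⁻¹ U ∩ pr₂⁻¹ V` (all affine) are
  generated by the sections over `U` and `V`.
* `appLE_const`: the effect of a morphism to `Proj 𝒜` on constants.
* `mem_of_gen`: sections of `Proj 𝒜` over `D₊(g i)` are generated by constants and fractions.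
-/

set_option autoImplicit false
universe u

open CategoryTheory CategoryTheory.Limits AlgebraicGeometry TopologicalSpace Opposite
open Groth.Agent.H18.ToProj Groth.Agent.H18.ToProjGen
open Groth.Agent.H18.ProjUPSym Groth.Agent.H18.ProjUPUniq Groth.Agent.H18.Dehom
open HomogeneousLocalization

namespace Groth.Agent.H18.SegreGen

noncomputable section

/-- A pushout of commutative rings is generated by the images of the two legs. -/
theorem subring_eq_top_of_isPushout {A B C P : CommRingCat.{u}} {f : A ⟶ B} {g : A ⟶ C}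
    {inl : B ⟶ P} {inr : C ⟶ P} (h : IsPushout f g inl inr) (T : Subring P)
    (hl : ∀ x, inl.hom x ∈ T) (hr : ∀ y, inr.hom y ∈ T) : T = ⊤ := by
  obtain ⟨inl', hinl'⟩ : ∃ inl' : B ⟶ CommRingCat.of T,
      inl' = CommRingCat.ofHom (inl.hom.codRestrict T hl) := ⟨_, rfl⟩
  obtain ⟨inr', hinr'⟩ : ∃ inr' : C ⟶ CommRingCat.of T,
      inr' = CommRingCat.ofHom (inr.hom.codRestrict T hr) := ⟨_, rfl⟩
  obtain ⟨ι, hι⟩ : ∃ ι : CommRingCat.of T ⟶ P, ι = CommRingCat.ofHom T.subtype := ⟨_, rfl⟩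
  have hl' : inl' ≫ ι = inl := by
    rw [hinl', hι]
    rfl
  have hr' : inr' ≫ ι = inr := by
    rw [hinr', hι]
    rfl
  have w : f ≫ inl' = g ≫ inr' := by
    apply CommRingCat.hom_ext
    refine RingHom.ext fun x => Subtype.ext ?_
    have h1 := congrArg (fun φ => φ.hom x) h.w
    rw [hinl', hinr']
    exact h1
  have hd : h.desc inl' inr' w ≫ ι = 𝟙 P := by
    apply h.hom_ext
    · rw [← Category.assoc, h.inl_desc, hl', Category.comp_id]
    · rw [← Category.assoc, h.inr_desc, hr', Category.comp_id]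
  rw [eq_top_iff]
  intro p _
  have h2 : ι.hom ((h.desc inl' inr' w).hom p) = p := congrArg (fun φ => φ.hom p) hd
  rw [← h2, hι]
  exact ((h.desc inl' inr' w).hom p).2

/-- Sections of a fibre product over `pr₁⁻¹ U ∩ pr₂⁻¹ V` are generated by those over `U` and
`V`, for affine `U`, `V` over an affine open of the base. -/
theorem subring_eq_top_pullback {X Y S : Scheme.{u}} (f : X ⟶ S) (g : Y ⟶ S) {US : S.Opens}
    {UX : X.Opens} {UY : Y.Opens} (hUS : IsAffineOpen US) (hUX : IsAffineOpen UX)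
    (hUY : IsAffineOpen UY) (hX : UX ≤ f ⁻¹ᵁ US) (hY : UY ≤ g ⁻¹ᵁ US)
    (T : Subring Γ(pullback f g, pullback.fst f g ⁻¹ᵁ UX ⊓ pullback.snd f g ⁻¹ᵁ UY))
    (h1 : ∀ x, ((pullback.fst f g).appLE UX
      (pullback.fst f g ⁻¹ᵁ UX ⊓ pullback.snd f g ⁻¹ᵁ UY) inf_le_left).hom x ∈ T)
    (h2 : ∀ y, ((pullback.snd f g).appLE UY
      (pullback.fst f g ⁻¹ᵁ UX ⊓ pullback.snd f g ⁻¹ᵁ UY) inf_le_right).hom y ∈ T) : T = ⊤ := by
  have H := IsPullback.of_hasPullback f g
  have hiso := isIso_pushoutSection_of_isAffineOpen H hY hX rfl hUS hUY hUX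
  have hpo := (isIso_pushoutSection_iff H hY hX rfl).mp hiso
  exact subring_eq_top_of_isPushout hpo T h1 h2

section Proj

variable {R A : Type u} [CommRing R] [CommRing A] [Algebra R A] (𝒜 : ℕ → Submodule R A)
  [GradedAlgebra 𝒜] {Z : Scheme.{u}}

/-- The effect of a morphism to `Proj 𝒜` on constants. -/
theorem appLE_const (ρ : Z ⟶ Proj 𝒜) {g : A} (hg : g ∈ 𝒜 1) (V : Z.Opens)
    (e : V ≤ ρ ⁻¹ᵁ Proj.basicOpen 𝒜 g) (c : R) :
    (ρ.appLE (Proj.basicOpen 𝒜 g) V e).hom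
        ((Proj.awayToSection 𝒜 g).hom (constMapG 𝒜 g c)) =
      Z.presheaf.map (homOfLE (le_top : V ≤ ⊤)).op
        (ProjUP.toGlobal (ρ ≫ Proj.toSpecZero 𝒜 ≫
          Spec.map (CommRingCat.ofHom (algebraMap R (𝒜 0)))) c) := by
  have hk : V.toSpecΓ ≫ Spec.map (CommRingCat.ofHom (algebraMap R (𝒜 0)) ≫
        CommRingCat.ofHom (fromZeroRingHom 𝒜 (Submonoid.powers g)) ≫
        (Proj.awayToSection 𝒜 g ≫ ρ.appLE (Proj.basicOpen 𝒜 g) V e)) =
      V.ι ≫ ρ ≫ Proj.toSpecZero 𝒜 ≫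
        Spec.map (CommRingCat.ofHom (algebraMap R (𝒜 0))) := by
    rw [Spec.map_comp, Spec.map_comp, ← Proj.awayι_toSpecZero 𝒜 g hg Nat.one_pos,
      ← Category.assoc V.ι, restrict_eq_lift 𝒜 ρ hg V e]
    simp only [Category.assoc]
  have hk2 : V.ι ≫ ρ ≫ Proj.toSpecZero 𝒜 ≫
        Spec.map (CommRingCat.ofHom (algebraMap R (𝒜 0))) =
      V.toSpecΓ ≫ Spec.map (CommRingCat.ofHom (ProjUP.toGlobal (ρ ≫ Proj.toSpecZero 𝒜 ≫
          Spec.map (CommRingCat.ofHom (algebraMap R (𝒜 0))))) ≫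
        Z.presheaf.map (homOfLE (le_top : V ≤ ⊤)).op) := by
    conv_lhs => rw [ToProjGen.toGlobal_spec (ρ ≫ Proj.toSpecZero 𝒜 ≫
      Spec.map (CommRingCat.ofHom (algebraMap R (𝒜 0)))), ← Category.assoc,
      ← Scheme.Opens.toSpecΓ_SpecMap_presheaf_map_top, Category.assoc, ← Spec.map_comp]
  have h1 := toSpecΓ_map_injective V _ _ (hk.trans hk2)
  exact congrArg (fun κ => κ.hom c) h1

theorem uSecG_self {g : A} (hg : g ∈ 𝒜 1) : uSecG 𝒜 hg hg = 1 := by
  have h1 : uFracG 𝒜 hg hg = 1 := by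
    apply HomogeneousLocalization.val_injective
    unfold uFracG
    rw [Away.val_mk, HomogeneousLocalization.val_one]
    refine (Localization.mk_eq_mk_iff.mpr ?_).trans Localization.mk_one
    rw [Localization.r_iff_exists]
    exact ⟨1, by simp⟩
  unfold uSecG
  rw [h1, map_one]

variable {I : Type u} (g : I → A) (hg : ∀ i, g i ∈ 𝒜 1)

/-- If `A` is generated as a ring by the constants and the `g j`, then the sections of `Proj 𝒜`
over `D₊(g i)` are generated by the constants and the fractions `g j / g i`. -/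
theorem mem_of_gen
    (hG : ∀ S : Subring A, (∀ c : R, algebraMap R A c ∈ S) → (∀ j, g j ∈ S) → S = ⊤)
    (i : I) {B : Type u} [CommRing B] (θ : Γ(Proj 𝒜, Proj.basicOpen 𝒜 (g i)) →+* B)
    (T : Subring B)
    (hc : ∀ c : R, θ ((Proj.awayToSection 𝒜 (g i)).hom (constMapG 𝒜 (g i) c)) ∈ T)
    (hf : ∀ j, θ (uSecG 𝒜 (hg i) (hg j)) ∈ T) (x : Γ(Proj 𝒜, Proj.basicOpen 𝒜 (g i))) :
    θ x ∈ T := by
  obtain ⟨ρ, hρ⟩ : ∃ ρ : A →+* B, ρ = (θ.comp (Proj.awayToSection 𝒜 (g i)).hom).comp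
      (dehom 𝒜 (hg i)) := ⟨_, rfl⟩
  have hS := hG (T.comap ρ) (fun c => ?_) (fun j => ?_)
  · obtain ⟨y, rfl⟩ : ∃ y, (Proj.basicOpenIsoAway 𝒜 (g i) (hg i) Nat.one_pos).hom.hom y = x :=
      ⟨(Proj.basicOpenIsoAway 𝒜 (g i) (hg i) Nat.one_pos).inv.hom x, by
        rw [← CommRingCat.comp_apply, Iso.inv_hom_id]
        rfl⟩
    obtain ⟨n, a, ha, rfl⟩ := Away.mk_surjective 𝒜 (hg i) y
    have ha' : a ∈ 𝒜 n := by
      rw [smul_eq_mul, mul_one] at ha
      exact ha
    have h1 : a ∈ T.comap ρ := by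
      rw [hS]
      trivial
    have h2 : ρ a ∈ T := h1
    rw [hρ, RingHom.comp_apply, RingHom.comp_apply, dehom_of_mem 𝒜 (hg i) ha'] at h2
    exact h2
  · have h0 : algebraMap R A c ∈ 𝒜 0 := SetLike.algebraMap_mem_graded 𝒜 c
    have h2 : Away.mk 𝒜 (hg i) 0 (algebraMap R A c) (mem_smul_one 𝒜 h0) =
        constMapG 𝒜 (g i) c := by
      apply HomogeneousLocalization.val_injective
      rw [Away.val_mk]
      show _ = Localization.mk (algebraMap R A c) 1
      congr 1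
      exact Subtype.ext (pow_zero (g i))
    show ρ (algebraMap R A c) ∈ T
    rw [hρ, RingHom.comp_apply, RingHom.comp_apply, dehom_of_mem 𝒜 (hg i) h0, h2]
    exact hc c
  · show ρ (g j) ∈ T
    rw [hρ, RingHom.comp_apply, RingHom.comp_apply, dehom_of_mem 𝒜 (hg i) (hg j)]
    exact hf j

end Proj

end

end Groth.Agent.H18.SegreGen
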