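import Groth.Agent.H18.ProjUPUniq

/-!
# Sections of `p₁^* O(1) ⊗ p₂^* O(1)` for two morphisms to `Proj`
-/

set_option autoImplicit false
universe u

open CategoryTheory AlgebraicGeometry TopologicalSpace Opposite
open Groth.Agent.H8 (res_res res_smul ringRes_res section_eq_of_cover app_res)
open Groth.Agent.H18.SecTw Groth.Agent.H18.TensorGen
open Groth.Agent.H18.ProjUPSym Groth.Agent.H18.ProjUPUniq Groth.Agent.H22.PullGen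

namespace Groth.Agent.H18.SegreSec

noncomputable section

section One

variable {R A : Type u} [CommRing R] [CommRing A] [Algebra R A] (𝒜 : ℕ → Submodule R A)
  [GradedAlgebra 𝒜] {Z : Scheme.{u}} (r : Z ⟶ Proj 𝒜)

/-- The pulled-back section `r^* g : O_Z ⟶ r^* O(1)`. -/
def pb {g : A} (hg : g ∈ 𝒜 1) : Coh.structureModule Z ⟶ (Scheme.Modules.pullback r).obj (N1 𝒜) :=
  pbSec r (TensorPowIso.secHom (N1 𝒜) (tG 𝒜 hg))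

theorem sv_pb_top {g : A} (hg : g ∈ 𝒜 1) :
    sv (pb 𝒜 r hg) ⊤ = ProjUP.pullSec r (N1 𝒜) (tG 𝒜 hg) := by
  unfold pb
  rw [sv_pbSec_top, sv_secHom_top]

theorem sv_pb {g : A} (hg : g ∈ 𝒜 1) (V : Z.Opens) :
    sv (pb 𝒜 r hg) V = ((Scheme.Modules.pullback r).obj (N1 𝒜)).presheaf.map
      (homOfLE (le_top : V ≤ ⊤)).op (ProjUP.pullSec r (N1 𝒜) (tG 𝒜 hg)) := by
  rw [← sv_pb_top, sv_res]

/-- `r^* h = r^♯(h / g) • r^* g` over opens mapped into `D₊(g)`. -/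
theorem sv_pb_res {g h : A} (hg : g ∈ 𝒜 1) (hh : h ∈ 𝒜 1) (V : Z.Opens)
    (e : V ≤ r ⁻¹ᵁ Proj.basicOpen 𝒜 g) :
    sv (pb 𝒜 r hh) V =
      (r.appLE (Proj.basicOpen 𝒜 g) V e).hom (uSecG 𝒜 hg hh) • sv (pb 𝒜 r hg) V := by
  rw [sv_pb, sv_pb, ← res_res _ e le_top, ← res_res _ e le_top, pullSec_res 𝒜 r hg hh, res_smul]
  rfl

variable {I : Type u} (g : I → A) (hg : ∀ i, g i ∈ 𝒜 1)
  (hDcov : ∀ p : Proj 𝒜, ∃ i, p ∈ Proj.basicOpen 𝒜 (g i))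

include hg hDcov in
theorem isInvertible_N1' : PicF.IsInvertible (N1 𝒜) :=
  isInvertible_N1 𝒜 (fun y => by
    obtain ⟨i, hi⟩ := hDcov y
    exact ⟨g i, hg i, (ProjectiveSpectrum.mem_basicOpen 𝒜 _ _).mp hi⟩)

include hDcov in
theorem genLocus_pb (i : I) :
    CohB1.genLocus _ (pb 𝒜 r (hg i)) = r ⁻¹ᵁ Proj.basicOpen 𝒜 (g i) := by
  unfold pb
  rw [genLocus_pbSec r (isInvertible_N1' 𝒜 g hg hDcov), genLocus_secHom_tG 𝒜 g hg hDcov i]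

end One

section Two

variable {R A : Type u} [CommRing R] [CommRing A] [Algebra R A] (𝒜 : ℕ → Submodule R A)
  [GradedAlgebra 𝒜] {R' B : Type u} [CommRing R'] [CommRing B] [Algebra R' B]
  (ℬ : ℕ → Submodule R' B) [GradedAlgebra ℬ]
  {Z : Scheme.{u}} (p₁ : Z ⟶ Proj 𝒜) (p₂ : Z ⟶ Proj ℬ)

/-- `p₁^* O(1) ⊗ p₂^* O(1)`. -/
abbrev M12 : Z.Modules :=
  CohB1.tensorMod ((Scheme.Modules.pullback p₁).obj (N1 𝒜)) ((Scheme.Modules.pullback p₂).obj (N1 ℬ))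

/-- The section `p₁^* g ⊗ p₂^* h`. -/
def cc {g : A} (hg : g ∈ 𝒜 1) {h : B} (hh : h ∈ ℬ 1) :
    Coh.structureModule Z ⟶ M12 𝒜 ℬ p₁ p₂ :=
  SecTwist.tmulHom (pb 𝒜 p₁ hg) (pb ℬ p₂ hh)

theorem sv_cc {g : A} (hg : g ∈ 𝒜 1) {h : B} (hh : h ∈ ℬ 1) (V : Z.Opens) :
    sv (cc 𝒜 ℬ p₁ p₂ hg hh) V = tm _ _ (sv (pb 𝒜 p₁ hg) V) (sv (pb ℬ p₂ hh) V) :=
  SecTwist.val_tmulHom _ _ V

/-- Transition relation between the sections `p₁^* g' ⊗ p₂^* h'` and `p₁^* g ⊗ p₂^* h`. -/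
theorem sv_cc_res {g g' : A} (hg : g ∈ 𝒜 1) (hg' : g' ∈ 𝒜 1) {h h' : B} (hh : h ∈ ℬ 1)
    (hh' : h' ∈ ℬ 1) (V : Z.Opens) (e₁ : V ≤ p₁ ⁻¹ᵁ Proj.basicOpen 𝒜 g)
    (e₂ : V ≤ p₂ ⁻¹ᵁ Proj.basicOpen ℬ h) :
    sv (cc 𝒜 ℬ p₁ p₂ hg' hh') V =
      ((p₁.appLE (Proj.basicOpen 𝒜 g) V e₁).hom (uSecG 𝒜 hg hg') *
        (p₂.appLE (Proj.basicOpen ℬ h) V e₂).hom (uSecG ℬ hh hh')) •
      sv (cc 𝒜 ℬ p₁ p₂ hg hh) V := by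
  rw [sv_cc, sv_cc, sv_pb_res 𝒜 p₁ hg hg' V e₁, sv_pb_res ℬ p₂ hh hh' V e₂, tm_smul_left,
    tm_smul_right, ← mul_smul]

variable {I : Type u} (g : I → A) (hg : ∀ i, g i ∈ 𝒜 1)
  (hDcovA : ∀ p : Proj 𝒜, ∃ i, p ∈ Proj.basicOpen 𝒜 (g i))
  {J : Type u} (h : J → B) (hh : ∀ j, h j ∈ ℬ 1)
  (hDcovB : ∀ p : Proj ℬ, ∃ j, p ∈ Proj.basicOpen ℬ (h j))

include hg hh hDcovA hDcovB in
theorem isInvertible_M12 : PicF.IsInvertible (M12 𝒜 ℬ p₁ p₂) :=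
  isInvertible_tensorMod (isInvertible_pullback p₁ (isInvertible_N1' 𝒜 g hg hDcovA))
    (isInvertible_pullback p₂ (isInvertible_N1' ℬ h hh hDcovB))

include hDcovA hDcovB in
theorem genLocus_cc (i : I) (j : J) :
    CohB1.genLocus _ (cc 𝒜 ℬ p₁ p₂ (hg i) (hh j)) =
      p₁ ⁻¹ᵁ Proj.basicOpen 𝒜 (g i) ⊓ p₂ ⁻¹ᵁ Proj.basicOpen ℬ (h j) := by
  unfold cc
  rw [genLocus_tmulHom (isInvertible_pullback p₁ (isInvertible_N1' 𝒜 g hg hDcovA))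
    (isInvertible_pullback p₂ (isInvertible_N1' ℬ h hh hDcovB)),
    genLocus_pb 𝒜 p₁ g hg hDcovA i, genLocus_pb ℬ p₂ h hh hDcovB j]

end Two

end

end Groth.Agent.H18.SegreSec
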