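import Groth.Agent.H18.SegreBC
import Groth.Agent.H18.SegreSec
import Groth.Agent.H18.SegreGen
import Groth.Agent.H18.ProjUPExist
import Groth.Agent.H22.ImmCrit

/-!
# The Segre embedding `P^n ×_R P^m ⟶ P^{nm+n+m}` is a closed immersion

* `exists_map`: for `p₁ : Z ⟶ P^n_R`, `p₂ : Z ⟶ P^m_R` and a bijection
  `e : Fin (N+1) ≃ Fin (n+1) × Fin (m+1)`, the sections `p₁^* T_i ⊗ p₂^* T_j` of
  `p₁^* O(1) ⊗ p₂^* O(1)` define `r : Z ⟶ P^N_R` with `r⁻¹ D₊(T_k) = p₁⁻¹ D₊(T_i) ∩ p₂⁻¹ D₊(T_j)`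
  and `r^♯(T_l / T_k) = p₁^♯(T_i' / T_i) p₂^♯(T_j' / T_j)`.
* `exists_closed`: for `Z = P^n_R ×_R P^m_R` this `r` is a closed immersion.
* `segre_over`: base change to an arbitrary scheme.
-/

set_option autoImplicit false
universe u

open CategoryTheory CategoryTheory.Limits AlgebraicGeometry TopologicalSpace Opposite
open Groth.Agent.H18.SecTw Groth.Agent.H18.TensorGen
open Groth.Agent.H18.ProjSpaceGlobal Groth.Agent.H18.ToProjSpace
open Groth.Agent.H18.ProjUPSym Groth.Agent.H18.ProjUPUniq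
open Groth.Agent.H18.SegreSec Groth.Agent.H18.SegreGen
open Groth.Agent.H18.ProjUPData (Dp Dp_cover)

namespace Groth.Agent.H18.Segre

noncomputable section

section Idx

variable (k : ℕ) (R : Type u) [CommRing R]

/-- The coordinates of `P^k`, indexed by a type in the ambient universe. -/
abbrev gX : ULift.{u} (Fin (k + 1)) → MvPolynomial (Fin (k + 1)) R :=
  fun i => MvPolynomial.X i.down

theorem gX_mem (i : ULift.{u} (Fin (k + 1))) : gX k R i ∈ CohB1.polyGrading k R 1 :=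
  Xmem k R i.down

theorem gX_cover (p : Proj (CohB1.polyGrading k R)) :
    ∃ i, p ∈ Proj.basicOpen (CohB1.polyGrading k R) (gX k R i) := by
  obtain ⟨i, hi⟩ := Dp_cover k R p
  exact ⟨⟨i⟩, hi⟩

theorem gX_gen (S : Subring (MvPolynomial (Fin (k + 1)) R))
    (hc : ∀ c : R, algebraMap R (MvPolynomial (Fin (k + 1)) R) c ∈ S)
    (hX : ∀ j, gX k R j ∈ S) : S = ⊤ := by
  rw [eq_top_iff]
  intro p _
  clear ‹p ∈ (⊤ : Subring _)›
  induction p using MvPolynomial.induction_on with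
  | C a => exact hc a
  | add p q hp hq => exact S.add_mem hp hq
  | mul_X p i hp => exact S.mul_mem hp (hX ⟨i⟩)

/-- The structure morphism of `P^k_R`. -/
abbrev π : Proj (CohB1.polyGrading k R) ⟶ Spec (CommRingCat.of R) :=
  Proj.toSpecZero (CohB1.polyGrading k R) ≫
    Spec.map (CommRingCat.ofHom (algebraMap R (CohB1.polyGrading k R 0)))

end Idx

section Map

variable {R : Type u} [CommRing R] {n m N : ℕ} (e : Fin (N + 1) ≃ Fin (n + 1) × Fin (m + 1))
  {Z : Scheme.{u}} (p₁ : Z ⟶ Proj (CohB1.polyGrading n R)) (p₂ : Z ⟶ Proj (CohB1.polyGrading m R))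

/-- `p₁^* O(1) ⊗ p₂^* O(1)`. -/
abbrev MM : Z.Modules := M12 (CohB1.polyGrading n R) (CohB1.polyGrading m R) p₁ p₂

/-- The section `p₁^* T_i ⊗ p₂^* T_j`, `(i, j) = e k`. -/
def ccs (k : Fin (N + 1)) : Coh.structureModule Z ⟶ MM p₁ p₂ :=
  cc (CohB1.polyGrading n R) (CohB1.polyGrading m R) p₁ p₂ (Xmem n R (e k).1) (Xmem m R (e k).2)

/-- The global sections `p₁^* T_i ⊗ p₂^* T_j`. -/
def ss (k : Fin (N + 1)) : Γ(MM p₁ p₂, ⊤) := sv (ccs e p₁ p₂ k) ⊤

theorem σ_ss (k : Fin (N + 1)) : σ (MM p₁ p₂) (ss e p₁ p₂) k = ccs e p₁ p₂ k :=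
  secHom_sv_top _

theorem Us_ss (k : Fin (N + 1)) :
    Us (MM p₁ p₂) (ss e p₁ p₂) k = p₁ ⁻¹ᵁ Dp n R (e k).1 ⊓ p₂ ⁻¹ᵁ Dp m R (e k).2 := by
  unfold Us
  rw [σ_ss]
  exact genLocus_cc _ _ p₁ p₂ (gX n R) (gX_mem n R) (gX_cover n R) (gX m R) (gX_mem m R)
    (gX_cover m R) ⟨(e k).1⟩ ⟨(e k).2⟩

theorem cover_ss (x : Z) : ∃ k, x ∈ Us (MM p₁ p₂) (ss e p₁ p₂) k := by
  obtain ⟨i, hi⟩ := Dp_cover n R (p₁ x)
  obtain ⟨j, hj⟩ := Dp_cover m R (p₂ x)
  refine ⟨e.symm (i, j), ?_⟩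
  rw [Us_ss, Equiv.apply_symm_apply]
  exact ⟨hi, hj⟩

theorem as_ss (k l : Fin (N + 1))
    (e₁ : Us (MM p₁ p₂) (ss e p₁ p₂) k ≤ p₁ ⁻¹ᵁ Dp n R (e k).1)
    (e₂ : Us (MM p₁ p₂) (ss e p₁ p₂) k ≤ p₂ ⁻¹ᵁ Dp m R (e k).2) :
    as (MM p₁ p₂) (ss e p₁ p₂) k l =
      (p₁.appLE (Dp n R (e k).1) _ e₁).hom (uSec n R (e k).1 (e l).1) *
        (p₂.appLE (Dp m R (e k).2) _ e₂).hom (uSec m R (e k).2 (e l).2) := by
  refine as_eq_of _ _ k l _ ?_
  rw [σ_ss, σ_ss]
  exact (sv_cc_res _ _ p₁ p₂ (Xmem n R (e k).1) (Xmem n R (e l).1) (Xmem m R (e k).2)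
    (Xmem m R (e l).2) _ e₁ e₂).symm

theorem exists_map :
    ∃ r : Z ⟶ Proj (CohB1.polyGrading N R),
      r ≫ π N R = p₁ ≫ π n R ∧
      (∀ k, r ⁻¹ᵁ Dp N R k = p₁ ⁻¹ᵁ Dp n R (e k).1 ⊓ p₂ ⁻¹ᵁ Dp m R (e k).2) ∧
      ∀ (k l : Fin (N + 1)) (i' : Fin (n + 1)) (j' : Fin (m + 1)), e l = (i', j') →
        ∀ (V : Z.Opens) (e₀ : V ≤ r ⁻¹ᵁ Dp N R k)
        (e₁ : V ≤ p₁ ⁻¹ᵁ Dp n R (e k).1) (e₂ : V ≤ p₂ ⁻¹ᵁ Dp m R (e k).2),
        V = r ⁻¹ᵁ Dp N R k →
        (r.appLE (Dp N R k) V e₀).hom (uSec N R k l) =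
          (p₁.appLE (Dp n R (e k).1) V e₁).hom (uSec n R (e k).1 i') *
            (p₂.appLE (Dp m R (e k).2) V e₂).hom (uSec m R (e k).2 j') := by
  obtain ⟨q, hq⟩ : ∃ q : Z ⟶ Spec (CommRingCat.of R), q = p₁ ≫ π n R := ⟨_, rfl⟩
  have hcov := cover_ss e p₁ p₂
  obtain ⟨r, hr⟩ := exists_glue N R (ProjUP.toGlobal q) (Us (MM p₁ p₂) (ss e p₁ p₂))
    (as (MM p₁ p₂) (ss e p₁ p₂)) hcov (as_self _ _) (as_cocycle _ _)
  have hrq := glue_toSpec N R (ProjUP.toGlobal q) _ _ (as_self _ _) r hr q rfl hcov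
  have hpre := glue_preimage_basicOpen N R (ProjUP.toGlobal q) _ _ (as_self _ _) r hr hcov
    (as_basicOpen _ _)
  have hP4 : ∀ k l, (r.appLE (Dp N R k) (Us (MM p₁ p₂) (ss e p₁ p₂) k) (hpre k).ge).hom
      (uSec N R k l) = as (MM p₁ p₂) (ss e p₁ p₂) k l := fun k l =>
    glue_appLE_apply N R (ProjUP.toGlobal q) _ _ (as_self _ _) r hr k l (hpre k).ge
  refine ⟨r, hrq.trans hq, fun k => (hpre k).trans (Us_ss e p₁ p₂ k), ?_⟩
  intro k l i' j' hl V e₀ e₁ e₂ hV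
  have hV' : V = Us (MM p₁ p₂) (ss e p₁ p₂) k := hV.trans (hpre k)
  subst hV'
  rw [hP4 k l, as_ss e p₁ p₂ k l e₁ e₂, hl]

end Map

section Closed

lemma isAffineOpen_pullback_inf' {X Y Z : Scheme.{u}} {f : X ⟶ Z} {g : Y ⟶ Z}
    {U : X.Opens} (hU : IsAffineOpen U) {V : Y.Opens} (hV : IsAffineOpen V)
    {W : Z.Opens} (hW : IsAffineOpen W) (hUW : U ≤ f ⁻¹ᵁ W) (hVW : V ≤ g ⁻¹ᵁ W) :
    IsAffineOpen (pullback.fst f g ⁻¹ᵁ U ⊓ pullback.snd f g ⁻¹ᵁ V) := by
  have : IsAffine U.toScheme := hU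
  have : IsAffine W.toScheme := hW
  have : IsAffine V.toScheme := hV
  let f' : U.toScheme ⟶ W := f.resLE _ _ hUW
  let q : V.toScheme ⟶ W := g.resLE _ _ hVW
  let p : pullback f' q ⟶ pullback f g :=
    pullback.map _ _ _ _ U.ι V.ι W.ι (by simp [f']) (by simp [q])
  have hp : p.opensRange = pullback.fst f g ⁻¹ᵁ U ⊓ pullback.snd f g ⁻¹ᵁ V := by
    ext1
    simp [p, Scheme.Pullback.range_map]
  rw [← hp]
  exact isAffineOpen_opensRange p

lemma surjective_app_of_appLE' {X Y : Scheme.{u}} (g : X ⟶ Y) (V : Y.Opens) (U : X.Opens)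
    (h : U = g ⁻¹ᵁ V) (hs : Function.Surjective (g.appLE V U h.le)) :
    Function.Surjective (g.app V) := by
  subst h
  rwa [Scheme.Hom.appLE_eq_app] at hs

variable {R : Type u} [CommRing R] {n m N : ℕ} (e : Fin (N + 1) ≃ Fin (n + 1) × Fin (m + 1))

/-- The chart `pr₁⁻¹ D₊(T_i) ∩ pr₂⁻¹ D₊(T_j)`, `(i, j) = e k`. -/
abbrev WW (k : Fin (N + 1)) : (pullback (π n R) (π m R)).Opens :=
  pullback.fst (π n R) (π m R) ⁻¹ᵁ Dp n R (e k).1 ⊓ pullback.snd (π n R) (π m R) ⁻¹ᵁ Dp m R (e k).2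

include e in
/-- The Segre embedding over a ring. -/
theorem exists_closed :
    ∃ r : pullback (π n R) (π m R) ⟶ Proj (CohB1.polyGrading N R),
      IsClosedImmersion r ∧ r ≫ π N R = pullback.fst (π n R) (π m R) ≫ π n R := by
  obtain ⟨r, hrq, hpre, hform⟩ :=
    exists_map e (pullback.fst (π n R) (π m R)) (pullback.snd (π n R) (π m R))
  refine ⟨r, ?_, hrq⟩
  refine Groth.Agent.H22.ImmCrit.isClosedImmersion_of_cover r (fun k => Dp N R k)
    (fun k => Proj.isAffineOpen_basicOpen _ _ (Xmem N R k) Nat.one_pos) ?_ (fun k => ?_)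
    (fun k => ?_)
  · rw [eq_top_iff]
    intro x _
    obtain ⟨k, hk⟩ := Dp_cover N R x
    exact Opens.mem_iSup.mpr ⟨k, hk⟩
  · rw [hpre k]
    exact isAffineOpen_pullback_inf'
      (Proj.isAffineOpen_basicOpen _ _ (Xmem n R (e k).1) Nat.one_pos)
      (Proj.isAffineOpen_basicOpen _ _ (Xmem m R (e k).2) Nat.one_pos)
      (isAffineOpen_top (Spec (CommRingCat.of R))) le_top le_top
  · refine surjective_app_of_appLE' r _ (WW e k) (hpre k).symm ?_
    have hT : (r.appLE (Dp N R k) (WW e k) (hpre k).symm.le).hom.range = ⊤ := by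
      refine subring_eq_top_pullback (π n R) (π m R) (isAffineOpen_top (Spec (CommRingCat.of R)))
        (Proj.isAffineOpen_basicOpen _ _ (Xmem n R (e k).1) Nat.one_pos)
        (Proj.isAffineOpen_basicOpen _ _ (Xmem m R (e k).2) Nat.one_pos) le_top le_top _
        (fun x => ?_) (fun y => ?_)
      · refine mem_of_gen (CohB1.polyGrading n R) (gX n R) (gX_mem n R) (gX_gen n R) ⟨(e k).1⟩
          ((pullback.fst (π n R) (π m R)).appLE (Dp n R (e k).1) (WW e k) inf_le_left).hom _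
          (fun c => ?_) (fun j => ?_) x
        · have h1 := appLE_const (CohB1.polyGrading n R) (pullback.fst (π n R) (π m R))
            (Xmem n R (e k).1) (WW e k) inf_le_left c
          have h2 := appLE_const (CohB1.polyGrading N R) r (Xmem N R k) (WW e k)
            (hpre k).symm.le c
          rw [hrq] at h2
          exact RingHom.mem_range.mpr ⟨_, h2.trans h1.symm⟩
        · have h1 := hform k (e.symm (j.down, (e k).2)) j.down (e k).2 (e.apply_symm_apply _)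
            (WW e k) (hpre k).symm.le inf_le_left inf_le_right (hpre k).symm
          have h2 : uSec m R (e k).2 (e k).2 = 1 :=
            uSecG_self (CohB1.polyGrading m R) (Xmem m R (e k).2)
          rw [h2, map_one, mul_one] at h1
          exact RingHom.mem_range.mpr ⟨_, h1⟩
      · refine mem_of_gen (CohB1.polyGrading m R) (gX m R) (gX_mem m R) (gX_gen m R) ⟨(e k).2⟩
          ((pullback.snd (π n R) (π m R)).appLE (Dp m R (e k).2) (WW e k) inf_le_right).hom _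
          (fun c => ?_) (fun j => ?_) y
        · have h1 := appLE_const (CohB1.polyGrading m R) (pullback.snd (π n R) (π m R))
            (Xmem m R (e k).2) (WW e k) inf_le_right c
          have h2 := appLE_const (CohB1.polyGrading N R) r (Xmem N R k) (WW e k)
            (hpre k).symm.le c
          rw [hrq, pullback.condition] at h2
          exact RingHom.mem_range.mpr ⟨_, h2.trans h1.symm⟩
        · have h1 := hform k (e.symm ((e k).1, j.down)) (e k).1 j.down (e.apply_symm_apply _)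
            (WW e k) (hpre k).symm.le inf_le_left inf_le_right (hpre k).symm
          have h2 : uSec n R (e k).1 (e k).1 = 1 :=
            uSecG_self (CohB1.polyGrading n R) (Xmem n R (e k).1)
          rw [h2, map_one, one_mul] at h1
          exact RingHom.mem_range.mpr ⟨_, h1⟩
    intro y
    have hy : y ∈ (r.appLE (Dp N R k) (WW e k) (hpre k).symm.le).hom.range := by
      rw [hT]
      trivial
    obtain ⟨z, hz⟩ := hy
    exact ⟨z, hz⟩

end Closed

section Over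

/-- The Segre embedding over an arbitrary base scheme. -/
theorem segre_over (S : Scheme.{u}) (n m : ℕ) :
    ∃ φ : pullback (CohB1.ProjSpaceOver.toBase n S) (CohB1.ProjSpaceOver.toBase m S) ⟶
        CohB1.ProjSpaceOver (n * m + n + m) S,
      IsClosedImmersion φ ∧ φ ≫ CohB1.ProjSpaceOver.toBase (n * m + n + m) S =
        pullback.fst (CohB1.ProjSpaceOver.toBase n S) (CohB1.ProjSpaceOver.toBase m S) ≫
          CohB1.ProjSpaceOver.toBase n S := by
  have hN : n * m + n + m + 1 = (n + 1) * (m + 1) := by ring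
  obtain ⟨r, hr1, hr2⟩ := exists_closed (R := ULift.{u} ℤ) (n := n) (m := m) (N := n * m + n + m)
    ((finCongr hN).trans finProdFinEquiv.symm)
  refine ⟨SegreBC.φ (CohB1.ProjSpace.toSpec n (ULift.{u} ℤ)) (CohB1.ProjSpace.toSpec m (ULift.{u} ℤ))
    (CohB1.ProjSpace.toSpec (n * m + n + m) (ULift.{u} ℤ)) (specULiftZIsTerminal.from S) r hr2,
    ?_, SegreBC.φ_snd _ _ _ _ _ _⟩
  exact MorphismProperty.of_isPullback (P := @IsClosedImmersion)
    (SegreBC.isPullback_φ _ _ _ _ r hr2) hr1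

end Over

end

end Groth.Agent.H18.Segre
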