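import Mathlib

/-!
# Base change of a morphism out of a fibre product (used for the Segre embedding)

For `A, B, C, S` over `T` and `r : A ×_T B ⟶ C` over `T`, the induced morphism
`(A ×_T S) ×_S (B ×_T S) ⟶ C ×_T S` is a base change of `r`.
-/

set_option autoImplicit false
universe v u

open CategoryTheory CategoryTheory.Limits

namespace Groth.Agent.H18.SegreBC

variable {𝒞 : Type u} [Category.{v} 𝒞] [HasPullbacks 𝒞] {A B C S T : 𝒞}
  (a : A ⟶ T) (b : B ⟶ T) (c : C ⟶ T) (s : S ⟶ T)

/-- `(A ×_T S) ×_S (B ×_T S)`. -/
noncomputable abbrev WS : 𝒞 := pullback (pullback.snd a s) (pullback.snd b s)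

theorem u_compat :
    (pullback.fst (pullback.snd a s) (pullback.snd b s) ≫ pullback.fst a s) ≫ a =
      (pullback.snd (pullback.snd a s) (pullback.snd b s) ≫ pullback.fst b s) ≫ b := by
  rw [Category.assoc, pullback.condition, ← Category.assoc, pullback.condition, Category.assoc,
    ← pullback.condition, Category.assoc]

/-- The projection `(A ×_T S) ×_S (B ×_T S) ⟶ A ×_T B`. -/
noncomputable def u : WS a b s ⟶ pullback a b :=
  pullback.lift (pullback.fst (pullback.snd a s) (pullback.snd b s) ≫ pullback.fst a s)
    (pullback.snd (pullback.snd a s) (pullback.snd b s) ≫ pullback.fst b s) (u_compat a b s)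

theorem u_fst : u a b s ≫ pullback.fst a b =
    pullback.fst (pullback.snd a s) (pullback.snd b s) ≫ pullback.fst a s :=
  pullback.lift_fst _ _ _

theorem u_snd : u a b s ≫ pullback.snd a b =
    pullback.snd (pullback.snd a s) (pullback.snd b s) ≫ pullback.fst b s :=
  pullback.lift_snd _ _ _

/-- `(A ×_T S) ×_S (B ×_T S) = (A ×_T B) ×_T S`. -/
theorem isPullback_big :
    IsPullback (pullback.fst (pullback.snd a s) (pullback.snd b s) ≫ pullback.snd a s) (u a b s) s
      (pullback.fst a b ≫ a) := by
  have h2 := IsPullback.of_hasPullback (pullback.snd a s) (pullback.snd b s)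
  have h3 := IsPullback.of_hasPullback b s
  have h6 := IsPullback.paste_horiz h2.flip h3
  have h6' : IsPullback (u a b s ≫ pullback.snd a b)
      (pullback.fst (pullback.snd a s) (pullback.snd b s)) b (pullback.fst a s ≫ a) := by
    rw [u_snd, pullback.condition]
    exact h6
  have h4 := IsPullback.of_hasPullback a b
  have h5 := IsPullback.of_right h6' (u_fst a b s) h4.flip
  have h1 := IsPullback.of_hasPullback a s
  exact (IsPullback.paste_vert h5 h1).flip

variable (r : pullback a b ⟶ C) (hr : r ≫ c = pullback.fst a b ≫ a)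

include hr in
theorem φ_compat : (u a b s ≫ r) ≫ c =
    (pullback.fst (pullback.snd a s) (pullback.snd b s) ≫ pullback.snd a s) ≫ s := by
  rw [Category.assoc, hr, ← Category.assoc, u_fst, Category.assoc, pullback.condition,
    Category.assoc]

/-- The base change of `r` to `S`. -/
noncomputable def φ : WS a b s ⟶ pullback c s :=
  pullback.lift (u a b s ≫ r)
    (pullback.fst (pullback.snd a s) (pullback.snd b s) ≫ pullback.snd a s) (φ_compat a b c s r hr)

theorem φ_fst : φ a b c s r hr ≫ pullback.fst c s = u a b s ≫ r := pullback.lift_fst _ _ _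

theorem φ_snd : φ a b c s r hr ≫ pullback.snd c s =
    pullback.fst (pullback.snd a s) (pullback.snd b s) ≫ pullback.snd a s :=
  pullback.lift_snd _ _ _

/-- `φ` is the base change of `r` along `C ×_T S ⟶ C`. -/
theorem isPullback_φ : IsPullback (u a b s) (φ a b c s r hr) r (pullback.fst c s) := by
  have hbig := isPullback_big a b s
  have hbig' : IsPullback (φ a b c s r hr ≫ pullback.snd c s) (u a b s) s (r ≫ c) := by
    rw [φ_snd, hr]
    exact hbig
  exact (IsPullback.of_right hbig' (φ_fst a b c s r hr)
    (IsPullback.of_hasPullback c s).flip).flip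

end Groth.Agent.H18.SegreBC
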