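import Groth.Agent.H18.Segre
import Groth.Agent.H18.TensorModIso
import Groth.Prelude.Def_LCI2

/-!
# Tensoring a very ample module with a globally generated one (via the Segre embedding)

* `exists_closed'`: the Segre embedding over a ring, together with its description on charts.
* `exists_iso_comp`: for `w : Z ⟶ Q` and a "Segre-like" `r : Q ⟶ P^N`,
  `(w ≫ r)^* O(1) ≅ (w ≫ P₁)^* O(1) ⊗ (w ≫ P₂)^* O(1)`.
* `tensor_veryAmple`: if `L` is very ample for `q : X ⟶ S` (w.r.t. some `P^n_S`) and `L'` is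
  invertible and generated by finitely many global sections, then `L ⊗ L'` is very ample.
-/

set_option autoImplicit false
universe u

open CategoryTheory CategoryTheory.Limits AlgebraicGeometry TopologicalSpace Opposite
open Groth.Agent.H8 (app_res)
open Groth.Agent.H18.SecTw Groth.Agent.H18.TensorGen
open Groth.Agent.H18.ProjSpaceGlobal Groth.Agent.H18.ToProjSpace
open Groth.Agent.H18.ProjUPSym Groth.Agent.H18.ProjUPUniq
open Groth.Agent.H18.SegreSec Groth.Agent.H18.SegreGen Groth.Agent.H18.Segre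
open Groth.Agent.H18.ProjUPData (Dp Dp_cover)

namespace Groth.Agent.H18.SegreVA

noncomputable section

section Closed

variable {R : Type u} [CommRing R] {n m N : ℕ} (e : Fin (N + 1) ≃ Fin (n + 1) × Fin (m + 1))

include e in
/-- The Segre embedding over a ring, with its description on the standard charts. -/
theorem exists_closed' :
    ∃ r : pullback (π n R) (π m R) ⟶ Proj (CohB1.polyGrading N R),
      IsClosedImmersion r ∧ r ≫ π N R = pullback.fst (π n R) (π m R) ≫ π n R ∧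
      (∀ k, r ⁻¹ᵁ Dp N R k = pullback.fst (π n R) (π m R) ⁻¹ᵁ Dp n R (e k).1 ⊓
        pullback.snd (π n R) (π m R) ⁻¹ᵁ Dp m R (e k).2) ∧
      ∀ (k l : Fin (N + 1)) (i' : Fin (n + 1)) (j' : Fin (m + 1)), e l = (i', j') →
        ∀ (V : (pullback (π n R) (π m R)).Opens) (e₀ : V ≤ r ⁻¹ᵁ Dp N R k)
        (e₁ : V ≤ pullback.fst (π n R) (π m R) ⁻¹ᵁ Dp n R (e k).1)
        (e₂ : V ≤ pullback.snd (π n R) (π m R) ⁻¹ᵁ Dp m R (e k).2),
        V = r ⁻¹ᵁ Dp N R k →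
        (r.appLE (Dp N R k) V e₀).hom (uSec N R k l) =
          ((pullback.fst (π n R) (π m R)).appLE (Dp n R (e k).1) V e₁).hom
              (uSec n R (e k).1 i') *
            ((pullback.snd (π n R) (π m R)).appLE (Dp m R (e k).2) V e₂).hom
              (uSec m R (e k).2 j') := by
  obtain ⟨r, hrq, hpre, hform⟩ :=
    exists_map e (pullback.fst (π n R) (π m R)) (pullback.snd (π n R) (π m R))
  refine ⟨r, ?_, hrq, hpre, hform⟩
  refine Groth.Agent.H22.ImmCrit.isClosedImmersion_of_cover r (fun k => Dp N R k)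
    (fun k => Proj.isAffineOpen_basicOpen _ _ (Xmem N R k) Nat.one_pos) ?_ (fun k => ?_)
    (fun k => ?_)
  · rw [eq_top_iff]
    intro x _
    obtain ⟨k, hk⟩ := Dp_cover N R x
    exact Opens.mem_iSup.mpr ⟨k, hk⟩
  · rw [hpre k]
    exact Segre.isAffineOpen_pullback_inf'
      (Proj.isAffineOpen_basicOpen _ _ (Xmem n R (e k).1) Nat.one_pos)
      (Proj.isAffineOpen_basicOpen _ _ (Xmem m R (e k).2) Nat.one_pos)
      (isAffineOpen_top (Spec (CommRingCat.of R))) le_top le_top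
  · refine Segre.surjective_app_of_appLE' r _ (WW e k) (hpre k).symm ?_
    have hT : (r.appLE (Dp N R k) (WW e k) (hpre k).symm.le).hom.range = ⊤ := by
      refine subring_eq_top_pullback (π n R) (π m R) (isAffineOpen_top (Spec (CommRingCat.of R)))
        (Proj.isAffineOpen_basicOpen _ _ (Xmem n R (e k).1) Nat.one_pos)
        (Proj.isAffineOpen_basicOpen _ _ (Xmem m R (e k).2) Nat.one_pos) le_top le_top _
        (fun x => ?_) (fun y => ?_)
      · refine mem_of_gen (CohB1.polyGrading n R) (gX n R) (gX_mem n R) (gX_gen n R) ⟨(e k).1⟩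
          ((pullback.fst (π n R) (π m R)).appLE (Dp n R (e k).1) (WW e k) inf_le_left).hom _
          (fun c => ?_) (fun j => ?_) x
        · have h1 := appLE_const (CohB1.polyGrading n R) (pullback.fst (π n R) (π m R))
            (Xmem n R (e k).1) (WW e k) inf_le_left c
          have h2 := appLE_const (CohB1.polyGrading N R) r (Xmem N R k) (WW e k)
            (hpre k).symm.le c
          rw [hrq] at h2
          exact RingHom.mem_range.mpr ⟨_, h2.trans h1.symm⟩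
        · have h1 := hform k (e.symm (j.down, (e k).2)) j.down (e k).2 (e.apply_symm_apply _)
            (WW e k) (hpre k).symm.le inf_le_left inf_le_right (hpre k).symm
          have h2 : uSec m R (e k).2 (e k).2 = 1 :=
            uSecG_self (CohB1.polyGrading m R) (Xmem m R (e k).2)
          rw [h2, map_one, mul_one] at h1
          exact RingHom.mem_range.mpr ⟨_, h1⟩
      · refine mem_of_gen (CohB1.polyGrading m R) (gX m R) (gX_mem m R) (gX_gen m R) ⟨(e k).2⟩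
          ((pullback.snd (π n R) (π m R)).appLE (Dp m R (e k).2) (WW e k) inf_le_right).hom _
          (fun c => ?_) (fun j => ?_) y
        · have h1 := appLE_const (CohB1.polyGrading m R) (pullback.snd (π n R) (π m R))
            (Xmem m R (e k).2) (WW e k) inf_le_right c
          have h2 := appLE_const (CohB1.polyGrading N R) r (Xmem N R k) (WW e k)
            (hpre k).symm.le c
          rw [hrq, pullback.condition] at h2
          exact RingHom.mem_range.mpr ⟨_, h2.trans h1.symm⟩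
        · have h1 := hform k (e.symm ((e k).1, j.down)) (e k).1 j.down (e.apply_symm_apply _)
            (WW e k) (hpre k).symm.le inf_le_left inf_le_right (hpre k).symm
          have h2 : uSec n R (e k).1 (e k).1 = 1 :=
            uSecG_self (CohB1.polyGrading n R) (Xmem n R (e k).1)
          rw [h2, map_one, one_mul] at h1
          exact RingHom.mem_range.mpr ⟨_, h1⟩
    intro y
    have hy : y ∈ (r.appLE (Dp N R k) (WW e k) (hpre k).symm.le).hom.range := by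
      rw [hT]
      trivial
    obtain ⟨z, hz⟩ := hy
    exact ⟨z, hz⟩

end Closed

section Comp

variable {R : Type u} [CommRing R] {n m N : ℕ} (e : Fin (N + 1) ≃ Fin (n + 1) × Fin (m + 1))
  {Z Q : Scheme.{u}} (w : Z ⟶ Q) (P₁ : Q ⟶ Proj (CohB1.polyGrading n R))
  (P₂ : Q ⟶ Proj (CohB1.polyGrading m R)) (r : Q ⟶ Proj (CohB1.polyGrading N R))
  (hpre : ∀ k, r ⁻¹ᵁ Dp N R k = P₁ ⁻¹ᵁ Dp n R (e k).1 ⊓ P₂ ⁻¹ᵁ Dp m R (e k).2)
  (hform : ∀ (k l : Fin (N + 1)) (i' : Fin (n + 1)) (j' : Fin (m + 1)), e l = (i', j') →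
    ∀ (V : Q.Opens) (e₀ : V ≤ r ⁻¹ᵁ Dp N R k)
      (e₁ : V ≤ P₁ ⁻¹ᵁ Dp n R (e k).1) (e₂ : V ≤ P₂ ⁻¹ᵁ Dp m R (e k).2),
      V = r ⁻¹ᵁ Dp N R k →
      (r.appLE (Dp N R k) V e₀).hom (uSec N R k l) =
        (P₁.appLE (Dp n R (e k).1) V e₁).hom (uSec n R (e k).1 i') *
          (P₂.appLE (Dp m R (e k).2) V e₂).hom (uSec m R (e k).2 j'))

include hpre in
theorem hpre_comp (k : Fin (N + 1)) :
    (w ≫ r) ⁻¹ᵁ Dp N R k =
      ProjUPData.Us (MM (w ≫ P₁) (w ≫ P₂)) (ss e (w ≫ P₁) (w ≫ P₂)) k := by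
  have h1 : (w ≫ r) ⁻¹ᵁ Dp N R k = w ⁻¹ᵁ (r ⁻¹ᵁ Dp N R k) := rfl
  rw [h1, hpre k]
  exact (Us_ss e (w ≫ P₁) (w ≫ P₂) k).symm

include hpre hform in
theorem hP4_comp (k l : Fin (N + 1))
    (e₀ : ProjUPData.Us (MM (w ≫ P₁) (w ≫ P₂)) (ss e (w ≫ P₁) (w ≫ P₂)) k ≤
      (w ≫ r) ⁻¹ᵁ Dp N R k) :
    ((w ≫ r).appLE (Dp N R k)
        (ProjUPData.Us (MM (w ≫ P₁) (w ≫ P₂)) (ss e (w ≫ P₁) (w ≫ P₂)) k) e₀).hom
        (uSec N R k l) =
      ProjUPData.as (MM (w ≫ P₁) (w ≫ P₂)) (ss e (w ≫ P₁) (w ≫ P₂)) k l := by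
  have hUs := Us_ss e (w ≫ P₁) (w ≫ P₂) k
  have hW : P₁ ⁻¹ᵁ Dp n R (e k).1 ⊓ P₂ ⁻¹ᵁ Dp m R (e k).2 ≤ r ⁻¹ᵁ Dp N R k := (hpre k).ge
  have hVW : Us (MM (w ≫ P₁) (w ≫ P₂)) (ss e (w ≫ P₁) (w ≫ P₂)) k ≤
      w ⁻¹ᵁ (P₁ ⁻¹ᵁ Dp n R (e k).1 ⊓ P₂ ⁻¹ᵁ Dp m R (e k).2) := hUs.le
  have h1 := Scheme.Hom.appLE_comp_appLE w r (Dp N R k)
    (P₁ ⁻¹ᵁ Dp n R (e k).1 ⊓ P₂ ⁻¹ᵁ Dp m R (e k).2)
    (Us (MM (w ≫ P₁) (w ≫ P₂)) (ss e (w ≫ P₁) (w ≫ P₂)) k) hW hVW
  have h2 := hform k l (e l).1 (e l).2 rfl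
    (P₁ ⁻¹ᵁ Dp n R (e k).1 ⊓ P₂ ⁻¹ᵁ Dp m R (e k).2) hW inf_le_left inf_le_right (hpre k).symm
  have h3 := Scheme.Hom.appLE_comp_appLE w P₁ (Dp n R (e k).1)
    (P₁ ⁻¹ᵁ Dp n R (e k).1 ⊓ P₂ ⁻¹ᵁ Dp m R (e k).2)
    (Us (MM (w ≫ P₁) (w ≫ P₂)) (ss e (w ≫ P₁) (w ≫ P₂)) k) inf_le_left hVW
  have h4 := Scheme.Hom.appLE_comp_appLE w P₂ (Dp m R (e k).2)
    (P₁ ⁻¹ᵁ Dp n R (e k).1 ⊓ P₂ ⁻¹ᵁ Dp m R (e k).2)
    (Us (MM (w ≫ P₁) (w ≫ P₂)) (ss e (w ≫ P₁) (w ≫ P₂)) k) inf_le_right hVW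
  have h5 := as_ss e (w ≫ P₁) (w ≫ P₂) k l
    (hVW.trans ((Opens.map w.base).monotone inf_le_left))
    (hVW.trans ((Opens.map w.base).monotone inf_le_right))
  refine Eq.trans ?_ h5.symm
  refine (congrArg (fun f => f.hom (uSec N R k l)) h1).symm.trans ?_
  show (w.appLE _ _ hVW).hom ((r.appLE (Dp N R k) _ hW).hom (uSec N R k l)) = _
  rw [h2, map_mul]
  congr 1
  · exact congrArg (fun f => f.hom (uSec n R (e k).1 (e l).1)) h3
  · exact congrArg (fun f => f.hom (uSec m R (e k).2 (e l).2)) h4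

include hpre hform in
/-- `(w ≫ r)^* O(1) ≅ (w ≫ P₁)^* O(1) ⊗ (w ≫ P₂)^* O(1)` for a Segre-like `r`. -/
theorem exists_iso_comp :
    Nonempty ((Scheme.Modules.pullback (w ≫ r)).obj (ProjUPData.N1 N R) ≅
      MM (w ≫ P₁) (w ≫ P₂)) := by
  have hpre' := hpre_comp e w P₁ P₂ r hpre
  have hP4' : ∀ k l, ((w ≫ r).appLE (Dp N R k)
      (ProjUPData.Us (MM (w ≫ P₁) (w ≫ P₂)) (ss e (w ≫ P₁) (w ≫ P₂)) k) (hpre' k).ge).hom
      (uSec N R k l) =
      ProjUPData.as (MM (w ≫ P₁) (w ≫ P₂)) (ss e (w ≫ P₁) (w ≫ P₂)) k l := fun k l =>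
    hP4_comp e w P₁ P₂ r hpre hform k l (hpre' k).ge
  obtain ⟨τ₀, hτ⟩ := ProjUPExist.exists_tau (MM (w ≫ P₁) (w ≫ P₂)) (ss e (w ≫ P₁) (w ≫ P₂))
    (w ≫ r) hpre' hP4'
  have hiso : IsIso τ₀ := by
    refine IsoOfGen.isIso_of_isGen_image
      (Groth.Agent.H22.PullGen.isInvertible_pullback (w ≫ r) (ProjUPData.isInvertible_N1 N R)) τ₀
      (fun x => ?_)
    obtain ⟨k, hk⟩ := cover_ss e (w ≫ P₁) (w ≫ P₂) x
    refine ⟨ProjUPData.Us (MM (w ≫ P₁) (w ≫ P₂)) (ss e (w ≫ P₁) (w ≫ P₂)) k,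
      ((Scheme.Modules.pullback (w ≫ r)).obj (ProjUPData.N1 N R)).presheaf.map
        (homOfLE (le_top : ProjUPData.Us (MM (w ≫ P₁) (w ≫ P₂)) (ss e (w ≫ P₁) (w ≫ P₂)) k ≤
          ⊤)).op (ProjUP.pullSec (w ≫ r) (ProjUPData.N1 N R) (ProjUPData.tN N R k)), hk, ?_⟩
    rw [app_res, hτ k, ← ProjUPData.sv_σ]
    exact ProjUPData.isGen_sv _ _ k
  exact ⟨@asIso _ _ _ _ τ₀ hiso⟩

end Comp

section Main

lemma nonempty_pullback_congr' {X Y : Scheme.{u}} {g g' : X ⟶ Y} (h : g = g') (N : Y.Modules) :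
    Nonempty ((Scheme.Modules.pullback g).obj N ≅ (Scheme.Modules.pullback g').obj N) := by
  subst h
  exact ⟨Iso.refl _⟩

/-- If `L` is very ample relative to `q` (for some `P^n_S`) and `L'` is invertible and generated by
finitely many global sections, then `L ⊗ L'` is very ample relative to `q`. -/
theorem tensor_veryAmple {X S : Scheme.{u}} (q : X ⟶ S) (L L' : X.Modules)
    (hva : RelAmple.IsRelVeryAmplePn q L) (hL' : PicF.IsInvertible L') {m : ℕ}
    (s : Fin m → ProjUP.Γm L') (hs : ProjUP.GeneratedBy L' s) :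
    RelAmple.IsRelVeryAmplePn q (CohB1.tensorMod L L') := by
  obtain ⟨n, i, hi, hiq, ⟨τL⟩⟩ := hva
  obtain _ | m' := m
  · -- `X` is empty
    have hX : IsEmpty X := ⟨fun x => by
      obtain ⟨k, -⟩ := cover_of_generatedBy L' s hL' hs x
      exact k.elim0⟩
    refine ⟨n, i, hi, hiq, ?_⟩
    exact ⟨@asIso _ _ _ _ (0 : CohB1.tensorMod L L' ⟶ _)
      (IsoOfGen.isIso_of_locally_bijective _ (fun x => (hX.false x).elim))⟩
  · obtain ⟨r₂, hr₂q, τ', -⟩ := ProjUPExist.exists_to_projSpace (R := ULift.{u} ℤ) m'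
      (specULiftZIsTerminal.from X) L' hL' s hs
    have hN : n * m' + n + m' + 1 = (n + 1) * (m' + 1) := by ring
    obtain ⟨e, -⟩ : ∃ e : Fin (n * m' + n + m' + 1) ≃ Fin (n + 1) × Fin (m' + 1),
      e = (finCongr hN).trans finProdFinEquiv.symm := ⟨_, rfl⟩
    obtain ⟨r, hrc, hrq, hpre, hform⟩ := exists_closed' (R := ULift.{u} ℤ) e
    obtain ⟨i', hi'1, hi'2⟩ : ∃ i' : X ⟶ CohB1.ProjSpaceOver m' S,
        i' ≫ pullback.fst (CohB1.ProjSpace.toSpec m' (ULift.{u} ℤ))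
          (specULiftZIsTerminal.from S) = r₂ ∧
        i' ≫ pullback.snd (CohB1.ProjSpace.toSpec m' (ULift.{u} ℤ))
          (specULiftZIsTerminal.from S) = q :=
      ⟨pullback.lift r₂ q (specULiftZIsTerminal.hom_ext _ _), pullback.lift_fst _ _ _,
        pullback.lift_snd _ _ _⟩
    obtain ⟨j₀, hj1, hj2⟩ : ∃ j₀ : X ⟶ pullback
        (pullback.snd (CohB1.ProjSpace.toSpec n (ULift.{u} ℤ)) (specULiftZIsTerminal.from S))
        (pullback.snd (CohB1.ProjSpace.toSpec m' (ULift.{u} ℤ)) (specULiftZIsTerminal.from S)),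
        j₀ ≫ pullback.fst _ _ = i ∧ j₀ ≫ pullback.snd _ _ = i' :=
      ⟨pullback.lift i i' (hiq.trans hi'2.symm), pullback.lift_fst _ _ _,
        pullback.lift_snd _ _ _⟩
    have hj₀ : IsImmersion j₀ := by
      haveI : IsImmersion (j₀ ≫ pullback.fst
          (pullback.snd (CohB1.ProjSpace.toSpec n (ULift.{u} ℤ)) (specULiftZIsTerminal.from S))
          (pullback.snd (CohB1.ProjSpace.toSpec m' (ULift.{u} ℤ))
            (specULiftZIsTerminal.from S))) := by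
        rw [hj1]
        exact hi
      exact IsImmersion.of_comp j₀ (pullback.fst _ _)
    obtain ⟨φ, hφ⟩ : ∃ φ, φ = SegreBC.φ (CohB1.ProjSpace.toSpec n (ULift.{u} ℤ))
      (CohB1.ProjSpace.toSpec m' (ULift.{u} ℤ))
      (CohB1.ProjSpace.toSpec (n * m' + n + m') (ULift.{u} ℤ)) (specULiftZIsTerminal.from S) r hrq :=
      ⟨_, rfl⟩
    have hφc : IsClosedImmersion φ := by
      rw [hφ]
      exact MorphismProperty.of_isPullback (P := @IsClosedImmersion)
        (SegreBC.isPullback_φ _ _ _ _ r hrq) hrc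
    have hφ1 : φ ≫ pullback.fst _ _ = SegreBC.u _ _ _ ≫ r := by
      rw [hφ]
      exact SegreBC.φ_fst _ _ _ _ _ _
    have hφ2 : φ ≫ pullback.snd _ _ = pullback.fst _ _ ≫ pullback.snd _ _ := by
      rw [hφ]
      exact SegreBC.φ_snd _ _ _ _ _ _
    have hφi : IsImmersion φ := inferInstance
    have hjφ : IsImmersion (j₀ ≫ φ) := inferInstance
    refine ⟨n * m' + n + m', j₀ ≫ φ, hjφ, ?_, ?_⟩
    · refine (Category.assoc j₀ φ _).trans ?_
      rw [hφ2, ← Category.assoc, hj1]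
      exact hiq
    · obtain ⟨w, hw⟩ : ∃ w : X ⟶ pullback (π n (ULift.{u} ℤ)) (π m' (ULift.{u} ℤ)),
        w = j₀ ≫ SegreBC.u (CohB1.ProjSpace.toSpec n (ULift.{u} ℤ))
          (CohB1.ProjSpace.toSpec m' (ULift.{u} ℤ)) (specULiftZIsTerminal.from S) := ⟨_, rfl⟩
      have hw1 : w ≫ pullback.fst (π n (ULift.{u} ℤ)) (π m' (ULift.{u} ℤ)) =
          i ≫ pullback.fst (CohB1.ProjSpace.toSpec n (ULift.{u} ℤ))
            (specULiftZIsTerminal.from S) := by
        rw [hw]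
        refine (Category.assoc _ _ _).trans ?_
        refine (congrArg (j₀ ≫ ·) (SegreBC.u_fst _ _ _)).trans ?_
        rw [← Category.assoc, hj1]
        rfl
      have hw2 : w ≫ pullback.snd (π n (ULift.{u} ℤ)) (π m' (ULift.{u} ℤ)) = r₂ := by
        rw [hw]
        refine (Category.assoc _ _ _).trans ?_
        refine (congrArg (j₀ ≫ ·) (SegreBC.u_snd _ _ _)).trans ?_
        rw [← Category.assoc, hj2]
        exact hi'1
      have hjr : (j₀ ≫ φ) ≫ pullback.fst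
          (CohB1.ProjSpace.toSpec (n * m' + n + m') (ULift.{u} ℤ))
          (specULiftZIsTerminal.from S) = w ≫ r := by
        refine (Category.assoc j₀ φ _).trans ?_
        rw [hφ1, hw]
        exact (Category.assoc _ _ _).symm
      obtain ⟨τ1⟩ := exists_iso_comp e w (pullback.fst _ _) (pullback.snd _ _) r hpre hform
      rw [hw1, hw2] at τ1
      obtain ⟨τ2⟩ := nonempty_pullback_congr' hjr (ProjUPData.N1 (n * m' + n + m') (ULift.{u} ℤ))
      obtain ⟨τ3⟩ := TensorModIso.nonempty_tensorMod_congr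
        (τL ≪≫ (Scheme.Modules.pullbackComp i _).app _) τ'.symm
      exact ⟨τ3 ≪≫ τ1.symm ≪≫ τ2.symm ≪≫
        ((Scheme.Modules.pullbackComp (j₀ ≫ φ) _).app _).symm⟩

end Main

end

end Groth.Agent.H18.SegreVA
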