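import Mathlib
import Groth.Prelude.Def_SGA4b
import Groth.Prelude.Def_EtOpen
import Groth.Agent.H4.SiteBasics

set_option autoImplicit false
universe u
open CategoryTheory CategoryTheory.Limits AlgebraicGeometry Opposite

namespace Groth.Agent.H18.SubT_P4

variable {X : Scheme.{u}}

/-- (P4) -/
theorem nonempty_sections_repSh_ofOpen_iff (U : X.Opens) (W : X.Etale) :
    Nonempty ((EtDesc.repSh (EtDesc.ofOpen U)).obj.obj (op W)) ↔
      Set.range W.hom.base ⊆ (U : Set X) := by
  constructor
  · rintro ⟨s⟩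
    have hloc : Presheaf.IsLocallySurjective X.smallEtaleTopology
        (toSheafify X.smallEtaleTopology
          (yoneda.obj (EtDesc.ofOpen U) ⋙ uliftFunctor.{u + 1, u})) := inferInstance
    have hcov := Presheaf.imageSieve_mem X.smallEtaleTopology
      (toSheafify X.smallEtaleTopology
          (yoneda.obj (EtDesc.ofOpen U) ⋙ uliftFunctor.{u + 1, u})) s
    rintro _ ⟨w, rfl⟩
    obtain ⟨Y, g, y, hg, hy⟩ := Groth.Agent.H4.exists_of_mem_smallEtaleTopology W _ hcov w
    obtain ⟨⟨φ⟩, -⟩ := hg
    -- φ : Y ⟶ ofOpen U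
    have h1 : Y.hom = φ.left ≫ U.ι := (MorphismProperty.Over.w φ).symm
    have h2 : g.left ≫ W.hom = Y.hom := MorphismProperty.Over.w g
    have h3 : W.hom.base w = (U.ι).base (φ.left.base y) := by
      rw [← hy]
      have e : g.left ≫ W.hom = φ.left ≫ U.ι := h2.trans h1
      have := congrArg (fun f : Y.left ⟶ X => f.base y) e
      exact this
    rw [h3]
    exact (φ.left.base y).2
  · intro h
    have hr : Set.range W.hom.base ⊆ Set.range U.ι.base := by
      rw [Scheme.Opens.range_ι]
      exact h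
    let g : W.left ⟶ (U : Scheme) := IsOpenImmersion.lift U.ι W.hom hr
    have hg : g ≫ U.ι = W.hom := IsOpenImmersion.lift_fac _ _ _
    let φ : W ⟶ EtDesc.ofOpen U := MorphismProperty.Over.homMk g hg
    exact ⟨(toSheafify X.smallEtaleTopology
          (yoneda.obj (EtDesc.ofOpen U) ⋙ uliftFunctor.{u + 1, u})).app (op W) ⟨φ⟩⟩

end Groth.Agent.H18.SubT_P4
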