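import Groth.Agent.H18.GlobGen
import Groth.Agent.H8.SuppClosed

/-!
# Modules with zero-dimensional support

* `finite_t1_of_dim_le_zero`: a Noetherian `T₀` space of Krull dimension `≤ 0` is finite and `T₁`.
* `eq_zero_of_stalks`: a section all of whose stalks vanish is zero.
* `exists_extend_by_zero`: gluing a section over `V` with zero over `W`.
* `isGloballyGenerated_of_finite_closed_support`: a module of finite type whose support is a
  finite set of closed points is globally generated.
-/

set_option autoImplicit false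
universe u

noncomputable section

namespace Groth.Agent.H18.SuppZero

open CategoryTheory AlgebraicGeometry Opposite TopologicalSpace
open Groth.Agent.H18.GlobGen

/-- A Noetherian `T₀` space of Krull dimension `≤ 0` is finite and `T₁`. -/
lemma finite_t1_of_dim_le_zero {T : Type*} [TopologicalSpace T] [T0Space T] [NoetherianSpace T]
    (h : topologicalKrullDim T ≤ 0) : Finite T ∧ T1Space T := by
  have hmin : ∀ Z : IrreducibleCloseds T, IsMin Z := Order.krullDim_nonpos_iff_forall_isMin.mp h
  have ht1 : T1Space T := by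
    refine ⟨fun x => ?_⟩
    have hcl : closure ({x} : Set T) = {x} := by
      apply Set.Subset.antisymm _ subset_closure
      intro y hy
      let Zx : IrreducibleCloseds T :=
        ⟨closure {x}, isIrreducible_singleton.closure, isClosed_closure⟩
      let Zy : IrreducibleCloseds T :=
        ⟨closure {y}, isIrreducible_singleton.closure, isClosed_closure⟩
      have hle : Zy ≤ Zx := fun a ha =>
        closure_minimal (Set.singleton_subset_iff.mpr hy) isClosed_closure ha
      have hge : Zx ≤ Zy := hmin Zx hle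
      have hx : x ∈ closure ({y} : Set T) := hge (subset_closure (Set.mem_singleton x))
      have h1 : x ⤳ y := specializes_iff_mem_closure.mpr hy
      have h2 : y ⤳ x := specializes_iff_mem_closure.mpr hx
      have h3 : x = y := (h1.antisymm h2).eq
      rw [h3]
      exact Set.mem_singleton y
    rw [← hcl]
    exact isClosed_closure
  refine ⟨?_, ht1⟩
  have hfin := NoetherianSpace.finite_irreducibleComponents (α := T)
  have hall : ∀ Z ∈ irreducibleComponents T, Z.Finite := by
    intro Z hZ
    have hirr : IsIrreducible Z := hZ.1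
    have hclosed : IsClosed Z := isClosed_of_mem_irreducibleComponents Z hZ
    obtain ⟨x, hx⟩ := hirr.nonempty
    let Z' : IrreducibleCloseds T := ⟨Z, hirr, hclosed⟩
    let P : IrreducibleCloseds T := ⟨{x}, isIrreducible_singleton, isClosed_singleton⟩
    have hle : P ≤ Z' := fun y hy => by
      have hyx : y = x := hy
      rw [hyx]
      exact hx
    have hge : Z' ≤ P := hmin Z' hle
    exact (Set.finite_singleton x).subset hge
  have huniv : (Set.univ : Set T).Finite := by
    rw [← sUnion_irreducibleComponents]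
    exact hfin.sUnion hall
  exact Set.finite_univ_iff.mp huniv

variable {X : Scheme.{u}}

/-- A section over an open on which all stalks vanish is zero. -/
lemma eq_zero_of_stalks {F : X.Modules} {U : X.Opens}
    (h : ∀ y ∈ U, Subsingleton ↑(F.presheaf.stalk y)) (s : Γ(F, U)) : s = 0 :=
  TopCat.Presheaf.section_ext ⟨F.presheaf, F.isSheaf⟩ U s 0 (fun y hy => by
    have := h y hy
    exact Subsingleton.elim _ _)

/-- Gluing a section over `V` with zero over `W`, when all stalks on `V ⊓ W` vanish. -/
lemma exists_extend_by_zero (F : X.Modules) {V W : X.Opens} (hcov : (⊤ : X.Opens) ≤ V ⊔ W)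
    (hst : ∀ y ∈ V ⊓ W, Subsingleton ↑(F.presheaf.stalk y)) (t : Γ(F, V)) :
    ∃ g : Γ(F, ⊤), F.presheaf.map (homOfLE (le_top : V ≤ ⊤)).op g = t := by
  let Uc : Bool → X.Opens := fun b => Bool.rec W V b
  let sf : ∀ b, Γ(F, Uc b) := fun b =>
    Bool.rec (motive := fun b => Γ(F, Uc b)) (0 : Γ(F, W)) t b
  have hcompat : TopCat.Presheaf.IsCompatible F.presheaf Uc sf := by
    intro i j
    cases i <;> cases j
    · rfl
    · have hz : ∀ s : Γ(F, W ⊓ V), s = 0 :=
        eq_zero_of_stalks (U := W ⊓ V) (fun y hy => hst y ⟨hy.2, hy.1⟩)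
      exact (hz _).trans (hz _).symm
    · have hz : ∀ s : Γ(F, V ⊓ W), s = 0 := eq_zero_of_stalks (U := V ⊓ W) hst
      exact (hz _).trans (hz _).symm
    · rfl
  have hcover : (⊤ : X.Opens) ≤ iSup Uc := by
    intro y hy
    have h1 : y ∈ V ⊔ W := hcov hy
    rw [← SetLike.mem_coe, Opens.coe_sup] at h1
    rcases h1 with h | h
    · exact Opens.mem_iSup.mpr ⟨true, h⟩
    · exact Opens.mem_iSup.mpr ⟨false, h⟩
  obtain ⟨g, hg, -⟩ := TopCat.Sheaf.existsUnique_gluing' (F := ⟨F.presheaf, F.isSheaf⟩)
    Uc ⊤ (fun b => homOfLE le_top) hcover sf hcompat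
  exact ⟨g, hg true⟩

/-- A module of finite type whose support is a finite set of closed points is generated by its
global sections. -/
theorem isGloballyGenerated_of_finite_closed_support (F : X.Modules)
    [SheafOfModules.IsFiniteType (R := X.ringCatSheaf) F]
    (hfin : {x : X | ¬ Subsingleton ↑(F.presheaf.stalk x)}.Finite)
    (hpt : ∀ y : X, ¬ Subsingleton ↑(F.presheaf.stalk y) → IsClosed ({y} : Set X)) :
    Curv2.IsGloballyGenerated F := by
  apply isGloballyGenerated_of_ggAt
  intro x
  by_cases hx : Subsingleton ↑(F.presheaf.stalk x)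
  · obtain ⟨W, hxW, hW⟩ := Groth.Agent.H8.exists_open_subsingleton_stalk F x hx
    intro U t hxU
    refine ⟨W ⊓ U, inf_le_right, ⟨hxW, hxU⟩, ?_⟩
    have hz : ∀ s : Γ(F, W ⊓ U), s = 0 :=
      eq_zero_of_stalks (U := W ⊓ U) (fun y hy => hW y hy.1)
    rw [hz (F.presheaf.map _ t)]
    exact Submodule.zero_mem _
  · set S : Set X := {x : X | ¬ Subsingleton ↑(F.presheaf.stalk x)} with hS
    set C : Set X := S \ {x} with hCdef
    have hC : IsClosed C := by
      have e : C = ⋃ y ∈ C, {y} := (Set.biUnion_of_singleton C).symm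
      rw [e]
      exact (hfin.subset Set.sdiff_subset).isClosed_biUnion (fun y hy => hpt y hy.1)
    let V₀ : X.Opens := ⟨Cᶜ, hC.isOpen_compl⟩
    let W : X.Opens := ⟨{x}ᶜ, (hpt x hx).isOpen_compl⟩
    intro U t hxU
    have hxV₀ : x ∈ V₀ := fun h => h.2 rfl
    have hst : ∀ y ∈ (U ⊓ V₀) ⊓ W, Subsingleton ↑(F.presheaf.stalk y) := by
      rintro y ⟨⟨-, hy1⟩, hy2⟩
      by_contra hns
      exact hy1 ⟨hns, hy2⟩
    have hcov : (⊤ : X.Opens) ≤ (U ⊓ V₀) ⊔ W := by
      intro y _
      rw [← SetLike.mem_coe, Opens.coe_sup]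
      by_cases hyx : y = x
      · subst hyx
        exact Or.inl ⟨hxU, hxV₀⟩
      · exact Or.inr hyx
    obtain ⟨g, hg⟩ := exists_extend_by_zero F hcov hst
      (F.presheaf.map (homOfLE (inf_le_left : U ⊓ V₀ ≤ U)).op t)
    refine ⟨U ⊓ V₀, inf_le_left, ⟨hxU, hxV₀⟩, ?_⟩
    rw [← hg]
    exact Submodule.subset_span ⟨g, rfl⟩

end Groth.Agent.H18.SuppZero
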