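import Groth.Agent.H18.ToProj
import Groth.Agent.H8.QCohQcqs
import Groth.Prelude.Def_ProjUP

/-!
# Gluing a morphism to `Proj` of a graded ring from ring maps on an open cover

Abstract version of `H18/ToProjSpace`: given an open cover `U i` of a scheme `Z`, homogeneous
elements `g i` of degree one and ring maps `ψ i : A →+* Γ(Z, U i)` with `ψ i (g i) = 1` which on
overlaps differ by the grading twist of a unit (`ψ j f = v ^ d * ψ i f` for `f` of degree `d`),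
the chart morphisms `U i ⟶ D₊(g i) ⊆ Proj 𝒜` glue to `r : Z ⟶ Proj 𝒜`.
-/

set_option autoImplicit false
universe u

open CategoryTheory AlgebraicGeometry HomogeneousLocalization TopologicalSpace Opposite
open Groth.Agent.H18.ToProj
open Groth.Agent.H8 (ringRes_res)

namespace Groth.Agent.H18.ToProjGen

noncomputable section

variable {R A : Type u} [CommRing R] [CommRing A] [Algebra R A] (𝒜 : ℕ → Submodule R A)
  [GradedAlgebra 𝒜]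
variable {Z : Scheme.{u}} {I : Type u} (U : I → Z.Opens) (g : I → A) (hg : ∀ i, g i ∈ 𝒜 1)
  (ψ : ∀ i, A →+* Γ(Z, U i)) (hψ1 : ∀ i, ψ i (g i) = 1)

include hψ1 in
theorem isUnit_ψ_g (i : I) : IsUnit (ψ i (g i)) := by
  rw [hψ1 i]
  exact isUnit_one

/-- The chart morphism on `U i`. -/
def chartG (i : I) : (U i : Scheme.{u}) ⟶ Proj 𝒜 :=
  chartMap 𝒜 (U i) (ψ i) (hg i) Nat.one_pos (isUnit_ψ_g U g ψ hψ1 i)

/-- The compatibility hypothesis on overlaps. -/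
def Compat : Prop :=
  ∀ i j, ∃ v : Γ(Z, U i ⊓ U j), IsUnit v ∧ ∀ (d : ℕ) (f : A), f ∈ 𝒜 d →
    Z.presheaf.map (homOfLE (inf_le_right : U i ⊓ U j ≤ U j)).op (ψ j f) =
      v ^ d * Z.presheaf.map (homOfLE (inf_le_left : U i ⊓ U j ≤ U i)).op (ψ i f)

theorem chartG_compat (hcomp : Compat 𝒜 U ψ) (i j : I) :
    Z.homOfLE (inf_le_left : U i ⊓ U j ≤ U i) ≫ chartG 𝒜 U g hg ψ hψ1 i =
      Z.homOfLE (inf_le_right : U i ⊓ U j ≤ U j) ≫ chartG 𝒜 U g hg ψ hψ1 j := by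
  obtain ⟨v, hvu, hsc⟩ := hcomp i j
  obtain ⟨ψi, hψi⟩ : ∃ ψi : A →+* Γ(Z, U i ⊓ U j),
      ψi = (Z.presheaf.map (homOfLE (inf_le_left : U i ⊓ U j ≤ U i)).op).hom.comp (ψ i) :=
    ⟨_, rfl⟩
  obtain ⟨ψj, hψj⟩ : ∃ ψj : A →+* Γ(Z, U i ⊓ U j),
      ψj = (Z.presheaf.map (homOfLE (inf_le_right : U i ⊓ U j ≤ U j)).op).hom.comp (ψ j) :=
    ⟨_, rfl⟩
  have hsc' : ∀ (d : ℕ) (f : A), f ∈ 𝒜 d → ψj f = v ^ d * ψi f := by
    intro d f hf
    rw [hψi, hψj]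
    exact hsc d f hf
  have hii : ψi (g i) = 1 := by
    rw [hψi]
    show Z.presheaf.map _ (ψ i (g i)) = 1
    rw [hψ1 i, map_one]
  have hjj : ψj (g j) = 1 := by
    rw [hψj]
    show Z.presheaf.map _ (ψ j (g j)) = 1
    rw [hψ1 j, map_one]
  have hji : ψj (g i) = v := by rw [hsc' 1 (g i) (hg i), hii, pow_one, mul_one]
  have hvw : v * ψi (g j) = 1 := by rw [← pow_one v, ← hsc' 1 (g j) (hg j), hjj]
  have hwu : IsUnit (ψi (g j)) := IsUnit.of_mul_eq_one _ (by rw [mul_comm]; exact hvw)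
  have ui : IsUnit (ψi (g i)) := by rw [hii]; exact isUnit_one
  have uj : IsUnit (ψj (g j)) := by rw [hjj]; exact isUnit_one
  have uix : IsUnit (ψi (g i * g j)) := by rw [map_mul, hii, one_mul]; exact hwu
  have ujx : IsUnit (ψj (g i * g j)) := by rw [map_mul, hjj, mul_one, hji]; exact hvu
  have hxm : g i * g j ∈ 𝒜 (1 + 1) := SetLike.mul_mem_graded (hg i) (hg j)
  have s1 : Z.homOfLE (inf_le_left : U i ⊓ U j ≤ U i) ≫ chartG 𝒜 U g hg ψ hψ1 i =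
      chartMap 𝒜 (U i ⊓ U j) ψi (hg i) Nat.one_pos ui := by
    subst hψi
    exact homOfLE_chartMap 𝒜 (U i) (ψ i) (hg i) Nat.one_pos _ inf_le_left ui
  have s5 : Z.homOfLE (inf_le_right : U i ⊓ U j ≤ U j) ≫ chartG 𝒜 U g hg ψ hψ1 j =
      chartMap 𝒜 (U i ⊓ U j) ψj (hg j) Nat.one_pos uj := by
    subst hψj
    exact homOfLE_chartMap 𝒜 (U j) (ψ j) (hg j) Nat.one_pos _ inf_le_right uj
  have s2 := chartMap_mul 𝒜 (U i ⊓ U j) ψi (hg i) Nat.one_pos ui (hg j) rfl hxm (by norm_num) uix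
  have s4 := chartMap_mul 𝒜 (U i ⊓ U j) ψj (hg j) Nat.one_pos uj (hg i) (mul_comm _ _) hxm
    (by norm_num) ujx
  have s3 := chartMap_congr 𝒜 (U i ⊓ U j) ψi hxm (by norm_num) uix ψj ujx
    (awayLift_eq_of_scale 𝒜 _ _ v hvu hsc' hxm uix ujx)
  exact s1.trans (s2.symm.trans (s3.symm.trans (s4.trans s5.symm)))

theorem isOpenCover_of_forall (hcov : ∀ x : Z, ∃ i, x ∈ U i) : IsOpenCover U :=
  IsOpenCover.mk (by
    rw [eq_top_iff]
    intro x _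
    obtain ⟨i, hi⟩ := hcov x
    exact Opens.mem_iSup.mpr ⟨i, hi⟩)

theorem exists_glueG (hcov : ∀ x : Z, ∃ i, x ∈ U i) (hcomp : Compat 𝒜 U ψ) :
    ∃ r : Z ⟶ Proj 𝒜, ∀ i, (U i).ι ≫ r = chartG 𝒜 U g hg ψ hψ1 i := by
  have hU : IsOpenCover U := isOpenCover_of_forall U hcov
  refine ⟨(Z.openCoverOfIsOpenCover U hU).glueMorphisms (fun i => chartG 𝒜 U g hg ψ hψ1 i)
    (fun (i j : I) => ?_), fun i => (Z.openCoverOfIsOpenCover U hU).ι_glueMorphisms _ _ i⟩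
  have key := chartG_compat 𝒜 U g hg ψ hψ1 hcomp i j
  refine (cancel_epi (isPullback_opens_inf (U i) (U j)).isoPullback.hom).mp ?_
  have hfst : (isPullback_opens_inf (U i) (U j)).isoPullback.hom ≫
      Limits.pullback.fst (U i).ι (U j).ι = Z.homOfLE inf_le_left :=
    IsPullback.isoPullback_hom_fst _
  have hsnd : (isPullback_opens_inf (U i) (U j)).isoPullback.hom ≫
      Limits.pullback.snd (U i).ι (U j).ι = Z.homOfLE inf_le_right :=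
    IsPullback.isoPullback_hom_snd _
  exact (Category.assoc _ _ _).symm.trans ((congrArg (· ≫ chartG 𝒜 U g hg ψ hψ1 i) hfst).trans
    (key.trans ((congrArg (· ≫ chartG 𝒜 U g hg ψ hψ1 j) hsnd).symm.trans
      (Category.assoc _ _ _))))

variable (r : Z ⟶ Proj 𝒜) (hr : ∀ i, (U i).ι ≫ r = chartG 𝒜 U g hg ψ hψ1 i)

theorem toGlobal_spec (q : Z ⟶ Spec (CommRingCat.of R)) :
    q = Z.toSpecΓ ≫ Spec.map (CommRingCat.ofHom (ProjUP.toGlobal q)) := by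
  have h1 : CommRingCat.ofHom (ProjUP.toGlobal q) =
      (Scheme.ΓSpecIso (CommRingCat.of R)).inv ≫ q.appTop := rfl
  rw [h1, Spec.map_comp, ← Category.assoc, ← Scheme.toSpecΓ_naturality, Category.assoc,
    toSpecΓ_SpecMap_ΓSpecIso_inv, Category.comp_id]

include hr in
theorem glue_toSpecG (q : Z ⟶ Spec (CommRingCat.of R))
    (hκ : ∀ i (c : R), ψ i (algebraMap R A c) =
      Z.presheaf.map (homOfLE (le_top : U i ≤ ⊤)).op (ProjUP.toGlobal q c))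
    (hcov : ∀ x : Z, ∃ i, x ∈ U i) :
    r ≫ (Proj.toSpecZero 𝒜 ≫ Spec.map (CommRingCat.ofHom (algebraMap R (𝒜 0)))) = q := by
  have hU : IsOpenCover U := isOpenCover_of_forall U hcov
  refine (Z.openCoverOfIsOpenCover U hU).hom_ext _ _ fun i => ?_
  show (U i).ι ≫ r ≫ _ = (U i).ι ≫ q
  rw [← Category.assoc, hr i]
  unfold chartG
  rw [← Category.assoc, chartMap_toSpecZero, Category.assoc, ← Spec.map_comp]
  conv_rhs => rw [toGlobal_spec q, ← Category.assoc,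
    ← Scheme.Opens.toSpecΓ_SpecMap_presheaf_map_top, Category.assoc, ← Spec.map_comp]
  congr 2
  apply CommRingCat.hom_ext
  refine RingHom.ext fun c => ?_
  exact hκ i c

include hr in
theorem glue_preimageG (hcov : ∀ x : Z, ∃ i, x ∈ U i) {e : ℕ} {h : A} (hh : h ∈ 𝒜 e) (he : 0 < e)
    (W : Z.Opens) (h3 : ∀ k, Z.basicOpen (ψ k h) = W ⊓ U k) :
    r ⁻¹ᵁ Proj.basicOpen 𝒜 h = W := by
  refine Opens.ext (Set.ext fun x => ?_)
  show x ∈ r ⁻¹ᵁ Proj.basicOpen 𝒜 h ↔ x ∈ W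
  obtain ⟨k, hk⟩ := hcov x
  have e1 : r x = (chartG 𝒜 U g hg ψ hψ1 k) ⟨x, hk⟩ := by rw [← hr k]; rfl
  have e2 : chartG 𝒜 U g hg ψ hψ1 k ⁻¹ᵁ Proj.basicOpen 𝒜 h = (U k).ι ⁻¹ᵁ Z.basicOpen (ψ k h) := by
    unfold chartG
    rw [chartMap_preimage_basicOpen 𝒜 _ _ _ _ _ hh he]
  have e3 : x ∈ r ⁻¹ᵁ Proj.basicOpen 𝒜 h ↔
      (⟨x, hk⟩ : U k) ∈ chartG 𝒜 U g hg ψ hψ1 k ⁻¹ᵁ Proj.basicOpen 𝒜 h := by
    show r x ∈ Proj.basicOpen 𝒜 h ↔ (chartG 𝒜 U g hg ψ hψ1 k) ⟨x, hk⟩ ∈ Proj.basicOpen 𝒜 h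
    rw [e1]
  rw [e3, e2]
  show x ∈ Z.basicOpen (ψ k h) ↔ x ∈ W
  rw [h3 k]
  exact ⟨fun h => h.1, fun h => ⟨h, hk⟩⟩

include hr in
theorem glue_appLEG (i : I) (e : U i ≤ r ⁻¹ᵁ Proj.basicOpen 𝒜 (g i)) :
    Proj.awayToSection 𝒜 (g i) ≫ r.appLE (Proj.basicOpen 𝒜 (g i)) (U i) e =
      CommRingCat.ofHom (awayLift 𝒜 (ψ i) (g i) (isUnit_ψ_g U g ψ hψ1 i)) := by
  have e' : (⊤ : (U i : Scheme.{u}).Opens) ≤ (U i).ι ⁻¹ᵁ U i := by
    rw [Scheme.Opens.ι_preimage_self]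
  have h0 : r.appLE (Proj.basicOpen 𝒜 (g i)) (U i) e ≫ (U i).ι.appLE (U i) ⊤ e' =
      ((U i).ι ≫ r).appLE (Proj.basicOpen 𝒜 (g i)) ⊤
        (e'.trans ((Opens.map (U i).ι.base).map (homOfLE e)).le) :=
    Scheme.Hom.appLE_comp_appLE _ _ _ _ _ _ _
  have h0' : (U i).ι.appLE (U i) ⊤ e' = (U i).topIso.inv := by
    rw [Scheme.Opens.ι_appLE]
    rfl
  have h2 : ∀ (f f' : (U i : Scheme.{u}) ⟶ Proj 𝒜) (hf : f = f')
      (e₁ : ⊤ ≤ f ⁻¹ᵁ Proj.basicOpen 𝒜 (g i)),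
      f.appLE (Proj.basicOpen 𝒜 (g i)) ⊤ e₁ = f'.appLE (Proj.basicOpen 𝒜 (g i)) ⊤ (hf ▸ e₁) := by
    rintro f _ rfl _
    rfl
  have h5 : r.appLE (Proj.basicOpen 𝒜 (g i)) (U i) e ≫ (U i).topIso.inv =
      (chartG 𝒜 U g hg ψ hψ1 i).appLE (Proj.basicOpen 𝒜 (g i)) ⊤
        (hr i ▸ (e'.trans ((Opens.map (U i).ι.base).map (homOfLE e)).le)) := by
    rw [← h0', h0]
    exact h2 _ _ (hr i) _
  rw [← cancel_mono (U i).topIso.inv, Category.assoc, h5]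
  exact awayToSection_chartMap_appLE 𝒜 (U i) _ (hg i) Nat.one_pos _ _

include hr in
theorem glue_appLE_applyG (i : I) (e : U i ≤ r ⁻¹ᵁ Proj.basicOpen 𝒜 (g i)) {h : A}
    (hh : h ∈ 𝒜 (1 • 1)) :
    (r.appLE (Proj.basicOpen 𝒜 (g i)) (U i) e).hom
      ((Proj.awayToSection 𝒜 (g i)).hom (Away.mk 𝒜 (hg i) 1 h hh)) = ψ i h := by
  have h1 := congrArg (fun f => f.hom (Away.mk 𝒜 (hg i) 1 h hh))
    (glue_appLEG 𝒜 U g hg ψ hψ1 r hr i e)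
  refine h1.trans ?_
  have h' := awayLift_mk_mul 𝒜 (ψ i) (hg i) (isUnit_ψ_g U g ψ hψ1 i) 1 h hh
  rw [hψ1 i, one_pow, mul_one] at h'
  exact h'

end

end Groth.Agent.H18.ToProjGen
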