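import Groth.Agent.H18.ToProj
import Groth.Agent.H18.ProjSpaceGlobal
import Groth.Agent.H8.QCohQcqs
import Groth.Prelude.Def_ProjUP

/-!
# Gluing a morphism to projective space from transition data

Given an open cover `U i` (`i : Fin (n+1)`) of a scheme `Z` over `R` and functions
`a i k ∈ Γ(Z, U i)` with `a i i = 1` and the cocycle condition `a j k = a j i * a i k` on
`U i ⊓ U j`, we glue the chart morphisms `U i ⟶ D₊(T_i) ⊆ P^n_R`, `T_k / T_i ↦ a i k`, to a
morphism `r : Z ⟶ P^n_R`, and compute `r ≫ toSpec`, `r ⁻¹ D₊(T_i)` and `r^♯ (T_j / T_i)`.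
-/

set_option autoImplicit false
universe u

open CategoryTheory AlgebraicGeometry HomogeneousLocalization TopologicalSpace Opposite
open Groth.Agent.H18.ToProj Groth.Agent.H18.ProjSpaceGlobal
open Groth.Agent.H8 (ringRes_res)

namespace Groth.Agent.H18.ToProjSpace

noncomputable section

section General

variable {R A : Type u} [CommRing R] [CommRing A] [Algebra R A] (𝒜 : ℕ → Submodule R A)
  [GradedAlgebra 𝒜] {Z : Scheme.{u}}

theorem chartMap_congr_hom (V : Z.Opens) {ψ ψ' : A →+* Γ(Z, V)} (h : ψ' = ψ) {d : ℕ} {g : A}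
    (hg : g ∈ 𝒜 d) (hd : 0 < d) (hu : IsUnit (ψ g)) (hu' : IsUnit (ψ' g)) :
    chartMap 𝒜 V ψ' hg hd hu' = chartMap 𝒜 V ψ hg hd hu := by
  subst h
  rfl

end General

variable (n : ℕ) (R : Type u) [CommRing R] {Z : Scheme.{u}} (κ : R →+* Γ(Z, ⊤))

/-- The structure map to sections over `V`. -/
def κV (V : Z.Opens) : R →+* Γ(Z, V) :=
  (Z.presheaf.map (homOfLE (le_top : V ≤ ⊤)).op).hom.comp κ

/-- Evaluation of polynomials at a family of functions on `V`. -/
def ψV (V : Z.Opens) (b : Fin (n + 1) → Γ(Z, V)) : MvPolynomial (Fin (n + 1)) R →+* Γ(Z, V) :=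
  MvPolynomial.eval₂Hom (κV R κ V) b

theorem ψV_X (V : Z.Opens) (b : Fin (n + 1) → Γ(Z, V)) (i : Fin (n + 1)) :
    ψV n R κ V b (MvPolynomial.X i) = b i := MvPolynomial.eval₂Hom_X' _ _ _

theorem ψV_C (V : Z.Opens) (b : Fin (n + 1) → Γ(Z, V)) (c : R) :
    ψV n R κ V b (MvPolynomial.C c) = Z.presheaf.map (homOfLE (le_top : V ≤ ⊤)).op (κ c) :=
  MvPolynomial.eval₂Hom_C _ _ _

theorem res_comp_ψV {V V' : Z.Opens} (h : V' ≤ V) (b : Fin (n + 1) → Γ(Z, V)) :
    (Z.presheaf.map (homOfLE h).op).hom.comp (ψV n R κ V b) =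
      ψV n R κ V' (fun k => Z.presheaf.map (homOfLE h).op (b k)) := by
  unfold ψV
  rw [MvPolynomial.comp_eval₂Hom]
  congr 1
  refine RingHom.ext fun c => ?_
  exact ringRes_res h le_top (κ c)

theorem ψV_scale (V : Z.Opens) (b : Fin (n + 1) → Γ(Z, V)) (v : Γ(Z, V)) (m : ℕ)
    (p : MvPolynomial (Fin (n + 1)) R) (hp : p ∈ (CohB1.polyGrading n R) m) :
    ψV n R κ V (fun k => v * b k) p = v ^ m * ψV n R κ V b p :=
  eval₂Hom_scale _ b v m p hp

theorem Xmem' (j : Fin (n + 1)) :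
    (MvPolynomial.X j : MvPolynomial (Fin (n + 1)) R) ∈ (CohB1.polyGrading n R) (1 • 1) := Xmem n R j

/-- The fraction `T_j / T_i`. -/
def uFrac (i j : Fin (n + 1)) : Away (CohB1.polyGrading n R) (MvPolynomial.X i : MvPolynomial (Fin (n + 1)) R) :=
  Away.mk (CohB1.polyGrading n R) (Xmem n R i) 1 (MvPolynomial.X j) (Xmem' n R j)

/-- The function `T_j / T_i` on `D₊(T_i)`. -/
def uSec (i j : Fin (n + 1)) :
    Γ(Proj (CohB1.polyGrading n R), Proj.basicOpen (CohB1.polyGrading n R) (MvPolynomial.X i : MvPolynomial (Fin (n + 1)) R)) :=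
  (Proj.awayToSection (CohB1.polyGrading n R) (MvPolynomial.X i)).hom (uFrac n R i j)

section Glue

variable (U : Fin (n + 1) → Z.Opens) (a : ∀ i, Fin (n + 1) → Γ(Z, U i))

theorem isUnit_ψV_X (i : Fin (n + 1)) (h1 : a i i = 1) :
    IsUnit (ψV n R κ (U i) (a i) (MvPolynomial.X i)) := by
  rw [ψV_X, h1]
  exact isUnit_one

/-- The chart morphism on `U i`. -/
def chart (i : Fin (n + 1)) (h1 : a i i = 1) : (U i : Scheme.{u}) ⟶ Proj (CohB1.polyGrading n R) :=
  chartMap (CohB1.polyGrading n R) (U i) (ψV n R κ (U i) (a i)) (Xmem n R i) Nat.one_pos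
    (isUnit_ψV_X n R κ U a i h1)

theorem chart_compat (h1 : ∀ i, a i i = 1)
    (h2 : ∀ i j k, Z.presheaf.map (homOfLE (inf_le_right : U i ⊓ U j ≤ U j)).op (a j k) =
      Z.presheaf.map (homOfLE (inf_le_right : U i ⊓ U j ≤ U j)).op (a j i) *
        Z.presheaf.map (homOfLE (inf_le_left : U i ⊓ U j ≤ U i)).op (a i k))
    (i j : Fin (n + 1)) :
    Z.homOfLE (inf_le_left : U i ⊓ U j ≤ U i) ≫ chart n R κ U a i (h1 i) =
      Z.homOfLE (inf_le_right : U i ⊓ U j ≤ U j) ≫ chart n R κ U a j (h1 j) := by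
  obtain ⟨bi, hbi⟩ : ∃ bi : Fin (n + 1) → Γ(Z, U i ⊓ U j),
      bi = fun k => Z.presheaf.map (homOfLE (inf_le_left : U i ⊓ U j ≤ U i)).op (a i k) :=
    ⟨_, rfl⟩
  obtain ⟨bj, hbj⟩ : ∃ bj : Fin (n + 1) → Γ(Z, U i ⊓ U j),
      bj = fun k => Z.presheaf.map (homOfLE (inf_le_right : U i ⊓ U j ≤ U j)).op (a j k) :=
    ⟨_, rfl⟩
  obtain ⟨v, hv⟩ : ∃ v : Γ(Z, U i ⊓ U j),
      v = Z.presheaf.map (homOfLE (inf_le_right : U i ⊓ U j ≤ U j)).op (a j i) := ⟨_, rfl⟩
  have hbjv : bj = fun k => v * bi k := by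
    rw [hbj, hbi, hv]
    exact funext fun k => h2 i j k
  have hbii : bi i = 1 := by rw [hbi]; show Z.presheaf.map _ (a i i) = 1; rw [h1 i, map_one]
  have hbjj : bj j = 1 := by rw [hbj]; show Z.presheaf.map _ (a j j) = 1; rw [h1 j, map_one]
  have hbji : bj i = v := by rw [hbjv]; show v * bi i = v; rw [hbii, mul_one]
  have hvb : v * bi j = 1 := by
    have := congrFun hbjv j
    rw [hbjj] at this
    exact this.symm
  have hvu : IsUnit v := IsUnit.of_mul_eq_one _ hvb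
  have hbu : IsUnit (bi j) := IsUnit.of_mul_eq_one _ (by rw [mul_comm]; exact hvb)
  have ui : IsUnit (ψV n R κ (U i ⊓ U j) bi (MvPolynomial.X i)) := by
    rw [ψV_X, hbii]; exact isUnit_one
  have uj : IsUnit (ψV n R κ (U i ⊓ U j) bj (MvPolynomial.X j)) := by
    rw [ψV_X, hbjj]; exact isUnit_one
  have uix : IsUnit (ψV n R κ (U i ⊓ U j) bi (MvPolynomial.X i * MvPolynomial.X j)) := by
    rw [map_mul, ψV_X, ψV_X, hbii, one_mul]; exact hbu
  have ujx : IsUnit (ψV n R κ (U i ⊓ U j) bj (MvPolynomial.X i * MvPolynomial.X j)) := by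
    rw [map_mul, ψV_X, ψV_X, hbjj, mul_one, hbji]; exact hvu
  have hxm : (MvPolynomial.X i * MvPolynomial.X j : MvPolynomial (Fin (n + 1)) R) ∈ (CohB1.polyGrading n R) (1 + 1) :=
    SetLike.mul_mem_graded (Xmem n R i) (Xmem n R j)
  have hri : (Z.presheaf.map (homOfLE (inf_le_left : U i ⊓ U j ≤ U i)).op).hom.comp
      (ψV n R κ (U i) (a i)) = ψV n R κ (U i ⊓ U j) bi := by
    rw [res_comp_ψV, hbi]
  have hrj : (Z.presheaf.map (homOfLE (inf_le_right : U i ⊓ U j ≤ U j)).op).hom.comp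
      (ψV n R κ (U j) (a j)) = ψV n R κ (U i ⊓ U j) bj := by
    rw [res_comp_ψV, hbj]
  have s1 : Z.homOfLE (inf_le_left : U i ⊓ U j ≤ U i) ≫ chart n R κ U a i (h1 i) =
      chartMap (CohB1.polyGrading n R) (U i ⊓ U j) (ψV n R κ (U i ⊓ U j) bi) (Xmem n R i) Nat.one_pos ui := by
    unfold chart
    rw [homOfLE_chartMap (CohB1.polyGrading n R) (U i) _ (Xmem n R i) Nat.one_pos _ inf_le_left (by rw [hri]; exact ui)]
    exact chartMap_congr_hom (CohB1.polyGrading n R) _ hri _ _ _ _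
  have s5 : Z.homOfLE (inf_le_right : U i ⊓ U j ≤ U j) ≫ chart n R κ U a j (h1 j) =
      chartMap (CohB1.polyGrading n R) (U i ⊓ U j) (ψV n R κ (U i ⊓ U j) bj) (Xmem n R j) Nat.one_pos uj := by
    unfold chart
    rw [homOfLE_chartMap (CohB1.polyGrading n R) (U j) _ (Xmem n R j) Nat.one_pos _ inf_le_right (by rw [hrj]; exact uj)]
    exact chartMap_congr_hom (CohB1.polyGrading n R) _ hrj _ _ _ _
  have s2 := chartMap_mul (CohB1.polyGrading n R) (U i ⊓ U j) (ψV n R κ (U i ⊓ U j) bi) (Xmem n R i) Nat.one_pos ui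
    (Xmem n R j) rfl hxm (by norm_num) uix
  have s4 := chartMap_mul (CohB1.polyGrading n R) (U i ⊓ U j) (ψV n R κ (U i ⊓ U j) bj) (Xmem n R j) Nat.one_pos uj
    (Xmem n R i) (mul_comm _ _) hxm (by norm_num) ujx
  have hsc : ∀ (m : ℕ) (p : MvPolynomial (Fin (n + 1)) R), p ∈ (CohB1.polyGrading n R) m →
      ψV n R κ (U i ⊓ U j) bj p = v ^ m * ψV n R κ (U i ⊓ U j) bi p := by
    intro m p hp
    rw [hbjv]
    exact ψV_scale n R κ _ bi v m p hp
  have s3 := chartMap_congr (CohB1.polyGrading n R) (U i ⊓ U j) (ψV n R κ (U i ⊓ U j) bi) hxm (by norm_num) uix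
    (ψV n R κ (U i ⊓ U j) bj) ujx (awayLift_eq_of_scale (CohB1.polyGrading n R) _ _ v hvu hsc hxm uix ujx)
  exact s1.trans (s2.symm.trans (s3.symm.trans (s4.trans s5.symm)))

theorem isOpenCover_of_forall (hcov : ∀ x : Z, ∃ i, x ∈ U i) : IsOpenCover U :=
  IsOpenCover.mk (by
    rw [eq_top_iff]
    intro x _
    obtain ⟨i, hi⟩ := hcov x
    exact Opens.mem_iSup.mpr ⟨i, hi⟩)

theorem exists_glue (hcov : ∀ x : Z, ∃ i, x ∈ U i) (h1 : ∀ i, a i i = 1)
    (h2 : ∀ i j k, Z.presheaf.map (homOfLE (inf_le_right : U i ⊓ U j ≤ U j)).op (a j k) =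
      Z.presheaf.map (homOfLE (inf_le_right : U i ⊓ U j ≤ U j)).op (a j i) *
        Z.presheaf.map (homOfLE (inf_le_left : U i ⊓ U j ≤ U i)).op (a i k)) :
    ∃ r : Z ⟶ Proj (CohB1.polyGrading n R), ∀ i, (U i).ι ≫ r = chart n R κ U a i (h1 i) := by
  have hU : IsOpenCover U := isOpenCover_of_forall n U hcov
  refine ⟨(Z.openCoverOfIsOpenCover U hU).glueMorphisms (fun i => chart n R κ U a i (h1 i))
    (fun (i j : Fin (n + 1)) => ?_), fun i => (Z.openCoverOfIsOpenCover U hU).ι_glueMorphisms _ _ i⟩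
  have key := chart_compat n R κ U a h1 h2 i j
  refine (cancel_epi (isPullback_opens_inf (U i) (U j)).isoPullback.hom).mp ?_
  have hfst : (isPullback_opens_inf (U i) (U j)).isoPullback.hom ≫
      Limits.pullback.fst (U i).ι (U j).ι = Z.homOfLE inf_le_left :=
    IsPullback.isoPullback_hom_fst _
  have hsnd : (isPullback_opens_inf (U i) (U j)).isoPullback.hom ≫
      Limits.pullback.snd (U i).ι (U j).ι = Z.homOfLE inf_le_right :=
    IsPullback.isoPullback_hom_snd _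
  exact (Category.assoc _ _ _).symm.trans ((congrArg (· ≫ chart n R κ U a i (h1 i)) hfst).trans
    (key.trans ((congrArg (· ≫ chart n R κ U a j (h1 j)) hsnd).symm.trans
      (Category.assoc _ _ _))))

variable (h1 : ∀ i, a i i = 1) (r : Z ⟶ Proj (CohB1.polyGrading n R))
  (hr : ∀ i, (U i).ι ≫ r = chart n R κ U a i (h1 i))

theorem toGlobal_spec (q : Z ⟶ Spec (CommRingCat.of R)) :
    q = Z.toSpecΓ ≫ Spec.map (CommRingCat.ofHom (ProjUP.toGlobal q)) := by
  have h1 : CommRingCat.ofHom (ProjUP.toGlobal q) =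
      (Scheme.ΓSpecIso (CommRingCat.of R)).inv ≫ q.appTop := rfl
  rw [h1, Spec.map_comp, ← Category.assoc, ← Scheme.toSpecΓ_naturality, Category.assoc,
    toSpecΓ_SpecMap_ΓSpecIso_inv, Category.comp_id]

include hr in
theorem glue_toSpec (q : Z ⟶ Spec (CommRingCat.of R)) (hκ : κ = ProjUP.toGlobal q)
    (hcov : ∀ x : Z, ∃ i, x ∈ U i) :
    r ≫ (Proj.toSpecZero (CohB1.polyGrading n R) ≫
      Spec.map (CommRingCat.ofHom (algebraMap R (CohB1.polyGrading n R 0)))) = q := by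
  have hU : IsOpenCover U := isOpenCover_of_forall n U hcov
  refine (Z.openCoverOfIsOpenCover U hU).hom_ext _ _ fun i => ?_
  show (U i).ι ≫ r ≫ _ = (U i).ι ≫ q
  rw [← Category.assoc, hr i]
  unfold chart
  rw [← Category.assoc, chartMap_toSpecZero, Category.assoc, ← Spec.map_comp]
  conv_rhs => rw [toGlobal_spec R q, ← Category.assoc,
    ← Scheme.Opens.toSpecΓ_SpecMap_presheaf_map_top, Category.assoc, ← Spec.map_comp]
  congr 2
  apply CommRingCat.hom_ext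
  refine RingHom.ext fun c => ?_
  show ψV n R κ (U i) (a i) (MvPolynomial.C c) = _
  rw [ψV_C, hκ]
  rfl

include hr in
theorem glue_preimage_basicOpen (hcov : ∀ x : Z, ∃ i, x ∈ U i)
    (h3 : ∀ k i, Z.basicOpen (a k i) = U i ⊓ U k) (i : Fin (n + 1)) :
    r ⁻¹ᵁ Proj.basicOpen (CohB1.polyGrading n R) (MvPolynomial.X i : MvPolynomial (Fin (n + 1)) R) = U i := by
  refine Opens.ext (Set.ext fun x => ?_)
  show x ∈ r ⁻¹ᵁ Proj.basicOpen (CohB1.polyGrading n R) (MvPolynomial.X i : MvPolynomial (Fin (n + 1)) R) ↔ x ∈ U i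
  obtain ⟨k, hk⟩ := hcov x
  have e1 : r x = (chart n R κ U a k (h1 k)) ⟨x, hk⟩ := by rw [← hr k]; rfl
  have e2 : chart n R κ U a k (h1 k) ⁻¹ᵁ
      Proj.basicOpen (CohB1.polyGrading n R) (MvPolynomial.X i : MvPolynomial (Fin (n + 1)) R) =
      (U k).ι ⁻¹ᵁ Z.basicOpen (a k i) := by
    unfold chart
    rw [chartMap_preimage_basicOpen (CohB1.polyGrading n R) _ _ _ _ _ (Xmem n R i) Nat.one_pos, ψV_X]
  have e3 : x ∈ r ⁻¹ᵁ Proj.basicOpen (CohB1.polyGrading n R) (MvPolynomial.X i : MvPolynomial (Fin (n + 1)) R) ↔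
      (⟨x, hk⟩ : U k) ∈ chart n R κ U a k (h1 k) ⁻¹ᵁ
        Proj.basicOpen (CohB1.polyGrading n R) (MvPolynomial.X i : MvPolynomial (Fin (n + 1)) R) := by
    show r x ∈ Proj.basicOpen (CohB1.polyGrading n R)
        (MvPolynomial.X i : MvPolynomial (Fin (n + 1)) R) ↔
      (chart n R κ U a k (h1 k)) ⟨x, hk⟩ ∈ Proj.basicOpen (CohB1.polyGrading n R)
        (MvPolynomial.X i : MvPolynomial (Fin (n + 1)) R)
    rw [e1]
  rw [e3, e2]
  show x ∈ Z.basicOpen (a k i) ↔ x ∈ U i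
  rw [h3 k i]
  exact ⟨fun h => h.1, fun h => ⟨h, hk⟩⟩

include hr in
theorem glue_appLE (i : Fin (n + 1))
    (e : U i ≤ r ⁻¹ᵁ Proj.basicOpen (CohB1.polyGrading n R) (MvPolynomial.X i : MvPolynomial (Fin (n + 1)) R)) :
    Proj.awayToSection (CohB1.polyGrading n R) (MvPolynomial.X i) ≫
      r.appLE (Proj.basicOpen (CohB1.polyGrading n R) (MvPolynomial.X i : MvPolynomial (Fin (n + 1)) R)) (U i) e =
      CommRingCat.ofHom (awayLift (CohB1.polyGrading n R) (ψV n R κ (U i) (a i)) (MvPolynomial.X i)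
        (isUnit_ψV_X n R κ U a i (h1 i))) := by
  have e' : (⊤ : (U i : Scheme.{u}).Opens) ≤ (U i).ι ⁻¹ᵁ U i := by
    rw [Scheme.Opens.ι_preimage_self]
  have h0 : r.appLE (Proj.basicOpen (CohB1.polyGrading n R) (MvPolynomial.X i : MvPolynomial (Fin (n + 1)) R)) (U i) e ≫
      (U i).ι.appLE (U i) ⊤ e' = ((U i).ι ≫ r).appLE
        (Proj.basicOpen (CohB1.polyGrading n R) (MvPolynomial.X i : MvPolynomial (Fin (n + 1)) R)) ⊤
        (e'.trans ((Opens.map (U i).ι.base).map (homOfLE e)).le) :=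
    Scheme.Hom.appLE_comp_appLE _ _ _ _ _ _ _
  have h0' : (U i).ι.appLE (U i) ⊤ e' = (U i).topIso.inv := by
    rw [Scheme.Opens.ι_appLE]
    rfl
  have h2 : ∀ (f f' : (U i : Scheme.{u}) ⟶ Proj (CohB1.polyGrading n R)) (hf : f = f')
      (e₁ : ⊤ ≤ f ⁻¹ᵁ Proj.basicOpen (CohB1.polyGrading n R) (MvPolynomial.X i : MvPolynomial (Fin (n + 1)) R)),
      f.appLE (Proj.basicOpen (CohB1.polyGrading n R) (MvPolynomial.X i : MvPolynomial (Fin (n + 1)) R)) ⊤ e₁ =
        f'.appLE (Proj.basicOpen (CohB1.polyGrading n R) (MvPolynomial.X i : MvPolynomial (Fin (n + 1)) R)) ⊤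
          (hf ▸ e₁) := by
    rintro f _ rfl _
    rfl
  have h5 : r.appLE (Proj.basicOpen (CohB1.polyGrading n R)
      (MvPolynomial.X i : MvPolynomial (Fin (n + 1)) R)) (U i) e ≫ (U i).topIso.inv =
      (chart n R κ U a i (h1 i)).appLE (Proj.basicOpen (CohB1.polyGrading n R)
        (MvPolynomial.X i : MvPolynomial (Fin (n + 1)) R)) ⊤
        (hr i ▸ (e'.trans ((Opens.map (U i).ι.base).map (homOfLE e)).le)) := by
    rw [← h0', h0]
    exact h2 _ _ (hr i) _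
  rw [← cancel_mono (U i).topIso.inv, Category.assoc, h5]
  exact awayToSection_chartMap_appLE (CohB1.polyGrading n R) (U i) _ (Xmem n R i) Nat.one_pos _ _

include hr in
theorem glue_appLE_apply (i j : Fin (n + 1))
    (e : U i ≤ r ⁻¹ᵁ Proj.basicOpen (CohB1.polyGrading n R) (MvPolynomial.X i : MvPolynomial (Fin (n + 1)) R)) :
    (r.appLE (Proj.basicOpen (CohB1.polyGrading n R) (MvPolynomial.X i : MvPolynomial (Fin (n + 1)) R)) (U i) e).hom
      (uSec n R i j) = a i j := by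
  have h := congrArg (fun f => f.hom (uFrac n R i j)) (glue_appLE n R κ U a h1 r hr i e)
  refine h.trans ?_
  have h' := awayLift_mk_mul (CohB1.polyGrading n R) (ψV n R κ (U i) (a i)) (Xmem n R i)
    (isUnit_ψV_X n R κ U a i (h1 i)) 1 (MvPolynomial.X j) (Xmem' n R j)
  rw [ψV_X, ψV_X, h1 i, one_pow, mul_one] at h'
  exact h'

end Glue

end

end Groth.Agent.H18.ToProjSpace
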