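import Groth.Agent.H18.TwistAmple
import Groth.Agent.H18.TensorGen

/-!
# Pointwise version of `TwistAmple.genLocus_secHom` and local generators of `O(N)`
-/

set_option autoImplicit false
universe u

noncomputable section

namespace Groth.Agent.H18.TwistAmpleLocal

open CategoryTheory AlgebraicGeometry Opposite TopologicalSpace
open Groth.Agent.H18.Serre (val frac val_frac mem_basicOpen_frac toO ofTw toTw)
open Groth.Agent.H18.TwistAmple Groth.Agent.H18.TensorGen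

variable {R A : Type u} [CommRing R] [CommRing A] [Algebra R A] (𝒜 : ℕ → Submodule R A)
  [GradedAlgebra 𝒜]

set_option backward.isDefEq.respectTransparency false in
/-- Where a unit fraction of degree `k` exists, `O(k)` has a free generator. -/
theorem exists_isGen_twist {k : ℤ} {p q : ℕ} {u v : A} (hu : u ∈ 𝒜 p) (hv : v ∈ 𝒜 q)
    (hpq : (p : ℤ) = q + k) :
    ∃ τ : Γ(Twist.twist 𝒜 k, Proj.basicOpen 𝒜 u ⊓ Proj.basicOpen 𝒜 v),
      IsGen (Twist.twist 𝒜 k) (Proj.basicOpen 𝒜 u ⊓ Proj.basicOpen 𝒜 v) τ := by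
  have huW : ∀ y : (Proj.basicOpen 𝒜 u ⊓ Proj.basicOpen 𝒜 v : (Proj 𝒜).Opens),
      u ∉ y.1.asHomogeneousIdeal := fun y => y.2.1
  have hvW : ∀ y : (Proj.basicOpen 𝒜 u ⊓ Proj.basicOpen 𝒜 v : (Proj 𝒜).Opens),
      v ∉ y.1.asHomogeneousIdeal := fun y => y.2.2
  refine ⟨toTw (TwistRestrict.fracSection 𝒜 hu hv hpq hvW), ?_⟩
  intro V hV
  exact TwistRestrict.bijective_smul_of_fraction 𝒜 hu hv hpq (fun y => huW ⟨y.1, hV y.2⟩)
    (fun y => hvW ⟨y.1, hV y.2⟩)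
    ((Twist.twist 𝒜 k).presheaf.map (homOfLE hV).op
      (toTw (TwistRestrict.fracSection 𝒜 hu hv hpq hvW)))
    (fun y => rfl)

set_option backward.isDefEq.respectTransparency false in
/-- At a point where a unit fraction of degree `N` exists, `b/1` generates `O(N)` iff the point
lies in `D₊(b)`. -/
theorem mem_genLocus_secHom_iff {N : ℕ} (b : 𝒜 N) (x : Proj 𝒜) {p q : ℕ} {u v : A}
    (hu : u ∈ 𝒜 p) (hv : v ∈ 𝒜 q) (hpq : (p : ℤ) = q + N)
    (hux : u ∉ x.asHomogeneousIdeal) (hvx : v ∉ x.asHomogeneousIdeal) :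
    x ∈ CohB1.genLocus (Twist.twist 𝒜 (N : ℤ)) (secHom 𝒜 b) ↔ x ∈ Proj.basicOpen 𝒜 b.1 := by
  obtain ⟨W, hW⟩ : ∃ W : (Proj 𝒜).Opens, W = Proj.basicOpen 𝒜 u ⊓ Proj.basicOpen 𝒜 v :=
    ⟨_, rfl⟩
  have hxW : x ∈ W := by rw [hW]; exact ⟨hux, hvx⟩
  have huW : ∀ y : W, u ∉ y.1.asHomogeneousIdeal := fun y => (hW.le y.2).1
  have hvW : ∀ y : W, v ∉ y.1.asHomogeneousIdeal := fun y => (hW.le y.2).2
  have hNq : N + q = p := by omega
  have hbv : b.1 * v ∈ 𝒜 p := hNq ▸ SetLike.mul_mem_graded b.2 hv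
  have hσ : ∀ (V : (Proj 𝒜).Opens) (hV : V ≤ W), Function.Bijective
      (fun r : Γ(Proj 𝒜, V) => r • (Twist.twist 𝒜 (N : ℤ)).presheaf.map (homOfLE hV).op
        (toTw (TwistRestrict.fracSection 𝒜 hu hv hpq hvW))) := by
    intro V hV
    exact TwistRestrict.bijective_smul_of_fraction 𝒜 hu hv hpq (fun y => huW ⟨y.1, hV y.2⟩)
      (fun y => hvW ⟨y.1, hV y.2⟩)
      ((Twist.twist 𝒜 (N : ℤ)).presheaf.map (homOfLE hV).op
        (toTw (TwistRestrict.fracSection 𝒜 hu hv hpq hvW)))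
      (fun y => rfl)
  have ha : (secHom 𝒜 b).app W
      (show Γ(Coh.structureModule (Proj 𝒜), W) from (1 : Γ(Proj 𝒜, W))) =
      frac 𝒜 W hbv hu huW • (Twist.twist 𝒜 (N : ℤ)).presheaf.map (homOfLE (le_refl W)).op
        (toTw (TwistRestrict.fracSection 𝒜 hu hv hpq hvW)) := by
    refine (FreeEpi.unitHomEquiv_symm_app_apply (Twist.twist 𝒜 (N : ℤ)) _ W 1).trans ?_
    rw [one_smul]
    refine wval_ext (fun y => ?_)
    rw [wval_smul]
    show (Localization.mk b.1 1 : Twist.Loc 𝒜 y.1) =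
      Localization.mk (b.1 * v) ⟨u, huW y⟩ * Localization.mk u ⟨v, hvW y⟩
    rw [Localization.mk_mul, Localization.mk_eq_mk_iff, Localization.r_iff_exists]
    refine ⟨1, ?_⟩
    simp only [OneMemClass.coe_one, one_mul, Submonoid.coe_mul]
    ring
  have hinf := Groth.Agent.H22.GenLocus.genLocus_inf_eq_basicOpen (Twist.twist 𝒜 (N : ℤ))
    (secHom 𝒜 b) (toTw (TwistRestrict.fracSection 𝒜 hu hv hpq hvW)) hσ (le_refl W)
    (frac 𝒜 W hbv hu huW) ha
  constructor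
  · intro hx
    have h1 : x ∈ CohB1.genLocus _ (secHom 𝒜 b) ⊓ W := ⟨hx, hxW⟩
    rw [hinf] at h1
    have h2 := ((mem_basicOpen_frac 𝒜 hbv hu huW x).mp h1).2
    exact fun hb => h2 (Ideal.mul_mem_right _ _ hb)
  · intro hx
    have h1 : x ∈ (Proj 𝒜).basicOpen (frac 𝒜 W hbv hu huW) :=
      (mem_basicOpen_frac 𝒜 hbv hu huW x).mpr
        ⟨hxW, fun h => ((x : ProjectiveSpectrum 𝒜).isPrime.mem_or_mem h).elim hx hvx⟩
    rw [← hinf] at h1
    exact h1.1

end Groth.Agent.H18.TwistAmpleLocal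

end
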