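import Groth.Agent.H18.PConeGlue
import Mathlib.AlgebraicGeometry.Morphisms.IsIso

set_option autoImplicit false
universe u

namespace Groth.Agent.H18.Veronese

open AlgebraicGeometry CategoryTheory CategoryTheory.Limits HomogeneousLocalization TopologicalSpace

section
variable {R A B : Type u} [CommRing R] [CommRing A] [Algebra R A] {𝒜 : ℕ → Submodule R A}
  [GradedAlgebra 𝒜] [CommRing B] [Algebra R B] {ℬ : ℕ → Submodule R B} [GradedAlgebra ℬ]
  {d : ℕ} (φ : B →ₐ[R] A)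
  (hdeg : ∀ n : ℕ, Submodule.map φ.toLinearMap (ℬ n) = 𝒜 (n * d))

include hdeg in
theorem phi_mem {n : ℕ} {g : B} (hg : g ∈ ℬ n) : φ g ∈ 𝒜 (n * d) :=
  (hdeg n).le (Submodule.mem_map_of_mem hg)

include hdeg in
theorem phi_mem_smul {n k : ℕ} {b : B} (hb : b ∈ ℬ (k • n)) : φ b ∈ 𝒜 (k • (n * d)) := by
  have h : k • n * d = k • (n * d) := by simp only [smul_eq_mul, mul_assoc]
  exact h ▸ phi_mem φ hdeg hb

include hdeg in
theorem exists_of_mem {n : ℕ} {a : A} (ha : a ∈ 𝒜 (n * d)) : ∃ b ∈ ℬ n, φ b = a := by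
  rw [← hdeg n] at ha
  obtain ⟨b, hb, hba⟩ := ha
  exact ⟨b, hb, hba⟩

theorem loc_awayMap_mk (g b : B) (k : ℕ) :
    Localization.awayMap φ.toRingHom g (Localization.mk b ⟨g ^ k, k, rfl⟩) =
      (Localization.mk (φ b) (⟨φ g ^ k, k, rfl⟩ : Submonoid.powers (φ g)) :
        Localization.Away (φ g)) := by
  rw [Localization.mk_eq_mk', Localization.mk_eq_mk', Localization.awayMap,
    IsLocalization.Away.map, IsLocalization.map_mk']
  congr 1
  exact Subtype.ext (map_pow φ g k)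

include hdeg in
theorem exists_vAway {g : B} (hg : ∃ n, g ∈ ℬ n) (z : Away ℬ g) :
    ∃ w : Away 𝒜 (φ g), w.val = Localization.awayMap φ.toRingHom g z.val := by
  obtain ⟨n, hg⟩ := hg
  obtain ⟨k, b, hb, rfl⟩ := Away.mk_surjective ℬ hg z
  refine ⟨Away.mk 𝒜 (phi_mem φ hdeg hg) k (φ b) (phi_mem_smul φ hdeg hb), ?_⟩
  rw [Away.val_mk, Away.val_mk, loc_awayMap_mk]

/-- The ring map `B_(g) → A_(φ g)`, `b/g^k ↦ φ b/φ g^k`. -/
noncomputable def vAway {g : B} (hg : ∃ n, g ∈ ℬ n) : Away ℬ g →+* Away 𝒜 (φ g) where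
  toFun z := (exists_vAway φ hdeg hg z).choose
  map_one' := val_injective _ (by
    rw [(exists_vAway φ hdeg hg 1).choose_spec, val_one, val_one, map_one])
  map_mul' x y := val_injective _ (by
    rw [(exists_vAway φ hdeg hg (x * y)).choose_spec, val_mul, val_mul, map_mul,
      (exists_vAway φ hdeg hg x).choose_spec, (exists_vAway φ hdeg hg y).choose_spec])
  map_zero' := val_injective _ (by
    rw [(exists_vAway φ hdeg hg 0).choose_spec, val_zero, val_zero, map_zero])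
  map_add' x y := val_injective _ (by
    rw [(exists_vAway φ hdeg hg (x + y)).choose_spec, val_add, val_add, map_add,
      (exists_vAway φ hdeg hg x).choose_spec, (exists_vAway φ hdeg hg y).choose_spec])

theorem val_vAway {g : B} (hg : ∃ n, g ∈ ℬ n) (z : Away ℬ g) :
    (vAway φ hdeg hg z).val = Localization.awayMap φ.toRingHom g z.val :=
  (exists_vAway φ hdeg hg z).choose_spec

theorem vAway_mk {n : ℕ} {g : B} (hg : g ∈ ℬ n) (k : ℕ) (b : B) (hb : b ∈ ℬ (k • n)) :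
    vAway φ hdeg ⟨n, hg⟩ (Away.mk ℬ hg k b hb) =
      Away.mk 𝒜 (phi_mem φ hdeg hg) k (φ b) (phi_mem_smul φ hdeg hb) := by
  apply val_injective
  rw [val_vAway, Away.val_mk, Away.val_mk, loc_awayMap_mk]

theorem eq_vAway {g : B} (hg : ∃ n, g ∈ ℬ n) (θ : Away ℬ g →+* Away 𝒜 (φ g))
    (hθ : (algebraMap (Away 𝒜 (φ g)) (Localization.Away (φ g))).comp θ =
      (Localization.awayMap φ.toRingHom g).comp
        (algebraMap (Away ℬ g) (Localization.Away g))) :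
    θ = vAway φ hdeg hg := by
  apply RingHom.ext
  intro z
  apply val_injective
  rw [val_vAway]
  have h := DFunLike.congr_fun hθ z
  rw [RingHom.comp_apply, RingHom.comp_apply, HomogeneousLocalization.algebraMap_apply,
    HomogeneousLocalization.algebraMap_apply] at h
  exact h

theorem vAway_injective (hφ : Function.Injective φ) {g : B} (hg : ∃ n, g ∈ ℬ n) :
    Function.Injective (vAway φ hdeg hg) := by
  obtain ⟨n, hg⟩ := hg
  rw [injective_iff_map_eq_zero]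
  intro z hz
  obtain ⟨k, b, hb, rfl⟩ := Away.mk_surjective ℬ hg z
  rw [vAway_mk] at hz
  have h1 := congrArg val hz
  rw [Away.val_mk, val_zero, Localization.mk_eq_mk', IsLocalization.mk'_eq_zero_iff] at h1
  obtain ⟨⟨m, j, rfl⟩, hm⟩ := h1
  apply val_injective
  rw [Away.val_mk, val_zero, Localization.mk_eq_mk', IsLocalization.mk'_eq_zero_iff]
  refine ⟨⟨g ^ j, j, rfl⟩, ?_⟩
  apply hφ
  rw [map_mul, map_pow, map_zero]
  exact hm

theorem vAway_surjective {g : B} (hg : ∃ n, g ∈ ℬ n) :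
    Function.Surjective (vAway φ hdeg hg) := by
  obtain ⟨n, hg⟩ := hg
  intro w
  obtain ⟨k, a, ha, rfl⟩ := Away.mk_surjective 𝒜 (phi_mem φ hdeg hg) w
  have h : k • (n * d) = k • n * d := by simp only [smul_eq_mul, mul_assoc]
  obtain ⟨b, hb, rfl⟩ := exists_of_mem φ hdeg (h ▸ ha)
  exact ⟨Away.mk ℬ hg k b hb, vAway_mk φ hdeg hg k b hb⟩

theorem awayMap_comp_vAway {n n' : ℕ} {g h x : B} (hg : g ∈ ℬ n) (hh : h ∈ ℬ n')
    (hx : x = g * h) (hx' : φ x = φ g * φ h) (hxm : ∃ m, x ∈ ℬ m) :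
    (awayMap 𝒜 (phi_mem φ hdeg hh) hx').comp (vAway φ hdeg ⟨n, hg⟩) =
      (vAway φ hdeg hxm).comp (awayMap ℬ hh hx) := by
  apply RingHom.ext
  intro z
  obtain ⟨k, b, hb, rfl⟩ := Away.mk_surjective ℬ hg z
  simp only [RingHom.comp_apply]
  rw [vAway_mk, awayMap_mk, awayMap_mk, vAway_mk]
  apply val_injective
  simp only [Away.val_mk, map_mul, map_pow]

variable (hd : 0 < d)

include hdeg hd in
theorem exists_pos_map_not_mem (x : Proj 𝒜) :
    ∃ (n : ℕ) (g : B), 0 < n ∧ g ∈ ℬ n ∧ φ g ∉ x.asHomogeneousIdeal := by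
  obtain ⟨m, hm, f, hf, hfx⟩ := exists_homogeneous_pos_not_mem 𝒜 x
  have hfd : f ^ d ∈ 𝒜 (m * d) := by
    have := SetLike.pow_mem_graded d hf
    rwa [smul_eq_mul, mul_comm] at this
  obtain ⟨g, hg, hgf⟩ := exists_of_mem φ hdeg hfd
  refine ⟨m, g, hm, hg, ?_⟩
  rw [hgf]
  intro h
  exact hfx (x.isPrime.mem_of_pow_mem _ h)

include hdeg hd in
theorem exists_awayι_eq (x : Proj 𝒜) :
    ∃ (n : ℕ) (g : B) (hn : 0 < n) (hg : g ∈ ℬ n) (y : _),
      (Proj.awayι 𝒜 (φ g) (phi_mem φ hdeg hg) (Nat.mul_pos hn hd)).base y = x := by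
  obtain ⟨n, g, hn, hg, hgx⟩ := exists_pos_map_not_mem φ hdeg hd x
  have : x ∈ (Proj.awayι 𝒜 (φ g) (phi_mem φ hdeg hg) (Nat.mul_pos hn hd)).opensRange := by
    rw [Proj.opensRange_awayι]; exact hgx
  obtain ⟨y, hy⟩ := this
  exact ⟨n, g, hn, hg, y, hy⟩

/-- The cover of `Proj 𝒜` by the `D₊(φ g)`. -/
noncomputable def vCover : Scheme.OpenCover.{u} (Proj 𝒜) :=
  Scheme.Cover.mkOfCovers (Σ n : PNat, ℬ n) (fun s => Spec (CommRingCat.of (Away 𝒜 (φ s.2.1))))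
    (fun s => Proj.awayι 𝒜 (φ s.2.1) (phi_mem φ hdeg s.2.2) (Nat.mul_pos s.1.2 hd))
    (fun x => by
      obtain ⟨n, g, hn, hg, y, hy⟩ := exists_awayι_eq φ hdeg hd x
      exact ⟨⟨⟨n, hn⟩, ⟨g, hg⟩⟩, y, hy⟩)
    (fun s => inferInstance)

theorem vCompat {n n' : ℕ} {g h : B} (hg : g ∈ ℬ n) (hn : 0 < n) (hh : h ∈ ℬ n') (hn' : 0 < n') :
    pullback.fst (Proj.awayι 𝒜 (φ g) (phi_mem φ hdeg hg) (Nat.mul_pos hn hd))
        (Proj.awayι 𝒜 (φ h) (phi_mem φ hdeg hh) (Nat.mul_pos hn' hd)) ≫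
      Spec.map (CommRingCat.ofHom (vAway φ hdeg ⟨n, hg⟩)) ≫ Proj.awayι ℬ g hg hn =
    pullback.snd (Proj.awayι 𝒜 (φ g) (phi_mem φ hdeg hg) (Nat.mul_pos hn hd))
        (Proj.awayι 𝒜 (φ h) (phi_mem φ hdeg hh) (Nat.mul_pos hn' hd)) ≫
      Spec.map (CommRingCat.ofHom (vAway φ hdeg ⟨n', hh⟩)) ≫ Proj.awayι ℬ h hh hn' := by
  have hgh : ∃ m, g * h ∈ ℬ m := ⟨n + n', SetLike.mul_mem_graded hg hh⟩
  have hfst : pullback.fst (Proj.awayι 𝒜 (φ g) (phi_mem φ hdeg hg) (Nat.mul_pos hn hd))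
        (Proj.awayι 𝒜 (φ h) (phi_mem φ hdeg hh) (Nat.mul_pos hn' hd)) =
      (Proj.pullbackAwayιIso 𝒜 (phi_mem φ hdeg hg) (Nat.mul_pos hn hd) (phi_mem φ hdeg hh)
        (Nat.mul_pos hn' hd) (map_mul φ g h)).hom ≫
        Spec.map (CommRingCat.ofHom (awayMap 𝒜 (phi_mem φ hdeg hh) (map_mul φ g h))) :=
    (Proj.pullbackAwayιIso_hom_SpecMap_awayMap_left ..).symm
  have hsnd : pullback.snd (Proj.awayι 𝒜 (φ g) (phi_mem φ hdeg hg) (Nat.mul_pos hn hd))
        (Proj.awayι 𝒜 (φ h) (phi_mem φ hdeg hh) (Nat.mul_pos hn' hd)) =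
      (Proj.pullbackAwayιIso 𝒜 (phi_mem φ hdeg hg) (Nat.mul_pos hn hd) (phi_mem φ hdeg hh)
        (Nat.mul_pos hn' hd) (map_mul φ g h)).hom ≫
        Spec.map (CommRingCat.ofHom
          (awayMap 𝒜 (phi_mem φ hdeg hg) ((map_mul φ g h).trans (mul_comm _ _)))) :=
    (Proj.pullbackAwayιIso_hom_SpecMap_awayMap_right ..).symm
  have e1 : Spec.map (CommRingCat.ofHom (awayMap 𝒜 (phi_mem φ hdeg hh) (map_mul φ g h))) ≫
      Spec.map (CommRingCat.ofHom (vAway φ hdeg ⟨n, hg⟩)) =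
      Spec.map (CommRingCat.ofHom (vAway φ hdeg hgh)) ≫
        Spec.map (CommRingCat.ofHom (awayMap ℬ hh rfl)) := by
    rw [← Spec.map_comp, ← Spec.map_comp, ← CommRingCat.ofHom_comp, ← CommRingCat.ofHom_comp,
      awayMap_comp_vAway φ hdeg hg hh rfl (map_mul φ g h) hgh]
  have e2 : Spec.map (CommRingCat.ofHom
        (awayMap 𝒜 (phi_mem φ hdeg hg) ((map_mul φ g h).trans (mul_comm _ _)))) ≫
      Spec.map (CommRingCat.ofHom (vAway φ hdeg ⟨n', hh⟩)) =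
      Spec.map (CommRingCat.ofHom (vAway φ hdeg hgh)) ≫
        Spec.map (CommRingCat.ofHom (awayMap ℬ hg (mul_comm g h))) := by
    rw [← Spec.map_comp, ← Spec.map_comp, ← CommRingCat.ofHom_comp, ← CommRingCat.ofHom_comp,
      awayMap_comp_vAway φ hdeg hh hg (mul_comm g h) ((map_mul φ g h).trans (mul_comm _ _)) hgh]
  rw [hfst, hsnd, Category.assoc, Category.assoc]
  congr 1
  rw [← Category.assoc, e1, ← Category.assoc _ _ (Proj.awayι ℬ h hh hn'), e2, Category.assoc,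
    Category.assoc, Proj.SpecMap_awayMap_awayι, Proj.SpecMap_awayMap_awayι]
  congr 1

/-- The morphism `Proj 𝒜 ⟶ Proj ℬ` induced by `φ`. -/
noncomputable def vMap : Proj 𝒜 ⟶ Proj ℬ :=
  (vCover φ hdeg hd).glueMorphisms
    (fun s => Spec.map (CommRingCat.ofHom (vAway φ hdeg ⟨_, s.2.2⟩)) ≫
      Proj.awayι ℬ s.2.1 s.2.2 s.1.2)
    (fun s t => vCompat φ hdeg hd s.2.2 s.1.2 t.2.2 t.1.2)

theorem awayι_vMap {n : ℕ} {g : B} (hn : 0 < n) (hg : g ∈ ℬ n) :
    Proj.awayι 𝒜 (φ g) (phi_mem φ hdeg hg) (Nat.mul_pos hn hd) ≫ vMap φ hdeg hd =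
      Spec.map (CommRingCat.ofHom (vAway φ hdeg ⟨n, hg⟩)) ≫ Proj.awayι ℬ g hg hn :=
  (vCover φ hdeg hd).ι_glueMorphisms _ _ ⟨⟨n, hn⟩, ⟨g, hg⟩⟩

theorem vAway_isLocalizationElem {n k : ℕ} {g b : B} (hg : g ∈ ℬ n) (hb : b ∈ ℬ k) :
    Away.isLocalizationElem (phi_mem φ hdeg hg) (phi_mem φ hdeg hb) =
      (vAway φ hdeg ⟨n, hg⟩ (Away.isLocalizationElem hg hb)) ^ d := by
  unfold Away.isLocalizationElem
  rw [vAway_mk]
  apply val_injective
  rw [val_pow, Away.val_mk, Away.val_mk, Localization.mk_pow]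
  congr 1
  · rw [map_pow, ← pow_mul]
  · exact Subtype.ext (pow_mul _ _ _)

theorem vMap_preimage_basicOpen {k : ℕ} {b : B} (hk : 0 < k) (hb : b ∈ ℬ k) :
    vMap φ hdeg hd ⁻¹ᵁ Proj.basicOpen ℬ b = Proj.basicOpen 𝒜 (φ b) := by
  ext y
  obtain ⟨n, g, hn, hg, y', rfl⟩ := exists_awayι_eq φ hdeg hd y
  have h1 : (Proj.awayι 𝒜 (φ g) (phi_mem φ hdeg hg) (Nat.mul_pos hn hd)).base y' ∈
      vMap φ hdeg hd ⁻¹ᵁ Proj.basicOpen ℬ b ↔
      y' ∈ (Proj.awayι 𝒜 (φ g) (phi_mem φ hdeg hg) (Nat.mul_pos hn hd) ≫ vMap φ hdeg hd) ⁻¹ᵁ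
        Proj.basicOpen ℬ b := Iff.rfl
  have h2 : (Proj.awayι 𝒜 (φ g) (phi_mem φ hdeg hg) (Nat.mul_pos hn hd)).base y' ∈
      Proj.basicOpen 𝒜 (φ b) ↔
      y' ∈ (Proj.awayι 𝒜 (φ g) (phi_mem φ hdeg hg) (Nat.mul_pos hn hd)) ⁻¹ᵁ
        Proj.basicOpen 𝒜 (φ b) := Iff.rfl
  have h3 := Proj.awayι_preimage_basicOpen 𝒜 (phi_mem φ hdeg hg) (Nat.mul_pos hn hd)
    (phi_mem φ hdeg hb) (Nat.mul_pos hk hd)
  have h4 := Proj.awayι_preimage_basicOpen ℬ hg hn hb hk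
  rw [SetLike.mem_coe, SetLike.mem_coe, h1, h2, awayι_vMap φ hdeg hd hn hg,
    Scheme.Hom.comp_preimage, h4, h3, vAway_isLocalizationElem φ hdeg hg hb]
  show vAway φ hdeg ⟨n, hg⟩ (Away.isLocalizationElem hg hb) ∉ y'.asIdeal ↔
    (vAway φ hdeg ⟨n, hg⟩ (Away.isLocalizationElem hg hb)) ^ d ∉ y'.asIdeal
  constructor
  · intro h h'
    exact h (y'.isPrime.mem_of_pow_mem _ h')
  · intro h h'
    exact h (Ideal.pow_mem_of_mem _ h' d hd)

theorem vMap_mem_iff (p : Proj 𝒜) {k : ℕ} {b : B} (hb : b ∈ ℬ k) :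
    b ∈ ((vMap φ hdeg hd).base p).asHomogeneousIdeal ↔ φ b ∈ p.asHomogeneousIdeal := by
  obtain ⟨n, g, hn, hg, hgp⟩ := exists_pos_map_not_mem φ hdeg hd p
  have hbg : b * g ∈ ℬ (k + n) := SetLike.mul_mem_graded hb hg
  have hpos : 0 < k + n := by omega
  have h3 := vMap_preimage_basicOpen φ hdeg hd hpos hbg
  have h3g := vMap_preimage_basicOpen φ hdeg hd hn hg
  have hp1 : b * g ∉ ((vMap φ hdeg hd).base p).asHomogeneousIdeal ↔
      φ (b * g) ∉ p.asHomogeneousIdeal := by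
    have : p ∈ vMap φ hdeg hd ⁻¹ᵁ Proj.basicOpen ℬ (b * g) ↔
        p ∈ Proj.basicOpen 𝒜 (φ (b * g)) := by rw [h3]
    exact this
  have hp2 : g ∉ ((vMap φ hdeg hd).base p).asHomogeneousIdeal ↔
      φ g ∉ p.asHomogeneousIdeal := by
    have : p ∈ vMap φ hdeg hd ⁻¹ᵁ Proj.basicOpen ℬ g ↔
        p ∈ Proj.basicOpen 𝒜 (φ g) := by rw [h3g]
    exact this
  have hgq : g ∉ ((vMap φ hdeg hd).base p).asHomogeneousIdeal := hp2.mpr hgp
  constructor
  · intro h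
    by_contra hcon
    have h' : φ (b * g) ∉ p.asHomogeneousIdeal := by
      rw [map_mul]
      intro h'
      exact (p.isPrime.mem_or_mem h').elim hcon hgp
    exact hp1.mpr h' (Ideal.mul_mem_right g _ h)
  · intro h
    by_contra hcon
    have h' : b * g ∉ ((vMap φ hdeg hd).base p).asHomogeneousIdeal := fun h' =>
      (((vMap φ hdeg hd).base p).isPrime.mem_or_mem h').elim hcon hgq
    apply hp1.mp h'
    rw [map_mul]
    exact Ideal.mul_mem_right _ _ h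

include hdeg hd in
theorem decompose_map (b : B) (k : ℕ) :
    (DirectSum.decompose 𝒜 (φ b) (k * d) : A) = φ (DirectSum.decompose ℬ b k) := by
  classical
  refine DirectSum.Decomposition.inductionOn ℬ ?_ ?_ ?_ b
  · simp
  · intro i m
    by_cases hik : i = k
    · subst hik
      rw [DirectSum.decompose_of_mem_same 𝒜 (phi_mem φ hdeg m.2),
        DirectSum.decompose_of_mem_same ℬ m.2]
    · rw [DirectSum.decompose_of_mem_ne 𝒜 (phi_mem φ hdeg m.2)
          (fun h => hik (Nat.eq_of_mul_eq_mul_right hd h)),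
        DirectSum.decompose_of_mem_ne ℬ m.2 hik, map_zero]
  · intro a b ha hb
    rw [map_add, DirectSum.decompose_add, DirectSum.decompose_add, DirectSum.add_apply,
      DirectSum.add_apply, Submodule.coe_add, Submodule.coe_add, map_add, ha, hb]

theorem vMap_base (p : Proj 𝒜) :
    ((vMap φ hdeg hd).base p).asHomogeneousIdeal.toIdeal =
      Ideal.comap φ p.asHomogeneousIdeal.toIdeal := by
  classical
  ext b
  rw [Ideal.mem_comap]
  constructor
  · intro hb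
    rw [← DirectSum.sum_support_decompose ℬ b, map_sum]
    refine Ideal.sum_mem _ fun i _ => ?_
    have h1 : (DirectSum.decompose ℬ b i : B) ∈
        ((vMap φ hdeg hd).base p).asHomogeneousIdeal :=
      ((vMap φ hdeg hd).base p).asHomogeneousIdeal.isHomogeneous i hb
    exact (vMap_mem_iff φ hdeg hd p (SetLike.coe_mem _)).mp h1
  · intro hb
    rw [← DirectSum.sum_support_decompose ℬ b]
    refine Ideal.sum_mem _ fun i _ => ?_
    have h1 : (DirectSum.decompose 𝒜 (φ b) (i * d) : A) ∈ p.asHomogeneousIdeal.toIdeal :=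
      p.asHomogeneousIdeal.isHomogeneous (i * d) hb
    rw [decompose_map φ hdeg hd] at h1
    exact (vMap_mem_iff φ hdeg hd p (SetLike.coe_mem _)).mpr h1

theorem vMap_isPullback {n : ℕ} {g : B} (hn : 0 < n) (hg : g ∈ ℬ n) :
    IsPullback (Proj.awayι 𝒜 (φ g) (phi_mem φ hdeg hg) (Nat.mul_pos hn hd))
      (Spec.map (CommRingCat.ofHom (vAway φ hdeg ⟨n, hg⟩))) (vMap φ hdeg hd)
      (Proj.awayι ℬ g hg hn) := by
  refine (IsOpenImmersion.isPullback _ _ _ _ (awayι_vMap φ hdeg hd hn hg) ?_).flip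
  rw [Proj.opensRange_awayι, Proj.opensRange_awayι, vMap_preimage_basicOpen φ hdeg hd hn hg]

set_option backward.isDefEq.respectTransparency false in
theorem vMap_isIso (hφ : Function.Injective φ) : IsIso (vMap φ hdeg hd) := by
  have key : MorphismProperty.isomorphisms Scheme (vMap φ hdeg hd) := by
    apply IsZariskiLocalAtTarget.of_openCover (P := MorphismProperty.isomorphisms Scheme)
      (Proj.affineOpenCover ℬ).openCover
    intro (s : Σ i : PNat, ℬ i)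
    have hpb := vMap_isPullback φ hdeg hd s.1.2 s.2.2
    have heq : hpb.isoPullback.hom ≫ pullback.snd _ _ =
        Spec.map (CommRingCat.ofHom (vAway φ hdeg ⟨_, s.2.2⟩)) := hpb.isoPullback_hom_snd
    have hiso : IsIso (Spec.map (CommRingCat.ofHom (vAway φ hdeg ⟨_, s.2.2⟩))) := by
      rw [isIso_SpecMap_iff]
      exact ⟨vAway_injective φ hdeg hφ ⟨_, s.2.2⟩, vAway_surjective φ hdeg ⟨_, s.2.2⟩⟩
    have h2 : pullback.snd (vMap φ hdeg hd) (Proj.awayι ℬ s.2.1 s.2.2 s.1.2) =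
        hpb.isoPullback.inv ≫ Spec.map (CommRingCat.ofHom (vAway φ hdeg ⟨_, s.2.2⟩)) :=
      ((Iso.inv_comp_eq _).mpr heq.symm).symm
    show IsIso (pullback.snd (vMap φ hdeg hd) (Proj.awayι ℬ s.2.1 s.2.2 s.1.2))
    rw [h2]
    infer_instance
  exact key

end
end Groth.Agent.H18.Veronese
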